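import Mathlib.AlgebraicGeometry.Geometrically.Irreducible
import Mathlib.AlgebraicGeometry.Morphisms.UniversallyOpen
import Mathlib.AlgebraicGeometry.PullbackCarrier
import Mathlib.RingTheory.Jacobson.Ring
import Mathlib.RingTheory.TensorProduct.Free
import Mathlib.RingTheory.Flat.Basic
import Mathlib.FieldTheory.IsAlgClosed.Basic

/-! Over an algebraically closed field, a tensor product of domains is a domain and an irreducible
scheme is geometrically irreducible. -/

universe u

open CategoryTheory CategoryTheory.Limits AlgebraicGeometry TensorProduct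

namespace Groth.L25.GeomIrred

section Algebra

variable {k : Type u} [Field k] [IsAlgClosed k]
variable {A B : Type u} [CommRing A] [CommRing B] [Algebra k A] [Algebra k B]

theorem eq_zero_of_forall_algHom [IsReduced A] [Algebra.FiniteType k A] (a : A)
    (h : ∀ φ : A →ₐ[k] k, φ a = 0) : a = 0 := by
  have : IsJacobsonRing A := isJacobsonRing_of_finiteType (A := k)
  have hjac : (⊥ : Ideal A).jacobson = ⊥ :=
    IsJacobsonRing.out inferInstance (Ideal.isRadical_bot_iff.mpr ‹_›)
  rw [← Ideal.mem_bot, ← hjac, Ideal.jacobson, Ideal.mem_sInf]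
  rintro m ⟨-, hm⟩
  letI := Ideal.Quotient.field m
  have : Module.Finite k (A ⧸ m) := finite_of_finite_type_of_isJacobsonRing k (A ⧸ m)
  have hbij : Function.Bijective (algebraMap k (A ⧸ m)) :=
    IsAlgClosed.algebraMap_bijective_of_isIntegral (k := k) (K := A ⧸ m)
  let e : k ≃ₐ[k] A ⧸ m := AlgEquiv.ofBijective (Algebra.ofId k _) hbij
  have := h (e.symm.toAlgHom.comp (Ideal.Quotient.mkₐ k m))
  have h2 : Ideal.Quotient.mkₐ k m a = 0 := by simpa using this
  rwa [Ideal.Quotient.mkₐ_eq_mk, Ideal.Quotient.eq_zero_iff_mem] at h2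

variable [IsDomain B]

theorem mul_eq_zero_of_fg [IsDomain A] [Algebra.FiniteType k A] (x y : A ⊗[k] B)
    (h : x * y = 0) : x = 0 ∨ y = 0 := by
  let b := Module.Free.chooseBasis k B
  let bA := Algebra.TensorProduct.basis A b
  by_contra hne
  push Not at hne
  obtain ⟨i, hi⟩ : ∃ i, bA.repr x i ≠ 0 := by
    by_contra hc
    push Not at hc
    exact hne.1 (bA.repr.map_eq_zero_iff.mp (Finsupp.ext hc))
  obtain ⟨j, hj⟩ : ∃ j, bA.repr y j ≠ 0 := by
    by_contra hc
    push Not at hc
    exact hne.2 (bA.repr.map_eq_zero_iff.mp (Finsupp.ext hc))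
  refine mul_ne_zero hi hj (eq_zero_of_forall_algHom (k := k) _ fun φ => ?_)
  let ev : A ⊗[k] B →ₐ[k] B :=
    (Algebra.TensorProduct.lid k B).toAlgHom.comp (Algebra.TensorProduct.map φ (AlgHom.id k B))
  have key : ∀ (z : A ⊗[k] B) (l), b.repr (ev z) l = φ (bA.repr z l) := by
    intro z l
    induction z using TensorProduct.induction_on with
    | zero => simp
    | tmul a v => simp [ev, bA, Algebra.TensorProduct.basis_repr_tmul]
    | add z w hz hw => simp [hz, hw]
  have h0 : ev x * ev y = 0 := by rw [← map_mul, h, map_zero]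
  rw [map_mul]
  rcases mul_eq_zero.mp h0 with h1 | h1
  · rw [← key x i, h1, map_zero, Finsupp.zero_apply, zero_mul]
  · rw [← key y j, h1, map_zero, Finsupp.zero_apply, mul_zero]

/-- A tensor product of domains over an algebraically closed field is a domain. -/
theorem isDomain_tensorProduct [IsDomain A] : IsDomain (A ⊗[k] B) := by
  have : Nontrivial (A ⊗[k] B) := by
    refine ⟨1, 0, fun h => ?_⟩
    let f : k →ₗ[k] B := Algebra.linearMap k B
    have hf : Function.Injective f := (algebraMap k B).injective
    have h1 := Module.Flat.lTensor_preserves_injective_linearMap (M := A) f hf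
    have h2 : f.lTensor A ((1 : A) ⊗ₜ[k] (1 : k)) = f.lTensor A 0 := by
      rw [LinearMap.lTensor_tmul, map_zero]
      simpa [f, ← Algebra.TensorProduct.one_def] using h
    have h3 := congrArg (_root_.TensorProduct.rid k A) (h1 h2)
    simp at h3
  have : NoZeroDivisors (A ⊗[k] B) := ⟨fun {x y} hxy => by
    classical
    let b := Module.Free.chooseBasis k B
    let bA := Algebra.TensorProduct.basis A b
    let s : Finset A := (bA.repr x).frange ∪ (bA.repr y).frange
    let A₀ := Algebra.adjoin k (s : Set A)
    have : Algebra.FiniteType k A₀ := (Subalgebra.fg_iff_finiteType _).mp ⟨s, rfl⟩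
    let J : A₀ ⊗[k] B →ₐ[k] A ⊗[k] B := Algebra.TensorProduct.map A₀.val (AlgHom.id k B)
    have hJ : Function.Injective J :=
      Module.Flat.rTensor_preserves_injective_linearMap (M := B) A₀.val.toLinearMap Subtype.val_injective
    have lift : ∀ z, (∀ l, bA.repr z l ∈ A₀) → z ∈ J.range := by
      intro z hz
      rw [← bA.linearCombination_repr z, Finsupp.linearCombination_apply]
      refine sum_mem fun l _ => ⟨⟨_, hz l⟩ ⊗ₜ b l, ?_⟩
      simp [J, bA, TensorProduct.smul_tmul']
    have hs : ∀ (z : A ⊗[k] B) (l), (bA.repr z).frange ⊆ s → bA.repr z l ∈ A₀ := by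
      intro z l hz
      by_cases h0 : bA.repr z l = 0
      · rw [h0]; exact zero_mem _
      · exact Algebra.subset_adjoin (hz (Finsupp.mem_frange.mpr ⟨h0, l, rfl⟩))
    obtain ⟨x₀, hx₀⟩ := lift x fun l => hs x l Finset.subset_union_left
    obtain ⟨y₀, hy₀⟩ := lift y fun l => hs y l Finset.subset_union_right
    rw [AlgHom.toRingHom_eq_coe, RingHom.coe_coe] at hx₀ hy₀
    have h00 : x₀ * y₀ = 0 := hJ (by rw [map_mul, hx₀, hy₀, hxy, map_zero])
    rcases mul_eq_zero_of_fg x₀ y₀ h00 with h1 | h1
    · left; rw [← hx₀, h1, map_zero]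
    · right; rw [← hy₀, h1, map_zero]⟩
  exact NoZeroDivisors.to_isDomain _

end Algebra

/-- An irreducible scheme over an algebraically closed field is geometrically irreducible. -/
theorem geometricallyIrreducible_of_isAlgClosed {k : Type u} [Field k] [IsAlgClosed k] {X : Scheme.{u}}
    (f : X ⟶ Spec (CommRingCat.of k)) [IrreducibleSpace X] : GeometricallyIrreducible f := by
  refine ⟨geometrically_iff_of_isClosedUnderIsomorphisms.mpr fun K _ y => ?_⟩
  have hfib : ∀ z : X, IrreducibleSpace ((pullback.fst f y).fiber z) := by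
    intro z
    obtain ⟨φ, hφ⟩ := Spec.map_surjective (X.fromSpecResidueField z ≫ f)
    obtain ⟨ψ, rfl⟩ := Spec.map_surjective y
    letI : Algebra k (X.residueField z) := φ.hom.toAlgebra
    letI : Algebra k K := ψ.hom.toAlgebra
    have : IsDomain (X.residueField z ⊗[k] K) := isDomain_tensorProduct
    let e : (pullback.fst f (Spec.map ψ)).fiber z ≅ Spec (.of (X.residueField z ⊗[k] K)) :=
      pullbackSymmetry _ _ ≪≫ pullbackRightPullbackFstIso f (Spec.map ψ) (X.fromSpecResidueField z) ≪≫
        pullback.congrHom hφ.symm rfl ≪≫ pullbackSpecIso k (X.residueField z) K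
    exact e.hom.homeomorph.irreducibleSpace_iff.mpr inferInstance
  have hopen : IsOpenMap (pullback.fst f y) := (pullback.fst f y).isOpenMap
  have hsurj : Function.Surjective (pullback.fst f y) := (pullback.fst f y).surjective
  have := IsIrreducible.preimage_of_isPreirreducible_fiber (IrreducibleSpace.isIrreducible_univ X)
    (pullback.fst f y) hopen (fun z => by
      rw [← (pullback.fst f y).range_fiberι, ← Set.image_univ]
      have := hfib z
      exact ((IrreducibleSpace.isIrreducible_univ _).image _
        ((pullback.fst f y).fiberι _).continuous.continuousOn).isPreirreducible)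
    (by rw [Set.univ_inter]; exact hsurj.range_eq ▸ Set.univ_nonempty)
  rw [Set.preimage_univ] at this
  exact (irreducibleSpace_def _).mpr this

end Groth.L25.GeomIrred
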