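import Groth.Agent.L25.DerReduced
import Mathlib.AlgebraicGeometry.Group.Smooth
import Mathlib.CategoryTheory.Monoidal.Cartesian.Grp
import Mathlib.AlgebraicGeometry.AlgClosed.Basic
import Mathlib.Algebra.DualNumber
import Mathlib.RingTheory.Jacobson.Ring
import Mathlib.FieldTheory.IsAlgClosed.AlgebraicClosure
import Mathlib.RingTheory.Unramified.Field
import Mathlib.RingTheory.Etale.Field
import Mathlib.FieldTheory.Perfect
import Mathlib.RingTheory.TensorProduct.Free
import Mathlib.RingTheory.Flat.Basic
import Mathlib.AlgebraicGeometry.Properties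

/-! Translations of tangent vectors on a group scheme over a field, Cartier's theorem. -/

noncomputable section

universe u

open CategoryTheory AlgebraicGeometry Limits MonObj CartesianMonoidalCategory TrivSqZeroExt

namespace Groth.L25.GrpDeriv

variable {K : Type u} [Field K]

/-- `Spec B` over `Spec K`. -/
def sp (B : Type u) [CommRing B] [Algebra K B] : Over (Spec (CommRingCat.of K)) :=
  Over.mk (Spec.map (CommRingCat.ofHom (algebraMap K B)))

def spMap {B C : Type u} [CommRing B] [CommRing C] [Algebra K B] [Algebra K C] (φ : B →ₐ[K] C) :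
    sp (K := K) C ⟶ sp (K := K) B :=
  Over.homMk (Spec.map (CommRingCat.ofHom φ.toRingHom)) (by
    show _ ≫ Spec.map _ = Spec.map _
    rw [← Spec.map_comp]; congr 1; ext r; exact φ.commutes r)

lemma spMap_comp {B C D : Type u} [CommRing B] [CommRing C] [CommRing D] [Algebra K B] [Algebra K C] [Algebra K D]
    (φ : B →ₐ[K] C) (ψ : C →ₐ[K] D) : spMap ψ ≫ spMap φ = spMap (ψ.comp φ) := by
  ext : 1
  show Spec.map _ ≫ Spec.map _ = Spec.map _
  rw [← Spec.map_comp]; rfl

lemma spMap_id {B : Type u} [CommRing B] [Algebra K B] : spMap (AlgHom.id K B) = 𝟙 (sp (K := K) B) := by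
  ext : 1
  exact Spec.map_id _

/-- Functoriality of dual numbers. -/
def mapDual {B C : Type u} [CommRing B] [CommRing C] [Algebra K B] [Algebra K C] (φ : B →ₐ[K] C) :
    DualNumber B →ₐ[K] DualNumber C where
  toFun x := inl (φ x.fst) + inr (φ x.snd)
  map_one' := by ext <;> simp
  map_mul' x y := by ext <;> simp
  map_zero' := by ext <;> simp
  map_add' x y := by ext <;> simp
  commutes' r := by ext <;> simp [algebraMap_eq_inl']

@[simp] lemma fst_mapDual {B C : Type u} [CommRing B] [CommRing C] [Algebra K B] [Algebra K C] (φ : B →ₐ[K] C)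
    (x : DualNumber B) : (mapDual φ x).fst = φ x.fst := by simp [mapDual]

@[simp] lemma snd_mapDual {B C : Type u} [CommRing B] [CommRing C] [Algebra K B] [Algebra K C] (φ : B →ₐ[K] C)
    (x : DualNumber B) : (mapDual φ x).snd = φ x.snd := by simp [mapDual]

theorem exists_derivation (G : Over (Spec (CommRingCat.of K))) [GrpObj G]
    {A : Type u} [CommRing A] [Algebra K A] (j : Spec (CommRingCat.of A) ⟶ G.left) [IsOpenImmersion j]
    (hj : j ≫ G.hom = Spec.map (CommRingCat.ofHom (algebraMap K A)))
    (χ : A →ₐ[K] K) (w : A →ₗ[K] K) (hw1 : w 1 = 0) (hw : ∀ a b, w (a * b) = χ a * w b + χ b * w a) :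
    ∃ D : Derivation K A A, ∀ a, χ (D a) = w a := by
  let u' : sp (K := K) A ⟶ G := Over.homMk j hj
  let ω : A →ₐ[K] DualNumber K :=
    { toFun := fun a => inl (χ a) + inr (w a)
      map_one' := by ext <;> simp [hw1]
      map_mul' := fun a b => by ext <;> simp [hw]; ring
      map_zero' := by ext <;> simp
      map_add' := fun a b => by ext <;> simp
      commutes' := fun r => by
        have : w (algebraMap K A r) = 0 := by rw [Algebra.algebraMap_eq_smul_one, map_smul, hw1, smul_zero]
        ext <;> simp [algebraMap_eq_inl', this] }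
  let v : sp (K := K) (DualNumber K) ⟶ G :=
    (spMap (inlAlgHom K K K) ≫ spMap χ ≫ u')⁻¹ * (spMap ω ≫ u')
  let π : sp (K := K) (DualNumber A) ⟶ sp (K := K) (DualNumber K) := spMap (mapDual (Algebra.ofId K A))
  let θ : sp (K := K) (DualNumber A) ⟶ G := (spMap (inlAlgHom K A A) ≫ u') * (π ≫ v)
  have hv : spMap (fstHom K K K) ≫ v = 1 := by
    rw [comp_mul, GrpObj.comp_inv, ← Category.assoc, spMap_comp, ← Category.assoc (spMap (fstHom K K K)), spMap_comp]
    rw [show (fstHom K K K).comp (inlAlgHom K K K) = AlgHom.id K K from AlgHom.ext fun x => by simp,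
      show (fstHom K K K).comp ω = χ from AlgHom.ext fun a => by simp [ω], spMap_id, Category.id_comp,
      inv_mul_cancel]
  have h1 : spMap (fstHom K A A) ≫ θ = u' := by
    rw [comp_mul, ← Category.assoc, spMap_comp, ← Category.assoc, spMap_comp,
      show (fstHom K A A).comp (inlAlgHom K A A) = AlgHom.id K A from AlgHom.ext fun x => by simp,
      show (fstHom K A A).comp (mapDual (Algebra.ofId K A)) = (Algebra.ofId K A).comp (fstHom K K K) from
        AlgHom.ext fun x => by simp,
      ← spMap_comp, Category.assoc, hv, MonObj.comp_one, _root_.mul_one, spMap_id, Category.id_comp]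
  have h2 : spMap (mapDual χ) ≫ θ = spMap ω ≫ u' := by
    rw [comp_mul, ← Category.assoc, spMap_comp, ← Category.assoc, spMap_comp,
      show (mapDual χ).comp (inlAlgHom K A A) = (inlAlgHom K K K).comp χ from
        AlgHom.ext fun x => by ext <;> simp,
      show (mapDual χ).comp (mapDual (Algebra.ofId K A)) = AlgHom.id K _ from AlgHom.ext fun x => by ext <;> simp,
      spMap_id, Category.id_comp, ← spMap_comp, Category.assoc, mul_inv_cancel_left]
  have hr : Set.range θ.left ⊆ Set.range j := by
    rintro _ ⟨P, rfl⟩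
    have hsurj : ∃ Q, (spMap (fstHom K A A)).left Q = P := by
      refine ⟨PrimeSpectrum.comap (TrivSqZeroExt.inlHom A A) P, PrimeSpectrum.ext (Ideal.ext fun x => ?_)⟩
      change inl (fst x) ∈ P.asIdeal ↔ x ∈ P.asIdeal
      have hn : inr (snd x) ∈ P.asIdeal := by
        refine P.2.mem_of_pow_mem 2 ?_
        rw [pow_two, inr_mul_inr]; exact Ideal.zero_mem _
      conv_rhs => rw [← inl_fst_add_inr_snd_eq x]
      exact (Ideal.add_mem_iff_left _ hn).symm
    obtain ⟨Q, rfl⟩ := hsurj
    exact ⟨Q, (congrArg (fun f : sp (K := K) A ⟶ G => f.left Q) h1).symm⟩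
  let ψ' : CommRingCat.of A ⟶ CommRingCat.of (DualNumber A) := Spec.preimage (IsOpenImmersion.lift j θ.left hr)
  have hψ : Spec.map ψ' ≫ j = θ.left := by rw [Spec.map_preimage, IsOpenImmersion.lift_fac]
  have hinj : ∀ {B : CommRingCat.{u}} (p q : CommRingCat.of A ⟶ B), Spec.map p ≫ j = Spec.map q ≫ j → p = q :=
    fun p q h => Spec.map_injective ((cancel_mono j).1 h)
  have e1 : ∀ a, fst (ψ'.hom a) = a := by
    intro a
    have : ψ' ≫ CommRingCat.ofHom (fstHom K A A).toRingHom = 𝟙 _ := hinj _ _ (by
      rw [Spec.map_comp, Category.assoc, hψ, Spec.map_id, Category.id_comp]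
      exact congrArg (fun f : sp (K := K) A ⟶ G => f.left) h1)
    exact ConcreteCategory.congr_hom this a
  have e2 : ∀ a, mapDual χ (ψ'.hom a) = ω a := by
    intro a
    have : ψ' ≫ CommRingCat.ofHom (mapDual χ).toRingHom = CommRingCat.ofHom ω.toRingHom := hinj _ _ (by
      rw [Spec.map_comp, Category.assoc, hψ]
      exact congrArg (fun f : sp (K := K) (DualNumber K) ⟶ G => f.left) h2)
    exact ConcreteCategory.congr_hom this a
  have e0 : ∀ r, ψ'.hom (algebraMap K A r) = algebraMap K (DualNumber A) r := by
    intro r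
    have : CommRingCat.ofHom (algebraMap K A) ≫ ψ' = CommRingCat.ofHom (algebraMap K (DualNumber A)) := by
      apply Spec.map_injective
      rw [Spec.map_comp, ← hj, ← Category.assoc, hψ]
      exact Over.w θ
    exact ConcreteCategory.congr_hom this r
  let ψ : A →ₐ[K] DualNumber A := { ψ'.hom with commutes' := e0 }
  refine ⟨Derivation.mk' ((sndHom A A).restrictScalars K ∘ₗ ψ.toLinearMap) (fun a b => ?_), fun a => ?_⟩
  · change snd (ψ (a * b)) = a • snd (ψ b) + b • snd (ψ a)
    rw [map_mul, snd_mul, show fst (ψ a) = a from e1 a, show fst (ψ b) = b from e1 b]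
    simp [mul_comm b]
  · show χ (snd (ψ'.hom a)) = w a
    simpa [ω] using congrArg snd (e2 a)

theorem isReduced_of_charZero_of_isAlgClosed [CharZero K] [IsAlgClosed K]
    (G : Over (Spec (CommRingCat.of K))) [GrpObj G] [LocallyOfFiniteType G.hom] : IsReduced G.left := by
  apply +allowSynthFailures @IsReduced.of_openCover (𝒰 := G.left.affineOpenCover.openCover)
  intro i
  let A := G.left.affineOpenCover.X i
  show IsReduced (Spec A)
  let j : Spec (CommRingCat.of A) ⟶ G.left := G.left.affineOpenCover.f i
  letI : Algebra K A := (Spec.preimage (j ≫ G.hom)).hom.toAlgebra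
  have hj : j ≫ G.hom = Spec.map (CommRingCat.ofHom (algebraMap K A)) := (Spec.map_preimage _).symm
  have : IsOpenImmersion j := G.left.affineOpenCover.map_prop i
  have : Algebra.FiniteType K A := by
    have h : LocallyOfFiniteType (j ≫ G.hom) := inferInstance
    rw [hj, HasRingHomProperty.Spec_iff (P := @LocallyOfFiniteType)] at h
    exact h
  have : IsNoetherianRing A := Algebra.FiniteType.isNoetherianRing K A
  have hred : _root_.IsReduced A := by
    refine DerReduced.isReduced (k := K) (fun m hm => ?_) fun χ w h1 h2 => exists_derivation G j hj χ w h1 h2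
    letI := Ideal.Quotient.field m
    have : Module.Finite K (A ⧸ m) := finite_of_finite_type_of_isJacobsonRing K (A ⧸ m)
    let e : K ≃ₐ[K] A ⧸ m := AlgEquiv.ofBijective (Algebra.ofId K _)
      (IsAlgClosed.algebraMap_bijective_of_isIntegral (k := K) (K := A ⧸ m))
    refine ⟨e.symm.toAlgHom.comp (Ideal.Quotient.mkₐ K m), fun a => Ideal.Quotient.eq.1 ?_⟩
    exact (e.apply_symm_apply (Ideal.Quotient.mkₐ K m a)).symm
  infer_instance

theorem isReduced_tensorProduct_of_isSeparable {A E : Type u} [CommRing A] [Algebra K A] [_root_.IsReduced A]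
    [Field E] [Algebra K E] [Module.Finite K E] [Algebra.IsSeparable K E] :
    _root_.IsReduced (TensorProduct K A E) := by
  refine ⟨fun t ht => ?_⟩
  let b := Module.finBasis K E
  let B := Algebra.TensorProduct.basis A b
  refine B.repr.map_eq_zero_iff.1 (Finsupp.ext fun i => IsReduced.eq_zero _ ((nilpotent_iff_mem_prime).2 fun P hP => ?_))
  let φ : TensorProduct K A E →ₐ[K] TensorProduct K P.ResidueField E :=
    Algebra.TensorProduct.map (IsScalarTower.toAlgHom K A P.ResidueField) (AlgHom.id K E)
  have : Algebra.FormallyEtale K E := Algebra.FormallyEtale.of_isSeparable K E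
  have : _root_.IsReduced (TensorProduct K P.ResidueField E) :=
    Algebra.FormallyUnramified.isReduced_of_field P.ResidueField _
  have h0 : φ t = 0 := IsReduced.eq_zero _ (ht.map φ)
  let B' := Algebra.TensorProduct.basis P.ResidueField b
  have h1 : φ t = ∑ l, algebraMap A P.ResidueField (B.repr t l) • B' l := by
    conv_lhs => rw [← B.sum_repr t]
    simp only [map_sum, B, B', Algebra.TensorProduct.basis_apply, φ, TensorProduct.smul_tmul', smul_eq_mul, mul_one,
      Algebra.TensorProduct.map_tmul, IsScalarTower.toAlgHom_apply, AlgHom.id_apply, _root_.mul_one]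
  have h2 := congrArg (fun v => B'.repr v i) (h1.symm.trans h0)
  simp only [B'.repr_sum_self, map_zero, Finsupp.zero_apply] at h2
  exact Ideal.algebraMap_residueField_eq_zero.1 h2

theorem isReduced_tensorProduct_of_perfectField [PerfectField K] {A Ω : Type u} [CommRing A] [Algebra K A]
    [_root_.IsReduced A] [Field Ω] [Algebra K Ω] [Algebra.IsAlgebraic K Ω] :
    _root_.IsReduced (TensorProduct K A Ω) := by
  refine IsReduced.tensorProduct_of_flat_of_forall_fg fun B hB => ?_
  have : Algebra.FiniteType K B := B.fg_iff_finiteType.1 hB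
  have : Algebra.IsIntegral K B := ⟨fun x => (isIntegral_algHom_iff B.val Subtype.val_injective).1
    (Algebra.IsIntegral.isIntegral _)⟩
  have : Module.Finite K B := Algebra.IsIntegral.finite
  have hF : IsField B := isField_of_isIntegral_of_isField' (Field.toIsField K)
  letI := hF.toField
  exact isReduced_tensorProduct_of_isSeparable

set_option backward.defeqAttrib.useBackward true in
set_option backward.isDefEq.respectTransparency false in
/-- Mathlib's `smooth_of_grpObj_of_isAlgClosed`, which is private there. -/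
theorem smooth_of_isReduced_of_isAlgClosed {G : Scheme.{u}} (f : G ⟶ Spec (.of K))
    [LocallyOfFiniteType f] [GrpObj (Over.mk f)] [IsReduced G] [IsAlgClosed K] : Smooth f := by
  have := LocallyOfFiniteType.jacobsonSpace f
  have : Nonempty G := ⟨η[Over.mk f].1 (IsLocalRing.closedPoint _)⟩
  rw [← Scheme.Hom.smoothLocus_eq_top_iff, ← TopologicalSpace.Opens.coe_eq_univ,
    ← not_ne_iff, ← Set.nonempty_compl]
  intro H
  obtain ⟨x, hx, hxc⟩ :=
    nonempty_inter_closedPoints H f.smoothLocus.2.isClosed_compl.isLocallyClosed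
  obtain ⟨y, hy : y ∈ f.smoothLocus, hyc⟩ := nonempty_inter_closedPoints
    f.dense_smoothLocus_of_perfectField.nonempty f.smoothLocus.2.isLocallyClosed
  let x' : MonoidalCategoryStruct.tensorUnit _ ⟶ Over.mk f := Over.homMk _ ((pointEquivClosedPoint f).symm ⟨x, hxc⟩).2
  let y' : MonoidalCategoryStruct.tensorUnit _ ⟶ Over.mk f := Over.homMk _ ((pointEquivClosedPoint f).symm ⟨y, hyc⟩).2
  let α := (GrpObj.mulRight (A := Over.mk f) x').symm ≪≫
    (GrpObj.mulRight (A := Over.mk f) y')
  have hα : x' ≫ α.hom = y' := by
    dsimp only [Iso.trans_hom, Iso.symm_hom, α]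
    rw [← Category.assoc, ← Iso.eq_comp_inv]
    simp [comp_lift_assoc]
  have hα' : α.hom.left x = y := by
    simpa [x', y', pointEquivClosedPoint] using congr(($hα).left (IsLocalRing.closedPoint K))
  rw! [← hα', ← α.hom.left.mem_preimage, Scheme.Hom.preimage_smoothLocus_eq,
    show α.hom.left ≫ f = f from α.hom.w] at hy
  exact hx hy

/-- A group scheme over a field is smooth as soon as its base change to an algebraic closure is
reduced. -/
theorem smooth_of_isReduced_baseChange {G : Scheme.{u}} (f : G ⟶ Spec (.of K))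
    [LocallyOfFiniteType f] [GrpObj (Over.mk f)]
    (H : ∀ [GrpObj (Over.mk (pullback.snd f (Spec.map (CommRingCat.ofHom (algebraMap K (AlgebraicClosure K))))))],
      IsReduced (pullback f (Spec.map (CommRingCat.ofHom (algebraMap K (AlgebraicClosure K)))))) : Smooth f := by
  let Ω : Type u := AlgebraicClosure K
  let g : Spec (.of Ω) ⟶ Spec (.of K) := Spec.map (CommRingCat.ofHom <| algebraMap K Ω)
  apply MorphismProperty.of_pullback_snd_of_descendsAlong
    (Q := @Surjective ⊓ @Flat ⊓ @QuasiCompact) (g := g)
  · exact ⟨⟨inferInstance, inferInstance⟩, inferInstance⟩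
  · let : GrpObj (Over.mk (Limits.pullback.snd f g)) := Over.grpObjMkPullbackSnd
    have := @H this
    exact smooth_of_isReduced_of_isAlgClosed _

theorem smooth_of_charZero [CharZero K] {G : Scheme.{u}} (f : G ⟶ Spec (.of K))
    [LocallyOfFiniteType f] [GrpObj (Over.mk f)] : Smooth f := by
  refine smooth_of_isReduced_baseChange f ?_
  intro _
  have : CharZero (AlgebraicClosure K) :=
    charZero_of_injective_algebraMap (algebraMap K (AlgebraicClosure K)).injective
  have : LocallyOfFiniteType (Over.mk (pullback.snd f (Spec.map (CommRingCat.ofHom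
      (algebraMap K (AlgebraicClosure K)))))).hom :=
    inferInstanceAs (LocallyOfFiniteType (pullback.snd f _))
  exact isReduced_of_charZero_of_isAlgClosed (Over.mk (pullback.snd f _))

theorem smooth_of_perfectField [PerfectField K] {G : Scheme.{u}} (f : G ⟶ Spec (.of K))
    [LocallyOfFiniteType f] [GrpObj (Over.mk f)] [IsReduced G] : Smooth f := by
  refine smooth_of_isReduced_baseChange f ?_
  intro _
  set g := Spec.map (CommRingCat.ofHom (algebraMap K (AlgebraicClosure K)))
  apply +allowSynthFailures @IsReduced.of_openCover (𝒰 := G.affineOpenCover.openCover.pullback₁ (pullback.fst f g))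
  intro i
  let A := G.affineOpenCover.X i
  let j : Spec (CommRingCat.of A) ⟶ G := G.affineOpenCover.f i
  letI : Algebra K A := (Spec.preimage (j ≫ f)).hom.toAlgebra
  have hj : j ≫ f = Spec.map (CommRingCat.ofHom (algebraMap K A)) := (Spec.map_preimage _).symm
  have : IsOpenImmersion j := G.affineOpenCover.map_prop i
  have hA : IsReduced (Spec (CommRingCat.of A)) := isReduced_of_isOpenImmersion j
  have : _root_.IsReduced A := by
    rwa [affine_isReduced_iff] at hA
  have : _root_.IsReduced (TensorProduct K A (AlgebraicClosure K)) := isReduced_tensorProduct_of_perfectField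
  let e : pullback (pullback.fst f g) j ≅ Spec (CommRingCat.of (TensorProduct K A (AlgebraicClosure K))) :=
    pullbackSymmetry _ _ ≪≫ pullbackRightPullbackFstIso f g j ≪≫ pullback.congrHom hj rfl ≪≫ pullbackSpecIso K A (AlgebraicClosure K)
  show IsReduced (pullback (pullback.fst f g) j)
  exact isReduced_of_isOpenImmersion e.hom

end Groth.L25.GrpDeriv
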