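import Groth.Agent.L25.GeomIrred
import Groth.Agent.L25.GrpDeriv
import Mathlib.AlgebraicGeometry.Morphisms.ClosedImmersion

/-! Over a perfect field, tensor products of reduced algebras and products of reduced schemes are
reduced. -/

universe u

open CategoryTheory CategoryTheory.Limits AlgebraicGeometry TensorProduct

namespace Groth.L25.GeomRed

section AlgClosed

variable {k : Type u} [Field k] [IsAlgClosed k] {A B : Type u} [CommRing A] [CommRing B] [Algebra k A]
  [Algebra k B]

theorem eq_zero_of_isNilpotent_of_fg [_root_.IsReduced A] [_root_.IsReduced B] [Algebra.FiniteType k A]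
    (x : A ⊗[k] B) (h : IsNilpotent x) : x = 0 := by
  let b := Module.Free.chooseBasis k B
  let bA := Algebra.TensorProduct.basis A b
  refine bA.repr.map_eq_zero_iff.mp (Finsupp.ext fun i => GeomIrred.eq_zero_of_forall_algHom (k := k) _ fun φ => ?_)
  let ev : A ⊗[k] B →ₐ[k] B :=
    (Algebra.TensorProduct.lid k B).toAlgHom.comp (Algebra.TensorProduct.map φ (AlgHom.id k B))
  have key : ∀ (z : A ⊗[k] B) (l), b.repr (ev z) l = φ (bA.repr z l) := by
    intro z l
    induction z using TensorProduct.induction_on with
    | zero => simp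
    | tmul a v => simp [ev, bA, Algebra.TensorProduct.basis_repr_tmul]
    | add z w hz hw => simp [hz, hw]
  rw [← key x i, IsReduced.eq_zero _ (h.map ev), map_zero, Finsupp.zero_apply]

theorem isReduced_tensorProduct_of_isAlgClosed [_root_.IsReduced A] [_root_.IsReduced B] :
    _root_.IsReduced (A ⊗[k] B) := by
  refine ⟨fun x hx => ?_⟩
  classical
  let b := Module.Free.chooseBasis k B
  let bA := Algebra.TensorProduct.basis A b
  let s : Finset A := (bA.repr x).frange
  let A₀ := Algebra.adjoin k (s : Set A)
  have : Algebra.FiniteType k A₀ := (Subalgebra.fg_iff_finiteType _).mp ⟨s, rfl⟩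
  have : _root_.IsReduced A₀ := isReduced_of_injective A₀.val Subtype.val_injective
  let J : A₀ ⊗[k] B →ₐ[k] A ⊗[k] B := Algebra.TensorProduct.map A₀.val (AlgHom.id k B)
  have hJ : Function.Injective J :=
    Module.Flat.rTensor_preserves_injective_linearMap (M := B) A₀.val.toLinearMap Subtype.val_injective
  have hmem : ∀ l, bA.repr x l ∈ A₀ := by
    intro l
    by_cases h0 : bA.repr x l = 0
    · rw [h0]; exact zero_mem _
    · exact Algebra.subset_adjoin (Finsupp.mem_frange.mpr ⟨h0, l, rfl⟩)
  obtain ⟨x₀, hx₀⟩ : x ∈ J.range := by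
    rw [← bA.linearCombination_repr x, Finsupp.linearCombination_apply]
    refine sum_mem fun l _ => ⟨⟨_, hmem l⟩ ⊗ₜ b l, ?_⟩
    simp [J, bA, TensorProduct.smul_tmul']
  rw [AlgHom.toRingHom_eq_coe, RingHom.coe_coe] at hx₀
  have h0 : x₀ = 0 := eq_zero_of_isNilpotent_of_fg x₀ ((IsNilpotent.map_iff hJ).mp (by rw [hx₀]; exact hx))
  rw [← hx₀, h0, map_zero]

end AlgClosed

variable {k : Type u} [Field k] [PerfectField k]

/-- Over a perfect field a tensor product of reduced algebras is reduced. -/
theorem isReduced_tensorProduct {A B : Type u} [CommRing A] [CommRing B] [Algebra k A] [Algebra k B]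
    [_root_.IsReduced A] [_root_.IsReduced B] : _root_.IsReduced (A ⊗[k] B) := by
  let kb := AlgebraicClosure k
  have h1 : _root_.IsReduced (A ⊗[k] kb) := GrpDeriv.isReduced_tensorProduct_of_perfectField
  have h1' : _root_.IsReduced (kb ⊗[k] A) :=
    isReduced_of_injective (Algebra.TensorProduct.comm k kb A).toAlgHom (Algebra.TensorProduct.comm k kb A).injective
  have h2 : _root_.IsReduced (B ⊗[k] kb) := GrpDeriv.isReduced_tensorProduct_of_perfectField
  have h2' : _root_.IsReduced (kb ⊗[k] B) :=
    isReduced_of_injective (Algebra.TensorProduct.comm k kb B).toAlgHom (Algebra.TensorProduct.comm k kb B).injective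
  have h3 : _root_.IsReduced ((kb ⊗[k] A) ⊗[kb] (kb ⊗[k] B)) := isReduced_tensorProduct_of_isAlgClosed
  have h4 : _root_.IsReduced ((kb ⊗[k] A) ⊗[k] B) :=
    isReduced_of_injective (Algebra.TensorProduct.cancelBaseChange k kb (kb ⊗[k] A) (kb ⊗[k] A) B).symm.toAlgHom
      (Algebra.TensorProduct.cancelBaseChange k kb (kb ⊗[k] A) (kb ⊗[k] A) B).symm.injective
  exact isReduced_of_injective (Algebra.TensorProduct.map (Algebra.TensorProduct.includeRight (R := k) (A := kb) (B := A)) (AlgHom.id k B))
    (Module.Flat.rTensor_preserves_injective_linearMap (M := B)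
      (Algebra.TensorProduct.includeRight (R := k) (A := kb) (B := A)).toLinearMap
      (Algebra.TensorProduct.includeRight_injective (algebraMap k kb).injective))

/-- Over a perfect field a product of reduced schemes is reduced. -/
theorem isReduced_pullback {X Y : Scheme.{u}} (f : X ⟶ Spec (CommRingCat.of k)) (g : Y ⟶ Spec (CommRingCat.of k))
    [IsReduced X] [IsReduced Y] : IsReduced (pullback f g) := by
  apply +allowSynthFailures @IsReduced.of_openCover
    (𝒰 := Scheme.Pullback.openCoverOfLeftRight X.affineOpenCover.openCover Y.affineOpenCover.openCover f g)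
  rintro ⟨i, l⟩
  let A := X.affineOpenCover.X i
  let B := Y.affineOpenCover.X l
  let j : Spec (CommRingCat.of A) ⟶ X := X.affineOpenCover.f i
  let j' : Spec (CommRingCat.of B) ⟶ Y := Y.affineOpenCover.f l
  letI : Algebra k A := (Spec.preimage (j ≫ f)).hom.toAlgebra
  letI : Algebra k B := (Spec.preimage (j' ≫ g)).hom.toAlgebra
  have hj : j ≫ f = Spec.map (CommRingCat.ofHom (algebraMap k A)) := (Spec.map_preimage _).symm
  have hj' : j' ≫ g = Spec.map (CommRingCat.ofHom (algebraMap k B)) := (Spec.map_preimage _).symm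
  have : IsOpenImmersion j := X.affineOpenCover.map_prop i
  have : IsOpenImmersion j' := Y.affineOpenCover.map_prop l
  have hA : IsReduced (Spec (CommRingCat.of A)) := isReduced_of_isOpenImmersion j
  have hB : IsReduced (Spec (CommRingCat.of B)) := isReduced_of_isOpenImmersion j'
  rw [affine_isReduced_iff] at hA hB
  have : _root_.IsReduced (A ⊗[k] B) := isReduced_tensorProduct
  let e : pullback (j ≫ f) (j' ≫ g) ≅ Spec (CommRingCat.of (A ⊗[k] B)) :=
    pullback.congrHom hj hj' ≪≫ pullbackSpecIso k A B
  show IsReduced (pullback (j ≫ f) (j' ≫ g))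
  exact isReduced_of_isOpenImmersion e.hom

/-- A morphism from a reduced scheme factors through any surjective closed immersion. -/
theorem exists_factor {T F G : Scheme.{u}} [IsReduced T] (j : F ⟶ G) [IsClosedImmersion j] [Surjective j]
    (m : T ⟶ G) : ∃ m' : T ⟶ F, m' ≫ j = m := by
  have : IsIso (pullback.snd j m) := isIso_of_isClosedImmersion_of_surjective _
  exact ⟨inv (pullback.snd j m) ≫ pullback.fst j m, by
    rw [Category.assoc, pullback.condition, IsIso.inv_hom_id_assoc]⟩

end Groth.L25.GeomRed
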