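import Mathlib.AlgebraicGeometry.Morphisms.Separated
import Mathlib.AlgebraicGeometry.Morphisms.QuasiSeparated
import Mathlib.AlgebraicGeometry.Morphisms.Flat
import Mathlib.CategoryTheory.Monoidal.Cartesian.Over
import Mathlib.CategoryTheory.Monoidal.Cartesian.Grp
import Mathlib.CategoryTheory.Limits.Constructions.Over.Connected

/-! Elementary cartesian squares and shears for group objects. -/

namespace Groth.L25.GrpBasics

open CategoryTheory MonoidalCategory CartesianMonoidalCategory MonObj GrpObj Limits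

universe v u

variable {C : Type u} [Category.{v} C] [CartesianMonoidalCategory C]

/-- `(t, g) ↦ (t, ψ t * g)` is an automorphism of `T ⊗ G`. -/
@[simps]
def shear {T G : C} [GrpObj G] (ψ : T ⟶ G) : T ⊗ G ≅ T ⊗ G where
  hom := lift (fst T G) ((fst T G ≫ ψ) * snd T G)
  inv := lift (fst T G) ((fst T G ≫ ψ)⁻¹ * snd T G)
  hom_inv_id := by
    ext
    · simp
    · simp [MonObj.comp_mul, GrpObj.comp_inv, ← Category.assoc]
  inv_hom_id := by
    ext
    · simp
    · simp [MonObj.comp_mul, GrpObj.comp_inv, ← Category.assoc]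

lemma shear_hom_snd {T G : C} [GrpObj G] (ψ : T ⟶ G) :
    (shear ψ).hom ≫ snd T G = ψ ▷ G ≫ μ[G] := by
  simp [Hom.mul_def]
  congr 1
  ext <;> simp

/-- `(h', h) ↦ (h' * h, h)` is an automorphism of `H ⊗ H`. -/
@[simps]
def shearRight (H : C) [GrpObj H] : H ⊗ H ≅ H ⊗ H where
  hom := lift (fst H H * snd H H) (snd H H)
  inv := lift (fst H H * (snd H H)⁻¹) (snd H H)
  hom_inv_id := by
    ext
    · simp [MonObj.comp_mul, GrpObj.comp_inv]
    · simp
  inv_hom_id := by
    ext
    · simp [MonObj.comp_mul, GrpObj.comp_inv]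
    · simp

/-- The diagonal of a group object is a base change of the unit section along `(x, y) ↦ x * y⁻¹`. -/
lemma isPullback_diag (G : C) [GrpObj G] :
    IsPullback (lift (𝟙 G) (𝟙 G)) (toUnit G) (fst G G * (snd G G)⁻¹) η[G] := by
  have hd : ∀ {W : C} (p : W ⟶ G ⊗ G) (q : W ⟶ 𝟙_ C), p ≫ (fst G G * (snd G G)⁻¹) = q ≫ η[G] →
      p ≫ fst G G = p ≫ snd G G := by
    intro W p q h
    rw [Subsingleton.elim q (toUnit W), ← Hom.one_def, MonObj.comp_mul, GrpObj.comp_inv] at h
    exact mul_inv_eq_one.1 h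
  refine ⟨⟨by simp [MonObj.comp_mul, GrpObj.comp_inv, ← Hom.one_def]⟩,
    ⟨PullbackCone.IsLimit.mk _ (fun s => s.fst ≫ fst G G) (fun s => ?_) (fun s => Subsingleton.elim _ _)
      (fun s m h1 _ => ?_)⟩⟩
  · ext
    · simp
    · simp [← hd _ _ s.condition]
  · rw [← h1]; simp

/-- Whiskering on the right is a base change. -/
lemma isPullback_whiskerRight {X Y : C} (i : X ⟶ Y) (Z : C) :
    IsPullback (i ▷ Z) (fst X Z) (fst Y Z) i := by
  refine ⟨⟨by simp⟩, ⟨PullbackCone.IsLimit.mk _ (fun s => lift s.snd (s.fst ≫ snd Y Z))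
    (fun s => ?_) (fun s => by simp) (fun s m h1 h2 => ?_)⟩⟩
  · ext
    · simp [s.condition]
    · simp
  · ext
    · simpa using h2
    · simp [← h1]

/-- Whiskering on the left is a base change. -/
lemma isPullback_whiskerLeft (T : C) {X Y : C} (g : X ⟶ Y) :
    IsPullback (T ◁ g) (snd T X) (snd T Y) g := by
  refine ⟨⟨by simp⟩, ⟨PullbackCone.IsLimit.mk _ (fun s => lift (s.fst ≫ fst T Y) s.snd)
    (fun s => ?_) (fun s => by simp) (fun s m h1 h2 => ?_)⟩⟩
  · ext
    · simp
    · simp [s.condition]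
  · ext
    · simp [← h1]
    · simpa using h2

section Scheme

open AlgebraicGeometry

variable {S : Scheme.{u}}

/-- The diagonal of a group scheme has every property stable under base change that the unit has. -/
lemma diagonal_of_unit (P : MorphismProperty Scheme.{u}) [P.IsStableUnderBaseChange]
    (G : Over S) [GrpObj G] (h : P η[G].left) : P (pullback.diagonal G.hom) :=
  MorphismProperty.of_isPullback ((isPullback_diag G).map (Over.forget S)).flip h

lemma unit_comp_hom (G : Over S) [GrpObj G] : η[G].left ≫ G.hom = 𝟙 S := Over.w η[G]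

end Scheme

end Groth.L25.GrpBasics
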