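import Groth.Agent.L25.GeomIrred
import Groth.Agent.L25.GrpBasics
import Groth.Agent.L16.RatMapExt
import Groth.Prelude.Def_Red
import Mathlib.AlgebraicGeometry.IdealSheaf.Subscheme
import Mathlib.AlgebraicGeometry.Morphisms.ClosedImmersion
import Mathlib.AlgebraicGeometry.Morphisms.Integral
import Mathlib.AlgebraicGeometry.Group.Abelian
import Mathlib.FieldTheory.IsAlgClosed.AlgebraicClosure

/-! Irreducible components of a group scheme over a field (no finiteness hypothesis): through every
point there is exactly one; an irreducible group is geometrically irreducible and quasi-compact. -/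

universe u

open CategoryTheory CategoryTheory.Limits MonoidalCategory CartesianMonoidalCategory MonObj AlgebraicGeometry

namespace Groth.L25.Component

variable {k : Type u} [Field k]

/-- The identity point. -/
noncomputable def one (G : Over (Spec (CommRingCat.of k))) [GrpObj G] : G.left :=
  η[G].left (IsLocalRing.closedPoint k)

/-- `x` lies on a single irreducible component. -/
def UniqueComp {α : Type*} [TopologicalSpace α] (x : α) : Prop :=
  ∀ Z₁ ∈ irreducibleComponents α, ∀ Z₂ ∈ irreducibleComponents α, x ∈ Z₁ → x ∈ Z₂ → Z₁ = Z₂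

theorem uniqueComp_one_of_isAlgClosed [IsAlgClosed k] (G : Over (Spec (CommRingCat.of k))) [GrpObj G] :
    UniqueComp (one G) := by
  intro Z₁ h1 Z₂ h2 e1 e2
  let I₁ := Scheme.IdealSheafData.vanishingIdeal (X := G.left)
    ⟨Z₁, isClosed_of_mem_irreducibleComponents Z₁ h1⟩
  let I₂ := Scheme.IdealSheafData.vanishingIdeal (X := G.left)
    ⟨Z₂, isClosed_of_mem_irreducibleComponents Z₂ h2⟩
  have r1 : Set.range I₁.subschemeι = Z₁ := by
    rw [Scheme.IdealSheafData.range_subschemeι, Scheme.IdealSheafData.coe_support_vanishingIdeal]; rfl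
  have r2 : Set.range I₂.subschemeι = Z₂ := by
    rw [Scheme.IdealSheafData.range_subschemeι, Scheme.IdealSheafData.coe_support_vanishingIdeal]; rfl
  have irr : ∀ (I : G.left.IdealSheafData), IsIrreducible (Set.range I.subschemeι) →
      IrreducibleSpace I.subscheme := by
    intro I hI
    rw [irreducibleSpace_def]
    refine ⟨⟨hI.1.some_mem.choose, trivial⟩, fun U V hU hV hu hv => ?_⟩
    obtain ⟨U', hU', rfl⟩ := I.subschemeι.isEmbedding.isInducing.isOpen_iff.mp hU
    obtain ⟨V', hV', rfl⟩ := I.subschemeι.isEmbedding.isInducing.isOpen_iff.mp hV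
    obtain ⟨a, -, ha⟩ := hu
    obtain ⟨b, -, hb⟩ := hv
    obtain ⟨_, ⟨c, rfl⟩, hc⟩ := hI.2 U' V' hU' hV' ⟨_, ⟨a, rfl⟩, ha⟩ ⟨_, ⟨b, rfl⟩, hb⟩
    exact ⟨c, trivial, hc⟩
  have hi1 := irr I₁ (r1.symm ▸ h1.1)
  have hi2 := irr I₂ (r2.symm ▸ h2.1)
  let A₁ : Over (Spec (CommRingCat.of k)) := Over.mk (I₁.subschemeι ≫ G.hom)
  let A₂ : Over (Spec (CommRingCat.of k)) := Over.mk (I₂.subschemeι ≫ G.hom)
  let j₁ : A₁ ⟶ G := Over.homMk I₁.subschemeι
  let j₂ : A₂ ⟶ G := Over.homMk I₂.subschemeι
  have hpt : ∀ (I : G.left.IdealSheafData), one G ∈ Set.range I.subschemeι →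
      ∃ e : 𝟙_ (Over (Spec (CommRingCat.of k))) ⟶ Over.mk (I.subschemeι ≫ G.hom),
        e ≫ Over.homMk I.subschemeι = η[G] := by
    intro I hI
    have : Surjective (pullback.fst η[G].left I.subschemeι) := ⟨fun x => by
      have : x ∈ Set.range (pullback.fst η[G].left I.subschemeι) := by
        rw [Scheme.Pullback.range_fst]
        have hx : x = IsLocalRing.closedPoint k := Subsingleton.elim (α := PrimeSpectrum k) _ _
        subst hx; exact hI
      exact this⟩
    have : IsReduced (𝟙_ (Over (Spec (CommRingCat.of k)))).left :=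
      inferInstanceAs (IsReduced (Spec (CommRingCat.of k)))
    have : IsIso (pullback.fst η[G].left I.subschemeι) :=
      isIso_of_isClosedImmersion_of_surjective _
    have hw : (inv (pullback.fst η[G].left I.subschemeι) ≫ pullback.snd _ _) ≫ I.subschemeι =
        η[G].left := by
      rw [Category.assoc, ← pullback.condition, IsIso.inv_hom_id_assoc]
    refine ⟨Over.homMk (inv (pullback.fst η[G].left I.subschemeι) ≫ pullback.snd _ _) ?_, ?_⟩
    · show _ ≫ I.subschemeι ≫ G.hom = _
      rw [← Category.assoc, hw, Over.w]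
    · exact Over.OverMorphism.ext hw
  haveI : IrreducibleSpace A₁.left := hi1
  haveI : IrreducibleSpace A₂.left := hi2
  have := GeomIrred.geometricallyIrreducible_of_isAlgClosed A₁.hom
  have hprod : IrreducibleSpace (A₁ ⊗ A₂).left :=
    inferInstanceAs (IrreducibleSpace ↥(pullback A₁.hom A₂.hom))
  let m : A₁ ⊗ A₂ ⟶ G := (j₁ ⊗ₘ j₂) ≫ μ[G]
  have hc : IsIrreducible (closure (Set.range m.left)) := by
    refine IsIrreducible.closure ?_
    rw [← Set.image_univ]
    exact (IrreducibleSpace.isIrreducible_univ _).image _ m.left.continuous.continuousOn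
  obtain ⟨p₁, hp₁⟩ := hpt I₁ (r1.symm ▸ e1)
  obtain ⟨p₂, hp₂⟩ := hpt I₂ (r2.symm ▸ e2)
  have s1 : Z₁ ⊆ closure (Set.range m.left) := by
    have h : CartesianMonoidalCategory.lift (𝟙 A₁) (toUnit A₁ ≫ p₂) ≫ m = j₁ := by
      simp only [m, ← Category.assoc, lift_map, Category.id_comp]
      rw [Category.assoc _ p₂ j₂, hp₂, lift_comp_one_right]
    rw [← r1]
    rintro _ ⟨a, rfl⟩
    exact subset_closure ⟨(CartesianMonoidalCategory.lift (𝟙 A₁) (toUnit A₁ ≫ p₂)).left a, congr(($h).left a)⟩
  have s2 : Z₂ ⊆ closure (Set.range m.left) := by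
    have h : CartesianMonoidalCategory.lift (toUnit A₂ ≫ p₁) (𝟙 A₂) ≫ m = j₂ := by
      simp only [m, ← Category.assoc, lift_map, Category.id_comp]
      rw [Category.assoc _ p₁ j₁, hp₁, lift_comp_one_left]
    rw [← r2]
    rintro _ ⟨a, rfl⟩
    exact subset_closure ⟨(CartesianMonoidalCategory.lift (toUnit A₂ ≫ p₁) (𝟙 A₂)).left a, congr(($h).left a)⟩
  exact (le_antisymm s1 (h1.2 hc s1)).trans (le_antisymm (h2.2 hc s2) s2)

theorem uniqueComp_homeomorph {α β : Type*} [TopologicalSpace α] [TopologicalSpace β] (e : α ≃ₜ β)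
    {x : α} (h : UniqueComp x) : UniqueComp (e x) := by
  have pre : ∀ Z ∈ irreducibleComponents β, e ⁻¹' Z ∈ irreducibleComponents α := by
    intro Z hZ
    refine ⟨?_, fun W hW hle => ?_⟩
    · rw [← e.image_symm]; exact hZ.1.image _ e.symm.continuous.continuousOn
    · have : e '' W ≤ Z := hZ.2 (hW.image _ e.continuous.continuousOn)
        (by intro y hy; exact ⟨e.symm y, hle (by simpa using hy), by simp⟩)
      intro w hw
      exact this ⟨w, hw, rfl⟩
  intro Z₁ h1 Z₂ h2 x1 x2
  exact Set.preimage_injective.mpr e.surjective (h _ (pre _ h1) _ (pre _ h2) x1 x2)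

theorem uniqueComp_point_of_isAlgClosed [IsAlgClosed k] (G : Over (Spec (CommRingCat.of k))) [GrpObj G]
    (p : 𝟙_ (Over (Spec (CommRingCat.of k))) ⟶ G) :
    UniqueComp (p.left (IsLocalRing.closedPoint k)) := by
  let φ := (Over.forget _).mapIso (GrpObj.mulRight p)
  have h := uniqueComp_homeomorph φ.hom.homeomorph (uniqueComp_one_of_isAlgClosed G)
  have e : η[G] ≫ (GrpObj.mulRight p).hom = p := by
    simp only [GrpObj.mulRight_hom, comp_lift_assoc, Category.comp_id]
    rw [← Category.assoc η[G] (toUnit G) p, toUnit_unique (η[G] ≫ toUnit G) (𝟙 _), Category.id_comp]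
    rw [← Category.id_comp η[G]]
    exact lift_comp_one_left _ p
  rw [← e]
  exact h

/-- Maximal points lift along generalizing maps. -/
theorem exists_maximal_of_uniqueComp {α β : Type*} [TopologicalSpace α] [TopologicalSpace β]
    [QuasiSober α] {f : α → β} (hc : Continuous f) (hf : GeneralizingMap f) {x : α}
    (hx : UniqueComp x) : ∀ ξ : β, (∀ w, w ⤳ ξ → ξ ⤳ w) → ξ ⤳ f x →
      ∀ C₀ ∈ irreducibleComponents α, x ∈ C₀ → closure {ξ} = closure (f '' C₀) := by
  intro ξ hmax hξ C₀ hC₀ hxC₀
  obtain ⟨ξ', hξ', rfl⟩ := hf hξ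
  obtain ⟨C, hC, hsub⟩ := exists_mem_irreducibleComponents_subset_of_isIrreducible {ξ'} isIrreducible_singleton
  have hξC : ξ' ∈ C := hsub rfl
  have hxC : x ∈ C := hξ'.mem_closed (isClosed_of_mem_irreducibleComponents C hC) hξC
  obtain rfl := hx C hC C₀ hC₀ hxC hxC₀
  have hg : IsGenericPoint hC.1.genericPoint C := by
    have := hC.1.isGenericPoint_genericPoint_closure
    rwa [(isClosed_of_mem_irreducibleComponents C hC).closure_eq] at this
  have h1 : f ξ' ⤳ f hC.1.genericPoint := hmax _ ((hg.specializes hξC).map hc)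
  refine subset_antisymm (closure_mono (Set.singleton_subset_iff.mpr ⟨ξ', hξC, rfl⟩))
    (closure_minimal ?_ isClosed_closure)
  rintro _ ⟨c, hc', rfl⟩
  exact specializes_iff_mem_closure.mp (h1.trans ((hg.specializes hc').map hc))

theorem maximal_of_mem_irreducibleComponents {α : Type*} [TopologicalSpace α] [QuasiSober α]
    {Z : Set α} (hZ : Z ∈ irreducibleComponents α) :
    ∃ ξ, closure {ξ} = Z ∧ (∀ w, w ⤳ ξ → ξ ⤳ w) := by
  have hg : IsGenericPoint hZ.1.genericPoint Z := by
    have := hZ.1.isGenericPoint_genericPoint_closure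
    rwa [(isClosed_of_mem_irreducibleComponents Z hZ).closure_eq] at this
  refine ⟨_, hg.def, fun w hw => ?_⟩
  have : closure {w} ⊆ Z := hZ.2 isIrreducible_singleton.closure (by
    rw [← hg.def]
    exact closure_minimal (Set.singleton_subset_iff.mpr (specializes_iff_mem_closure.mp hw)) isClosed_closure)
  exact hg.specializes (this (subset_closure rfl))

theorem uniqueComp_map {α β : Type*} [TopologicalSpace α] [TopologicalSpace β] [QuasiSober α]
    [QuasiSober β] {f : α → β} (hc : Continuous f) (hf : GeneralizingMap f) {x : α}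
    (hx : UniqueComp x) : UniqueComp (f x) := by
  intro Z₁ h1 Z₂ h2 x1 x2
  obtain ⟨C₀, hC₀, hsub⟩ := exists_mem_irreducibleComponents_subset_of_isIrreducible {x} isIrreducible_singleton
  obtain ⟨a, rfl, ha⟩ := maximal_of_mem_irreducibleComponents h1
  obtain ⟨b, rfl, hb⟩ := maximal_of_mem_irreducibleComponents h2
  rw [exists_maximal_of_uniqueComp hc hf hx a ha (specializes_iff_mem_closure.mpr x1) C₀ hC₀ (hsub rfl),
    exists_maximal_of_uniqueComp hc hf hx b hb (specializes_iff_mem_closure.mpr x2) C₀ hC₀ (hsub rfl)]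

/-- Every point of a group scheme over a field lies on exactly one irreducible component. -/
theorem uniqueComp (G : Over (Spec (CommRingCat.of k))) [GrpObj G] (x : G.left) : UniqueComp x := by
  obtain ⟨φ, hφ⟩ := Spec.map_surjective (G.left.fromSpecResidueField x ≫ G.hom)
  let L := AlgebraicClosure (G.left.residueField x)
  let ε : G.left.residueField x ⟶ CommRingCat.of L :=
    CommRingCat.ofHom (algebraMap (G.left.residueField x) L)
  let t : Spec (CommRingCat.of L) ⟶ Spec (CommRingCat.of k) := Spec.map (φ ≫ ε)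
  let pt : Spec (CommRingCat.of L) ⟶ pullback G.hom t :=
    pullback.lift (Spec.map ε ≫ G.left.fromSpecResidueField x) (𝟙 _)
      (by rw [Category.assoc, ← hφ, Category.id_comp]; exact (Spec.map_comp φ ε).symm)
  let P : 𝟙_ (Over (Spec (CommRingCat.of L))) ⟶ Red.bc t G := Over.homMk pt (pullback.lift_snd _ _ _)
  have h := uniqueComp_point_of_isAlgClosed (Red.bc t G) P
  have hflat : Flat t := inferInstance
  have := uniqueComp_map (pullback.fst G.hom t).continuous (Flat.generalizingMap (pullback.fst G.hom t)) h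
  have e : (pullback.fst G.hom t) (pt (IsLocalRing.closedPoint L)) = x := by
    have e0 : pt ≫ pullback.fst G.hom t = Spec.map ε ≫ G.left.fromSpecResidueField x := pullback.lift_fst _ _ _
    exact (congr(($e0) (IsLocalRing.closedPoint L))).trans (Scheme.fromSpecResidueField_apply x _)
  exact e ▸ this

/-- Components containing a given point contain its generizations. -/
theorem mem_of_specializes {G : Over (Spec (CommRingCat.of k))} [GrpObj G] {x w : G.left} {C : Set G.left}
    (hC : C ∈ irreducibleComponents ↥G.left) (hx : x ∈ C) (hw : w ⤳ x) : w ∈ C := by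
  obtain ⟨W, hW, hsub⟩ := exists_mem_irreducibleComponents_subset_of_isIrreducible {w} isIrreducible_singleton
  rw [← uniqueComp G x W hW C hC (hw.mem_closed (isClosed_of_mem_irreducibleComponents W hW) (hsub rfl)) hx]
  exact hsub rfl

/-- The irreducible component through the identity is geometrically irreducible. -/
theorem geometricallyIrreducible_component (G : Over (Spec (CommRingCat.of k))) [GrpObj G] {Z : Scheme.{u}}
    (incl : Z ⟶ G.left) [IsClosedImmersion incl] (hC : Set.range incl ∈ irreducibleComponents ↥G.left)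
    (he : one G ∈ Set.range incl) : GeometricallyIrreducible (incl ≫ G.hom) := by
  let kb := AlgebraicClosure k
  let t : Spec (CommRingCat.of kb) ⟶ Spec (CommRingCat.of k) :=
    Spec.map (CommRingCat.ofHom (algebraMap k kb))
  let p := pullback.fst G.hom t
  let ept : Spec (CommRingCat.of kb) ⟶ pullback G.hom t :=
    pullback.lift (t ≫ η[G].left) (𝟙 _)
      (by rw [Category.assoc, GrpBasics.unit_comp_hom G]; exact (Category.comp_id t).trans (Category.id_comp t).symm)
  let eP : 𝟙_ (Over (Spec (CommRingCat.of kb))) ⟶ Red.bc t G := Over.homMk ept (pullback.lift_snd _ _ _)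
  let eb : ↥(pullback G.hom t) := ept (IsLocalRing.closedPoint kb)
  have hfib : ∀ c, p c = one G → c = eb := by
    have key : Subsingleton ↥(pullback p η[G].left) := by
      have hiso : IsIso (η[G].left ≫ G.hom) := by
        rw [GrpBasics.unit_comp_hom G]; exact IsIso.id _
      let e : pullback p η[G].left ≅ Spec (CommRingCat.of kb) :=
        pullbackSymmetry _ _ ≪≫ pullbackRightPullbackFstIso G.hom t η[G].left ≪≫
          asIso (pullback.snd (η[G].left ≫ G.hom) t)
      exact e.hom.homeomorph.injective.subsingleton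
    have heb : p eb = one G := by
      have hw : ept ≫ p = t ≫ η[G].left := pullback.lift_fst _ _ _
      exact (congr(($hw) (IsLocalRing.closedPoint kb))).trans
        (congrArg η[G].left (Subsingleton.elim (α := PrimeSpectrum k) _ _))
    intro c hc
    have hm : ∀ d, p d = one G → d ∈ Set.range (pullback.fst p η[G].left) := fun d hd => by
      rw [Scheme.Pullback.range_fst]; exact ⟨_, hd.symm⟩
    obtain ⟨a, ha⟩ := hm c hc
    obtain ⟨b, hb⟩ := hm eb heb
    rw [← ha, ← hb, key.elim a b]
  have : IsIntegralHom t := IsIntegralHom.SpecMap_iff.mpr (algebraMap_isIntegral_iff.mpr inferInstance)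
  have hclosed : IsClosedMap p := p.isClosedMap
  have hall : ∀ W ∈ irreducibleComponents ↥(pullback G.hom t), ∀ y ∈ W, p y ∈ Set.range incl →
      eb ∈ W ∧ W ⊆ p ⁻¹' Set.range incl := by
    intro W hW y hy hpy
    obtain ⟨ξ', rfl, hmax⟩ := maximal_of_mem_irreducibleComponents hW
    obtain ⟨ξ, hξ, -⟩ := maximal_of_mem_irreducibleComponents hC
    have hin : p ξ' ∈ Set.range incl :=
      mem_of_specializes hC hpy ((specializes_iff_mem_closure.mpr hy).map p.continuous)
    have hcl : IsClosed (p '' closure {ξ'}) := hclosed _ isClosed_closure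
    have hsp : ξ ⤳ p ξ' := specializes_iff_mem_closure.mpr (hξ.symm ▸ hin)
    obtain ⟨w', hw', hw''⟩ := Flat.generalizingMap p hsp
    have hp : p ξ' ⤳ ξ := hw'' ▸ (hmax w' hw').map p.continuous
    have h1 : one G ∈ p '' closure {ξ'} := by
      have : closure {ξ} ⊆ p '' closure {ξ'} := closure_minimal (Set.singleton_subset_iff.mpr
        (hp.mem_closed hcl ⟨ξ', subset_closure rfl, rfl⟩)) hcl
      exact this (hξ.symm ▸ he)
    obtain ⟨c, hc, hce⟩ := h1
    refine ⟨hfib c hce ▸ hc, closure_minimal (Set.singleton_subset_iff.mpr hin)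
      ((isClosed_of_mem_irreducibleComponents _ hC).preimage p.continuous)⟩
  have hP : IsIrreducible (p ⁻¹' Set.range incl) := by
    obtain ⟨W, hW, hsub⟩ := exists_mem_irreducibleComponents_subset_of_isIrreducible {eb} isIrreducible_singleton
    have hpe : p eb ∈ Set.range incl := by
      have hw : ept ≫ p = t ≫ η[G].left := pullback.lift_fst _ _ _
      rw [show p eb = one G from (congr(($hw) (IsLocalRing.closedPoint kb))).trans
        (congrArg η[G].left (Subsingleton.elim (α := PrimeSpectrum k) _ _))]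
      exact he
    suffices h : p ⁻¹' Set.range incl = W from h ▸ hW.1
    refine subset_antisymm (fun y hy => ?_) (hall W hW eb (hsub rfl) hpe).2
    obtain ⟨W', hW', hy'⟩ := exists_mem_irreducibleComponents_subset_of_isIrreducible {y} isIrreducible_singleton
    rw [uniqueComp_point_of_isAlgClosed (Red.bc t G) eP W hW W' hW' (hsub rfl) (hall W' hW' y (hy' rfl) hy).1]
    exact hy' rfl
  let jj := (pullbackRightPullbackFstIso G.hom t incl).inv ≫ pullback.snd incl p
  have hj : Set.range jj = p ⁻¹' Set.range incl := by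
    have : Surjective (pullbackRightPullbackFstIso G.hom t incl).inv := inferInstance
    rw [Scheme.Hom.comp_base, TopCat.coe_comp, Set.range_comp, this.surj.range_eq, Set.image_univ]
    exact Scheme.Pullback.range_snd _ _
  have : IsClosedImmersion jj := inferInstance
  have hirr : IrreducibleSpace ↥(pullback (incl ≫ G.hom) t) := by
    rw [irreducibleSpace_def]
    rw [← hj] at hP
    refine ⟨⟨hP.1.some_mem.choose, trivial⟩, fun U V hU hV hu hv => ?_⟩
    obtain ⟨U', hU', rfl⟩ := jj.isEmbedding.isInducing.isOpen_iff.mp hU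
    obtain ⟨V', hV', rfl⟩ := jj.isEmbedding.isInducing.isOpen_iff.mp hV
    obtain ⟨a, -, ha⟩ := hu
    obtain ⟨b, -, hb⟩ := hv
    obtain ⟨_, ⟨c, rfl⟩, hc⟩ := hP.2 U' V' hU' hV' ⟨_, ⟨a, rfl⟩, ha⟩ ⟨_, ⟨b, rfl⟩, hb⟩
    exact ⟨c, trivial, hc⟩
  have hgi := GeomIrred.geometricallyIrreducible_of_isAlgClosed (pullback.snd (incl ≫ G.hom) t)
  refine ⟨geometrically_iff_of_isClosedUnderIsomorphisms.mpr fun K _ y => ?_⟩
  obtain ⟨ψ, rfl⟩ := Spec.map_surjective y
  letI : Algebra k K := ψ.hom.toAlgebra
  let Ω := AlgebraicClosure K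
  let s : Spec (CommRingCat.of Ω) ⟶ Spec (CommRingCat.of K) :=
    Spec.map (CommRingCat.ofHom (algebraMap K Ω))
  let v : Spec (CommRingCat.of Ω) ⟶ Spec (CommRingCat.of kb) :=
    Spec.map (CommRingCat.ofHom (IsAlgClosed.lift (R := k) (S := kb) (M := Ω)).toRingHom)
  have hv : v ≫ t = s ≫ Spec.map ψ := by
    simp only [v, t, s, ← Spec.map_comp]
    congr 1
    ext a
    exact (IsAlgClosed.lift (R := k) (S := kb) (M := Ω)).commutes a
  have h1 : IrreducibleSpace ↥(pullback (pullback.snd (incl ≫ G.hom) t) v) :=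
    pullback_of_geometrically hgi.geometrically_irreducibleSpace Ω v
  let e : pullback (pullback.snd (incl ≫ G.hom) t) v ≅ pullback (pullback.snd (incl ≫ G.hom) (Spec.map ψ)) s :=
    pullbackLeftPullbackSndIso (incl ≫ G.hom) t v ≪≫ pullback.congrHom rfl hv ≪≫
      (pullbackLeftPullbackSndIso (incl ≫ G.hom) (Spec.map ψ) s).symm
  let q := e.hom ≫ pullback.fst (pullback.snd (incl ≫ G.hom) (Spec.map ψ)) s
  have hq : Surjective q := inferInstance
  rw [irreducibleSpace_def]
  have := (IrreducibleSpace.isIrreducible_univ ↥(pullback (pullback.snd (incl ≫ G.hom) t) v)).image _ q.continuous.continuousOn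
  rwa [Set.image_univ, q.surjective.range_eq] at this

/-- An irreducible group scheme over a field is geometrically irreducible. -/
theorem geometricallyIrreducible (G : Over (Spec (CommRingCat.of k))) [GrpObj G] [IrreducibleSpace G.left] :
    GeometricallyIrreducible G.hom := by
  have hr : Set.range (𝟙 G.left : G.left ⟶ G.left) = Set.univ := Set.range_eq_univ.mpr fun x => ⟨x, rfl⟩
  have h := geometricallyIrreducible_component G (𝟙 G.left)
    (by rw [hr, irreducibleComponents_eq_singleton]; rfl) (hr ▸ Set.mem_univ _)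
  rwa [Category.id_comp] at h

theorem irreducibleSpace_of_range {Y X : Scheme.{u}} (j : Y ⟶ X) [IsClosedImmersion j]
    (hI : IsIrreducible (Set.range j)) : IrreducibleSpace Y := by
  rw [irreducibleSpace_def]
  refine ⟨⟨hI.1.some_mem.choose, trivial⟩, fun U V hU hV hu hv => ?_⟩
  obtain ⟨U', hU', rfl⟩ := j.isEmbedding.isInducing.isOpen_iff.mp hU
  obtain ⟨V', hV', rfl⟩ := j.isEmbedding.isInducing.isOpen_iff.mp hV
  obtain ⟨a, -, ha⟩ := hu
  obtain ⟨b, -, hb⟩ := hv
  obtain ⟨_, ⟨c, rfl⟩, hc⟩ := hI.2 U' V' hU' hV' ⟨_, ⟨a, rfl⟩, ha⟩ ⟨_, ⟨b, rfl⟩, hb⟩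
  exact ⟨c, trivial, hc⟩

/-- The irreducible component through the identity of a group scheme over a field is quasi-compact. -/
theorem isCompact_component (G : Over (Spec (CommRingCat.of k))) [GrpObj G] {C : Set G.left}
    (hC : C ∈ irreducibleComponents ↥G.left) (he : one G ∈ C) : IsCompact C := by
  obtain ⟨_, ⟨U, hU, rfl⟩, hne, -⟩ := G.left.isBasis_affineOpens.exists_subset_of_mem_open
    (Set.mem_univ (one G)) isOpen_univ
  let A : Over (Spec (CommRingCat.of k)) := Over.mk (Scheme.Opens.ι U ≫ G.hom)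
  let j : A ⟶ G := Over.homMk (Scheme.Opens.ι U)
  have : IsAffine (Scheme.Opens.toScheme U) := hU
  have : IsAffine (A ⊗ A).left := inferInstanceAs (IsAffine (pullback ((Scheme.Opens.ι U) ≫ G.hom) ((Scheme.Opens.ι U) ≫ G.hom)))
  let I := Scheme.IdealSheafData.vanishingIdeal (X := G.left) ⟨C, isClosed_of_mem_irreducibleComponents C hC⟩
  have hI : Set.range I.subschemeι = C := by
    rw [Scheme.IdealSheafData.range_subschemeι, Scheme.IdealSheafData.coe_support_vanishingIdeal]; rfl
  have := irreducibleSpace_of_range I.subschemeι (hI.symm ▸ hC.1)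
  have := geometricallyIrreducible_component G I.subschemeι (hI.symm ▸ hC) (hI.symm ▸ he)
  suffices hs : C ⊆ Set.range ((j ⊗ₘ j) ≫ μ[G]).left from
    (isCompact_range ((j ⊗ₘ j) ≫ μ[G]).left.continuous).of_isClosed_subset
      (isClosed_of_mem_irreducibleComponents C hC) hs
  intro g hgC
  let P : Over (Spec (CommRingCat.of k)) := Over.mk (G.left.fromSpecResidueField g ≫ G.hom)
  let gp : P ⟶ G := Over.homMk (G.left.fromSpecResidueField g)
  haveI : IrreducibleSpace P.left := inferInstanceAs (IrreducibleSpace (PrimeSpectrum (G.left.residueField g)))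
  let gq : G ⊗ P ⟶ G := CartesianMonoidalCategory.snd G P ≫ gp
  let ψ : G ⊗ P ⟶ G := (CartesianMonoidalCategory.fst G P)⁻¹ * gq
  have hC' : IsIrreducible ((CartesianMonoidalCategory.fst G P).left ⁻¹' C) := by
    rw [Over.fst_left, ← hI, ← Scheme.Pullback.range_snd I.subschemeι (pullback.fst G.hom P.hom)]
    have : IrreducibleSpace ↥(pullback (I.subschemeι ≫ G.hom) P.hom) := inferInstance
    have : IrreducibleSpace ↥(pullback I.subschemeι (pullback.fst G.hom P.hom)) :=
      (pullbackRightPullbackFstIso G.hom P.hom I.subschemeι).hom.homeomorph.irreducibleSpace_iff.mpr ‹_›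
    rw [← Set.image_univ]
    exact (IrreducibleSpace.isIrreducible_univ _).image _
      (pullback.snd I.subschemeι (pullback.fst G.hom P.hom)).continuous.continuousOn
  have W1 : IsOpen ((CartesianMonoidalCategory.fst G P).left ⁻¹' (U : Set G.left)) :=
    U.2.preimage (CartesianMonoidalCategory.fst G P).left.continuous
  have W2 : IsOpen (ψ.left ⁻¹' (U : Set G.left)) := U.2.preimage ψ.left.continuous
  have hone : ∀ c, (1 : P ⟶ G).left c = one G := fun c =>
    congrArg η[G].left (Subsingleton.elim (α := PrimeSpectrum k) _ _)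
  let c0 : P.left := IsLocalRing.closedPoint (G.left.residueField g)
  let σ : P ⟶ G ⊗ P := CartesianMonoidalCategory.lift 1 (𝟙 P)
  let τ : P ⟶ G ⊗ P := CartesianMonoidalCategory.lift gp (𝟙 P)
  have hσ : (CartesianMonoidalCategory.fst G P).left (σ.left c0) = one G :=
    (congr(($(lift_fst (1 : P ⟶ G) (𝟙 P))).left c0)).trans (hone c0)
  have hτ : (CartesianMonoidalCategory.fst G P).left (τ.left c0) = g :=
    (congr(($(lift_fst gp (𝟙 P))).left c0)).trans (Scheme.fromSpecResidueField_apply g _)
  have hτψ : ψ.left (τ.left c0) = one G := by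
    have h : τ ≫ ψ = 1 := by
      simp only [τ, ψ, gq, MonObj.comp_mul, GrpObj.comp_inv, lift_fst, ← Category.assoc, lift_snd,
        Category.id_comp]
      group
    exact (congr(($h).left c0)).trans (hone c0)
  obtain ⟨z, -, hz1, hz2⟩ := hC'.2 _ _ W1 W2
    ⟨σ.left c0, (show _ ∈ C by rw [hσ]; exact he), (show _ ∈ U by rw [hσ]; exact hne)⟩
    ⟨τ.left c0, (show _ ∈ C by rw [hτ]; exact hgC), (show _ ∈ U by rw [hτψ]; exact hne)⟩
  let T : Over (Spec (CommRingCat.of k)) :=
    Over.mk ((G ⊗ P).left.fromSpecResidueField z ≫ (G ⊗ P).hom)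
  let zt : T ⟶ G ⊗ P := Over.homMk ((G ⊗ P).left.fromSpecResidueField z)
  have hlift : ∀ f : G ⊗ P ⟶ G, f.left z ∈ U → ∃ f' : T ⟶ A, f' ≫ j = zt ≫ f := by
    intro f hf
    have hr : Set.range (zt ≫ f).left ⊆ Set.range (Scheme.Opens.ι U) := by
      rintro _ ⟨c, rfl⟩
      rw [Scheme.Opens.range_ι]
      show f.left ((G ⊗ P).left.fromSpecResidueField z c) ∈ U
      rw [Scheme.fromSpecResidueField_apply]; exact hf
    refine ⟨Over.homMk (IsOpenImmersion.lift (Scheme.Opens.ι U) (zt ≫ f).left hr) ?_, Over.OverMorphism.ext ?_⟩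
    · show _ ≫ (Scheme.Opens.ι U) ≫ G.hom = _
      rw [← Category.assoc, IsOpenImmersion.lift_fac, Over.w]
    · exact IsOpenImmersion.lift_fac _ _ _
  obtain ⟨a, ha⟩ := hlift _ hz1
  obtain ⟨b, hb⟩ := hlift ψ hz2
  have hab : CartesianMonoidalCategory.lift a b ≫ (j ⊗ₘ j) ≫ μ[G] = zt ≫ gq := by
    rw [← Category.assoc, lift_map, ha, hb, ← Hom.mul_def, ← MonObj.comp_mul]
    congr 1
    simp only [ψ]; group
  refine ⟨(CartesianMonoidalCategory.lift a b).left (IsLocalRing.closedPoint _), ?_⟩
  refine (congr(($hab).left (IsLocalRing.closedPoint _))).trans ?_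
  show gp.left _ = g
  exact Scheme.fromSpecResidueField_apply g _

/-- An irreducible group scheme over a field is quasi-compact. -/
theorem compactSpace (G : Over (Spec (CommRingCat.of k))) [GrpObj G] [IrreducibleSpace G.left] :
    CompactSpace G.left :=
  ⟨isCompact_component G (by rw [irreducibleComponents_eq_singleton]; rfl) (Set.mem_univ _)⟩

/-- The irreducible component through a point of a group scheme over a field. -/
theorem eq_of_mem {G : Over (Spec (CommRingCat.of k))} [GrpObj G] {x : G.left} {Z₁ Z₂ : Set G.left}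
    (h1 : Z₁ ∈ irreducibleComponents ↥G.left) (h2 : Z₂ ∈ irreducibleComponents ↥G.left)
    (x1 : x ∈ Z₁) (x2 : x ∈ Z₂) : Z₁ = Z₂ :=
  uniqueComp G x Z₁ h1 Z₂ h2 x1 x2

/-- For a locally Noetherian group scheme over a field the irreducible components are open. -/
theorem isOpen_of_mem (G : Over (Spec (CommRingCat.of k))) [GrpObj G] [IsLocallyNoetherian G.left]
    {Z : Set G.left} (hZ : Z ∈ irreducibleComponents ↥G.left) : IsOpen Z := by
  rw [isOpen_iff_forall_mem_open]
  intro x hx
  obtain ⟨_, ⟨U, hU, rfl⟩, hxU, -⟩ := G.left.isBasis_affineOpens.exists_subset_of_mem_open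
    (Set.mem_univ x) isOpen_univ
  have : IsAffine (Scheme.Opens.toScheme U) := hU
  have : IsLocallyNoetherian (Scheme.Opens.toScheme U) :=
    isLocallyNoetherian_of_isOpenImmersion (Scheme.Opens.ι U)
  have : IsNoetherian (Scheme.Opens.toScheme U) := ⟨⟩
  obtain ⟨S, hfin, -, hirr, hun⟩ := TopologicalSpace.NoetherianSpace.exists_finite_set_isClosed_irreducible
    (α := ↥(Scheme.Opens.toScheme U)) isClosed_univ
  choose C hC hsub using fun t : S => exists_mem_irreducibleComponents_subset_of_isIrreducible _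
    ((hirr t.1 t.2).image (Scheme.Opens.ι U) (Scheme.Opens.ι U).continuous.continuousOn)
  have : Finite S := hfin
  let Rest : Set G.left := ⋃ t : {t : S // C t ≠ Z}, C t.1
  have hR : IsClosed Rest :=
    isClosed_iUnion_of_finite fun t => isClosed_of_mem_irreducibleComponents _ (hC t.1)
  refine ⟨(U : Set G.left) \ Rest, fun y hy => ?_, U.2.sdiff hR, hxU, fun hr => ?_⟩
  · obtain ⟨y', rfl⟩ : y ∈ Set.range (Scheme.Opens.ι U) := by rw [Scheme.Opens.range_ι]; exact hy.1
    obtain ⟨t, ht, hyt⟩ : ∃ t ∈ S, y' ∈ t := by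
      have : y' ∈ ⋃₀ S := hun ▸ Set.mem_univ _
      simpa using this
    by_contra hc
    have hm := hsub ⟨t, ht⟩ ⟨y', hyt, rfl⟩
    exact hy.2 (Set.mem_iUnion.mpr ⟨⟨⟨t, ht⟩, fun e => hc (e ▸ hm)⟩, hm⟩)
  · obtain ⟨t, ht⟩ := Set.mem_iUnion.mp hr
    exact t.2 (eq_of_mem (hC t.1) hZ ht hx)

/-- For a locally Noetherian group scheme over a field connected components are irreducible. -/
theorem connectedComponent_mem (G : Over (Spec (CommRingCat.of k))) [GrpObj G] [IsLocallyNoetherian G.left]
    (x : G.left) : connectedComponent x ∈ irreducibleComponents ↥G.left := by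
  obtain ⟨Z, hZ, hsub⟩ := exists_mem_irreducibleComponents_subset_of_isIrreducible {x} isIrreducible_singleton
  have hx : x ∈ Z := hsub rfl
  have h1 : connectedComponent x ⊆ Z :=
    IsClopen.connectedComponent_subset ⟨isClosed_of_mem_irreducibleComponents Z hZ, isOpen_of_mem G hZ⟩ hx
  have h2 : Z ⊆ connectedComponent x := hZ.1.isConnected.subset_connectedComponent hx
  rwa [subset_antisymm h1 h2]

/-- A connected, locally Noetherian group scheme over a field is irreducible. -/
theorem irreducibleSpace (G : Over (Spec (CommRingCat.of k))) [GrpObj G] [IsLocallyNoetherian G.left]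
    [ConnectedSpace G.left] : IrreducibleSpace G.left := by
  rw [irreducibleSpace_def]
  have := (connectedComponent_mem G (one G)).1
  rwa [PreconnectedSpace.connectedComponent_eq_univ] at this

theorem isCompact_connectedComponent_homeomorph {α β : Type*} [TopologicalSpace α] [TopologicalSpace β]
    (e : α ≃ₜ β) {x : α} {y : β} (hxy : e x = y) (h : IsCompact (connectedComponent x)) :
    IsCompact (connectedComponent y) := by
  subst hxy
  rw [show connectedComponent (e x) = e '' connectedComponent x from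
    subset_antisymm (fun c hc => ⟨e.symm c, by
        have := e.symm.continuous.image_connectedComponent_subset (e x) ⟨c, hc, rfl⟩
        rwa [e.symm_apply_apply] at this, e.apply_symm_apply c⟩)
      (e.continuous.image_connectedComponent_subset x)]
  exact h.image e.continuous

/-- Every connected component of a group scheme locally of finite type over a field is quasi-compact. -/
theorem isCompact_connectedComponent (G : Over (Spec (CommRingCat.of k))) [GrpObj G]
    [LocallyOfFiniteType G.hom] (g : G.left) : IsCompact (connectedComponent g) := by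
  let kb := AlgebraicClosure k
  let t : Spec (CommRingCat.of kb) ⟶ Spec (CommRingCat.of k) :=
    Spec.map (CommRingCat.ofHom (algebraMap k kb))
  let p := pullback.fst G.hom t
  let Gb := Red.bc t G
  have hlft : LocallyOfFiniteType Gb.hom := inferInstanceAs (LocallyOfFiniteType (pullback.snd G.hom t))
  have : IsLocallyNoetherian G.left := LocallyOfFiniteType.isLocallyNoetherian G.hom
  have : IsLocallyNoetherian Gb.left := LocallyOfFiniteType.isLocallyNoetherian Gb.hom
  have hj : JacobsonSpace Gb.left := LocallyOfFiniteType.jacobsonSpace Gb.hom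
  have hj' : JacobsonSpace G.left := LocallyOfFiniteType.jacobsonSpace G.hom
  have : IsIntegralHom t := IsIntegralHom.SpecMap_iff.mpr (algebraMap_isIntegral_iff.mpr inferInstance)
  have hC := connectedComponent_mem G g
  obtain ⟨x, hxC, hx⟩ := nonempty_inter_closedPoints ⟨g, mem_connectedComponent⟩
    (isClosed_connectedComponent (x := g)).isLocallyClosed
  have hfib : IsCompact (p ⁻¹' {x}) := by
    obtain ⟨_, ⟨U, hU, rfl⟩, hxU, -⟩ := G.left.isBasis_affineOpens.exists_subset_of_mem_open
      (Set.mem_univ x) isOpen_univ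
    exact ((hU.preimage p).isCompact).of_isClosed_subset
      (IsClosed.preimage p.continuous hx) (Set.preimage_mono (Set.singleton_subset_iff.mpr hxU))
  have hcomp : ∀ y : Gb.left, IsCompact (connectedComponent y) := by
    intro y
    have hW := connectedComponent_mem Gb y
    obtain ⟨w, hwW, hw⟩ := nonempty_inter_closedPoints ⟨y, mem_connectedComponent⟩
      (isClosed_connectedComponent (x := y)).isLocallyClosed
    let q : 𝟙_ (Over (Spec (CommRingCat.of kb))) ⟶ Gb :=
      Over.homMk _ ((pointEquivClosedPoint Gb.hom).symm ⟨w, hw⟩).2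
    let φ := ((Over.forget _).mapIso (GrpObj.mulRight q)).hom.homeomorph
    have hq : q.left (IsLocalRing.closedPoint kb) = w :=
      congrArg Subtype.val ((pointEquivClosedPoint Gb.hom).apply_symm_apply ⟨w, hw⟩)
    have hφ : φ (one Gb) = w := by
      have e : η[Gb] ≫ (GrpObj.mulRight q).hom = q := by
        simp only [GrpObj.mulRight_hom, comp_lift_assoc, Category.comp_id]
        rw [← Category.assoc η[Gb] (toUnit Gb) q, toUnit_unique (η[Gb] ≫ toUnit Gb) (𝟙 _), Category.id_comp]
        rw [← Category.id_comp η[Gb]]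
        exact lift_comp_one_left _ q
      exact (congr(($e).left (IsLocalRing.closedPoint kb))).trans hq
    rw [connectedComponent_eq hwW] at hW ⊢
    exact isCompact_connectedComponent_homeomorph φ hφ
      (isCompact_component Gb (connectedComponent_mem Gb (one Gb)) mem_connectedComponent)
  obtain ⟨T, hT⟩ := hfib.elim_finite_subcover (fun y : Gb.left => connectedComponent y)
    (fun y => isOpen_of_mem Gb (connectedComponent_mem Gb y))
    (fun y _ => Set.mem_iUnion.mpr ⟨y, mem_connectedComponent⟩)
  have hsub : connectedComponent g ⊆ p '' (⋃ y ∈ T, connectedComponent y) := by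
    intro c hc
    have hps : Surjective p := inferInstance
    obtain ⟨y, rfl⟩ := hps.surj c
    obtain ⟨ξ', hWξ, hmax⟩ := maximal_of_mem_irreducibleComponents (connectedComponent_mem Gb y)
    obtain ⟨ξ, hξ, -⟩ := maximal_of_mem_irreducibleComponents hC
    have hin : p ξ' ∈ connectedComponent g := mem_of_specializes hC hc
      ((specializes_iff_mem_closure.mpr (hWξ.symm ▸ mem_connectedComponent)).map p.continuous)
    have hcl : IsClosed (p '' closure {ξ'}) := p.isClosedMap _ isClosed_closure
    obtain ⟨w', hw', hw''⟩ := Flat.generalizingMap p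
      (specializes_iff_mem_closure.mpr (hξ.symm ▸ hin) : ξ ⤳ p ξ')
    have hsub' : closure {ξ} ⊆ p '' closure {ξ'} := closure_minimal (Set.singleton_subset_iff.mpr
      ((hw'' ▸ (hmax w' hw').map p.continuous : p ξ' ⤳ ξ).mem_closed hcl ⟨ξ', subset_closure rfl, rfl⟩)) hcl
    obtain ⟨z, hz, hzx⟩ := hsub' (hξ.symm ▸ hxC)
    rw [hWξ] at hz
    obtain ⟨y', hy', hzy⟩ : ∃ y' ∈ T, z ∈ connectedComponent y' := by simpa using hT hzx
    refine ⟨y, Set.mem_biUnion hy' ?_, rfl⟩
    rw [connectedComponent_eq hzy, ← connectedComponent_eq hz]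
    exact mem_connectedComponent
  exact ((T.finite_toSet.isCompact_biUnion fun y _ => hcomp y).image p.continuous).of_isClosed_subset
    isClosed_connectedComponent hsub

end Groth.L25.Component
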