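import Groth.Prelude.Def_AlgGrp
import Mathlib.AlgebraicGeometry.Sites.Fpqc
import Mathlib.AlgebraicGeometry.Morphisms.FlatMono
import Mathlib.AlgebraicGeometry.Morphisms.FlatDescent
import Mathlib.AlgebraicGeometry.Morphisms.LocalFlatDescent
import Mathlib.CategoryTheory.Limits.Constructions.Over.Connected
import Groth.Agent.L25.GrpBasics

/-! Points formulas for actions, the shear automorphism of `G ⊗ X`, descent along effective
epimorphisms in `Over S`. -/

universe u

open CategoryTheory MonoidalCategory CartesianMonoidalCategory MonObj AlgebraicGeometry Limits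

namespace Groth.L25.Actions

variable {S : Scheme.{u}} {G X : Over S} [GrpObj G] (a : AlgGrp.Action G X) {T : Over S}

lemma one_act (x : T ⟶ X) : lift (1 : T ⟶ G) x ≫ a.act = x := by
  have h := lift (toUnit T) x ≫= a.one_act
  rw [← Category.assoc, lift_whiskerRight, leftUnitor_hom, lift_snd] at h
  rwa [Hom.one_def]

lemma mul_act (g h : T ⟶ G) (x : T ⟶ X) :
    lift (g * h) x ≫ a.act = lift g (lift h x ≫ a.act) ≫ a.act := by
  have e := lift (lift g h) x ≫= a.mul_act
  rw [← Category.assoc, lift_whiskerRight, ← Category.assoc, lift_lift_associator_hom, ← Category.assoc,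
    lift_whiskerLeft] at e
  rwa [Hom.mul_def]

lemma inv_act (g : T ⟶ G) (x : T ⟶ X) : lift g⁻¹ (lift g x ≫ a.act) ≫ a.act = x := by
  rw [← mul_act, inv_mul_cancel, one_act]

lemma act_inv (g : T ⟶ G) (x : T ⟶ X) : lift g (lift g⁻¹ x ≫ a.act) ≫ a.act = x := by
  rw [← mul_act, mul_inv_cancel, one_act]

/-- `(g, x) ↦ (g, g • x)`. -/
noncomputable def shear : G ⊗ X ≅ G ⊗ X where
  hom := lift (fst G X) a.act
  inv := lift (fst G X) (lift (fst G X)⁻¹ (snd G X) ≫ a.act)
  hom_inv_id := by
    refine CartesianMonoidalCategory.hom_ext _ _ ?_ ?_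
    · simp
    · rw [Category.assoc, lift_snd, ← Category.assoc, comp_lift, GrpObj.comp_inv, lift_fst, lift_snd, Category.id_comp]
      have e : a.act = lift (fst G X) (snd G X) ≫ a.act := by simp
      conv_lhs => arg 1; arg 2; rw [e]
      exact inv_act a _ _
  inv_hom_id := by
    refine CartesianMonoidalCategory.hom_ext _ _ ?_ ?_
    · simp
    · rw [Category.assoc, lift_snd, Category.id_comp]
      exact act_inv a _ _

lemma shear_hom_snd : (shear a).hom ≫ snd G X = a.act := lift_snd _ _

lemma isPullback_snd (G X : Over S) :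
    IsPullback (fst G X).left (snd G X).left G.hom X.hom := by
  simp only [Over.fst_left, Over.snd_left]
  exact .of_hasPullback _ _

/-- Properties stable under base change pass from the group to the action morphism. -/
lemma act_of_hom (P : MorphismProperty Scheme.{u}) [P.IsStableUnderBaseChange] (h : P G.hom) :
    P a.act.left := by
  have h1 : P (snd G X).left := MorphismProperty.of_isPullback (isPullback_snd G X) h
  rw [← shear_hom_snd a, Over.comp_left]
  haveI : IsIso (shear a).hom.left := inferInstanceAs (IsIso ((Over.forget S).map (shear a).hom))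
  exact (MorphismProperty.cancel_left_of_respectsIso P _ _).2 h1

lemma surjective_of_section {Y : Over S} (s : 𝟙_ (Over S) ⟶ Y) : Surjective Y.hom :=
  ⟨fun x => ⟨s.left x, congrArg (fun f : S ⟶ S => f x) (Over.w s)⟩⟩

lemma surjective_grp (G : Over S) [GrpObj G] : Surjective G.hom := surjective_of_section η[G]

/-- Descent of morphisms in `Over S` along a morphism which is an effective epimorphism of schemes. -/
lemma existsUnique_desc {A B K : Over S} (q : A ⟶ B) [EffectiveEpi q.left] (e : A ⟶ K)
    (h : ∀ (Z : Over S) (g₁ g₂ : Z ⟶ A), g₁ ≫ q = g₂ ≫ q → g₁ ≫ e = g₂ ≫ e) :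
    ∃! d : B ⟶ K, q ≫ d = e := by
  have hw : ∀ {Z : Scheme.{u}} (g₁ g₂ : Z ⟶ A.left), g₁ ≫ q.left = g₂ ≫ q.left → g₁ ≫ e.left = g₂ ≫ e.left := by
    intro Z g₁ g₂ hg
    have hZ : g₂ ≫ A.hom = g₁ ≫ A.hom := by
      rw [← Over.w q, reassoc_of% hg]
    have := congrArg (fun f : Over.mk (g₁ ≫ A.hom) ⟶ K => f.left)
      (h (Over.mk (g₁ ≫ A.hom)) (Over.homMk g₁) (Over.homMk g₂ hZ) (Over.OverMorphism.ext hg))
    exact this
  refine ⟨Over.homMk (EffectiveEpi.desc q.left e.left hw) ?_, ?_, ?_⟩
  · rw [← cancel_epi q.left, EffectiveEpi.fac_assoc, Over.w, Over.w]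
  · exact Over.OverMorphism.ext (EffectiveEpi.fac q.left e.left hw)
  · intro d hd
    refine Over.OverMorphism.ext ?_
    exact EffectiveEpi.uniq q.left e.left hw d.left (congrArg (fun f : A ⟶ K => f.left) hd)

lemma isPullback_whiskerRight_left {X Y : Over S} (i : X ⟶ Y) (Z : Over S) :
    IsPullback (i ▷ Z).left (fst X Z).left (fst Y Z).left i.left :=
  (GrpBasics.isPullback_whiskerRight i Z).map (Over.forget S)

lemma isPullback_whiskerLeft_left (T : Over S) {X Y : Over S} (g : X ⟶ Y) :
    IsPullback (T ◁ g).left (snd T X).left (snd T Y).left g.left :=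
  (GrpBasics.isPullback_whiskerLeft T g).map (Over.forget S)

lemma of_whiskerRight (P : MorphismProperty Scheme.{u}) [P.IsStableUnderBaseChange] {X Y : Over S} (i : X ⟶ Y)
    (Z : Over S) (h : P i.left) : P (i ▷ Z).left :=
  MorphismProperty.of_isPullback (isPullback_whiskerRight_left i Z).flip h

lemma of_whiskerLeft (P : MorphismProperty Scheme.{u}) [P.IsStableUnderBaseChange] (T : Over S) {X Y : Over S}
    (g : X ⟶ Y) (h : P g.left) : P (T ◁ g).left :=
  MorphismProperty.of_isPullback (isPullback_whiskerLeft_left T g).flip h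

lemma flat_codescendsAlong : RingHom.CodescendsAlong RingHom.Flat.{u, u} RingHom.FaithfullyFlat := by
  apply RingHom.CodescendsAlong.mk _ RingHom.Flat.respectsIso
  intro R S T _ _ _ _ _ h H
  rw [RingHom.faithfullyFlat_algebraMap_iff] at h
  rw [RingHom.flat_algebraMap_iff] at H ⊢
  exact Module.Flat.of_flat_tensorProduct R T S

lemma descendsAlong_flat_fpqc :
    MorphismProperty.DescendsAlong (@Flat : MorphismProperty Scheme.{u}) (@Surjective ⊓ @Flat ⊓ @QuasiCompact) :=
  HasRingHomProperty.descendsAlong_flat flat_codescendsAlong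

end Groth.L25.Actions
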