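import Groth.Agent.L25.HopfFlat
import Mathlib.RingTheory.HopfAlgebra.TensorProduct
import Mathlib.RingTheory.Bialgebra.TensorProduct
import Mathlib.RingTheory.Flat.EquationalCriterion
import Mathlib.FieldTheory.IsAlgClosed.AlgebraicClosure

/-!
# A commutative Hopf algebra over a field is faithfully flat over every Hopf subalgebra
-/

set_option autoImplicit false

universe u

open TensorProduct

namespace Groth.L25.HopfFlat

theorem ringHom_flat_of_comp {R S T : Type u} [CommRing R] [CommRing S] [CommRing T]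
    [Algebra R S] [Algebra S T] [Algebra R T] [IsScalarTower R S T] [Module.Flat R T]
    [Module.FaithfullyFlat S T] : Module.Flat R S := by
  rw [Module.Flat.iff_lTensor_injective']
  intro I
  rw [injective_iff_map_eq_zero]
  intro z hz
  apply Module.FaithfullyFlat.tensorProduct_mk_injective (A := S) (B := T) (S ⊗[R] I)
  rw [map_zero]
  apply (AlgebraTensorModule.cancelBaseChange R S S T I).injective
  rw [map_zero]
  apply Module.Flat.lTensor_preserves_injective_linearMap (M := T) I.subtype Subtype.val_injective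
  rw [map_zero]
  have key : ∀ w : S ⊗[R] I, (I.subtype.lTensor T)
      (AlgebraTensorModule.cancelBaseChange R S S T I ((1 : T) ⊗ₜ[S] w)) =
      ((IsScalarTower.toAlgHom R S T).toLinearMap.rTensor R) (I.subtype.lTensor S w) := by
    intro w
    induction w using TensorProduct.induction_on with
    | zero => simp
    | tmul s a => simp [Algebra.smul_def]
    | add a b ha hb => simp only [TensorProduct.tmul_add, map_add, ha, hb]
  exact (key z).trans (by rw [hz, map_zero])

/-- Finitely generated Hopf algebras over any field. -/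
theorem faithfullyFlat_of_fg {k : Type u} [Field k] {A B : Type u} [CommRing A] [HopfAlgebra k A]
    [CommRing B] [HopfAlgebra k B] [Algebra B A] [IsScalarTower k B A] [Algebra.FiniteType k A]
    [Algebra.FiniteType k B] (hinj : Function.Injective (algebraMap B A)) (φ : B →ₐc[k] A)
    (hφ : ∀ b, φ b = algebraMap B A b) : Module.FaithfullyFlat B A := by
  let K := AlgebraicClosure k
  let φK : K ⊗[k] B →ₐc[K] K ⊗[k] A := Bialgebra.TensorProduct.map (BialgHom.id K K) φ
  letI : Algebra (K ⊗[k] B) (K ⊗[k] A) := (φK : K ⊗[k] B →ₐ[K] K ⊗[k] A).toRingHom.toAlgebra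
  haveI : IsScalarTower K (K ⊗[k] B) (K ⊗[k] A) :=
    IsScalarTower.of_algebraMap_eq fun c => ((φK : K ⊗[k] B →ₐ[K] K ⊗[k] A).commutes c).symm
  have hinjK : Function.Injective (algebraMap (K ⊗[k] B) (K ⊗[k] A)) := by
    have h1 := Module.Flat.lTensor_preserves_injective_linearMap (M := K)
      (φ : B →ₐ[k] A).toLinearMap (fun x y e => hinj (by rwa [← hφ, ← hφ]))
    intro x y e
    refine h1 ?_
    have h2 : ∀ z : K ⊗[k] B, (φ : B →ₐ[k] A).toLinearMap.lTensor K z = φK z := by
      intro z
      induction z using TensorProduct.induction_on with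
      | zero => simp
      | tmul c b => rfl
      | add a b ha hb => simp only [map_add, ha, hb]
    rw [h2, h2]
    exact e
  haveI := faithfullyFlat_of_isAlgClosed hinjK φK fun _ => rfl
  have hα : ((Algebra.TensorProduct.includeRight : B →ₐ[k] K ⊗[k] B) : B →+* K ⊗[k] B) =
      ((Algebra.TensorProduct.comm k B K).toRingEquiv : B ⊗[k] K →+* K ⊗[k] B).comp
        (algebraMap B (B ⊗[k] K)) := RingHom.ext fun b => rfl
  letI : Algebra A (K ⊗[k] A) := Algebra.TensorProduct.rightAlgebra
  letI : Algebra B (K ⊗[k] A) := ((algebraMap A (K ⊗[k] A)).comp (algebraMap B A)).toAlgebra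
  haveI : IsScalarTower B A (K ⊗[k] A) := IsScalarTower.of_algebraMap_eq fun _ => rfl
  haveI : Module.FaithfullyFlat A (K ⊗[k] A) := Module.FaithfullyFlat.of_linearEquiv (N := K ⊗[k] A)
    A (A ⊗[k] K) ({ (Algebra.TensorProduct.comm k A K).toRingEquiv.toAddEquiv with
      map_smul' := fun a z => by
        change (Algebra.TensorProduct.comm k A K) (a • z) = _
        rw [Algebra.smul_def, map_mul]
        rfl } : A ⊗[k] K ≃ₗ[A] K ⊗[k] A).symm
  have hflat : (algebraMap B (K ⊗[k] A)).Flat := by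
    have h1 : algebraMap B (K ⊗[k] A) = (algebraMap (K ⊗[k] B) (K ⊗[k] A)).comp
        ((Algebra.TensorProduct.includeRight : B →ₐ[k] K ⊗[k] B) : B →+* K ⊗[k] B) := by
      refine RingHom.ext fun b => ?_
      change (1 : K) ⊗ₜ[k] algebraMap B A b = φK ((1 : K) ⊗ₜ[k] b)
      rw [← hφ]
      rfl
    rw [h1, hα]
    exact ((RingHom.flat_algebraMap_iff.2 inferInstance).comp
      (RingHom.Flat.of_bijective (Algebra.TensorProduct.comm k B K).bijective)).comp
        (RingHom.flat_algebraMap_iff.2 inferInstance)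
  haveI : Module.Flat B (K ⊗[k] A) := RingHom.flat_algebraMap_iff.1 hflat
  haveI : Module.Flat B A := ringHom_flat_of_comp (S := A) (T := K ⊗[k] A)
  refine ⟨fun m hm htop => hm.ne_top ?_⟩
  rw [Ideal.smul_top_eq_map] at htop
  have htop' : m.map (algebraMap B A) = ⊤ := by
    rw [Ideal.eq_top_iff_one]
    have : (1 : A) ∈ (⊤ : Submodule B A) := trivial
    rwa [← htop] at this
  let ι' : B →+* K ⊗[k] B := (Algebra.TensorProduct.includeRight : B →ₐ[k] K ⊗[k] B)
  have h2 : (m.map ι').map (algebraMap (K ⊗[k] B) (K ⊗[k] A)) = ⊤ := by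
    rw [Ideal.map_map, show (algebraMap (K ⊗[k] B) (K ⊗[k] A)).comp ι' =
      (algebraMap A (K ⊗[k] A)).comp (algebraMap B A) from RingHom.ext fun b => by
        change φK ((1 : K) ⊗ₜ[k] b) = (1 : K) ⊗ₜ[k] algebraMap B A b
        rw [← hφ]
        rfl, ← Ideal.map_map, htop', Ideal.map_top]
  have h3 : m.map ι' = ⊤ := by
    rw [← Ideal.comap_map_eq_self_of_faithfullyFlat (B := K ⊗[k] A) (m.map ι'), h2, Ideal.comap_top]
  have h4 : m.map (algebraMap B (B ⊗[k] K)) = ⊤ := by
    have := congrArg (Ideal.map ((Algebra.TensorProduct.comm k K B).toRingEquiv :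
      K ⊗[k] B →+* B ⊗[k] K)) h3
    rw [Ideal.map_map, Ideal.map_top] at this
    exact this
  rw [← Ideal.comap_map_eq_self_of_faithfullyFlat (B := B ⊗[k] K) m, h4, Ideal.comap_top]

variable {k : Type u} [Field k] {A : Type u} [CommRing A] [HopfAlgebra k A]

/-- Finitely many elements of `B` and `A` lie in a pair of finitely generated sub-Hopf-algebras. -/
theorem exists_pair (B : Subalgebra k A) (hB : SGA3.IsHopfSubalgebra k A B) (s : Finset B)
    (t : Finset A) :
    ∃ (B₁ : Subalgebra k B) (A₁ : Subalgebra k A) (_ : Algebra B₁ A₁),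
      Module.FaithfullyFlat B₁ A₁ ∧ ↑s ⊆ (B₁ : Set B) ∧ ↑t ⊆ (A₁ : Set A) ∧
        ∀ b : B₁, ((algebraMap B₁ A₁ b : A₁) : A) = ((b : B) : A) := by
  classical
  letI := HopfSub.hopfAlgebra hB
  obtain ⟨B₁, hs, hB₁fg, hB₁⟩ := HopfSub.exists_fg k B s
  obtain ⟨g, hg⟩ := id hB₁fg
  obtain ⟨A₁, ht, hA₁fg, hA₁⟩ := HopfSub.exists_fg k A (g.image Subtype.val ∪ t)
  have hsub : ∀ b ∈ B₁, (b : A) ∈ A₁ := by
    intro b hb
    have : B₁ ≤ A₁.comap B.val := by
      rw [← hg, Algebra.adjoin_le_iff]
      exact fun x hx => ht (Finset.mem_union_left _ (Finset.mem_image_of_mem _ hx))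
    exact this hb
  letI := HopfSub.hopfAlgebra hB₁
  letI := HopfSub.hopfAlgebra hA₁
  let φ0 : B₁ →ₐc[k] A := (HopfSub.inclBialg hB).comp (HopfSub.inclBialg hB₁)
  let f : B₁ →ₐ[k] A₁ := (φ0 : B₁ →ₐ[k] A).codRestrict A₁ fun b => hsub b b.2
  have hf : (Bialgebra.comulAlgHom k A₁).comp f =
      (Algebra.TensorProduct.map f f).comp (Bialgebra.comulAlgHom k B₁) := by
    refine AlgHom.ext fun b => HopfSub.j_injective ?_
    have h1 : ∀ z : B₁ ⊗[k] B₁, HopfSub.j A₁ (Algebra.TensorProduct.map f f z) =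
        TensorProduct.map (φ0 : B₁ →ₐ[k] A).toLinearMap (φ0 : B₁ →ₐ[k] A).toLinearMap z := by
      intro z
      induction z using TensorProduct.induction_on with
      | zero => simp
      | tmul x y => rfl
      | add x y hx hy => simp only [map_add, hx, hy]
    refine (HopfSub.j_comulB hA₁ (f b)).trans ?_
    simp only [AlgHom.comp_apply, h1]
    exact (CoalgHomClass.map_comp_comul_apply φ0 b).symm
  let φ : B₁ →ₐc[k] A₁ := BialgHom.ofAlgHom f
    (AlgHom.ext fun b => CoalgHomClass.counit_comp_apply φ0 b) hf.symm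
  letI : Algebra B₁ A₁ := f.toRingHom.toAlgebra
  haveI : IsScalarTower k B₁ A₁ := IsScalarTower.of_algebraMap_eq fun c => (f.commutes c).symm
  haveI : Algebra.FiniteType k B₁ := B₁.fg_iff_finiteType.1 hB₁fg
  haveI : Algebra.FiniteType k A₁ := A₁.fg_iff_finiteType.1 hA₁fg
  refine ⟨B₁, A₁, inferInstance, faithfullyFlat_of_fg (fun x y e => ?_) φ (fun b => rfl), hs,
    fun x hx => ht (Finset.mem_union_right _ hx), fun b => rfl⟩
  exact Subtype.ext (Subtype.ext (show ((x : B) : A) = ((y : B) : A) from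
    congrArg (fun z : A₁ => (z : A)) e))

/-- A commutative Hopf algebra over a field is faithfully flat over its Hopf subalgebras. -/
theorem faithfullyFlat (B : Subalgebra k A) (hB : SGA3.IsHopfSubalgebra k A B) :
    Module.FaithfullyFlat B A := by
  classical
  have hflat : Module.Flat B A := by
    refine Module.Flat.of_forall_isTrivialRelation fun {l f x} hfx => ?_
    obtain ⟨B₁, A₁, _, hff, hs, ht, hcompat⟩ :=
      exists_pair B hB (Finset.univ.image f) (Finset.univ.image x)
    let f' : Fin l → B₁ := fun i => ⟨f i, hs (Finset.mem_image_of_mem _ (Finset.mem_univ i))⟩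
    let x' : Fin l → A₁ := fun i => ⟨x i, ht (Finset.mem_image_of_mem _ (Finset.mem_univ i))⟩
    have h0 : ∑ i, f' i • x' i = 0 := by
      refine Subtype.ext ?_
      rw [AddSubmonoidClass.coe_finset_sum, ZeroMemClass.coe_zero, ← hfx]
      refine Finset.sum_congr rfl fun i _ => ?_
      rw [Algebra.smul_def, Subalgebra.coe_mul, hcompat]
      rfl
    haveI := hff.toFlat
    obtain ⟨n, a, y, hy, ha⟩ :=
      Module.Flat.isTrivialRelation_of_sum_smul_eq_zero (R := B₁) (M := A₁) (x := x') h0
    refine ⟨n, fun i j => (a i j : B), fun j => (y j : A), fun i => ?_, fun j => ?_⟩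
    · have := congrArg (fun z : A₁ => (z : A)) (hy i)
      simp only [AddSubmonoidClass.coe_finset_sum, Algebra.smul_def, Subalgebra.coe_mul,
        hcompat] at this
      refine this.trans (Finset.sum_congr rfl fun j _ => ?_)
      rfl
    · have := congrArg (fun z : B₁ => (z : B)) (ha j)
      simpa [f'] using this
  refine ⟨fun m hm htop => hm.ne_top ?_⟩
  have h1 : (1 : A) ∈ m • (⊤ : Submodule B A) := by rw [htop]; trivial
  rw [← Submodule.span_univ, ← Set.range_id] at h1
  rw [Submodule.mem_ideal_smul_span_iff_exists_sum m (id : A → A)] at h1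
  obtain ⟨c, hc, hsum⟩ := h1
  obtain ⟨B₁, A₁, _, hff, hs, ht, hcompat⟩ :=
    exists_pair B hB (c.support.image c) c.support
  let m₁ : Ideal B₁ := m.comap (B₁.val : B₁ →+* B)
  by_contra hne
  have hm₁ : m₁ ≠ ⊤ := fun h => hne (by
    rw [Ideal.eq_top_iff_one]
    exact (h ▸ Submodule.mem_top : (1 : B₁) ∈ m₁))
  have h2 := (Module.FaithfullyFlat.iff_flat_and_ideal_smul_eq_top B₁ A₁).1 hff
  refine hm₁ (h2.2 m₁ ?_)
  rw [Ideal.smul_top_eq_map, Submodule.restrictScalars_eq_top_iff, Ideal.eq_top_iff_one]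
  let x : A₁ := ∑ a ∈ c.support.attach, algebraMap B₁ A₁ ⟨c a, hs (Finset.mem_image_of_mem _ a.2)⟩ *
    ⟨a, ht a.2⟩
  have hx : x = 1 := by
    refine Subtype.ext ?_
    rw [AddSubmonoidClass.coe_finset_sum, OneMemClass.coe_one, ← hsum, Finsupp.sum]
    rw [← Finset.sum_attach c.support]
    refine Finset.sum_congr rfl fun a _ => ?_
    rw [Subalgebra.coe_mul, hcompat]
    rfl
  rw [← hx]
  exact Ideal.sum_mem _ fun a _ => Ideal.mul_mem_right _ _ (Ideal.mem_map_of_mem _ (hc a))

end Groth.L25.HopfFlat
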