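import Groth.Agent.L25.GaGmSplit
import Mathlib.Data.Finsupp.Basic
import Mathlib.Algebra.BigOperators.Finsupp.Basic

/-!
# Normal form of symmetric additive polynomial 2-cocycles in characteristic `p`
-/

set_option autoImplicit false

universe u

open Groth.L25.CocycleComb Groth.L25.GaGmSplit

namespace Groth.L25.CocycleNormalForm

variable (p : ℕ) {R : Type u} [CommRing R]

local notation "P2" => MvPolynomial (Fin 2) R
local notation "P3" => MvPolynomial (Fin 3) R
local notation "x₀" => (MvPolynomial.X 0 : MvPolynomial (Fin 2) R)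
local notation "x₁" => (MvPolynomial.X 1 : MvPolynomial (Fin 2) R)

/-- Witt's cocycle `S`. -/
noncomputable def S0 : P2 :=
  ∑ j ∈ Finset.Ioo 0 p, MvPolynomial.C ((p.choose j / p : ℕ) : R) * x₀ ^ j * x₁ ^ (p - j)

/-- `S(X^(p^i), Y^(p^i))`. -/
noncomputable def Si (i : ℕ) : P2 := MvPolynomial.aeval ![x₀ ^ p ^ i, x₁ ^ p ^ i] (S0 p : P2)

/-- `G(X+Y) - G(X) - G(Y)`. -/
noncomputable def delta (G : Polynomial R) : P2 :=
  Polynomial.aeval (x₀ + x₁) G - Polynomial.aeval x₀ G - Polynomial.aeval x₁ G

/-- The normal forms. -/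
def Form (F : P2) : Prop :=
  ∃ (G : Polynomial R) (r : ℕ →₀ R), F = delta G + r.sum fun i c => MvPolynomial.C c * Si p i

theorem form_zero : Form p (0 : P2) := ⟨0, 0, by simp [delta]⟩

theorem form_add {F F' : P2} (h : Form p F) (h' : Form p F') : Form p (F + F') := by
  obtain ⟨G, r, rfl⟩ := h
  obtain ⟨G', r', rfl⟩ := h'
  refine ⟨G + G', r + r', ?_⟩
  rw [Finsupp.sum_add_index' (by simp) (fun i a b => by rw [map_add, add_mul])]
  simp only [delta, map_add]
  ring

theorem form_sum {ι : Type*} (s : Finset ι) (F : ι → P2) (h : ∀ i ∈ s, Form p (F i)) :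
    Form p (∑ i ∈ s, F i) :=
  Finset.sum_induction F (Form p) (fun _ _ => form_add p) (form_zero p) h

theorem form_iff_range (F : P2) : Form p F ↔
    ∃ (G : Polynomial R) (N : ℕ) (r : ℕ → R),
      F = delta G + ∑ i ∈ Finset.range N, MvPolynomial.C (r i) * Si p i := by
  constructor
  · rintro ⟨G, r, rfl⟩
    refine ⟨G, r.support.sup id + 1, r, ?_⟩
    rw [Finsupp.sum_of_support_subset r ?_ _ (by simp)]
    intro i hi
    rw [Finset.mem_range, Nat.lt_succ_iff]
    exact Finset.le_sup (f := id) hi
  · rintro ⟨G, N, r, rfl⟩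
    refine form_add p ⟨G, 0, by simp⟩ (form_sum p _ _ fun i _ => ⟨0, Finsupp.single i (r i), ?_⟩)
    rw [Finsupp.sum_single_index (by simp)]
    simp [delta]

variable [hp : Fact p.Prime] [CharP R p]

omit [CharP R p] in
theorem mul_choose_div {m : ℕ} (hm : 0 < m) (hmp : m < p) :
    m.factorial * (p - m).factorial * (p.choose m / p) = (p - 1).factorial := by
  obtain ⟨c, hc⟩ := hp.out.dvd_choose_self hm.ne' hmp
  rw [hc, Nat.mul_div_cancel_left _ hp.out.pos]
  refine Nat.eq_of_mul_eq_mul_left hp.out.pos ?_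
  rw [Nat.mul_factorial_pred hp.out.ne_zero]
  calc p * (m.factorial * (p - m).factorial * c) = p * c * m.factorial * (p - m).factorial := by
        ring
    _ = p.factorial := by rw [← hc]; exact Nat.choose_mul_factorial_mul_factorial hmp.le

theorem Si_eq (t : ℕ) : (Si p t : P2) = ∑ m ∈ Finset.Ioo 0 p,
    MvPolynomial.C ((p.choose m / p : ℕ) : R) * x₀ ^ (m * p ^ t) *
      x₁ ^ (p ^ (t + 1) - m * p ^ t) := by
  simp only [Si, S0, map_sum, map_mul, MvPolynomial.aeval_C, map_pow, MvPolynomial.aeval_X,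
    MvPolynomial.algebraMap_eq]
  refine Finset.sum_congr rfl fun m hm => ?_
  rw [Finset.mem_Ioo] at hm
  rw [pow_succ', ← Nat.sub_mul]
  simp only [Matrix.cons_val_zero, Matrix.cons_val_one, ← pow_mul, mul_comm (p ^ t)]

theorem form_of_cocycle (F : P2) (hs : MvPolynomial.aeval ![x₁, x₀] F = F)
    (hc : MvPolynomial.aeval ![MvPolynomial.X 0, MvPolynomial.X 1 + MvPolynomial.X 2] F
          + MvPolynomial.aeval ![MvPolynomial.X 1, MvPolynomial.X 2] F
          - MvPolynomial.aeval ![MvPolynomial.X 0 + MvPolynomial.X 1, MvPolynomial.X 2] F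
          - MvPolynomial.aeval ![MvPolynomial.X 0, MvPolynomial.X 1] F = (0 : P3)) :
    Form p F := by
  classical
  have hp0 : (p : R) = 0 := CharP.cast_eq_zero R p
  have hcf : ∀ i j l,
      ((j + l).choose j : R) * F.coeff (e2 i (j + l)) +
        (MvPolynomial.aeval ![(MvPolynomial.X 1 : P3), MvPolynomial.X 2] F).coeff (e3 i j l) -
        ((i + j).choose i : R) * F.coeff (e2 (i + j) l) -
        (MvPolynomial.aeval ![(MvPolynomial.X 0 : P3), MvPolynomial.X 1] F).coeff (e3 i j l) = 0 := by
    intro i j l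
    have h := congrArg (fun P : P3 => P.coeff (e3 i j l)) hc
    simp only [MvPolynomial.coeff_sub, MvPolynomial.coeff_add, MvPolynomial.coeff_zero] at h
    rwa [coeff_left, coeff_right] at h
  have hsym : ∀ i j, F.coeff (e2 i j) = F.coeff (e2 j i) := fun i j => by
    rw [← coeff_swap F i j, hs]
  have hface : ∀ i, (MvPolynomial.aeval ![(MvPolynomial.X 0 : P3), MvPolynomial.X 1] F).coeff
      (e3 i 0 0) = F.coeff (e2 i 0) := by
    intro i
    clear hs hc hcf hsym
    induction F using MvPolynomial.induction_on' with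
    | add a b ha hb => simp only [map_add, MvPolynomial.coeff_add, ha, hb]
    | monomial m c =>
      rw [e2_eq m]
      generalize m 0 = M
      generalize m 1 = L
      have h : MvPolynomial.aeval ![(MvPolynomial.X 0 : P3), MvPolynomial.X 1]
          (MvPolynomial.monomial (e2 M L) c) = MvPolynomial.monomial (e3 M L 0) c := by
        rw [mon2, mon3, map_mul, map_mul, MvPolynomial.aeval_C, map_pow, map_pow,
          MvPolynomial.aeval_X, MvPolynomial.aeval_X, pow_zero, mul_one]
        rfl
      rw [h, MvPolynomial.coeff_monomial, MvPolynomial.coeff_monomial]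
      simp only [e3_inj, e2_inj, and_true]
  have hax : ∀ i, 0 < i → F.coeff (e2 i 0) = 0 := by
    intro i hi
    have h := hcf i 0 0
    rw [(coeff_face F i 0 0).1 hi, hface] at h
    simp only [add_zero, Nat.choose_self, Nat.cast_one, one_mul, sub_self, zero_sub,
      neg_eq_zero] at h
    exact h
  set c₀ := F.coeff (e2 0 0)
  set g : P2 := F - MvPolynomial.C c₀ with hg
  have hgc : ∀ i j, 0 < i + j → g.coeff (e2 i j) = F.coeff (e2 i j) := by
    intro i j hij
    rw [hg, MvPolynomial.coeff_sub, MvPolynomial.coeff_C, if_neg, sub_zero]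
    intro h0
    have : e2 i j = e2 0 0 := h0.symm.trans (by simp [e2])
    rw [e2_inj] at this
    omega
  have hg00 : g.coeff (e2 0 0) = 0 := by
    rw [hg, MvPolynomial.coeff_sub, MvPolynomial.coeff_C, if_pos (by simp [e2]), sub_self]
  have hg0 : ∀ i, g.coeff (e2 i 0) = 0 := by
    intro i
    rcases Nat.eq_zero_or_pos i with rfl | hi
    · exact hg00
    · rw [hgc i 0 (by omega), hax i hi]
  have hg1 : ∀ j, g.coeff (e2 0 j) = 0 := by
    intro j
    rcases Nat.eq_zero_or_pos j with rfl | hj
    · exact hg00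
    · rw [hgc 0 j (by omega), hsym, hax j hj]
  have hF : F = MvPolynomial.C c₀ + g := by rw [hg]; ring
  rw [hF]
  refine form_add p ⟨Polynomial.C (-c₀), 0, by simp [delta]⟩ ?_
  rw [decompose g hg0 hg1]
  refine form_sum p _ _ fun n _ => ?_
  rcases Nat.lt_or_ge n 2 with hn2 | hn2
  · rw [show Finset.Ioo 0 n = ∅ by ext k; simp; omega, Finset.sum_empty]
    exact form_zero p
  have hcn : IsCoc (⊥ : Ideal R) n (fun i => g.coeff (e2 i (n - i))) := by
    intro i j l hi hj hl hijl
    have h := hcf i j l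
    rw [(coeff_face F i j l).1 hi, (coeff_face F i j l).2 hl, add_zero, sub_zero] at h
    dsimp only
    rw [hgc _ _ (by omega), hgc _ _ (by omega), show n - (i + j) = l by omega,
      show n - i = j + l by omega, Ideal.mem_bot]
    linear_combination -h
  have hsn : ∀ i, 0 < i → i < n →
      g.coeff (e2 i (n - i)) - g.coeff (e2 (n - i) (n - (n - i))) ∈ (⊥ : Ideal R) := by
    intro i hi hin
    rw [hgc _ _ (by omega), hgc _ _ (by omega), hsym i, show n - (n - i) = i by omega, sub_self]
    exact Submodule.zero_mem _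
  obtain ⟨v, d, hd, hnd⟩ := Nat.exists_eq_pow_mul_and_not_dvd (show n ≠ 0 by omega) p
    hp.out.ne_one
  rcases Nat.lt_or_ge 1 d with hd1 | hd1
  · obtain ⟨f, -, hfi⟩ := exists_coboundary hp0 (J := ⊤) v d hd hd1 hnd hcn hsn
      (fun i => Submodule.mem_top)
    refine ⟨Polynomial.monomial n f, 0, ?_⟩
    have hbin : (x₀ + x₁) ^ n = x₀ ^ n + x₁ ^ n +
        ∑ i ∈ Finset.Ioo 0 n, x₀ ^ i * x₁ ^ (n - i) * (n.choose i : P2) := by
      rw [add_pow, Finset.sum_range_succ]
      simp only [Nat.sub_self, pow_zero, Nat.choose_self, Nat.cast_one, mul_one]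
      rw [show Finset.range n = insert 0 (Finset.Ioo 0 n) by
        ext k; simp; omega, Finset.sum_insert (by simp)]
      simp only [pow_zero, Nat.sub_zero, Nat.choose_zero_right, Nat.cast_one, mul_one, one_mul]
      ring
    simp only [Finsupp.sum_zero_index, add_zero, delta, Polynomial.aeval_monomial,
      MvPolynomial.algebraMap_eq, hbin, mul_add, Finset.mul_sum]
    rw [show ∀ a b c : P2, a + b + c - a - b = c from fun a b c => by ring]
    refine Finset.sum_congr rfl fun i hi => ?_
    rw [Finset.mem_Ioo] at hi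
    have h := sub_eq_zero.1 (Ideal.mem_bot.1 (hfi i hi.1 hi.2))
    rw [h, map_mul, map_natCast]
    ring
  · have hd0 : d = 1 := by
      rcases Nat.eq_zero_or_pos d with rfl | h
      · simp at hnd; omega
      · omega
    subst hd0
    rw [mul_one] at hnd
    obtain ⟨t, rfl⟩ : ∃ t, v = t + 1 := ⟨v - 1, by rcases v with _ | v <;> simp at hnd ⊢; omega⟩
    obtain ⟨κ, -, hndvd, hκm⟩ := exists_witt hp0 (J := ⊤) t hnd hcn (fun i => Submodule.mem_top)
    obtain ⟨y, hy⟩ := exists_inv (R := R) hp0 (C := (p - 1).factorial)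
      (fun hd' => by have := hp.out.dvd_factorial.1 hd'; have := hp.out.two_le; omega)
    refine ⟨0, Finsupp.single t (κ * y), ?_⟩
    rw [Finsupp.sum_single_index (by simp), Si_eq, Finset.mul_sum]
    have hdel : delta (0 : Polynomial R) = 0 := by simp [delta]
    rw [hdel, zero_add]
    have hq : 0 < p ^ t := pow_pos hp.out.pos t
    have hnq : n = p * p ^ t := by rw [hnd, pow_succ']
    rw [← Finset.sum_filter_add_sum_filter_not (Finset.Ioo 0 n) (fun i => p ^ t ∣ i),
      Finset.sum_eq_zero (s := (Finset.Ioo 0 n).filter fun i => ¬ p ^ t ∣ i) fun i hi => by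
        simp only [Finset.mem_filter, Finset.mem_Ioo] at hi
        rw [show g.coeff (e2 i (n - i)) = 0 from
          Ideal.mem_bot.1 (hndvd i hi.1.1 hi.1.2 hi.2), map_zero, zero_mul, zero_mul],
      add_zero]
    symm
    refine Finset.sum_nbij' (fun m => m * p ^ t) (fun i => i / p ^ t) ?_ ?_ ?_ ?_ ?_
    · intro m hm
      simp only [Finset.mem_Ioo] at hm
      simp only [Finset.mem_filter, Finset.mem_Ioo]
      exact ⟨⟨Nat.mul_pos hm.1 hq, hnq ▸ Nat.mul_lt_mul_of_pos_right hm.2 hq⟩, dvd_mul_left _ _⟩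
    · intro i hi
      simp only [Finset.mem_filter, Finset.mem_Ioo] at hi
      obtain ⟨⟨hi0, hin⟩, c, rfl⟩ := hi
      simp only [Finset.mem_Ioo, Nat.mul_div_cancel_left _ hq]
      refine ⟨Nat.pos_of_mul_pos_left hi0, ?_⟩
      rw [hnq, mul_comm p] at hin
      exact Nat.lt_of_mul_lt_mul_left hin
    · intro m _
      exact Nat.mul_div_cancel m hq
    · intro i hi
      simp only [Finset.mem_filter] at hi
      exact Nat.div_mul_cancel hi.2
    · intro m hm
      simp only [Finset.mem_Ioo] at hm
      have h := sub_eq_zero.1 (Ideal.mem_bot.1 (hκm m hm.1 hm.2))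
      have e : g.coeff (e2 (m * p ^ t) (n - m * p ^ t)) = κ * y * ((p.choose m / p : ℕ) : R) := by
        have e1 : (m.factorial : R) * ((p - m).factorial : R) * ((p.choose m / p : ℕ) : R) =
            ((p - 1).factorial : R) := by
          rw [← Nat.cast_mul, ← Nat.cast_mul, mul_choose_div p hm.1 hm.2]
        linear_combination (-(g.coeff (e2 (m * p ^ t) (n - m * p ^ t)))) * hy
          + (((p.choose m / p : ℕ) : R) * y) * h
          - (g.coeff (e2 (m * p ^ t) (n - m * p ^ t)) * y) * e1
      rw [e, hnd]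
      simp only [map_mul]
      ring

omit hp [CharP R p] in
theorem cocycle_delta (G : Polynomial R) :
    MvPolynomial.aeval ![x₁, x₀] (delta G) = delta G ∧
      MvPolynomial.aeval ![MvPolynomial.X 0, MvPolynomial.X 1 + MvPolynomial.X 2] (delta G)
          + MvPolynomial.aeval ![MvPolynomial.X 1, MvPolynomial.X 2] (delta G)
          - MvPolynomial.aeval ![MvPolynomial.X 0 + MvPolynomial.X 1, MvPolynomial.X 2] (delta G)
          - MvPolynomial.aeval ![MvPolynomial.X 0, MvPolynomial.X 1] (delta G) = (0 : P3) := by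
  constructor
  · simp only [delta, map_sub, ← Polynomial.aeval_algHom_apply, map_add, MvPolynomial.aeval_X,
      Matrix.cons_val_zero, Matrix.cons_val_one, add_comm x₁ x₀]
    ring
  · simp only [delta, map_sub, ← Polynomial.aeval_algHom_apply, map_add, MvPolynomial.aeval_X,
      Matrix.cons_val_zero, Matrix.cons_val_one, add_assoc]
    ring

omit [CharP R p] in
theorem cocycle_S0 :
    MvPolynomial.aeval ![x₁, x₀] (S0 p : P2) = S0 p ∧
      MvPolynomial.aeval ![MvPolynomial.X 0, MvPolynomial.X 1 + MvPolynomial.X 2] (S0 p : P2)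
          + MvPolynomial.aeval ![MvPolynomial.X 1, MvPolynomial.X 2] (S0 p : P2)
          - MvPolynomial.aeval ![MvPolynomial.X 0 + MvPolynomial.X 1, MvPolynomial.X 2] (S0 p : P2)
          - MvPolynomial.aeval ![MvPolynomial.X 0, MvPolynomial.X 1] (S0 p : P2) = (0 : P3) := by
  constructor
  · simp only [S0, map_sum, map_mul, map_natCast, map_pow, MvPolynomial.aeval_X,
      Matrix.cons_val_zero, Matrix.cons_val_one]
    refine Finset.sum_nbij' (fun j => p - j) (fun j => p - j) ?_ ?_ ?_ ?_ ?_
    · intro j hj; simp at hj ⊢; omega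
    · intro j hj; simp at hj ⊢; omega
    · intro j hj; simp at hj; omega
    · intro j hj; simp at hj; omega
    · intro j hj
      simp only [Finset.mem_Ioo] at hj
      rw [Nat.choose_symm hj.2.le, show p - (p - j) = j by omega]
      ring
  · have hP : (p : MvPolynomial (Fin 2) ℤ) * (S0 p : MvPolynomial (Fin 2) ℤ) =
        delta ((Polynomial.X : Polynomial ℤ) ^ p) := by
      simp only [S0, delta, map_pow, Polynomial.aeval_X, Finset.mul_sum]
      rw [add_pow, Finset.sum_range_succ, show Finset.range p = insert 0 (Finset.Ioo 0 p) by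
        ext k; simp; have := hp.out.pos; omega, Finset.sum_insert (by simp)]
      simp only [pow_zero, Nat.sub_zero, Nat.choose_zero_right, Nat.sub_self, Nat.choose_self,
        Nat.cast_one, mul_one, one_mul]
      ring_nf
      refine Finset.sum_congr rfl fun j hj => ?_
      simp only [Finset.mem_Ioo] at hj
      rw [map_natCast]
      have e : ((p.choose j : ℕ) : MvPolynomial (Fin 2) ℤ) =
          (p : MvPolynomial (Fin 2) ℤ) * ((p.choose j / p : ℕ) : MvPolynomial (Fin 2) ℤ) := by
        rw [← Nat.cast_mul, Nat.mul_div_cancel' (hp.out.dvd_choose_self hj.1.ne' hj.2)]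
      rw [e]
      ring
    have hZ : MvPolynomial.aeval ![MvPolynomial.X 0, MvPolynomial.X 1 + MvPolynomial.X 2]
          (S0 p : MvPolynomial (Fin 2) ℤ)
          + MvPolynomial.aeval ![MvPolynomial.X 1, MvPolynomial.X 2] (S0 p : MvPolynomial (Fin 2) ℤ)
          - MvPolynomial.aeval ![MvPolynomial.X 0 + MvPolynomial.X 1, MvPolynomial.X 2]
              (S0 p : MvPolynomial (Fin 2) ℤ)
          - MvPolynomial.aeval ![MvPolynomial.X 0, MvPolynomial.X 1] (S0 p : MvPolynomial (Fin 2) ℤ)
          = (0 : MvPolynomial (Fin 3) ℤ) := by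
      have h := (cocycle_delta ((Polynomial.X : Polynomial ℤ) ^ p)).2
      rw [← hP] at h
      simp only [map_mul, map_natCast, ← mul_add, ← mul_sub] at h
      exact (mul_eq_zero.1 h).resolve_left (by exact_mod_cast hp.out.ne_zero)
    have h := congrArg (MvPolynomial.map (Int.castRingHom R)) hZ
    simp only [S0, map_sum, map_mul, map_natCast, map_pow, map_add, map_sub, map_zero,
      MvPolynomial.aeval_X, MvPolynomial.aeval_C, MvPolynomial.map_X, MvPolynomial.map_C,
      Matrix.cons_val_zero, Matrix.cons_val_one] at h ⊢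
    exact h

theorem cocycle_of_form {F : P2} (h : Form p F) :
    MvPolynomial.aeval ![x₁, x₀] F = F ∧
      MvPolynomial.aeval ![MvPolynomial.X 0, MvPolynomial.X 1 + MvPolynomial.X 2] F
          + MvPolynomial.aeval ![MvPolynomial.X 1, MvPolynomial.X 2] F
          - MvPolynomial.aeval ![MvPolynomial.X 0 + MvPolynomial.X 1, MvPolynomial.X 2] F
          - MvPolynomial.aeval ![MvPolynomial.X 0, MvPolynomial.X 1] F = (0 : P3) := by
  obtain ⟨G, r, rfl⟩ := h
  obtain ⟨d1, d2⟩ := cocycle_delta G
  obtain ⟨s1, s2⟩ := cocycle_S0 p (R := R)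
  have hfrob : ∀ t (a b : P3), (a + b) ^ p ^ t = a ^ p ^ t + b ^ p ^ t := fun t a b =>
    add_pow_char_pow a b p t
  have comp3 : ∀ (t : ℕ) (a b : P3),
      MvPolynomial.aeval ![a, b] (Si p t : P2) =
        MvPolynomial.aeval ![a ^ p ^ t, b ^ p ^ t] (S0 p : P2) := by
    intro t a b
    rw [Si, ← AlgHom.comp_apply, MvPolynomial.comp_aeval]
    refine congrArg (fun v => MvPolynomial.aeval v (S0 p : P2)) ?_
    ext i
    fin_cases i <;> simp
  constructor
  · rw [map_add, d1, map_finsuppSum]
    congr 1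
    refine Finsupp.sum_congr fun t _ => ?_
    rw [map_mul, MvPolynomial.aeval_C, MvPolynomial.algebraMap_eq]
    congr 1
    conv_rhs => rw [Si, ← s1, ← AlgHom.comp_apply, MvPolynomial.comp_aeval]
    rw [Si, ← AlgHom.comp_apply, MvPolynomial.comp_aeval]
    refine congrArg (fun v => MvPolynomial.aeval v (S0 p : P2)) ?_
    ext i
    fin_cases i <;> simp
  ·
    have hS : ∀ t,
        MvPolynomial.aeval ![MvPolynomial.X 0, MvPolynomial.X 1 + MvPolynomial.X 2] (Si p t : P2)
          + MvPolynomial.aeval ![MvPolynomial.X 1, MvPolynomial.X 2] (Si p t : P2)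
          - MvPolynomial.aeval ![MvPolynomial.X 0 + MvPolynomial.X 1, MvPolynomial.X 2] (Si p t : P2)
          - MvPolynomial.aeval ![MvPolynomial.X 0, MvPolynomial.X 1] (Si p t : P2) = (0 : P3) := by
      intro t
      have h := congrArg (MvPolynomial.aeval (R := R) fun i : Fin 3 => (MvPolynomial.X i : P3) ^ p ^ t) s2
      simp only [map_add, map_sub, map_zero, ← AlgHom.comp_apply, MvPolynomial.comp_aeval] at h
      rw [comp3, comp3, comp3, comp3, hfrob, hfrob]
      have hv : ∀ a b : P3, (fun i : Fin 2 => MvPolynomial.aeval (R := R)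
          (fun i : Fin 3 => (MvPolynomial.X i : P3) ^ p ^ t) (![a, b] i)) =
          ![MvPolynomial.aeval (fun i : Fin 3 => (MvPolynomial.X i : P3) ^ p ^ t) a,
            MvPolynomial.aeval (fun i : Fin 3 => (MvPolynomial.X i : P3) ^ p ^ t) b] := by
        intro a b
        ext i
        fin_cases i <;> rfl
      simp only [hv, map_add, MvPolynomial.aeval_X] at h
      exact h
    let L : P2 →ₗ[R] P3 :=
      (MvPolynomial.aeval ![MvPolynomial.X 0, (MvPolynomial.X 1 : P3) + MvPolynomial.X 2]).toLinearMap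
        + (MvPolynomial.aeval ![(MvPolynomial.X 1 : P3), MvPolynomial.X 2]).toLinearMap
        - (MvPolynomial.aeval ![(MvPolynomial.X 0 : P3) + MvPolynomial.X 1, MvPolynomial.X 2]).toLinearMap
        - (MvPolynomial.aeval ![(MvPolynomial.X 0 : P3), MvPolynomial.X 1]).toLinearMap
    show L (delta G + r.sum fun i c => MvPolynomial.C c * Si p i) = 0
    rw [map_add, map_finsuppSum, show L (delta G) = 0 from d2, zero_add]
    refine Finset.sum_eq_zero fun t _ => ?_
    show L (MvPolynomial.C (r t) * Si p t) = 0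
    rw [MvPolynomial.C_mul', map_smul, show L (Si p t) = 0 from hS t, smul_zero]

end Groth.L25.CocycleNormalForm
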