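import Groth.Prelude.Def_SGA3
import Groth.Agent.S8220
import Groth.Agent.L08.Dual
import Groth.Agent.L08.LinRed
import Mathlib.RingTheory.HopfAlgebra.Convolution
import Mathlib.RingTheory.Bialgebra.Hom
import Mathlib.RingTheory.Flat.Basic
import Mathlib.RingTheory.FiniteType

/-!
# Hopf subalgebras over a field

The Hopf algebra structure on a sub-Hopf-algebra, and finitely generated sub-Hopf-algebras
containing a given finite set.
-/

set_option autoImplicit false

universe u

open TensorProduct

namespace Groth.L25.HopfSub

variable {k : Type u} [Field k] {A : Type u} [CommRing A] [HopfAlgebra k A] {B : Subalgebra k A}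

variable (B) in
/-- The inclusion of `B ⊗ B` in `A ⊗ A`. -/
noncomputable abbrev j : B ⊗[k] B →ₐ[k] A ⊗[k] A := Algebra.TensorProduct.map B.val B.val

theorem j_injective : Function.Injective (j B) :=
  TensorProduct.map_injective_of_flat_flat B.val.toLinearMap B.val.toLinearMap
    Subtype.val_injective Subtype.val_injective

variable (hB : SGA3.IsHopfSubalgebra k A B)

/-- The comultiplication of a Hopf subalgebra. -/
noncomputable def comulB : B →ₐ[k] B ⊗[k] B :=
  (AlgEquiv.ofInjective (j B) j_injective).symm.toAlgHom.comp
    (((Bialgebra.comulAlgHom k A).comp B.val).codRestrict (j B).range fun b => by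
      obtain ⟨z, hz⟩ := hB.1 b b.2
      exact ⟨z, hz⟩)

theorem j_comulB (b : B) : j B (comulB hB b) = Coalgebra.comul (R := k) (b : A) := by
  simp only [comulB, AlgHom.comp_apply]
  exact congrArg Subtype.val ((AlgEquiv.ofInjective (j B) j_injective).apply_symm_apply _)

/-- The counit of a Hopf subalgebra. -/
noncomputable abbrev counitB (B : Subalgebra k A) : B →ₐ[k] k :=
  (Bialgebra.counitAlgHom k A).comp B.val

theorem coassocB : (Algebra.TensorProduct.assoc k k k B B B).toAlgHom.comp
    ((Algebra.TensorProduct.map (comulB hB) (.id k B)).comp (comulB hB)) =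
    (Algebra.TensorProduct.map (.id k B) (comulB hB)).comp (comulB hB) := by
  have hinj : Function.Injective (Algebra.TensorProduct.map B.val (j B)) :=
    TensorProduct.map_injective_of_flat_flat B.val.toLinearMap (j B).toLinearMap
      Subtype.val_injective j_injective
  refine AlgHom.ext fun b => hinj ?_
  have h1 : ∀ z : B ⊗[k] B, Algebra.TensorProduct.map B.val (j B)
      (Algebra.TensorProduct.map (.id k B) (comulB hB) z) =
        (Bialgebra.comulAlgHom k A).toLinearMap.lTensor A (j B z) := by
    intro z
    induction z using TensorProduct.induction_on with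
    | zero => simp
    | tmul x y => simp [j_comulB]
    | add x y hx hy => simp only [map_add, hx, hy]
  have h2 : ∀ z : B ⊗[k] B, Algebra.TensorProduct.map B.val (j B)
      (Algebra.TensorProduct.assoc k k k B B B
        (Algebra.TensorProduct.map (comulB hB) (.id k B) z)) =
        TensorProduct.assoc k A A A
          ((Bialgebra.comulAlgHom k A).toLinearMap.rTensor A (j B z)) := by
    intro z
    induction z using TensorProduct.induction_on with
    | zero => simp
    | tmul x y =>
      have h3 : ∀ w : B ⊗[k] B, Algebra.TensorProduct.map B.val (j B)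
          (Algebra.TensorProduct.assoc k k k B B B (w ⊗ₜ y)) =
          TensorProduct.assoc k A A A (j B w ⊗ₜ (y : A)) := by
        intro w
        induction w using TensorProduct.induction_on with
        | zero => simp
        | tmul s t => rfl
        | add s t hs ht => simp only [TensorProduct.add_tmul, map_add, hs, ht]
      simp [h3, j_comulB]
    | add x y hx hy => simp only [map_add, hx, hy]
  simp only [AlgHom.comp_apply, h1, j_comulB]
  refine (h2 _).trans ?_
  rw [j_comulB]
  exact Coalgebra.coassoc_apply (R := k) (b : A)

theorem rTensorB : (Algebra.TensorProduct.map (counitB B) (.id k B)).comp (comulB hB) =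
    (Algebra.TensorProduct.lid k B).symm := by
  have hinj : Function.Injective (Algebra.TensorProduct.map (.id k k) B.val) :=
    Module.Flat.lTensor_preserves_injective_linearMap B.val.toLinearMap Subtype.val_injective
  refine AlgHom.ext fun b => hinj ?_
  have h : ∀ z : B ⊗[k] B, Algebra.TensorProduct.map (.id k k) B.val
      (Algebra.TensorProduct.map (counitB B) (.id k B) z) =
        (Coalgebra.counit (R := k) (A := A)).rTensor A (j B z) := by
    intro z
    induction z using TensorProduct.induction_on with
    | zero => simp
    | tmul x y => simp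
    | add x y hx hy => simp only [map_add, hx, hy]
  simp only [AlgHom.comp_apply, h, j_comulB, Coalgebra.rTensor_counit_comul]
  rfl

theorem lTensorB : (Algebra.TensorProduct.map (.id k B) (counitB B)).comp (comulB hB) =
    (Algebra.TensorProduct.rid k k B).symm := by
  have hinj : Function.Injective (Algebra.TensorProduct.map B.val (.id k k)) :=
    Module.Flat.rTensor_preserves_injective_linearMap B.val.toLinearMap Subtype.val_injective
  refine AlgHom.ext fun b => hinj ?_
  have h : ∀ z : B ⊗[k] B, Algebra.TensorProduct.map B.val (.id k k)
      (Algebra.TensorProduct.map (.id k B) (counitB B) z) =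
        (Coalgebra.counit (R := k) (A := A)).lTensor A (j B z) := by
    intro z
    induction z using TensorProduct.induction_on with
    | zero => simp
    | tmul x y => simp
    | add x y hx hy => simp only [map_add, hx, hy]
  simp only [AlgHom.comp_apply, h, j_comulB, Coalgebra.lTensor_counit_comul]
  rfl

/-- The antipode of a Hopf subalgebra. -/
noncomputable def antipodeB : B →ₐ[k] B :=
  ((HopfAlgebra.antipodeAlgHom k A).comp B.val).codRestrict B fun b => hB.2 b b.2

theorem antipode_axioms :
    ((Algebra.TensorProduct.lift (antipodeB hB) (.id k B) fun _ _ => Commute.all _ _).comp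
      (comulB hB) = (Algebra.ofId k B).comp (counitB B)) ∧
    ((Algebra.TensorProduct.lift (.id k B) (antipodeB hB) fun _ _ => Commute.all _ _).comp
      (comulB hB) = (Algebra.ofId k B).comp (counitB B)) := by
  constructor
  · refine AlgHom.ext fun b => Subtype.ext ?_
    have h : ∀ z : B ⊗[k] B, ((Algebra.TensorProduct.lift (antipodeB hB) (.id k B)
        (fun _ _ => Commute.all _ _) z : B) : A) =
        LinearMap.mul' k A ((HopfAlgebraStruct.antipode k (A := A)).rTensor A (j B z)) := by
      intro z
      induction z using TensorProduct.induction_on with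
      | zero => simp
      | tmul x y =>
        simp [antipodeB] <;> rfl
      | add x y hx hy => simp only [map_add, Subalgebra.coe_add, hx, hy]
    simp [AlgHom.comp_apply, h, j_comulB]
  · refine AlgHom.ext fun b => Subtype.ext ?_
    have h : ∀ z : B ⊗[k] B, ((Algebra.TensorProduct.lift (.id k B) (antipodeB hB)
        (fun _ _ => Commute.all _ _) z : B) : A) =
        LinearMap.mul' k A ((HopfAlgebraStruct.antipode k (A := A)).lTensor A (j B z)) := by
      intro z
      induction z using TensorProduct.induction_on with
      | zero => simp
      | tmul x y =>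
        simp [antipodeB] <;> rfl
      | add x y hx hy => simp only [map_add, Subalgebra.coe_add, hx, hy]
    simp [AlgHom.comp_apply, h, j_comulB]

/-- The Hopf algebra structure of a sub-Hopf-algebra over a field. -/
@[implicit_reducible]
noncomputable def hopfAlgebra : HopfAlgebra k B :=
  letI : Bialgebra k B :=
    Bialgebra.ofAlgHom (comulB hB) (counitB B) (coassocB hB) (rTensorB hB) (lTensorB hB)
  HopfAlgebra.ofAlgHom (antipodeB hB) (antipode_axioms hB).1 (antipode_axioms hB).2

/-- The inclusion as a bialgebra map. -/
noncomputable def inclBialg :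
    letI := hopfAlgebra hB
    B →ₐc[k] A :=
  letI := hopfAlgebra hB
  BialgHom.ofAlgHom B.val rfl (AlgHom.ext fun b => j_comulB hB b)

theorem inclBialg_apply (b : B) : (letI := hopfAlgebra hB; inclBialg hB b) = (b : A) := rfl

/-- A finite set is contained in a finitely generated sub-Hopf-algebra. -/
theorem exists_fg (k : Type u) [Field k] (A : Type u) [CommRing A] [HopfAlgebra k A]
    (s : Finset A) :
    ∃ B : Subalgebra k A, ↑s ⊆ (B : Set A) ∧ B.FG ∧ SGA3.IsHopfSubalgebra k A B := by
  classical
  obtain ⟨C, hCfin, hxC, hC⟩ := Groth.Agent.S8220.result (k := k) (A := A) s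
  obtain ⟨t, ht⟩ := (Module.Finite.iff_fg.1 hCfin)
  let S : A →ₐ[k] A := HopfAlgebra.antipodeAlgHom k A
  have hSS : ∀ a, S (S a) = a := fun a => Groth.L08.antipode_antipode_apply a
  let g : Set A := ↑t ∪ S '' ↑t
  let B : Subalgebra k A := Algebra.adjoin k g
  have hCB : ∀ c ∈ C, c ∈ B := by
    intro c hc
    rw [← ht] at hc
    exact Submodule.span_le (p := Subalgebra.toSubmodule B) |>.2
      (fun y hy => Algebra.subset_adjoin (Or.inl hy)) hc
  have hSB : ∀ b ∈ B, S b ∈ B := by
    intro b hb
    have h : B.map S ≤ B := by
      rw [AlgHom.map_adjoin]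
      refine Algebra.adjoin_le ?_
      rintro _ ⟨y, hy | ⟨z, hz, rfl⟩, rfl⟩
      · exact Algebra.subset_adjoin (Or.inr ⟨y, hy, rfl⟩)
      · rw [hSS]
        exact Algebra.subset_adjoin (Or.inl hz)
    exact h ⟨b, hb, rfl⟩
  let D : Subalgebra k A := (j B).range.comap (Bialgebra.comulAlgHom k A)
  have hBD : B ≤ D := by
    have hCD : ∀ c ∈ C, c ∈ D := by
      intro c hc
      obtain ⟨z, hz⟩ := hC c hc
      let i : C →ₗ[k] B :=
        C.subtype.codRestrict (Subalgebra.toSubmodule B) (fun w => hCB w w.2)
      refine ⟨TensorProduct.map i i z, ?_⟩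
      have : (TensorProduct.map B.val.toLinearMap B.val.toLinearMap) ∘ₗ (TensorProduct.map i i) =
          TensorProduct.map C.subtype C.subtype := by
        rw [← TensorProduct.map_comp]
        rfl
      exact (LinearMap.congr_fun this z).trans hz
    refine Algebra.adjoin_le ?_
    rintro y (hy | ⟨z, hz, rfl⟩)
    · exact hCD y (ht ▸ Submodule.subset_span hy)
    · obtain ⟨w, hw⟩ := hCD z (ht ▸ Submodule.subset_span hz)
      let sB : B →ₗ[k] B := ((S.comp B.val).codRestrict B (fun v => hSB v v.2)).toLinearMap
      refine ⟨TensorProduct.map sB sB (TensorProduct.comm k B B w), ?_⟩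
      change TensorProduct.map B.val.toLinearMap B.val.toLinearMap _ =
        Coalgebra.comul (R := k) (HopfAlgebraStruct.antipode (R := k) z)
      rw [Groth.L08.comul_antipode]
      have hw' : TensorProduct.map B.val.toLinearMap B.val.toLinearMap w =
          Coalgebra.comul (R := k) z := hw
      rw [← hw']
      clear hw hw'
      induction w using TensorProduct.induction_on with
      | zero => simp
      | tmul a b => rfl
      | add a b ha hb => simp only [map_add, ha, hb]
  refine ⟨B, fun x hx => hCB x (hxC hx),
    ⟨t ∪ t.image S, by rw [Finset.coe_union, Finset.coe_image]⟩, fun b hb => ?_, fun b hb => hSB b hb⟩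
  obtain ⟨z, hz⟩ := hBD hb
  exact ⟨z, hz⟩

end Groth.L25.HopfSub
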