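import Groth.Agent.L08.Flag
import Groth.Agent.L25.HopfFlatGen
import Groth.Agent.L25.Char.AdicClopen
import Mathlib.RingTheory.TensorProduct.IncludeLeftSubRight
import Mathlib.RingTheory.Bialgebra.Quotient

/-!
# Extensions of unipotent affine groups are unipotent
-/

set_option autoImplicit false
universe u
set_option linter.style.haveILetI false

open TensorProduct

noncomputable section

namespace Groth.L25.UnipExt

open Groth.L08

variable {k : Type u} [Field k] {A C : Type u} [CommRing A] [HopfAlgebra k A] [CommRing C] [HopfAlgebra k C]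
  (ψ : C →ₐc[k] A)

theorem isHopfSubalgebra_range : SGA3.IsHopfSubalgebra k A (ψ : C →ₐ[k] A).range := by
  refine ⟨fun a ha => ?_, fun a ha => ?_⟩
  · obtain ⟨c, rfl⟩ := ha
    let r : C →ₗ[k] (ψ : C →ₐ[k] A).range := (ψ : C →ₐ[k] A).rangeRestrict.toLinearMap
    refine ⟨TensorProduct.map r r (Coalgebra.comul (R := k) c), ?_⟩
    rw [← LinearMap.comp_apply, ← TensorProduct.map_comp]
    exact CoalgHomClass.map_comp_comul_apply ψ c
  · obtain ⟨c, rfl⟩ := ha
    exact ⟨HopfAlgebraStruct.antipode k c, Groth.L25.Char.bialgHom_antipode ψ c⟩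

/-- elements fixed by the kernel come from the quotient -/
theorem mem_range_of_fixed {J : Ideal A}
    (hJ : J = Ideal.map (ψ : C →+* A) (RingHom.ker (Bialgebra.counitAlgHom k C))) {a : A}
    (ha : TensorProduct.map LinearMap.id (Ideal.Quotient.mkₐ k J).toLinearMap (Coalgebra.comul (R := k) a) =
      a ⊗ₜ[k] (1 : A ⧸ J)) : a ∈ (ψ : C →ₐ[k] A).range := by
  let C' := (ψ : C →ₐ[k] A).range
  haveI : Module.FaithfullyFlat C' A := Groth.L25.HopfFlat.faithfullyFlat C' (isHopfSubalgebra_range ψ)
  let L : A →ₐ[k] A ⊗[C'] A := (Algebra.TensorProduct.includeLeft : A →ₐ[C'] A ⊗[C'] A).restrictScalars k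
  let R : A →ₐ[k] A ⊗[C'] A := (Algebra.TensorProduct.includeRight : A →ₐ[C'] A ⊗[C'] A).restrictScalars k
  let S : A →ₐ[k] A := HopfAlgebra.antipodeAlgHom k A
  let P : A ⊗[k] A →ₐ[k] A ⊗[C'] A := Algebra.TensorProduct.lift (L.comp S) R fun _ _ => Commute.all _ _
  let Θ : A →ₐ[k] A ⊗[C'] A := P.comp (Bialgebra.comulAlgHom k A)
  have hΘC : ∀ c : C, Θ (ψ c) = algebraMap k (A ⊗[C'] A) (Coalgebra.counit (R := k) c) := by
    intro c
    have h1 : Θ (ψ c) = P (TensorProduct.map (ψ : C →ₗ[k] A) (ψ : C →ₗ[k] A) (Coalgebra.comul (R := k) c)) :=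
      congrArg P (CoalgHomClass.map_comp_comul_apply ψ c).symm
    have h2 : ∀ w, P (TensorProduct.map (ψ : C →ₗ[k] A) (ψ : C →ₗ[k] A) w) =
        L (ψ (LinearMap.mul' k C ((HopfAlgebraStruct.antipode k (A := C)).rTensor C w))) := by
      intro w
      induction w with
      | zero => simp
      | add x y hx hy => simp only [map_add, hx, hy]
      | tmul x y =>
        simp only [TensorProduct.map_tmul, LinearMap.rTensor_tmul, LinearMap.mul'_apply, map_mul]
        change L (S (ψ x)) * R (ψ y) = _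
        have hR : R (ψ y) = L (ψ y) :=
          (Algebra.TensorProduct.tmul_one_eq_one_tmul (R := C') (A := A) (B := A) ⟨ψ y, y, rfl⟩).symm
        rw [hR]
        congr 2
        exact (Groth.L25.Char.bialgHom_antipode ψ x).symm
    rw [h1, h2, HopfAlgebra.mul_antipode_rTensor_comul_apply, show ψ (algebraMap k C (Coalgebra.counit (R := k) c)) = algebraMap k A (Coalgebra.counit (R := k) c) from (ψ : C →ₐ[k] A).commutes _, AlgHom.commutes]
  have hΘJ : ∀ x ∈ J, Θ x = 0 := by
    intro x hx
    rw [hJ] at hx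
    have : J ≤ RingHom.ker Θ.toRingHom := by
      rw [hJ, Ideal.map_le_iff_le_comap]
      intro c hc
      have hc0 : Coalgebra.counit (R := k) c = 0 := hc
      rw [Ideal.mem_comap, RingHom.mem_ker]
      exact (hΘC c).trans (by rw [hc0, map_zero])
    rw [← hJ] at hx
    exact this hx
  let Θb : (A ⧸ J) →ₐ[k] A ⊗[C'] A := Ideal.Quotient.liftₐ J Θ hΘJ
  let Φ : A ⊗[k] (A ⧸ J) →ₐ[k] A ⊗[C'] A := Algebra.TensorProduct.lift L Θb fun _ _ => Commute.all _ _
  have h := congrArg Φ ha
  let Q : A ⊗[k] (A ⊗[k] A) →ₗ[k] A ⊗[C'] A :=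
    TensorProduct.lift ((LinearMap.mul k (A ⊗[C'] A)).compl₁₂ L.toLinearMap P.toLinearMap)
  have hl : Φ (TensorProduct.map LinearMap.id (Ideal.Quotient.mkₐ k J).toLinearMap
      (Coalgebra.comul (R := k) a)) = R a := by
    have h3 : ∀ w : A ⊗[k] A, Φ (TensorProduct.map LinearMap.id (Ideal.Quotient.mkₐ k J).toLinearMap w) =
        Q ((Coalgebra.comul (R := k) (A := A)).lTensor A w) := by
      intro w
      induction w with
      | zero => simp
      | add x y hx hy => simp only [map_add, hx, hy]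
      | tmul x y =>
        simp [Φ, Q, Θb, Θ]
        all_goals rfl
    have h5 : ∀ z : A ⊗[k] A, Q (TensorProduct.assoc k A A A
        ((Coalgebra.comul (R := k) (A := A)).rTensor A z)) =
        R (TensorProduct.lid k A ((Coalgebra.counit (R := k) (A := A)).rTensor A z)) := by
      intro z
      induction z with
      | zero => simp
      | add x y hx hy => simp only [map_add, hx, hy]
      | tmul x y =>
        have h6 : ∀ w : A ⊗[k] A, Q (TensorProduct.assoc k A A A (w ⊗ₜ[k] y)) =
            L (LinearMap.mul' k A ((HopfAlgebraStruct.antipode k (A := A)).lTensor A w)) * R y := by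
          intro w
          induction w with
          | zero => simp
          | add u v hu hv => simp only [add_tmul, map_add, hu, hv, add_mul]
          | tmul u v =>
            simp only [TensorProduct.assoc_tmul, LinearMap.lTensor_tmul, LinearMap.mul'_apply, map_mul]
            simp [Q, P, S, mul_assoc]
        rw [LinearMap.rTensor_tmul, h6, HopfAlgebra.mul_antipode_lTensor_comul_apply, AlgHom.commutes,
          LinearMap.rTensor_tmul, TensorProduct.lid_tmul, map_smul, Algebra.algebraMap_eq_smul_one, smul_mul_assoc, one_mul]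
    rw [h3, ← Coalgebra.coassoc_apply, h5, Coalgebra.rTensor_counit_comul, TensorProduct.lid_tmul, one_smul]
  have hr : Φ (a ⊗ₜ[k] (1 : A ⧸ J)) = L a := by simp [Φ]
  rw [hl, hr] at h
  have he := (Algebra.IsEffective.of_faithfullyFlat C' A a).1 (by
    rw [Algebra.TensorProduct.includeLeftSubRight_apply, sub_eq_zero]
    exact h.symm)
  obtain ⟨c, rfl⟩ := he
  exact c.2

/-- a quotient group of a unipotent group is unipotent -/
theorem isUnipotent_of_injective (hψ : Function.Injective ψ) (hU : HopfRep.IsUnipotent k A) :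
    HopfRep.IsUnipotent k C := by
  refine isUnipotent_of_hasFlag fun c => ?_
  obtain ⟨m, F, h0, hm, hst⟩ := hasFlag_of_isUnipotent hU (ψ c)
  refine ⟨m, fun i => (F i).comap (ψ : C →ₗ[k] A), ?_, hm, fun i => ⟨1, rfl, fun v hv φ => ?_⟩⟩
  · ext x
    simp only [h0, Submodule.mem_comap, Submodule.mem_bot]
    exact ⟨fun h => hψ (h.trans (map_zero ψ).symm), fun h => by rw [h]; exact map_zero ψ⟩
  · obtain ⟨θ, rfl⟩ := exists_extend_inj (f := (ψ : C →ₗ[k] A)) (LinearMap.ker_eq_bot.2 hψ) φ
    obtain ⟨g, rfl, hstep⟩ := hst i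
    have h : ψ (fAct C (θ ∘ₗ (ψ : C →ₗ[k] A)) v) = fAct A θ (ψ v) := by
      change _ = TensorProduct.rid k A (θ.lTensor A (Coalgebra.comul (R := k) (ψ v)))
      rw [← CoalgHomClass.map_comp_comul_apply ψ v, fAct_apply]
      change ψ (TensorProduct.rid k C (LinearMap.lTensor _ _ (Coalgebra.comul (R := k) v))) = _
      induction Coalgebra.comul (R := k) v with
      | zero => simp
      | add p q hp hq => simp only [map_add, hp, hq]
      | tmul p q => simp [map_smul]
    have h2 := hstep (ψ v) hv θ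
    rw [Submodule.mem_comap]
    change ψ (fAct C _ v - (θ (ψ 1)) • v) ∈ F i
    rw [map_sub, map_smul, h, map_one]
    exact h2

/-- an extension of unipotent groups is unipotent -/
theorem isUnipotent_of_extension {J : Ideal A} [J.IsHopfIdeal k] (hψ : Function.Injective ψ)
    (hJ : J = Ideal.map (ψ : C →+* A) (RingHom.ker (Bialgebra.counitAlgHom k C)))
    (hC : HopfRep.IsUnipotent k C) (hN : HopfRep.IsUnipotent k (A ⧸ J)) : HopfRep.IsUnipotent k A := by
  classical
  intro V _ _ cV hfin hnt
  let π : A →ₐc[k] A ⧸ J := Bialgebra.Quotient.mkBialgHom J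
  obtain ⟨w, hw, hw0⟩ := Submodule.exists_mem_ne_zero_of_ne_bot
    (@hN V _ _ (push (π : A →ₗc[k] A ⧸ J) cV) hfin hnt)
  have hw' : ∀ f : Module.Dual k V, cf (A := A) f w ∈ (ψ : C →ₐ[k] A).range := by
    intro f
    refine mem_range_of_fixed ψ hJ ?_
    have h1 : (Ideal.Quotient.mkₐ k J).toLinearMap.lTensor V (cV.coact w) = w ⊗ₜ[k] (1 : A ⧸ J) := hw
    have h2 : Coalgebra.comul (R := k) (cf (A := A) f w) = (cf (A := A) f).rTensor A (cV.coact w) :=
      LinearMap.congr_fun (isComodHom_cf f) w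
    rw [h2]
    have h3 : ∀ z : V ⊗[k] A, TensorProduct.map LinearMap.id (Ideal.Quotient.mkₐ k J).toLinearMap
        ((cf (A := A) f).rTensor A z) =
          (cf (A := A) f).rTensor (A ⧸ J) ((Ideal.Quotient.mkₐ k J).toLinearMap.lTensor V z) := by
      intro z
      induction z with
      | zero => simp
      | add x y hx hy => simp only [map_add, hx, hy]
      | tmul x y => simp
    rw [h3, h1, LinearMap.rTensor_tmul]
  -- elements with coefficients in the quotient
  let V₁ : Submodule k V := ⨅ f : Module.Dual k V, (Subalgebra.toSubmodule (ψ : C →ₐ[k] A).range).comap (cf (A := A) f)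
  have hmemV₁ : ∀ {v : V}, v ∈ V₁ ↔ ∀ f : Module.Dual k V, cf (A := A) f v ∈ (ψ : C →ₐ[k] A).range := by
    intro v
    simp [V₁]
  -- the quotient carries regular flags inside `A`
  have hflag : ∀ a ∈ (ψ : C →ₐ[k] A).range, HasFlag k A (fun g => g = 1) a := by
    rintro _ ⟨c, rfl⟩
    obtain ⟨m, F, h0, hm, hst⟩ := hasFlag_of_isUnipotent hC c
    refine ⟨m, fun i => (F i).map (ψ : C →ₗ[k] A), by simp [h0], ⟨c, hm, rfl⟩, fun i => ⟨1, rfl, ?_⟩⟩
    rintro _ ⟨v, hv, rfl⟩ φ
    obtain ⟨g, rfl, hstep⟩ := hst i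
    refine ⟨_, hstep v hv (φ ∘ₗ (ψ : C →ₗ[k] A)), ?_⟩
    rw [map_sub, map_smul]
    congr 1
    · change ψ (TensorProduct.rid k C (LinearMap.lTensor _ _ (Coalgebra.comul (R := k) v))) = _
      change _ = TensorProduct.rid k A (φ.lTensor A (Coalgebra.comul (R := k) (ψ v)))
      rw [← CoalgHomClass.map_comp_comul_apply ψ v]
      induction Coalgebra.comul (R := k) v with
      | zero => simp
      | add p q hp hq => simp only [map_add, hp, hq]
      | tmul p q => simp [map_smul]
    · simp
  have hsub : HopfRep.IsSubcomod (k := k) (A := A) (Subalgebra.toSubmodule (ψ : C →ₐ[k] A).range) := by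
    intro a ha
    obtain ⟨z, hz⟩ := (isHopfSubalgebra_range ψ).1 a ha
    rw [← LinearMap.rTensor_comp_lTensor] at hz
    exact ⟨_, hz⟩
  have hV₁ : HopfRep.IsSubcomod (k := k) (A := A) V₁ := isSubcomod_iff.2 fun φ v hv => hmemV₁.2 fun f => by
    rw [fAct_comm_of_isComodHom (isComodHom_cf f) φ v]
    exact fAct_mem_of_isSubcomod hsub φ (hmemV₁.1 hv f)
  obtain ⟨M, hMle, hM⟩ := exists_simple_subcomod (k := k) (A := A) (W := toSub hV₁) (fun h => by
    have : w ∈ toSub hV₁ := hmemV₁.2 hw'
    rw [h] at this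
    exact hw0 ((Submodule.mem_bot _).1 this))
  haveI := IsSimpleModule.nontrivial (Dl k A) M
  obtain ⟨⟨v, hv⟩, hv0'⟩ := exists_ne (0 : M)
  have hv0 : v ≠ 0 := fun h => hv0' (Subtype.ext h)
  obtain ⟨f, hf⟩ : ∃ f : Module.Dual k V, f v ≠ 0 := by
    by_contra! h0
    exact hv0 ((Module.forall_dual_apply_eq_zero_iff k v).1 h0)
  let c : V →ₗ[k] A := cf f
  have hcv : c v ≠ 0 := fun h0 => hf (by
    have := apply_cf (A := A) Coalgebra.counit f v
    rw [show cf f v = c v from rfl, h0, map_zero, fAct_counit] at this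
    exact this.symm)
  have hinj : ∀ x ∈ M, c x = 0 → x = 0 := by
    intro x hx hcx
    by_contra hx0
    let K' : Submodule (Dl k A) M :=
      { carrier := {y | c (y : V) = 0}
        add_mem' := fun {a b} ha hb => by
          change c ((a : V) + b) = 0
          rw [map_add, ha, hb, add_zero]
        zero_mem' := map_zero c
        smul_mem' := fun r y hy => by
          change c (fAct V r.fn (y : V)) = 0
          have hy' : c (y : V) = 0 := hy
          rw [fAct_comm_of_isComodHom (isComodHom_cf f) r.fn (y : V)]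
          change fAct A r.fn (c (y : V)) = 0
          rw [hy', map_zero] }
    rcases IsSimpleOrder.eq_bot_or_eq_top K' with h | h
    · have : (⟨x, hx⟩ : M) ∈ K' := hcx
      rw [h, Submodule.mem_bot] at this
      exact hx0 (congrArg Subtype.val this)
    · have : (⟨v, hv⟩ : M) ∈ K' := h ▸ Submodule.mem_top
      exact hcv this
  obtain ⟨m, F, h0, hm, hst⟩ := hflag (c v) (hmemV₁.1 (hMle hv) f)
  have hex : ∃ i, ∃ s ∈ M, s ≠ 0 ∧ c s ∈ F i := ⟨m, v, hv, hv0, hm⟩
  obtain ⟨s, hsM, hs0, hsmem⟩ := Nat.find_spec hex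
  cases hi : Nat.find hex with
  | zero =>
    rw [hi, h0, Submodule.mem_bot] at hsmem
    exact absurd (hinj s hsM hsmem) hs0
  | succ j =>
    rw [hi] at hsmem
    obtain ⟨g, rfl, hstep⟩ := hst j
    intro hbot
    refine hs0 ?_
    have hmem : s ∈ HopfRep.fixedPts k A V := mem_fixedPts_iff_fAct.2 fun φ => by
      by_contra hne'
      refine Nat.find_min hex (m := j) (by omega)
        ⟨fAct V φ s - φ 1 • s, sub_mem (M.smul_mem (Dl.of φ) hsM)
          ((M.restrictScalars k).smul_mem _ hsM), sub_ne_zero.2 hne', ?_⟩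
      rw [map_sub, map_smul, fAct_comm_of_isComodHom (isComodHom_cf f)]
      exact hstep _ hsmem φ
    rwa [hbot, Submodule.mem_bot] at hmem

end Groth.L25.UnipExt
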