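import Groth.Agent.L25.TrivLocus

/-!
# Base change of groups of multiplicative type
-/

set_option autoImplicit false
universe u

open CategoryTheory CategoryTheory.Limits MonoidalCategory CartesianMonoidalCategory MonObj GrpObj
open AlgebraicGeometry

set_option backward.isDefEq.respectTransparency.types false

namespace Groth.L25.MultTypeBC

variable {S T S' : Scheme.{u}}

/-- the covering condition of the fpqc topology is stable under base change -/
theorem exists_compact_image (f : S' ⟶ S)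
    (hqc : ∀ V : S.Opens, IsAffineOpen V → ∃ W : S'.Opens, IsCompact (W : Set S') ∧ f.base '' (W : Set S') = (V : Set S))
    (g : T ⟶ S) (V' : T.Opens) (hV' : IsAffineOpen V') :
    ∃ W' : (pullback g f).Opens, IsCompact (W' : Set (pullback g f : Scheme.{u})) ∧
      (pullback.fst g f).base '' (W' : Set (pullback g f : Scheme.{u})) = (V' : Set T) := by
  have key : ∀ x : V', ∃ (D : T.Opens) (W : (pullback g f).Opens), x.1 ∈ D ∧ D ≤ V' ∧
      IsCompact (W : Set (pullback g f : Scheme.{u})) ∧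
      (pullback.fst g f).base '' (W : Set (pullback g f : Scheme.{u})) = (D : Set T) := by
    intro x
    obtain ⟨_, ⟨V₀, hV₀, rfl⟩, hgV, -⟩ := S.isBasis_affineOpens.exists_subset_of_mem_open
      (Set.mem_univ (g x.1)) isOpen_univ
    let V : S.Opens := V₀
    obtain ⟨_, ⟨D₀, hD₀, rfl⟩, hxD, hD⟩ := T.isBasis_affineOpens.exists_subset_of_mem_open
      (show x.1 ∈ V' ⊓ g ⁻¹ᵁ V from ⟨x.2, hgV⟩) (V' ⊓ g ⁻¹ᵁ V).2
    let D : T.Opens := D₀
    obtain ⟨W, hW, hWV⟩ := hqc V hV₀
    have hWle : W ≤ f ⁻¹ᵁ V := fun z hz => by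
      show f z ∈ (V : Set S)
      rw [← hWV]; exact ⟨z, hz, rfl⟩
    let q := f.resLE V W hWle
    let r := g.resLE V D (fun z hz => (hD hz).2)
    have : CompactSpace W := isCompact_iff_compactSpace.mp hW
    have : IsAffine V.toScheme := hV₀
    have : CompactSpace D := isCompact_iff_compactSpace.mp hD₀.isCompact
    have hsurj : Surjective q := ⟨fun a => by
      obtain ⟨z, hz, e⟩ := hWV.ge a.2
      refine ⟨⟨z, hz⟩, Subtype.ext ?_⟩
      change (q ≫ V.ι) ⟨z, hz⟩ = a.1
      rw [Scheme.Hom.resLE_comp_ι]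
      exact e⟩
    have : QuasiCompact q := inferInstance
    let P := pullback r q
    have : CompactSpace P := QuasiCompact.compactSpace_of_compactSpace (pullback.fst r q)
    let m : P ⟶ pullback g f := pullback.map r q g f D.ι W.ι V.ι
      (Scheme.Hom.resLE_comp_ι _ _) (Scheme.Hom.resLE_comp_ι _ _)
    refine ⟨D, m.opensRange, hxD, fun z hz => (hD hz).1, isCompact_range m.continuous, ?_⟩
    have hm : m ≫ pullback.fst g f = pullback.fst r q ≫ D.ι := pullback.lift_fst _ _ _
    ext z
    constructor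
    · rintro ⟨_, ⟨w, rfl⟩, rfl⟩
      rw [← Scheme.Hom.comp_apply, hm]
      exact (pullback.fst r q w).2
    · intro hz
      have : Surjective (pullback.fst r q) := MorphismProperty.pullback_fst _ _ hsurj
      obtain ⟨w, hw⟩ := (pullback.fst r q).surjective ⟨z, hz⟩
      refine ⟨m w, ⟨w, rfl⟩, ?_⟩
      rw [← Scheme.Hom.comp_apply, hm, Scheme.Hom.comp_apply, hw]
      rfl
  choose D W hxD hDV hW himg using key
  obtain ⟨t, ht⟩ := hV'.isCompact.elim_finite_subcover (fun x : V' => (D x : Set T)) (fun x => (D x).2)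
    (fun z hz => Set.mem_iUnion.2 ⟨⟨z, hz⟩, hxD ⟨z, hz⟩⟩)
  refine ⟨⨆ x ∈ t, W x, ?_, ?_⟩
  · simp only [TopologicalSpace.Opens.coe_iSup]
    exact t.isCompact_biUnion fun x _ => hW x
  · simp only [TopologicalSpace.Opens.coe_iSup, Set.image_iUnion, himg]
    exact (Set.iUnion₂_subset fun x _ => hDV x).antisymm ht

/-- groups of multiplicative type and finite type are stable under base change -/
theorem isMultTypeFT_bc {H : Over S} [GrpObj H] (hH : SGA3x.IsMultTypeFT H) (g : T ⟶ S) :
    SGA3x.IsMultTypeFT (Red.bc g H) := by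
  obtain ⟨S', f, hflat, hsurj, hqc, hloc⟩ := hH
  refine ⟨pullback g f, pullback.fst g f, inferInstance, inferInstance,
    fun V hV => exists_compact_image f hqc g V hV, fun x => ?_⟩
  obtain ⟨U, hU, M, instM, hfg, ⟨e⟩⟩ := hloc (pullback.snd g f x)
  letI := instM
  let U' := pullback.snd g f ⁻¹ᵁ U
  refine ⟨U', hU, M, instM, hfg, ⟨?_⟩⟩
  refine Grp.mkIso' (ActBC.bcCompIso (U'.ι ≫ pullback.fst g f) g H rfl) ≪≫
    TrivLocus.restrictIso (U.ι ≫ f) (pullback.snd g f ∣_ U) e ?_
  rw [morphismRestrict_ι_assoc, Category.assoc, pullback.condition]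

end Groth.L25.MultTypeBC
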