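import Groth.Agent.L25.MultTypeBC
import Groth.Agent.L23.AffineMor

/-!
# Normal subgroups of multiplicative type are central when the fibres are connected
-/

set_option autoImplicit false
universe u

open CategoryTheory CategoryTheory.Limits MonoidalCategory CartesianMonoidalCategory MonObj GrpObj
open AlgebraicGeometry

set_option backward.isDefEq.respectTransparency.types false

noncomputable section

namespace Groth.L25.Central

variable {S : Scheme.{u}}

theorem isAffineHom_of_multTypeFT {H : Over S} [GrpObj H] (hH : SGA3x.IsMultTypeFT H) :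
    IsAffineHom H.hom := by
  obtain ⟨S', f, hflat, hsurj, hqc, hloc⟩ := hH
  refine FpqcLocal.of_fpqc (P := @IsAffineHom) H.hom (𝟙 S) f hqc fun s => ?_
  obtain ⟨W, hsW, M, instM, hfg, ⟨e⟩⟩ := hloc s
  refine ⟨W, hsW, FpqcLocal.bc_comp H.hom (pullback.snd (𝟙 S) (W.ι ≫ f)) (W.ι ≫ f) _
    (by rw [← pullback.condition, Category.comp_id]) ?_⟩
  have : IsIso e.hom.hom.hom :=
    ⟨e.inv.hom.hom, congr($(e.hom_inv_id).hom.hom), congr($(e.inv_hom_id).hom.hom)⟩
  have : IsIso e.hom.hom.hom.left := inferInstanceAs (IsIso ((Over.forget _).map e.hom.hom.hom))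
  have h1 : IsAffineHom (Red.diag (ULift.{u} ℤ) M).hom := by
    show IsAffineHom (Spec.map (CommRingCat.ofHom
      (algebraMap (ULift.{u} ℤ) (MonoidAlgebra (ULift.{u} ℤ) (Multiplicative M)))))
    infer_instance
  have h2 : IsAffineHom (Red.DS W.toScheme M).hom := MorphismProperty.pullback_snd _ _ h1
  show IsAffineHom (Red.bc (W.ι ≫ f) H).hom
  rw [← Over.w e.hom.hom.hom]
  infer_instance

theorem mul_comm_of_multTypeFT {H : Over S} [GrpObj H] (hH : SGA3x.IsMultTypeFT H) {Y : Over S}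
    (a b : Y ⟶ H) : a * b = b * a := by
  obtain ⟨S', f, hflat, hsurj, -, hloc⟩ := hH
  apply Over.OverMorphism.ext
  have : Epi (pullback.fst Y.hom f) := Flat.epi_of_flat_of_surjective _
  rw [← cancel_epi (pullback.fst Y.hom f)]
  choose W hsW M inst hfg hne using hloc
  let c := pullback.snd Y.hom f
  refine ((pullback Y.hom f).openCoverOfIsOpenCover (fun s => c ⁻¹ᵁ W s) (TopologicalSpace.IsOpenCover.mk
    (top_le_iff.1 fun z _ => TopologicalSpace.Opens.mem_iSup.2 ⟨c z, hsW (c z)⟩))).hom_ext _ _ fun s => ?_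
  obtain ⟨es⟩ := hne s
  letI := inst s
  let j := (W s).ι ≫ f
  let Y₁ : Over (W s).toScheme := Over.mk (c ∣_ W s)
  let p : Over.mk (Y₁.hom ≫ j) ⟶ Y := Over.homMk ((c ⁻¹ᵁ W s).ι ≫ pullback.fst Y.hom f) (by
    show ((c ⁻¹ᵁ W s).ι ≫ pullback.fst Y.hom f) ≫ Y.hom = (c ∣_ W s) ≫ (W s).ι ≫ f
    rw [morphismRestrict_ι_assoc, Category.assoc, pullback.condition])
  have h2 : es.hom.hom.hom ≫ es.inv.hom.hom = 𝟙 _ := congr($(es.hom_inv_id).hom.hom)
  have hm : IsMonHom es.hom.hom.hom := es.hom.hom.isMonHom_hom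
  let a' := NilAction.ofBase j (p ≫ a)
  let b' := NilAction.ofBase j (p ≫ b)
  have key : a' * b' = b' * a' := by
    have h3 : (a' * b') ≫ es.hom.hom.hom = (b' * a') ≫ es.hom.hom.hom := by
      rw [@MonObj.mul_comp _ _ _ _ _ _ _ _ _ _ es.hom.hom.hom hm,
        @MonObj.mul_comp _ _ _ _ _ _ _ _ _ _ es.hom.hom.hom hm]
      apply DSPts.char_injective
      refine MonoidHom.ext fun m => ?_
      rw [DSPts.char_mul, DSPts.char_mul]
      exact mul_comm _ _
    have h4 := congrArg (fun z => z ≫ es.inv.hom.hom) h3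
    simp only [Category.assoc, h2] at h4
    exact ((Category.comp_id _).symm.trans h4).trans (Category.comp_id _)
  have h5 : p ≫ (a * b) = p ≫ (b * a) := by
    rw [MonObj.comp_mul, MonObj.comp_mul, ← NilAction.toBase_ofBase j (p ≫ a),
      ← NilAction.toBase_ofBase j (p ≫ b), ← NilAction.toBase_mul, ← NilAction.toBase_mul]
    exact congrArg (NilAction.toBase j) key
  have h6 := congrArg (fun m => m.left) h5
  simp [p] at h6 ⊢
  exact h6

section Normal

variable {K H : Over S} [GrpObj K] [GrpObj H] (i : H ⟶ K) [IsMonHom i]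

abbrev Y₀ : Over S := Over.mk ((Red.bc K.hom H).hom ≫ K.hom)

/-- the universal conjugate -/
def k₀ : Y₀ (K := K) (H := H) ⟶ K := Over.homMk (Red.bc K.hom H).hom rfl

def h₀ : Y₀ (K := K) (H := H) ⟶ H := NilAction.toBase K.hom (𝟙 _)

variable (n : Y₀ (K := K) (H := H) ⟶ H)

/-- conjugation divided by the identity -/
def defect : Red.bc K.hom H ⟶ Red.bc K.hom H := NilAction.ofBase K.hom (n * h₀⁻¹)

/-- tautological point of `K` -/
def kT (Y : Over K.left) : Over.mk (Y.hom ≫ K.hom) ⟶ K := Over.homMk Y.hom rfl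

theorem toBase_defect (hn : k₀ * (h₀ ≫ i) * k₀⁻¹ = n ≫ i) {Y : Over K.left} (a : Y ⟶ Red.bc K.hom H) :
    NilAction.toBase K.hom (a ≫ defect n) ≫ i =
      kT Y * (NilAction.toBase K.hom a ≫ i) * (kT Y)⁻¹ * (NilAction.toBase K.hom a ≫ i)⁻¹ := by
  let c : Over.mk (Y.hom ≫ K.hom) ⟶ Y₀ (K := K) (H := H) := Over.homMk a.left (by
    show a.left ≫ (Red.bc K.hom H).hom ≫ K.hom = Y.hom ≫ K.hom
    rw [← Category.assoc, Over.w a])
  have h1 : c ≫ k₀ = kT Y := Over.OverMorphism.ext (Over.w a)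
  have h2 : c ≫ h₀ = NilAction.toBase K.hom a := by
    apply Over.OverMorphism.ext
    simp [c, h₀, NilAction.toBase]
  have h3 : NilAction.toBase K.hom (a ≫ defect n) = c ≫ (n * h₀⁻¹) := by
    conv_rhs => rw [← NilAction.toBase_ofBase K.hom (n * h₀⁻¹)]
    apply Over.OverMorphism.ext
    simp [c, defect, NilAction.toBase]
  rw [h3, MonObj.comp_mul, MonObj.mul_comp, Category.assoc c n i, ← hn, GrpObj.comp_inv, GrpObj.inv_comp, h2]
  simp only [MonObj.comp_mul, GrpObj.comp_inv, ← Category.assoc, h1, h2]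

theorem isMonHom_defect [Mono i] (hn : k₀ * (h₀ ≫ i) * k₀⁻¹ = n ≫ i)
    (hH : SGA3x.IsMultTypeFT H) : IsMonHom (defect n) := by
  have inj : ∀ {Y : Over K.left} (x y : Y ⟶ Red.bc K.hom H),
      NilAction.toBase K.hom x ≫ i = NilAction.toBase K.hom y ≫ i → x = y := fun x y h => by
    rw [← NilAction.ofBase_toBase K.hom x, (cancel_mono i).1 h, NilAction.ofBase_toBase]
  have hmul : ∀ {Y : Over K.left} (x y : Y ⟶ Red.bc K.hom H),
      (x * y) ≫ defect n = (x ≫ defect n) * (y ≫ defect n) := fun {Y} x y => by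
    apply inj
    rw [toBase_defect i n hn, NilAction.toBase_mul, NilAction.toBase_mul, MonObj.mul_comp, MonObj.mul_comp,
      toBase_defect i n hn, toBase_defect i n hn]
    set k := kT Y
    set X := NilAction.toBase K.hom x ≫ i
    set Z := NilAction.toBase K.hom y ≫ i
    have hXY : k * Z * k⁻¹ * Z⁻¹ * X⁻¹ = X⁻¹ * (k * Z * k⁻¹ * Z⁻¹) := by
      rw [← toBase_defect i n hn, show X⁻¹ = (NilAction.toBase K.hom x)⁻¹ ≫ i from (GrpObj.inv_comp _ _).symm,
        ← MonObj.mul_comp, ← MonObj.mul_comp, mul_comm_of_multTypeFT hH]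
    calc k * (X * Z) * k⁻¹ * (X * Z)⁻¹ = k * X * k⁻¹ * (k * Z * k⁻¹ * Z⁻¹ * X⁻¹) := by group
      _ = k * X * k⁻¹ * (X⁻¹ * (k * Z * k⁻¹ * Z⁻¹)) := by rw [hXY]
      _ = k * X * k⁻¹ * X⁻¹ * (k * Z * k⁻¹ * Z⁻¹) := by group
  refine ⟨?_, ?_⟩
  · have h1 : (η[Red.bc K.hom H] : 𝟙_ (Over K.left) ⟶ _) = 1 := by
      rw [Hom.one_def, toUnit_unique (toUnit _) (𝟙 _), Category.id_comp]
    have h2 := hmul (1 : 𝟙_ (Over K.left) ⟶ Red.bc K.hom H) 1
    rw [_root_.one_mul] at h2
    rw [h1]
    exact left_eq_mul.1 h2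
  · rw [MonObj.mul_eq_mul, hmul, MonObj.comp_mul, tensorHom_fst, tensorHom_snd]

theorem defect_eq_one [Mono i] (hn : k₀ * (h₀ ≫ i) * k₀⁻¹ = n ≫ i) (hH : SGA3x.IsMultTypeFT H)
    (hconn : ∀ s : S, ConnectedSpace ↥(pullback K.hom (S.fromSpecResidueField s))) :
    defect n = 1 := by
  let T := K.left
  let H' := Red.bc K.hom H
  have hH' : SGA3x.IsMultTypeFT H' := MultTypeBC.isMultTypeFT_bc hH K.hom
  have := isMonHom_defect i n hn hH
  have : IsAffineHom H.hom := isAffineHom_of_multTypeFT hH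
  have : IsAffineHom H'.hom := MorphismProperty.pullback_snd _ _ this
  have : LocallyOfFiniteType H.hom := TrivLocus.lft_of_multTypeFT hH
  have : LocallyOfFiniteType H'.hom := MorphismProperty.pullback_snd _ _ this
  have hcl := TrivLocus.isClosedImmersion_one (G := H')
  have hlfp := TrivLocus.lfp_one (G := H')
  have : LocallyOfFinitePresentation (TrivLocus.kerι (defect n)) := MorphismProperty.pullback_fst _ _ hlfp
  obtain ⟨U, hUcl, hU, hUtriv⟩ := TrivLocus.main_of_kernel hH' (defect n)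
  -- the unit section lies in the locus
  let e : S ⟶ T := η[K].left
  have he : e ≫ K.hom = 𝟙 S := GrpBasics.unit_comp_hom K
  have htriv : TrivLocus.Triv (defect n) e := by
    intro Y p g
    have hk : kT Y = 1 := by
      apply Over.OverMorphism.ext
      show Y.hom = _
      rw [MonoFibres.one_left, ← Over.w p]
      show p.left ≫ e = ((p.left ≫ e) ≫ K.hom) ≫ e
      rw [Category.assoc, Category.assoc, reassoc_of% he]
    have h1 : NilAction.toBase K.hom (g ≫ defect n) ≫ i = 1 := by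
      rw [toBase_defect i n hn, hk, _root_.one_mul, inv_one, _root_.mul_one, mul_inv_cancel]
    rw [← NilAction.ofBase_toBase K.hom (g ≫ defect n)]
    rw [show NilAction.toBase K.hom (g ≫ defect n) = 1 from (cancel_mono i).1 (h1.trans (MonObj.one_comp i).symm),
      ← NilAction.toBase_one K.hom (Y := Y), NilAction.ofBase_toBase]
  have htop : U = ⊤ := by
    refine top_le_iff.1 fun x _ => ?_
    let s := K.hom x
    let F := pullback K.hom (S.fromSpecResidueField s)
    have := hconn s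
    let π : F ⟶ T := pullback.fst _ _
    have hcl' : IsClopen (π ⁻¹' (U : Set T)) := ⟨hUcl.preimage π.continuous, U.2.preimage π.continuous⟩
    obtain ⟨z₀, hz₀⟩ : ∃ z : F, π z = e s := by
      refine Scheme.Pullback.exists_preimage_pullback (e s) (IsLocalRing.closedPoint (S.residueField s)) ?_ |>.imp
        fun z h => h.1
      rw [Scheme.fromSpecResidueField_apply, ← Scheme.Hom.comp_apply, he]
      rfl
    obtain ⟨z, hz⟩ : ∃ z : F, π z = x := by
      refine Scheme.Pullback.exists_preimage_pullback x (IsLocalRing.closedPoint (S.residueField s)) ?_ |>.imp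
        fun z h => h.1
      rw [Scheme.fromSpecResidueField_apply]
    have hmem : π z₀ ∈ U := by
      rw [hz₀, hU, ← TrivLocus.triv_iff_map]
      have h := TrivLocus.triv_field_iff (defect n) (S.fromSpecResidueField s ≫ e)
      erw [Scheme.Hom.comp_apply, Scheme.fromSpecResidueField_apply] at h
      exact h.1 (htriv.comp _ _ rfl)
    rcases isClopen_iff.1 hcl' with h | h
    · exact absurd (show z₀ ∈ π ⁻¹' (U : Set T) from hmem) (by simp [h])
    · rw [← hz]
      exact h.ge (Set.mem_univ z)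
  subst htop
  rw [← TrivLocus.triv_iff_map] at hUtriv
  have h2 := hUtriv.comp (defect n) T.topIso.inv (T.topIso.inv_hom_id)
  exact (Category.id_comp _).symm.trans
    (h2 H' (Over.homMk H'.hom (Category.comp_id _)) (𝟙 H'))

theorem central [Mono i] (hnorm : AlgGrp.IsNormalHom i) (hH : SGA3x.IsMultTypeFT H)
    (hconn : ∀ s : S, ConnectedSpace ↥(pullback K.hom (S.fromSpecResidueField s)))
    (X : Over S) (k : X ⟶ K) (h : X ⟶ H) : k * (h ≫ i) = (h ≫ i) * k := by
  obtain ⟨n, hn⟩ := hnorm _ (k₀ (K := K) (H := H)) h₀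
  have h1 := defect_eq_one i n hn hH hconn
  let Y : Over K.left := Over.mk k.left
  let c : Over.mk (Y.hom ≫ K.hom) ⟶ X := Over.homMk (𝟙 X.left) (by
    show 𝟙 X.left ≫ X.hom = k.left ≫ K.hom
    rw [Category.id_comp, Over.w k])
  have hc : IsIso c := by
    have : IsIso c.left := inferInstanceAs (IsIso (𝟙 X.left))
    have : IsIso ((Over.forget S).map c) := this
    exact isIso_of_reflects_iso c (Over.forget S)
  have h2 := toBase_defect i n hn (NilAction.ofBase K.hom (c ≫ h))
  rw [h1, MonObj.comp_one, NilAction.toBase_one, MonObj.one_comp, NilAction.toBase_ofBase] at h2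
  have hk : kT Y = c ≫ k := Over.OverMorphism.ext (Category.id_comp k.left).symm
  rw [hk, eq_comm, mul_inv_eq_one, mul_inv_eq_iff_eq_mul, Category.assoc] at h2
  rw [← MonObj.comp_mul, ← MonObj.comp_mul] at h2
  exact (cancel_epi c).1 h2

end Normal

end Groth.L25.Central
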