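import Mathlib.AlgebraicGeometry.Morphisms.FlatDescent
import Mathlib.AlgebraicGeometry.Morphisms.QuasiSeparated

/-!
# Properties of morphisms checked fpqc locally on a base scheme
-/

set_option autoImplicit false
universe u

open CategoryTheory CategoryTheory.Limits AlgebraicGeometry

set_option backward.isDefEq.respectTransparency.types false

namespace Groth.L25.FpqcLocal

variable {P : MorphismProperty Scheme.{u}} [P.IsStableUnderBaseChange] {A B : Scheme.{u}} (h : A ⟶ B)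

/-- base change of a base change -/
theorem bc_comp {T T' : Scheme.{u}} (c : T' ⟶ T) (g : T ⟶ B) (g' : T' ⟶ B) (hc : c ≫ g = g')
    (hP : P (pullback.snd h g)) : P (pullback.snd h g') := by
  subst hc
  exact P.of_isPullback (IsPullback.of_right' (IsPullback.of_hasPullback h (c ≫ g))
    (IsPullback.of_hasPullback h g)) hP

variable {S : Scheme.{u}} (pB : B ⟶ S)

/-- A property descending along quasi-compact flat surjections holds if it does fpqc locally on the
base. -/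
theorem of_fpqc [IsZariskiLocalAtTarget P] [P.DescendsAlong (@Surjective ⊓ @Flat ⊓ @QuasiCompact)]
    {S' : Scheme.{u}} (f : S' ⟶ S) [Flat f]
    (hf : ∀ V : S.Opens, IsAffineOpen V → ∃ W : S'.Opens, IsCompact (W : Set S') ∧ f.base '' (W : Set S') = (V : Set S))
    (hloc : ∀ s' : S', ∃ U : S'.Opens, s' ∈ U ∧ P (pullback.snd h (pullback.fst pB (U.ι ≫ f)))) : P h := by
  refine IsZariskiLocalAtTarget.of_iSup_eq_top (fun V : S.affineOpens => pB ⁻¹ᵁ V.1) ?_ fun V => ?_
  · exact top_le_iff.1 fun z _ => by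
      obtain ⟨_, ⟨V, hV, rfl⟩, hzV, -⟩ := S.isBasis_affineOpens.exists_subset_of_mem_open
        (Set.mem_univ (pB z)) isOpen_univ
      exact TopologicalSpace.Opens.mem_iSup.2 ⟨⟨V, hV⟩, hzV⟩
  obtain ⟨V, hV⟩ := V
  obtain ⟨W, hW, hWV⟩ := hf V hV
  have hWle : W ≤ f ⁻¹ᵁ V := fun z hz => by
    show f z ∈ (V : Set S)
    rw [← hWV]; exact ⟨z, hz, rfl⟩
  let q := f.resLE V W hWle
  have : CompactSpace W := isCompact_iff_compactSpace.mp hW
  have : IsAffine V.toScheme := hV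
  have : Flat q := by
    have : Flat (q ≫ V.ι) := by rw [Scheme.Hom.resLE_comp_ι]; infer_instance
    exact MorphismProperty.of_postcomp (W := @Flat) (W' := @IsOpenImmersion) q V.ι inferInstance this
  have : Surjective q := ⟨fun a => by
    obtain ⟨z, hz, e⟩ := hWV.ge a.2
    refine ⟨⟨z, hz⟩, Subtype.ext ?_⟩
    change (q ≫ V.ι) ⟨z, hz⟩ = a.1
    rw [Scheme.Hom.resLE_comp_ι]
    exact e⟩
  have : QuasiCompact q := inferInstance
  -- the base change of `q`
  let BV := pullback (pB ∣_ V) q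
  let g := pullback.fst (pB ∣_ V) q
  have hQ : (@Surjective ⊓ @Flat ⊓ @QuasiCompact : MorphismProperty Scheme.{u}) g :=
    ⟨⟨MorphismProperty.pullback_fst _ _ ‹_›, MorphismProperty.pullback_fst _ _ ‹_›⟩,
      MorphismProperty.pullback_fst _ _ ‹_›⟩
  have key : P (pullback.snd h (g ≫ (pB ⁻¹ᵁ V).ι)) := by
    choose U hU hPU using hloc
    refine IsZariskiLocalAtTarget.of_iSup_eq_top
      (fun s' : S' => (pullback.snd (pB ∣_ V) q ≫ W.ι) ⁻¹ᵁ U s') ?_ fun s' => ?_
    · exact top_le_iff.1 fun z _ => TopologicalSpace.Opens.mem_iSup.2 ⟨_, hU _⟩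
    · let D := (pullback.snd (pB ∣_ V) q ≫ W.ι) ⁻¹ᵁ U s'
      have hsq := (isPullback_morphismRestrict (pullback.snd h (g ≫ (pB ⁻¹ᵁ V).ι)) D).flip.paste_horiz
        (IsPullback.of_hasPullback h (g ≫ (pB ⁻¹ᵁ V).ι))
      have hw : ((D.ι ≫ g ≫ (pB ⁻¹ᵁ V).ι) ≫ pB) =
          ((pullback.snd (pB ∣_ V) q ≫ W.ι) ∣_ U s') ≫ (U s').ι ≫ f := by
        rw [morphismRestrict_ι_assoc, Category.assoc, Category.assoc, Category.assoc,
          ← morphismRestrict_ι, pullback.condition_assoc, Scheme.Hom.resLE_comp_ι]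
      let c : D.toScheme ⟶ pullback pB ((U s').ι ≫ f) :=
        pullback.lift (D.ι ≫ g ≫ (pB ⁻¹ᵁ V).ι) ((pullback.snd (pB ∣_ V) q ≫ W.ι) ∣_ U s') hw
      have hc : P (pullback.snd h (D.ι ≫ g ≫ (pB ⁻¹ᵁ V).ι)) :=
        bc_comp h c _ _ (pullback.lift_fst _ _ _) (hPU s')
      exact (P.arrow_mk_iso_iff (Arrow.isoMk hsq.isoPullback (Iso.refl _)
        (hsq.isoPullback_hom_snd.trans (Category.comp_id _).symm))).2 hc
  have hsq : IsPullback
      ((isPullback_morphismRestrict h (pB ⁻¹ᵁ V)).flip.lift (pullback.fst h (g ≫ (pB ⁻¹ᵁ V).ι))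
        (pullback.snd h (g ≫ (pB ⁻¹ᵁ V).ι) ≫ g) (by rw [Category.assoc]; exact pullback.condition))
      (pullback.snd h (g ≫ (pB ⁻¹ᵁ V).ι)) (h ∣_ (pB ⁻¹ᵁ V)) g :=
    IsPullback.of_right' (IsPullback.of_hasPullback h (g ≫ (pB ⁻¹ᵁ V).ι))
      (isPullback_morphismRestrict h (pB ⁻¹ᵁ V)).flip
  exact MorphismProperty.DescendsAlong.of_isPullback hsq.flip hQ key

end Groth.L25.FpqcLocal
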