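import Groth.Agent.L25.ActCoeff
import Mathlib.GroupTheory.QuotientGroup.Basic
import Mathlib.RingTheory.Ideal.Maximal
import Mathlib.RingTheory.Adjoin.Basic

/-!
# Free actions of diagonalisable groups on affine schemes: every weight generates the unit ideal
-/

set_option autoImplicit false
universe u

namespace Groth.L25.ActCoeff

variable {R B : Type u} [CommRing R] [CommRing B] [Algebra R B] {M : Type} [CommGroup M]
variable (A : Act R B M)

theorem φ_coeff (b : B) (m : M) :
    φ A ((φ A b).coeff m) = MonoidAlgebra.single m ((φ A b).coeff m) := by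
  classical
  refine MonoidAlgebra.ext (Finsupp.ext fun n => ?_)
  rw [MonoidAlgebra.coeff_single, Finsupp.single_apply, coeff_coeff]

theorem sum_coeff_eq (b : B) : (φ A b).coeff.sum (fun _ x => x) = b := by
  have h := AlgHom.congr_fun (A.one B (AlgHom.id R B)) b
  rw [sm_eq, AlgHom.comp_apply] at h
  conv_rhs => rw [show b = AlgHom.id R B b from rfl, ← h]
  generalize φ A b = y
  induction y using MonoidAlgebra.induction_linear with
  | zero => simp
  | add p q hp hq =>
    rw [map_add, ← hp, ← hq, MonoidAlgebra.coeff_add,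
      Finsupp.sum_add_index' (fun _ => rfl) (fun _ _ _ => rfl)]
  | single m r => simp [MonoidAlgebra.coeff_single, ev_single]

/-- weights not vanishing at a point -/
def weights {K : Type u} [CommRing K] [Algebra R K] (x : B →ₐ[R] K) : Set M :=
  {m | ∃ b, x ((φ A b).coeff m) ≠ 0}

theorem one_mem_weights {K : Type u} [CommRing K] [Nontrivial K] [Algebra R K] (x : B →ₐ[R] K) :
    (1 : M) ∈ weights A x := by
  classical
  refine ⟨1, ?_⟩
  rw [map_one (φ A), MonoidAlgebra.one_def, MonoidAlgebra.coeff_single, Finsupp.single_eq_same, map_one x]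
  exact one_ne_zero

theorem mul_mem_weights {K : Type u} [CommRing K] [IsDomain K] [Algebra R K] (x : B →ₐ[R] K) {m n : M}
    (hm : m ∈ weights A x) (hn : n ∈ weights A x) : m * n ∈ weights A x := by
  classical
  obtain ⟨b, hb⟩ := hm
  obtain ⟨c, hc⟩ := hn
  refine ⟨(φ A b).coeff m * (φ A c).coeff n, ?_⟩
  rw [map_mul (φ A), φ_coeff, φ_coeff, MonoidAlgebra.single_mul_single, MonoidAlgebra.coeff_single,
    Finsupp.single_eq_same, map_mul x]
  exact mul_ne_zero hb hc

/-- For a free action the weight `m` part generates the unit ideal. -/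
theorem exists_sum_eq_one
    (hfree : ∀ (C : Type u) [CommRing C] [Algebra R C] (χ : M →* C) (β : B →ₐ[R] C),
      A.sm C χ β = β → χ = 1) (m : M) :
    (1 : B) ∈ Ideal.span (Set.range fun b => (φ A b).coeff m) := by
  classical
  by_contra hne
  obtain ⟨P, hP, hle⟩ := Ideal.exists_le_maximal (Ideal.span (Set.range fun b => (φ A b).coeff m))
    (fun h => hne (by rw [h]; exact Submodule.mem_top))
  letI := Ideal.Quotient.field P
  let x : B →ₐ[R] B ⧸ P := Ideal.Quotient.mkₐ R P
  have hm : m ∉ weights A x := fun ⟨b, hb⟩ =>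
    hb (Ideal.Quotient.eq_zero_iff_mem.2 (hle (Ideal.subset_span ⟨b, rfl⟩)))
  let H : Subgroup M :=
    { carrier := {n | n ∈ weights A x ∧ n⁻¹ ∈ weights A x}
      mul_mem' := fun ha hb => ⟨mul_mem_weights A x ha.1 hb.1, by
        rw [mul_inv]; exact mul_mem_weights A x ha.2 hb.2⟩
      one_mem' := ⟨one_mem_weights A x, by rw [inv_one]; exact one_mem_weights A x⟩
      inv_mem' := fun ha => ⟨ha.2, by rw [inv_inv]; exact ha.1⟩ }
  let f : B →+ B ⧸ P :=
    { toFun := fun b => (φ A b).coeff.sum (fun n c => if n ∈ H then x c else 0)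
      map_zero' := by simp
      map_add' := fun b c => by
        rw [map_add, MonoidAlgebra.coeff_add, Finsupp.sum_add_index']
        · intro a; simp
        · intro a c d; split_ifs <;> simp }
  have fapply : ∀ b, f b = (φ A b).coeff.sum (fun n c => if n ∈ H then x c else 0) := fun b => rfl
  have fhom : ∀ b n, f ((φ A b).coeff n) = if n ∈ H then x ((φ A b).coeff n) else 0 := by
    intro b n
    rw [fapply, φ_coeff, MonoidAlgebra.coeff_single, Finsupp.sum_single_index]
    simp
  have fmul : ∀ b c, f (b * c) = f b * f c := by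
    intro b c
    conv_lhs => rw [← sum_coeff_eq A b, ← sum_coeff_eq A c]
    conv_rhs => rw [← sum_coeff_eq A b, ← sum_coeff_eq A c]
    simp only [Finsupp.sum, Finset.sum_mul, Finset.mul_sum, map_sum]
    refine Finset.sum_congr rfl fun q _ => Finset.sum_congr rfl fun p _ => ?_
    rw [fhom, fhom]
    have e : φ A ((φ A b).coeff p * (φ A c).coeff q) =
        MonoidAlgebra.single (p * q) ((φ A b).coeff p * (φ A c).coeff q) := by
      rw [map_mul, φ_coeff, φ_coeff, MonoidAlgebra.single_mul_single]
    rw [fapply, e, MonoidAlgebra.coeff_single, Finsupp.sum_single_index (by simp), map_mul]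
    by_cases hp0 : x ((φ A b).coeff p) = 0
    · simp [hp0]
    by_cases hq0 : x ((φ A c).coeff q) = 0
    · simp [hq0]
    have hp : p ∈ weights A x := ⟨b, hp0⟩
    have hq : q ∈ weights A x := ⟨c, hq0⟩
    by_cases hpq : p * q ∈ H
    · have h1 : p ∈ H := ⟨hp, by
        have := mul_mem_weights A x hq hpq.2
        rwa [show q * (p * q)⁻¹ = p⁻¹ by rw [mul_inv]; simp [mul_comm, mul_left_comm]] at this⟩
      have h2 : q ∈ H := (H.mul_mem_cancel_left h1).1 hpq
      simp [hpq, h1, h2]
    · have : p ∉ H ∨ q ∉ H := by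
        by_contra hcon
        push Not at hcon
        exact hpq (H.mul_mem hcon.1 hcon.2)
      rcases this with h | h <;> simp [hpq, h]
  have f1 : f 1 = 1 := by
    rw [fapply, map_one, MonoidAlgebra.one_def, MonoidAlgebra.coeff_single,
      Finsupp.sum_single_index (by simp), if_pos H.one_mem, map_one]
  have falg : ∀ r : R, f (algebraMap R B r) = algebraMap R (B ⧸ P) r := by
    intro r
    rw [fapply, AlgHom.commutes, MonoidAlgebra.coe_algebraMap, Function.comp_apply,
      MonoidAlgebra.coeff_single, Finsupp.sum_single_index (by simp), if_pos H.one_mem, x.commutes]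
  let x₀ : B →ₐ[R] B ⧸ P :=
    { toFun := f, map_one' := f1, map_mul' := fmul, map_zero' := f.map_zero,
      map_add' := f.map_add, commutes' := falg }
  let ι : B ⧸ P →ₐ[R] MonoidAlgebra (B ⧸ P) (M ⧸ H) := IsScalarTower.toAlgHom R (B ⧸ P) _
  let χ : M →* MonoidAlgebra (B ⧸ P) (M ⧸ H) :=
    (MonoidAlgebra.of (B ⧸ P) (M ⧸ H)).comp (QuotientGroup.mk' H)
  have hfix : A.sm _ χ (ι.comp x₀) = ι.comp x₀ := by
    refine AlgHom.ext fun b => ?_
    rw [sm_eq, AlgHom.comp_apply]
    conv_lhs => rw [eq_sum A b]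
    rw [Finsupp.sum, map_sum]
    have hb : (ι.comp x₀) b = ι (f b) := rfl
    rw [hb, fapply, Finsupp.sum, map_sum]
    refine Finset.sum_congr rfl fun n _ => ?_
    rw [ev_single]
    have hx0 : (ι.comp x₀) ((φ A b).coeff n) = ι (if n ∈ H then x ((φ A b).coeff n) else 0) :=
      congrArg ι (fhom b n)
    rw [hx0]
    split_ifs with h
    · have : χ n = 1 := by
        simp only [χ, MonoidHom.comp_apply, QuotientGroup.mk'_apply,
          (QuotientGroup.eq_one_iff n).2 h, map_one]
      rw [this, mul_one]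
    · simp
  have hχ := DFunLike.congr_fun (hfree _ χ (ι.comp x₀) hfix) m
  simp only [χ, MonoidHom.comp_apply, MonoidHom.one_apply] at hχ
  rw [← map_one (MonoidAlgebra.of (B ⧸ P) (M ⧸ H))] at hχ
  exact hm ((QuotientGroup.eq_one_iff m).1 (MonoidAlgebra.of_injective hχ)).1

/-- the graph map is surjective -/
theorem ev_single_mem
    (hfree : ∀ (C : Type u) [CommRing C] [Algebra R C] (χ : M →* C) (β : B →ₐ[R] C),
      A.sm C χ β = β → χ = 1)
    {C : Type u} [CommRing C] [Algebra R C] (χ : M →* C) (β : B →ₐ[R] C) (m : M) :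
    χ m ∈ Algebra.adjoin R (Set.range (A.sm C χ β) ∪ Set.range β) := by
  obtain ⟨l, hl⟩ := Finsupp.mem_span_range_iff_exists_finsupp.1 (exists_sum_eq_one A hfree m)
  have h : χ m = l.sum (fun b c => A.sm C χ β ((φ A b).coeff m) * β c) := by
    have h1 : χ m = β 1 * χ m := by rw [map_one, one_mul]
    rw [h1, ← hl, Finsupp.sum, map_sum, Finset.sum_mul]
    refine Finset.sum_congr rfl fun b _ => ?_
    simp only [sm_eq, AlgHom.comp_apply, φ_coeff, ev_single, smul_eq_mul, map_mul]
    ring
  rw [h]
  exact Subalgebra.sum_mem _ fun b _ => mul_mem (Algebra.subset_adjoin (Or.inl ⟨_, rfl⟩))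
    (Algebra.subset_adjoin (Or.inr ⟨_, rfl⟩))

end Groth.L25.ActCoeff
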