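import Groth.Agent.L25.NilAction
import Groth.Agent.L25.FreeCoeff
import Groth.Agent.L25.FpqcLocal
import Groth.Agent.L25.Actions
import Groth.Agent.L23.Descent
import Mathlib.AlgebraicGeometry.Morphisms.ClosedImmersion
import Mathlib.AlgebraicGeometry.Morphisms.Separated

/-!
# The graph of a free action of a group of multiplicative type on an affine scheme is closed
-/

set_option autoImplicit false
universe u

open CategoryTheory CategoryTheory.Limits MonoidalCategory CartesianMonoidalCategory MonObj GrpObj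
open AlgebraicGeometry

set_option backward.isDefEq.respectTransparency.types false

namespace Groth.L25.FreeGraph

open NilAction

variable {S : Scheme.{u}} {G X : Over S} [GrpObj G] (a : AlgGrp.Action G X)

section Local

variable {U : Scheme.{u}} (jU : U ⟶ S) {M : Type} [AddCommGroup M]
  (e : Grp.mk (Red.bc jU G) ≅ Grp.mk (Red.DS U M))
  {R : Type u} [CommRing R] (k : Spec (CommRingCat.of R) ⟶ U)

theorem exists_gC {C : Type u} [CommRing C] [Algebra R C] (g : YS jU k C ⟶ G) :
    ∃ χ : Multiplicative M →* C, gC jU e k χ = g := by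
  let t := ofBase jU g ≫ e.hom.hom.hom
  refine ⟨((Scheme.ΓSpecIso (CommRingCat.of C)).hom.hom.toMonoidHom).comp (DSPts.char t), ?_⟩
  have h1 : (toΓ C).comp (((Scheme.ΓSpecIso (CommRingCat.of C)).hom.hom.toMonoidHom).comp (DSPts.char t)) =
      DSPts.char t :=
    MonoidHom.ext fun m => Iso.hom_inv_id_apply (Scheme.ΓSpecIso (CommRingCat.of C)) _
  have h2 : e.hom.hom.hom ≫ e.inv.hom.hom = 𝟙 _ := congr($(e.hom_inv_id).hom.hom)
  rw [gC, h1, DSPts.pt_char, Category.assoc, h2, Category.comp_id, toBase_ofBase]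

theorem gC_injective {C : Type u} [CommRing C] [Algebra R C] :
    Function.Injective (gC jU e k : (Multiplicative M →* C) → _) := by
  intro χ ψ h
  have h1 := congrArg (fun g => ofBase jU g ≫ e.hom.hom.hom) h
  have h2 : e.inv.hom.hom ≫ e.hom.hom.hom = 𝟙 _ := congr($(e.inv_hom_id).hom.hom)
  simp only [gC, ofBase_toBase, Category.assoc, h2, Category.comp_id] at h1
  have h3 := congrArg DSPts.char h1
  rw [DSPts.char_pt, DSPts.char_pt] at h3
  refine MonoidHom.ext fun m => ?_
  have h4 := congrArg (Scheme.ΓSpecIso (CommRingCat.of C)).hom.hom (DFunLike.congr_fun h3 m)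
  simpa using h4

variable {B : Type u} [CommRing B] [Algebra R B] (ι' : Spec (CommRingCat.of B) ⟶ pullback X.hom (k ≫ jU))
  [IsIso ι'] (hι : ι' ≫ pullback.snd X.hom (k ≫ jU) = Spec.map (CommRingCat.ofHom (algebraMap R B)))

include hι in
theorem exists_xC {C : Type u} [CommRing C] [Algebra R C] (x : YS jU k C ⟶ X) :
    ∃ β : B →ₐ[R] C, xC jU k ι' hι β = x := by
  let r : Spec (CommRingCat.of C) ⟶ pullback X.hom (k ≫ jU) :=
    pullback.lift x.left (Spec.map (CommRingCat.ofHom (algebraMap R C)))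
      ((Over.w x).trans (Category.assoc _ _ _))
  obtain ⟨φ, hφ⟩ := Spec.map_surjective (r ≫ inv ι')
  have hfac : Spec.map φ ≫ ι' = r := by rw [hφ, Category.assoc, IsIso.inv_hom_id, Category.comp_id]
  have hstr : CommRingCat.ofHom (algebraMap R B) ≫ φ = CommRingCat.ofHom (algebraMap R C) := by
    apply Spec.map_injective
    rw [Spec.map_comp, ← hι, reassoc_of% hfac, pullback.lift_snd]
  refine ⟨{ φ.hom with commutes' := fun x => congrArg (fun m => m.hom x) hstr },
    Over.OverMorphism.ext ?_⟩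
  show Spec.map φ ≫ ι' ≫ pullback.fst X.hom (k ≫ jU) = x.left
  rw [reassoc_of% hfac, pullback.lift_fst]

/-- the rule of action -/
noncomputable def theAct : ActCoeff.Act R B (Multiplicative M) where
  sm C _ _ χ β := (exists_xC jU k ι' hι (lift (gC jU e k χ) (xC jU k ι' hι β) ≫ a.act)).choose
  nat C C' _ _ _ _ h χ β := by
    apply eq_of_xC_eq jU k ι' hι
    rw [(exists_xC jU k ι' hι _).choose_spec, ← homS_xC jU k ι' hι h
      (β := (exists_xC jU k ι' hι (lift (gC jU e k χ) (xC jU k ι' hι β) ≫ a.act)).choose),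
      (exists_xC jU k ι' hι _).choose_spec, comp_lift_assoc, homS_gC, homS_xC]
  mul C _ _ χ ψ β := by
    apply eq_of_xC_eq jU k ι' hι
    rw [(exists_xC jU k ι' hι _).choose_spec, (exists_xC jU k ι' hι _).choose_spec,
      (exists_xC jU k ι' hι _).choose_spec, gC_mul, FixedEtale.mul_smul]
  one C _ _ β := by
    apply eq_of_xC_eq jU k ι' hι
    rw [(exists_xC jU k ι' hι _).choose_spec, gC_one, FixedEtale.one_smul]

theorem xC_sm {C : Type u} [CommRing C] [Algebra R C] (χ : Multiplicative M →* C) (β : B →ₐ[R] C) :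
    xC jU k ι' hι ((theAct a jU e k ι' hι).sm C χ β) = lift (gC jU e k χ) (xC jU k ι' hι β) ≫ a.act :=
  (exists_xC jU k ι' hι _).choose_spec

end Local

section Affine

variable {U : Scheme.{u}} (jU : U ⟶ S) {M : Type} [AddCommGroup M]
  (e : Grp.mk (Red.bc jU G) ≅ Grp.mk (Red.DS U M))
  {R : Type u} [CommRing R] (k : Spec (CommRingCat.of R) ⟶ U)

include e in
theorem isAffine_group : IsAffine (G ⊗ Over.mk (k ≫ jU)).left := by
  have : IsAffineHom (Red.DS U M).hom := by
    show IsAffineHom (pullback.snd _ _)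
    have : IsAffine (Red.diag (ULift.{u} ℤ) M).left := inferInstanceAs
      (IsAffine (Spec (CommRingCat.of (MonoidAlgebra (ULift.{u} ℤ) (Multiplicative M)))))
    have : IsAffine (Spec (CommRingCat.of (ULift.{u} ℤ))) := inferInstance
    have : IsAffineHom (Red.diag (ULift.{u} ℤ) M).hom := isAffineHom_of_isAffine (Red.diag (ULift.{u} ℤ) M).hom
    exact MorphismProperty.pullback_snd _ _ this
  have : IsIso e.hom.hom.hom :=
    ⟨e.inv.hom.hom, congr($(e.hom_inv_id).hom.hom), congr($(e.inv_hom_id).hom.hom)⟩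
  have : IsIso e.hom.hom.hom.left := inferInstanceAs (IsIso ((Over.forget _).map e.hom.hom.hom))
  have h1 : IsAffineHom (pullback.snd G.hom jU) := by
    show IsAffineHom (Red.bc jU G).hom
    rw [← Over.w e.hom.hom.hom]
    exact MorphismProperty.comp_mem _ _ _ (inferInstanceAs (IsAffineHom e.hom.hom.hom.left))
      (inferInstanceAs (IsAffineHom (Red.DS U M).hom))
  have : IsAffineHom (pullback.snd G.hom (k ≫ jU)) := by
    rw [← pullbackLeftPullbackSndIso_inv_snd_snd G.hom jU k]
    infer_instance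
  exact isAffine_of_isAffineHom (pullback.snd G.hom (k ≫ jU))

include e in
theorem isClosedImmersion_piece [IsAffineHom X.hom]
    (hfree : ∀ (Y : Over S) (g : Y ⟶ G) (x : Y ⟶ X), lift g x ≫ a.act = x → g = 1) :
    IsClosedImmersion (lift a.act (snd G X) ▷ Over.mk (k ≫ jU)).left := by
  let T : Over S := Over.mk (k ≫ jU)
  have : IsAffine (pullback X.hom (k ≫ jU)) := isAffine_of_isAffineHom (pullback.snd X.hom (k ≫ jU))
  have : IsAffine (G ⊗ T).left := isAffine_group jU e k
  have : IsAffineHom (fst G X ▷ T).left :=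
    Actions.of_whiskerRight @IsAffineHom (fst G X) T (MorphismProperty.pullback_fst G.hom X.hom ‹_›)
  have : IsAffineHom (fst X X ▷ T).left :=
    Actions.of_whiskerRight @IsAffineHom (fst X X) T (MorphismProperty.pullback_fst X.hom X.hom ‹_›)
  have : IsAffine (X ⊗ T).left := ‹IsAffine (pullback X.hom (k ≫ jU))›
  have hZ : IsAffine ((G ⊗ X) ⊗ T).left := isAffine_of_isAffineHom (fst G X ▷ T).left
  have hW : IsAffine ((X ⊗ X) ⊗ T).left := isAffine_of_isAffineHom (fst X X ▷ T).left
  -- the coordinate rings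
  let B : CommRingCat.{u} := Γ(pullback X.hom (k ≫ jU), ⊤)
  obtain ⟨rB, hrB⟩ := Spec.map_surjective ((pullback X.hom (k ≫ jU)).isoSpec.inv ≫ pullback.snd X.hom (k ≫ jU))
  letI : Algebra R B := rB.hom.toAlgebra
  let ι' : Spec (CommRingCat.of B) ⟶ pullback X.hom (k ≫ jU) := (pullback X.hom (k ≫ jU)).isoSpec.inv
  have hι : ι' ≫ pullback.snd X.hom (k ≫ jU) = Spec.map (CommRingCat.ofHom (algebraMap R B)) := hrB.symm
  let A := theAct a jU e k ι' hι
  have hA : ∀ (C : Type u) [CommRing C] [Algebra R C] (χ : Multiplicative M →* C) (β : (B : Type u) →ₐ[R] C),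
      A.sm C χ β = β → χ = 1 := by
    intro C _ _ χ β h
    apply gC_injective jU e k
    rw [gC_one]
    refine hfree _ _ (xC jU k ι' hι β) ?_
    rw [← xC_sm, h]
  let Z := ((G ⊗ X) ⊗ T).left
  let C : CommRingCat.{u} := Γ(Z, ⊤)
  let θ : Spec (CommRingCat.of C) ⟶ Z := Z.isoSpec.inv
  obtain ⟨rC, hrC⟩ := Spec.map_surjective (θ ≫ (snd (G ⊗ X) T).left :
    Spec (CommRingCat.of C) ⟶ Spec (CommRingCat.of R))
  letI : Algebra R C := rC.hom.toAlgebra
  have hrC' : Spec.map (CommRingCat.ofHom (algebraMap R C)) = θ ≫ (snd (G ⊗ X) T).left := hrC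
  let θS : YS jU k C ⟶ (G ⊗ X) ⊗ T := Over.homMk θ (by
    show θ ≫ ((G ⊗ X) ⊗ T).hom = (Spec.map (CommRingCat.ofHom (algebraMap R C)) ≫ k) ≫ jU
    rw [hrC', ← Over.w (snd (G ⊗ X) T), Category.assoc, Category.assoc]
    rfl)
  obtain ⟨χ, hχ⟩ := exists_gC jU e k (θS ≫ fst (G ⊗ X) T ≫ fst G X)
  obtain ⟨β, hβ⟩ := exists_xC jU k ι' hι (θS ≫ fst (G ⊗ X) T ≫ snd G X)
  -- `C` is generated by the character and the point
  have hev : Function.Surjective (ActCoeff.ev χ β) := by
    let C₁ := (ActCoeff.ev χ β).range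
    let χ₁ : Multiplicative M →* C₁ :=
      { toFun := fun m => ⟨χ m, MonoidAlgebra.single m 1, by simp [ActCoeff.ev_single]⟩
        map_one' := Subtype.ext (map_one χ)
        map_mul' := fun m n => Subtype.ext (map_mul χ m n) }
    let β₁ : (B : Type u) →ₐ[R] C₁ := β.codRestrict C₁ fun b =>
      ⟨MonoidAlgebra.single 1 b, by simp [ActCoeff.ev_single]⟩
    let strT : YS jU k C₁ ⟶ T := Over.homMk (Spec.map (CommRingCat.ofHom (algebraMap R C₁)))
      (Category.assoc _ _ _).symm
    let p₁ : YS jU k C₁ ⟶ (G ⊗ X) ⊗ T :=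
      lift (lift (gC jU e k χ₁) (xC jU k ι' hι β₁)) strT
    have hp : homS jU k C₁.val ≫ p₁ = θS := by
      apply CartesianMonoidalCategory.hom_ext
      · apply CartesianMonoidalCategory.hom_ext
        · simp only [p₁, Category.assoc, lift_fst]
          rw [homS_gC, ← hχ]
          rfl
        · simp only [p₁, Category.assoc, lift_fst, lift_snd]
          rw [homS_xC, ← hβ]
          congr 1
      · simp only [p₁, Category.assoc, lift_snd]
        apply Over.OverMorphism.ext
        show Spec.map (CommRingCat.ofHom C₁.val.toRingHom) ≫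
          Spec.map (CommRingCat.ofHom (algebraMap R C₁)) = θ ≫ (snd (G ⊗ X) T).left
        rw [← hrC', ← Spec.map_comp, ← CommRingCat.ofHom_comp, AlgHom.toRingHom_eq_coe,
          AlgHom.comp_algebraMap]
    obtain ⟨r, hr⟩ := Spec.map_surjective (p₁.left ≫ inv θ :
      Spec (CommRingCat.of C₁) ⟶ Spec (CommRingCat.of C))
    have h1 : Spec.map (CommRingCat.ofHom C₁.val.toRingHom) ≫ Spec.map r = 𝟙 _ := by
      rw [hr, ← cancel_mono θ, Category.assoc, Category.assoc, IsIso.inv_hom_id, Category.comp_id,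
        Category.id_comp]
      exact congrArg (fun m => m.left) hp
    rw [← Spec.map_comp, ← Spec.map_id] at h1
    intro c
    obtain ⟨y, hy⟩ := (r c).2
    exact ⟨y, hy.trans (congrArg (fun m => m.hom c) (Spec.map_injective h1))⟩
  refine IsClosedImmersion.of_surjective_of_isAffine _ ?_
  let h := lift a.act (snd G X) ▷ T
  let W := ((X ⊗ X) ⊗ T).left
  obtain ⟨ρ, hρ⟩ := Spec.map_surjective (θ ≫ h.left ≫ W.isoSpec.hom :
    Spec (CommRingCat.of C) ⟶ Spec (CommRingCat.of Γ(W, ⊤)))
  have key : ∀ (π : X ⊗ X ⟶ X) (γ : (B : Type u) →ₐ[R] C),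
      xC jU k ι' hι γ = θS ≫ fst (G ⊗ X) T ≫ lift a.act (snd G X) ≫ π →
      ∀ b, γ b ∈ ρ.hom.range := by
    intro π γ hγ b
    obtain ⟨σ, hσ⟩ := Spec.map_surjective (W.isoSpec.inv ≫ (π ▷ T).left ≫ inv ι' :
      Spec (CommRingCat.of Γ(W, ⊤)) ⟶ Spec (CommRingCat.of B))
    have h1 : Spec.map (CommRingCat.ofHom γ.toRingHom) = Spec.map (σ ≫ ρ) := by
      rw [Spec.map_comp, hρ, hσ]
      simp only [Category.assoc, Iso.hom_inv_id_assoc]
      rw [← cancel_mono ι']
      simp only [Category.assoc, IsIso.inv_hom_id, Category.comp_id]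
      apply pullback.hom_ext
      · simp only [Category.assoc]
        refine (congrArg (fun m => m.left) hγ).trans ?_
        show (θS ≫ fst (G ⊗ X) T ≫ lift a.act (snd G X) ≫ π).left =
          (θS ≫ h ≫ (π ▷ T) ≫ fst X T).left
        congr 1
        simp only [h, whiskerRight_fst, whiskerRight_fst_assoc]
      · simp only [Category.assoc, hι, ← Spec.map_comp, ← CommRingCat.ofHom_comp,
          AlgHom.toRingHom_eq_coe, AlgHom.comp_algebraMap]
        rw [hrC']
        show (θS ≫ snd (G ⊗ X) T).left = (θS ≫ h ≫ (π ▷ T) ≫ snd X T).left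
        congr 1
        simp only [h, whiskerRight_snd]
    exact ⟨σ b, (congrArg (fun m => m.hom b) (Spec.map_injective h1)).symm⟩
  have hβρ : ∀ b, β b ∈ ρ.hom.range := key (snd X X) β (by rw [hβ, lift_snd])
  have hsρ : ∀ b, A.sm C χ β b ∈ ρ.hom.range := key (fst X X) _ (by
    rw [xC_sm, hχ, hβ, lift_fst, ← comp_lift_assoc, ← comp_lift_assoc,
      lift_fst_snd, Category.id_comp])
  have hsurj : Function.Surjective ρ.hom := by
    intro c
    obtain ⟨y, rfl⟩ := hev c
    show ActCoeff.ev χ β y ∈ ρ.hom.range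
    induction y using MonoidAlgebra.induction_linear with
    | zero => rw [map_zero]; exact zero_mem _
    | add p q hp hq => rw [map_add]; exact add_mem hp hq
    | single m b =>
      rw [ActCoeff.ev_single]
      refine mul_mem (hβρ b) ?_
      let Sρ : Subalgebra R C :=
        { ρ.hom.range.toSubsemiring with
          algebraMap_mem' := fun r => by
            show algebraMap R C r ∈ ρ.hom.range
            rw [← β.commutes r]
            exact hβρ _ }
      refine (Algebra.adjoin_le (S := Sρ) ?_) (ActCoeff.ev_single_mem A hA χ β m)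
      rintro _ (⟨b, rfl⟩ | ⟨b, rfl⟩)
      · exact hsρ b
      · exact hβρ b
  have hbij : h.left.appTop = ρ := by
    have : Spec.map ρ = Spec.map h.left.appTop := by
      rw [hρ, ← Scheme.isoSpec_inv_naturality_assoc, Iso.inv_hom_id, Category.comp_id]
    exact (Spec.map_injective this).symm
  rw [hbij]
  exact hsurj

end Affine

theorem isClosedImmersion_graph [IsAffineHom X.hom]
    (hG : TwC.Locally S TwC.Topology.fpqc (fun S' f => ∃ (M : Type) (_ : AddCommGroup M),
      Nonempty (Grp.mk (Red.bc f G) ≅ Grp.mk (Red.DS S' M))))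
    (hfree : ∀ (Y : Over S) (g : Y ⟶ G) (x : Y ⟶ X), lift g x ≫ a.act = x → g = 1) :
    IsClosedImmersion (lift a.act (snd G X)).left := by
  obtain ⟨S', f, hflat, hsurj, hcov, hloc⟩ := hG
  refine FpqcLocal.of_fpqc (P := @IsClosedImmersion) (lift a.act (snd G X)).left (X ⊗ X).hom f hcov
    fun s' => ?_
  obtain ⟨W, hsW, M, _, ⟨e⟩⟩ := hloc s'
  obtain ⟨_, ⟨A, hA, rfl⟩, hsA, hAW⟩ := S'.isBasis_affineOpens.exists_subset_of_mem_open
    (show s' ∈ (W : Set S') from hsW) W.2
  refine ⟨A, hsA, ?_⟩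
  let k : Spec (CommRingCat.of Γ(S', A)) ⟶ W.toScheme := hA.isoSpec.inv ≫ S'.homOfLE hAW
  have hP := isClosedImmersion_piece a (W.ι ≫ f) e k hfree
  have sq := Actions.isPullback_whiskerRight_left (lift a.act (snd G X)) (Over.mk (k ≫ W.ι ≫ f))
  have h1 : IsClosedImmersion (pullback.snd (lift a.act (snd G X)).left
      (pullback.fst (X ⊗ X).hom (k ≫ W.ι ≫ f))) :=
    (MorphismProperty.arrow_mk_iso_iff (P := @IsClosedImmersion) (Arrow.isoMk sq.flip.isoPullback (Iso.refl _)
      (sq.flip.isoPullback_hom_snd.trans (Category.comp_id _).symm))).1 hP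
  refine FpqcLocal.bc_comp _ (pullback.map _ _ _ _ (𝟙 _) hA.isoSpec.hom (𝟙 _) (by simp) ?_) _ _ ?_ h1
  · simp [k]
  · exact (pullback.lift_fst _ _ _).trans (Category.comp_id _)

theorem isClosedImmersion_orbit [IsAffineHom X.hom]
    (hgraph : IsClosedImmersion (lift a.act (snd G X)).left) (σ : 𝟙_ (Over S) ⟶ X) :
    IsClosedImmersion (a.orbitMap σ).left := by
  let s : G ⟶ G ⊗ X := lift (𝟙 G) (toUnit G ≫ σ)
  let j : X ⟶ X ⊗ X := lift (𝟙 X) (toUnit X ≫ σ)
  have hs : IsClosedImmersion s.left := by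
    have : IsAffineHom (fst G X).left := MorphismProperty.pullback_fst G.hom X.hom ‹_›
    have : IsClosedImmersion (s.left ≫ (fst G X).left) := by
      rw [← Over.comp_left, lift_fst, Over.id_left]; infer_instance
    exact IsClosedImmersion.of_comp _ (fst G X).left
  have hj : IsAffineHom (fst X X).left := MorphismProperty.pullback_fst X.hom X.hom ‹_›
  have : IsClosedImmersion (j.left ≫ (fst X X).left) := by
    rw [← Over.comp_left, lift_fst, Over.id_left]; infer_instance
  have : IsClosedImmersion j.left := IsClosedImmersion.of_comp _ (fst X X).left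
  have h : a.orbitMap σ ≫ j = s ≫ lift a.act (snd G X) := by
    apply CartesianMonoidalCategory.hom_ext <;> simp [j, s, AlgGrp.Action.orbitMap]
  have : IsClosedImmersion ((a.orbitMap σ).left ≫ j.left) := by
    rw [← Over.comp_left, h, Over.comp_left]; infer_instance
  exact IsClosedImmersion.of_comp _ j.left

end Groth.L25.FreeGraph
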