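import Groth.Prelude.Def_Red2
import Groth.Prelude.Def_GmPts
import Mathlib.CategoryTheory.Monoidal.Cartesian.Over
import Mathlib.AlgebraicGeometry.Pullbacks
import Mathlib.Data.Int.Cast.Lemmas
import Mathlib.Algebra.Ring.ULift

/-! Points of the additive group `Red.Ga S` are global functions, additively and naturally. -/

universe u

open CategoryTheory CategoryTheory.Limits MonoidalCategory CartesianMonoidalCategory MonObj AlgebraicGeometry Opposite

noncomputable section

namespace Groth.L25.GaPts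

/-- The coordinate ring `ℤ[X]` of the additive group over `ℤ`. -/
abbrev Coord : Type u := SymmetricAlgebra (ULift.{u} ℤ) (ULift.{u} ℤ)

/-- The coordinate `X`. -/
abbrev gen : Coord.{u} := SymmetricAlgebra.ι (ULift.{u} ℤ) (ULift.{u} ℤ) (ULift.up 1)

/-- Mathlib's identification of the global sections of `Spec ℤ[X]` with `ℤ[X]`. -/
abbrev coordIso : Γ(Spec (CommRingCat.of Coord.{u}), ⊤) ≅ CommRingCat.of Coord.{u} :=
  Scheme.ΓSpecIso (CommRingCat.of Coord.{u})

theorem algHom_ext_gen {K A : Type u} [CommRing K] [CommRing A] [Algebra K A]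
    {F G : SymmetricAlgebra K K →ₐ[K] A} (h : F (SymmetricAlgebra.ι K K 1) = G (SymmetricAlgebra.ι K K 1)) : F = G :=
  SymmetricAlgebra.algHom_ext (LinearMap.ext_ring h)

/-- Evaluation at `v`. -/
def liftGen {K A : Type u} [CommRing K] [CommRing A] [Algebra K A] (v : A) : SymmetricAlgebra K K →ₐ[K] A :=
  SymmetricAlgebra.lift (LinearMap.toSpanSingleton K A v)

theorem liftGen_gen {K A : Type u} [CommRing K] [CommRing A] [Algebra K A] (v : A) :
    liftGen (K := K) v (SymmetricAlgebra.ι K K 1) = v := by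
  rw [liftGen, SymmetricAlgebra.lift_ι_apply, LinearMap.toSpanSingleton_apply, one_smul]

theorem ringHom_ext_gen {R : Type u} [CommRing R] {f g : Coord.{u} →+* R} (h : f gen = g gen) : f = g := by
  letI : Algebra (ULift.{u} ℤ) R := (f.comp (algebraMap _ _)).toAlgebra
  have hb : f.comp (algebraMap (ULift.{u} ℤ) Coord.{u}) = g.comp (algebraMap (ULift.{u} ℤ) Coord.{u}) := by
    refine RingHom.ext fun r => ?_
    rcases r with ⟨r⟩
    rw [show (ULift.up r : ULift.{u} ℤ) = (r : ULift.{u} ℤ) from rfl, map_intCast, map_intCast]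
  let F : Coord.{u} →ₐ[ULift.{u} ℤ] R := { f with commutes' := fun _ => rfl }
  let G : Coord.{u} →ₐ[ULift.{u} ℤ] R := { g with commutes' := fun r => (RingHom.congr_fun hb r).symm }
  exact congrArg AlgHom.toRingHom (algHom_ext_gen (F := F) (G := G) h)

/-- The ring map `ℤ[X] → R` sending `X` to `v`. -/
def ringHomOfElt {R : Type u} [CommRing R] (v : R) : Coord.{u} →+* R :=
  letI : Algebra (ULift.{u} ℤ) R :=
    ((Int.castRingHom R).comp (ULift.ringEquiv : ULift.{u} ℤ ≃+* ℤ).toRingHom).toAlgebra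
  (liftGen (K := ULift.{u} ℤ) v).toRingHom

theorem ringHomOfElt_gen {R : Type u} [CommRing R] (v : R) : ringHomOfElt v gen = v := by
  letI : Algebra (ULift.{u} ℤ) R :=
    ((Int.castRingHom R).comp (ULift.ringEquiv : ULift.{u} ℤ ≃+* ℤ).toRingHom).toAlgebra
  exact liftGen_gen (K := ULift.{u} ℤ) v

variable {S : Scheme.{u}} {T T' : Over S}

/-- The component `T.left ⟶ Spec ℤ[X]` of a point. -/
abbrev specPt (t : T ⟶ Red.Ga S) : T.left ⟶ Spec (CommRingCat.of Coord.{u}) :=
  t.left ≫ pullback.fst Red.GaZ.hom (GmPts.toBaseZ S)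

def ringHomOfPt (t : T ⟶ Red.Ga S) : Coord.{u} →+* Γ(T.left, ⊤) := (coordIso.inv ≫ (specPt t).appTop).hom

theorem ringHomOfPt_gen (t : T ⟶ Red.Ga S) : ringHomOfPt t gen = Red.gaFn t := rfl

def homOfElt (v : Γ(T.left, ⊤)) : CommRingCat.of Coord.{u} ⟶ Γ(T.left, ⊤) := CommRingCat.ofHom (ringHomOfElt v)

def specOfElt (v : Γ(T.left, ⊤)) : T.left ⟶ Spec (CommRingCat.of Coord.{u}) :=
  ΓSpec.adjunction.homEquiv T.left (op (CommRingCat.of Coord.{u})) (homOfElt v).op

theorem coordIso_inv_specOfElt (v : Γ(T.left, ⊤)) : coordIso.inv ≫ (specOfElt v).appTop = homOfElt v :=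
  ΓSpecIso_inv_ΓSpec_adjunction_homEquiv _

/-- The point of `Ga` with coordinate `v`. -/
def ptOfElt (v : Γ(T.left, ⊤)) : T ⟶ Red.Ga S :=
  Over.homMk (pullback.lift (specOfElt v) T.hom (specULiftZIsTerminal.hom_ext _ _)) (pullback.lift_snd _ _ _)

theorem specPt_ptOfElt (v : Γ(T.left, ⊤)) : specPt (ptOfElt v) = specOfElt v := pullback.lift_fst _ _ _

theorem ringHomOfPt_ptOfElt (v : Γ(T.left, ⊤)) : ringHomOfPt (ptOfElt v) = ringHomOfElt v := by
  change (coordIso.inv ≫ (specPt (ptOfElt v)).appTop).hom = _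
  rw [specPt_ptOfElt, coordIso_inv_specOfElt]
  rfl

theorem gaFn_ptOfElt (v : Γ(T.left, ⊤)) : Red.gaFn (ptOfElt v) = v := by
  rw [← ringHomOfPt_gen, ringHomOfPt_ptOfElt, ringHomOfElt_gen]

theorem ptOfElt_gaFn (t : T ⟶ Red.Ga S) : ptOfElt (Red.gaFn t) = t := by
  have key : specOfElt (Red.gaFn t) = specPt t := by
    have h : (homOfElt (Red.gaFn t)).op =
        (ΓSpec.adjunction.homEquiv T.left (op (CommRingCat.of Coord.{u}))).symm (specPt t) := by
      rw [Adjunction.homEquiv_counit, ΓSpec.adjunction_counit_app]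
      change (homOfElt (Red.gaFn t)).op = (coordIso.inv ≫ (specPt t).appTop).op
      congr 1
      ext1
      exact ringHom_ext_gen (by
        change ringHomOfElt _ gen = ringHomOfPt t gen
        rw [ringHomOfElt_gen]; rfl)
    rw [specOfElt, h, Equiv.apply_symm_apply]
  ext1
  apply pullback.hom_ext
  · exact (specPt_ptOfElt _).trans key
  · exact (pullback.lift_snd _ _ _).trans (Over.w t).symm

theorem gaFn_injective : Function.Injective (fun t : T ⟶ Red.Ga S => Red.gaFn t) := fun a b h => by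
  have := congrArg ptOfElt (show Red.gaFn a = Red.gaFn b from h)
  rwa [ptOfElt_gaFn, ptOfElt_gaFn] at this

theorem gaFn_comp (g : T' ⟶ T) (t : T ⟶ Red.Ga S) : Red.gaFn (g ≫ t) = g.left.appTop (Red.gaFn t) := by
  change ((g ≫ t).left ≫ pullback.fst Red.GaZ.hom (GmPts.toBaseZ S)).appTop _ = _
  rw [Over.comp_left, Category.assoc, Scheme.Hom.comp_appTop]
  rfl

theorem ptOfElt_comp (g : T' ⟶ T) (v : Γ(T.left, ⊤)) : g ≫ ptOfElt v = ptOfElt (g.left.appTop v) := by
  apply gaFn_injective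
  change Red.gaFn (g ≫ ptOfElt v) = Red.gaFn (ptOfElt (g.left.appTop v))
  rw [gaFn_comp, gaFn_ptOfElt, gaFn_ptOfElt]

theorem specMap_appTop_coordIso_inv {R : CommRingCat.{u}} (φ : CommRingCat.of Coord.{u} ⟶ R) (c : Coord.{u}) :
    (Spec.map φ).appTop (coordIso.inv c) = (Scheme.ΓSpecIso R).inv (φ c) :=
  (congrArg (fun ψ => (ConcreteCategory.hom ψ) c) (Scheme.ΓSpecIso_inv_naturality φ)).symm

def pairPt (t t' : T ⟶ Red.Ga S) : T.left ⟶ (Red.GaZ ⊗ Red.GaZ).left :=
  (lift t t').left ≫ (Functor.LaxMonoidal.μ (Over.pullback (GmPts.toBaseZ S)) Red.GaZ Red.GaZ).left ≫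
    pullback.fst (Red.GaZ ⊗ Red.GaZ).hom (GmPts.toBaseZ S)

theorem specPt_mul (t t' : T ⟶ Red.Ga S) : specPt (t * t') = pairPt t t' ≫ μ[Red.GaZ].left := by
  have h1 : t * t' = lift t t' ≫ μ[Red.Ga S] := Hom.mul_def t t'
  have h2 : μ[Red.Ga S] = Functor.LaxMonoidal.μ (Over.pullback (GmPts.toBaseZ S)) Red.GaZ Red.GaZ ≫
      (Over.pullback (GmPts.toBaseZ S)).map μ[Red.GaZ] := rfl
  have h3 := GmPts.pullback_map_left_fst (S := S) μ[Red.GaZ]
  rw [specPt, pairPt, h1, h2, Over.comp_left, Over.comp_left]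
  simp only [Category.assoc]
  exact _ ≫= (_ ≫= h3)

theorem pairPt_fst (t t' : T ⟶ Red.Ga S) : pairPt t t' ≫ pullback.fst Red.GaZ.hom Red.GaZ.hom = specPt t := by
  rw [pairPt, Category.assoc, Category.assoc, Over.μ_pullback_left_fst_fst, ← Category.assoc]
  congr 1
  rw [← Over.fst_left, ← Over.comp_left, lift_fst]

theorem pairPt_snd (t t' : T ⟶ Red.Ga S) : pairPt t t' ≫ pullback.snd Red.GaZ.hom Red.GaZ.hom = specPt t' := by
  rw [pairPt, Category.assoc, Category.assoc, Over.μ_pullback_left_fst_snd, ← Category.assoc]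
  congr 1
  rw [← Over.snd_left, ← Over.comp_left, lift_snd]

theorem comul_appTop (K : Type u) [CommRing K] :
    μ[(Spec (CommRingCat.of (SymmetricAlgebra K K))).asOver (Spec (CommRingCat.of K))].left.appTop
        ((Scheme.ΓSpecIso (CommRingCat.of (SymmetricAlgebra K K))).inv (SymmetricAlgebra.ι K K 1)) =
    (pullback.fst ((Spec (CommRingCat.of (SymmetricAlgebra K K))).asOver (Spec (CommRingCat.of K))).hom
        ((Spec (CommRingCat.of (SymmetricAlgebra K K))).asOver (Spec (CommRingCat.of K))).hom).appTop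
        ((Scheme.ΓSpecIso (CommRingCat.of (SymmetricAlgebra K K))).inv (SymmetricAlgebra.ι K K 1)) +
    (pullback.snd ((Spec (CommRingCat.of (SymmetricAlgebra K K))).asOver (Spec (CommRingCat.of K))).hom
        ((Spec (CommRingCat.of (SymmetricAlgebra K K))).asOver (Spec (CommRingCat.of K))).hom).appTop
        ((Scheme.ΓSpecIso (CommRingCat.of (SymmetricAlgebra K K))).inv (SymmetricAlgebra.ι K K 1)) := by
  let C : Type u := SymmetricAlgebra K K
  let iL : C →+* TensorProduct K C C := Algebra.TensorProduct.includeLeftRingHom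
  let iR : C →+* TensorProduct K C C :=
    ((Algebra.TensorProduct.includeRight (R := K) (A := C) (B := C) : C →ₐ[K] TensorProduct K C C) : C →+* TensorProduct K C C)
  let fC : Spec (CommRingCat.of C) ⟶ Spec (CommRingCat.of K) :=
    Spec.map (CommRingCat.ofHom (algebraMap K C))
  let psi := pullbackSpecIso K C C
  have hfst : pullback.fst fC fC = psi.hom ≫ Spec.map (CommRingCat.ofHom (R := C) (S := TensorProduct K C C) iL) := by
    rw [← pullbackSpecIso_inv_fst, Iso.hom_inv_id_assoc]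
  have hsnd : pullback.snd fC fC = psi.hom ≫ Spec.map (CommRingCat.ofHom (R := C) (S := TensorProduct K C C) iR) := by
    rw [← pullbackSpecIso_inv_snd, Iso.hom_inv_id_assoc]
  have nat : ∀ {R' : CommRingCat.{u}} (φ : CommRingCat.of C ⟶ R') (c : C),
      (Spec.map φ).appTop ((Scheme.ΓSpecIso (CommRingCat.of C)).inv c) = (Scheme.ΓSpecIso R').inv (φ c) :=
    fun φ c => (congrArg (fun ψ => (ConcreteCategory.hom ψ) c) (Scheme.ΓSpecIso_inv_naturality φ)).symm
  have hc : (CommRingCat.ofHom (Bialgebra.comulAlgHom K C).toRingHom) (SymmetricAlgebra.ι K K 1) =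
      (CommRingCat.ofHom (R := C) (S := TensorProduct K C C) iL) (SymmetricAlgebra.ι K K 1) +
        (CommRingCat.ofHom (R := C) (S := TensorProduct K C C) iR) (SymmetricAlgebra.ι K K 1) :=
    SymmetricAlgebra.comul_ι K K 1
  change (psi.hom ≫ Spec.map (CommRingCat.ofHom (Bialgebra.comulAlgHom K C).toRingHom)).appTop
      ((Scheme.ΓSpecIso (CommRingCat.of C)).inv (SymmetricAlgebra.ι K K 1)) =
    (pullback.fst fC fC).appTop ((Scheme.ΓSpecIso (CommRingCat.of C)).inv (SymmetricAlgebra.ι K K 1)) +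
      (pullback.snd fC fC).appTop ((Scheme.ΓSpecIso (CommRingCat.of C)).inv (SymmetricAlgebra.ι K K 1))
  rw [hfst, hsnd, GmPts.appTop_comp_apply, GmPts.appTop_comp_apply, GmPts.appTop_comp_apply,
    nat, nat, nat, hc, map_add, map_add]

theorem mul_appTop_gen : μ[Red.GaZ].left.appTop (coordIso.inv gen.{u}) =
    (pullback.fst Red.GaZ.hom Red.GaZ.hom).appTop (coordIso.inv gen) +
      (pullback.snd Red.GaZ.hom Red.GaZ.hom).appTop (coordIso.inv gen) :=
  comul_appTop (ULift.{u} ℤ)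

theorem gaFn_mul (t t' : T ⟶ Red.Ga S) : Red.gaFn (t * t') = Red.gaFn t + Red.gaFn t' := by
  have e1 : Red.gaFn (t * t') = (pairPt t t').appTop (μ[Red.GaZ].left.appTop (coordIso.inv gen)) := by
    change (specPt (t * t')).appTop (coordIso.inv gen) = _
    rw [specPt_mul]
    exact GmPts.appTop_comp_apply _ _ _
  rw [e1, mul_appTop_gen, map_add, ← GmPts.appTop_comp_apply, ← GmPts.appTop_comp_apply, pairPt_fst, pairPt_snd]
  rfl

/-- Points of `Ga` over `T` are the global functions of `T`. -/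
def equiv (T : Over S) : (T ⟶ Red.Ga S) ≃ Γ(T.left, ⊤) :=
  ⟨fun t => Red.gaFn t, ptOfElt, ptOfElt_gaFn, gaFn_ptOfElt⟩

theorem gaFn_one : Red.gaFn (1 : T ⟶ Red.Ga S) = 0 := by
  have := gaFn_mul (1 : T ⟶ Red.Ga S) 1
  rw [show (1 : T ⟶ Red.Ga S) * 1 = 1 from _root_.one_mul (1 : T ⟶ Red.Ga S)] at this
  exact left_eq_add.1 this

theorem gaFn_inv (t : T ⟶ Red.Ga S) : Red.gaFn t⁻¹ = - Red.gaFn t := by
  have := gaFn_mul t⁻¹ t
  rw [inv_mul_cancel, gaFn_one] at this
  exact eq_neg_of_add_eq_zero_left this.symm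

end Groth.L25.GaPts

end
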