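import Mathlib.Algebra.MonoidAlgebra.Basic
import Mathlib.Algebra.MonoidAlgebra.Lift
import Mathlib.RingTheory.Ideal.Quotient.Operations
import Mathlib.RingTheory.Nilpotent.Basic

/-!
# An action of a diagonalisable group trivial modulo a nilpotent ideal is trivial

Functor-of-points form on an affine scheme: characters `χ : M →* C` act on algebra maps `B →ₐ[R] C`.
-/

set_option autoImplicit false
universe u

namespace Groth.L25.ActCoeff

variable {R B : Type u} [CommRing R] [CommRing B] [Algebra R B] {M : Type} [CommMonoid M]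

/-- A rule making characters act on points of `Spec B`. -/
structure Act (R B : Type u) [CommRing R] [CommRing B] [Algebra R B] (M : Type) [CommMonoid M] where
  sm : ∀ (C : Type u) [CommRing C] [Algebra R C], (M →* C) → (B →ₐ[R] C) → (B →ₐ[R] C)
  nat : ∀ (C C' : Type u) [CommRing C] [CommRing C'] [Algebra R C] [Algebra R C'] (h : C →ₐ[R] C')
    (χ : M →* C) (β : B →ₐ[R] C), sm C' ((h : C →* C').comp χ) (h.comp β) = h.comp (sm C χ β)
  mul : ∀ (C : Type u) [CommRing C] [Algebra R C] (χ ψ : M →* C) (β : B →ₐ[R] C),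
    sm C (χ * ψ) β = sm C χ (sm C ψ β)
  one : ∀ (C : Type u) [CommRing C] [Algebra R C] (β : B →ₐ[R] C), sm C 1 β = β

variable (A : Act R B M)

/-- the coaction -/
noncomputable def φ : B →ₐ[R] MonoidAlgebra B M :=
  A.sm (MonoidAlgebra B M) (MonoidAlgebra.of B M) (IsScalarTower.toAlgHom R B (MonoidAlgebra B M))

/-- evaluation at a point and a character -/
noncomputable def ev {C : Type u} [CommRing C] [Algebra R C] (χ : M →* C) (β : B →ₐ[R] C) :
    MonoidAlgebra B M →ₐ[R] C :=
  MonoidAlgebra.liftNCAlgHom β χ (fun _ _ => Commute.all _ _)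

theorem ev_single {C : Type u} [CommRing C] [Algebra R C] (χ : M →* C) (β : B →ₐ[R] C) (m : M) (b : B) :
    ev χ β (MonoidAlgebra.single m b) = β b * χ m := by
  simp [ev, MonoidAlgebra.liftNCAlgHom, MonoidAlgebra.liftNCRingHom_single]

theorem sm_eq {C : Type u} [CommRing C] [Algebra R C] (χ : M →* C) (β : B →ₐ[R] C) :
    A.sm C χ β = (ev χ β).comp (φ A) := by
  rw [φ, ← A.nat]
  congr 1
  · refine MonoidHom.ext fun m => ?_
    simp [ev_single]
  · refine AlgHom.ext fun b => ?_
    simp [MonoidAlgebra.coe_algebraMap, ev_single]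

theorem eq_sum (b : B) :
    φ A b = ((φ A b).coeff).sum (fun m x => MonoidAlgebra.single m x) := by
  conv_lhs => rw [← MonoidAlgebra.sum_single (φ A b)]

theorem coeff_ev_inl (y : MonoidAlgebra B M) (ψ : B →ₐ[R] MonoidAlgebra B (M × M))
    (hψ : ∀ (c : B) (p : M × M), p.1 ≠ 1 → (ψ c).coeff p = 0) (m n : M) :
    (ev ((MonoidAlgebra.of B (M × M)).comp (MonoidHom.inl M M)) ψ y).coeff (m, n) =
      (ψ (y.coeff m)).coeff (1, n) := by
  classical
  induction y using MonoidAlgebra.induction_linear with
  | zero => simp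
  | add p q hp hq => simp [hp, hq]
  | single a c =>
    rw [ev_single, MonoidAlgebra.coeff_single, Finsupp.single_apply]
    have hc : ψ c = (ψ c).coeff.sum (fun p x => MonoidAlgebra.single p x) :=
      (MonoidAlgebra.sum_single (ψ c)).symm
    conv_lhs => rw [hc, Finsupp.sum, Finset.sum_mul, MonoidAlgebra.coeff_sum, Finsupp.finsetSum_apply]
    split_ifs with h
    · subst h
      rw [Finset.sum_eq_single ((1 : M), n)]
      · simp [MonoidAlgebra.single_mul_single]
      · rintro ⟨p, q⟩ hp hne
        have hp1 : p = 1 := by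
          by_contra hp1
          exact Finsupp.mem_support_iff.1 hp (hψ c _ hp1)
        subst hp1
        have : q ≠ n := fun e => hne (by rw [e])
        simp [MonoidAlgebra.single_mul_single, this]
      · intro hn
        simp [Finsupp.notMem_support_iff.1 hn]
    · rw [map_zero, MonoidAlgebra.coeff_zero, Finsupp.zero_apply]
      refine Finset.sum_eq_zero fun p hp => ?_
      obtain ⟨p, q⟩ := p
      have hp1 : p = 1 := by
        by_contra hp1
        exact Finsupp.mem_support_iff.1 hp (hψ c _ hp1)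
      subst hp1
      simp [MonoidAlgebra.single_mul_single, h]

/-- coassociativity on coefficients -/
theorem coeff_coeff [DecidableEq M] (b : B) (m n : M) :
    (φ A ((φ A b).coeff m)).coeff n = if m = n then (φ A b).coeff m else 0 := by
  classical
  let of2 := MonoidAlgebra.of B (M × M)
  let inc : B →ₐ[R] MonoidAlgebra B (M × M) := IsScalarTower.toAlgHom R B _
  have hmul := A.mul _ (of2.comp (MonoidHom.inl M M)) (of2.comp (MonoidHom.inr M M)) inc
  rw [sm_eq, sm_eq, sm_eq] at hmul
  have hev : ∀ (f : M →* M × M) (y : MonoidAlgebra B M),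
      ev (of2.comp f) inc y = MonoidAlgebra.mapDomain f y := by
    intro f y
    induction y using MonoidAlgebra.induction_linear with
    | zero => simp
    | add p q hp hq => simp [hp, hq, MonoidAlgebra.mapDomain_add]
    | single a c =>
      rw [ev_single]
      simp [of2, inc, MonoidAlgebra.coe_algebraMap, MonoidAlgebra.single_mul_single,
        MonoidAlgebra.mapDomain_single]
  let ψ : B →ₐ[R] MonoidAlgebra B (M × M) := (ev (of2.comp (MonoidHom.inr M M)) inc).comp (φ A)
  have hψ : ∀ (c : B) (p : M × M), p.1 ≠ 1 → (ψ c).coeff p = 0 := by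
    intro c p hp
    simp only [ψ, AlgHom.comp_apply, hev, MonoidAlgebra.coeff_mapDomain]
    refine Finsupp.mapDomain_notin_range _ _ ?_
    rintro ⟨q, rfl⟩
    exact hp rfl
  have hψn : ∀ (c : B), (ψ c).coeff (1, n) = (φ A c).coeff n := by
    intro c
    simp only [ψ, AlgHom.comp_apply, hev, MonoidAlgebra.coeff_mapDomain]
    exact Finsupp.mapDomain_apply (fun x y h => (Prod.ext_iff.1 h).2) _ n
  have h1 := congrArg (fun y => MonoidAlgebra.coeff y (m, n)) (AlgHom.congr_fun hmul b)
  simp only [AlgHom.comp_apply] at h1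
  have hdiag : of2.comp (MonoidHom.inl M M) * of2.comp (MonoidHom.inr M M) =
      of2.comp ((MonoidHom.id M).prod (MonoidHom.id M)) := by
    refine MonoidHom.ext fun x => ?_
    rw [MonoidHom.mul_apply]
    simp [of2, MonoidAlgebra.single_mul_single]
  rw [hdiag, hev, coeff_ev_inl _ ψ hψ, hψn, MonoidAlgebra.coeff_mapDomain] at h1
  rw [← h1]
  split_ifs with h
  · subst h
    exact Finsupp.mapDomain_apply (fun x y h => (Prod.ext_iff.1 h).1) _ m
  · refine Finsupp.mapDomain_notin_range _ _ ?_
    rintro ⟨q, hq⟩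
    exact h ((Prod.ext_iff.1 hq).1.symm.trans (Prod.ext_iff.1 hq).2)

theorem coeff_eq_zero (n : Ideal R) (hn : IsNilpotent n)
    (htriv : ∀ b, ∀ m : M, m ≠ 1 → (φ A b).coeff m ∈ n.map (algebraMap R B))
    (b : B) (m : M) (hm : m ≠ 1) : (φ A b).coeff m = 0 := by
  classical
  obtain ⟨N, hN⟩ := hn
  let p : B →ₗ[R] B :=
    { toFun := fun x => (φ A x).coeff m
      map_add' := fun x y => by simp
      map_smul' := fun r x => by simp }
  have hp : ∀ x, p (p x) = p x := fun x => by
    change (φ A ((φ A x).coeff m)).coeff m = _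
    rw [coeff_coeff, if_pos rfl]
    rfl
  have hrange : ∀ x, p x ∈ (n • ⊤ : Submodule R B) := fun x => by
    rw [Ideal.smul_top_eq_map]
    exact htriv x m hm
  have key : ∀ k : ℕ, LinearMap.range p ≤ (n ^ k) • (⊤ : Submodule R B) := by
    intro k
    induction k with
    | zero => rw [pow_zero, Ideal.one_eq_top, Submodule.top_smul]; exact le_top
    | succ k ih =>
      rintro _ ⟨x, rfl⟩
      rw [← hp x, pow_succ', Submodule.mul_smul]
      have h1 : p (p x) ∈ Submodule.map p (n • ⊤ : Submodule R B) := ⟨p x, hrange x, rfl⟩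
      rw [Submodule.map_smul'', Submodule.map_top] at h1
      exact Submodule.smul_mono le_rfl ih h1
  have := key N ⟨b, rfl⟩
  rw [hN, Submodule.zero_eq_bot, Submodule.bot_smul, Submodule.mem_bot] at this
  exact this

theorem φ_eq (n : Ideal R) (hn : IsNilpotent n)
    (htriv : ∀ (C : Type u) [CommRing C] [Algebra R C], (∀ r ∈ n, algebraMap R C r = 0) →
      ∀ (χ : M →* C) (β : B →ₐ[R] C), A.sm C χ β = β) (b : B) :
    φ A b = MonoidAlgebra.single 1 b := by
  classical
  have hz : ∀ b, ∀ m : M, m ≠ 1 → (φ A b).coeff m ∈ n.map (algebraMap R B) := by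
    intro b m hm
    let I : Ideal B := n.map (algebraMap R B)
    let π : B →ₐ[R] B ⧸ I := Ideal.Quotient.mkₐ R I
    let h : MonoidAlgebra B M →ₐ[R] MonoidAlgebra (B ⧸ I) M :=
      ev (MonoidAlgebra.of (B ⧸ I) M)
        ((IsScalarTower.toAlgHom R (B ⧸ I) (MonoidAlgebra (B ⧸ I) M)).comp π)
    have hC : ∀ r ∈ n, algebraMap R (MonoidAlgebra (B ⧸ I) M) r = 0 := by
      intro r hr
      rw [IsScalarTower.algebraMap_apply R (B ⧸ I) (MonoidAlgebra (B ⧸ I) M),
        show algebraMap R (B ⧸ I) r = Ideal.Quotient.mk I (algebraMap R B r) from rfl,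
        Ideal.Quotient.eq_zero_iff_mem.2 (Ideal.mem_map_of_mem _ hr), map_zero]
    have h2 : ∀ y : MonoidAlgebra B M, (h y).coeff m = Ideal.Quotient.mk I (y.coeff m) := by
      intro y
      induction y using MonoidAlgebra.induction_linear with
      | zero => simp
      | add p q hp hq => simp [hp, hq]
      | single a c =>
        simp [h, π, ev_single, MonoidAlgebra.coe_algebraMap, MonoidAlgebra.single_mul_single,
          MonoidAlgebra.coeff_single, Finsupp.single_apply, apply_ite (Ideal.Quotient.mk I)]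
    have h1 := AlgHom.congr_fun (htriv _ hC (MonoidAlgebra.of (B ⧸ I) M)
      ((IsScalarTower.toAlgHom R (B ⧸ I) (MonoidAlgebra (B ⧸ I) M)).comp π)) b
    rw [sm_eq, AlgHom.comp_apply] at h1
    have h3 := congrArg (fun y => MonoidAlgebra.coeff y m) h1
    rw [show (ev (MonoidAlgebra.of (B ⧸ I) M)
        ((IsScalarTower.toAlgHom R (B ⧸ I) (MonoidAlgebra (B ⧸ I) M)).comp π)) (φ A b) = h (φ A b) from rfl,
      h2] at h3
    refine Ideal.Quotient.eq_zero_iff_mem.1 (h3.trans ?_)
    simp [π, MonoidAlgebra.coe_algebraMap, MonoidAlgebra.coeff_single, Finsupp.single_apply, Ne.symm hm]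
  have hne := coeff_eq_zero A n hn hz b
  have hsupp : φ A b = MonoidAlgebra.single 1 ((φ A b).coeff 1) := by
    refine MonoidAlgebra.ext (Finsupp.ext fun m => ?_)
    rw [MonoidAlgebra.coeff_single, Finsupp.single_apply]
    split_ifs with h
    · rw [h]
    · exact hne m (Ne.symm h)
  have h1 := AlgHom.congr_fun (A.one B (AlgHom.id R B)) b
  rw [sm_eq, AlgHom.comp_apply, hsupp, ev_single] at h1
  rw [hsupp]
  congr 1
  simpa using h1

theorem sm_eq_self (n : Ideal R) (hn : IsNilpotent n)
    (htriv : ∀ (C : Type u) [CommRing C] [Algebra R C], (∀ r ∈ n, algebraMap R C r = 0) →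
      ∀ (χ : M →* C) (β : B →ₐ[R] C), A.sm C χ β = β)
    (C : Type u) [CommRing C] [Algebra R C] (χ : M →* C) (β : B →ₐ[R] C) : A.sm C χ β = β := by
  refine AlgHom.ext fun b => ?_
  rw [sm_eq, AlgHom.comp_apply, φ_eq A n hn htriv b, ev_single]
  simp

end Groth.L25.ActCoeff
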