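import Groth.Agent.L22.GeomConn.Main

/-!
# A connected scheme over a field with a rational point is geometrically connected
-/

set_option autoImplicit false
universe u

open CategoryTheory CategoryTheory.Limits AlgebraicGeometry

set_option backward.isDefEq.respectTransparency.types false

namespace Groth.L25.RatConn

open Groth.L22.GeomConn

variable {k : Type u} [Field k] {X : Scheme.{u}} (f : X ⟶ Spec (CommRingCat.of k))

theorem geometricallyConnected_of_section [ConnectedSpace X]
    (x : Spec (CommRingCat.of k) ⟶ X) (hx : x ≫ f = 𝟙 _) : GeometricallyConnected f := by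
  refine ⟨geometrically_iff_of_isClosedUnderIsomorphisms.mpr fun K _ y => ?_⟩
  obtain ⟨θ, rfl⟩ := Spec.map_surjective y
  algebraize [θ.hom]
  let xK : Spec (CommRingCat.of K) ⟶ pullback f (specMap k K) :=
    pullback.lift (specMap k K ≫ x) (𝟙 _) (by simp [hx])
  have hsq : IsPullback (specMap k K) xK x (pullback.fst f (specMap k K)) := by
    refine IsPullback.of_bot ?_ (pullback.lift_fst _ _ _).symm (IsPullback.of_hasPullback f (specMap k K))
    rw [pullback.lift_snd, hx]
    exact IsPullback.of_vert_isIso ⟨by simp⟩
  let c : X := x (IsLocalRing.closedPoint k)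
  have hfib : (pullback.fst f (specMap k K)) ⁻¹' {c} ⊆ Set.range xK := by
    intro z hz
    have : z ∈ (pullback.fst f (specMap k K)) ⁻¹' Set.range x := ⟨IsLocalRing.closedPoint k, hz.symm⟩
    rwa [← Scheme.Pullback.range_snd, ← hsq.isoPullback_inv_snd, Scheme.Hom.comp_base,
      TopCat.coe_comp, Set.range_comp, Set.range_eq_univ.2 (show Function.Surjective hsq.isoPullback.inv.base from hsq.isoPullback.inv.homeomorph.surjective),
      Set.image_univ] at this
  have h := isConnected_preimage_of_fibre f K c (Set.range xK)
    (Set.subsingleton_range (α := Spec (CommRingCat.of K)) xK).isPreconnected hfib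
  rw [PreconnectedSpace.connectedComponent_eq_univ, Set.preimage_univ] at h
  exact connectedSpace_iff_univ.2 h

end Groth.L25.RatConn
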