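import Groth.Agent.L25.Homogeneous
import Groth.Agent.L25.RatConn
import Mathlib.AlgebraicGeometry.Morphisms.FormallyUnramified
import Mathlib.AlgebraicGeometry.Morphisms.Etale
import Mathlib.AlgebraicGeometry.Fiber
import Mathlib.AlgebraicGeometry.ResidueField

/-!
# Group schemes with connected fibres fix the lifts along an unramified map of fixed points
-/

set_option autoImplicit false
universe u

open CategoryTheory CategoryTheory.Limits MonoidalCategory CartesianMonoidalCategory MonObj GrpObj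
open AlgebraicGeometry

set_option backward.isDefEq.respectTransparency.types false

namespace Groth.L25.FixedEtale

/-- The points where two maps agree, for maps into the source of an unramified map. -/
def agree {P X Y : Scheme.{u}} (f : X ⟶ Y) (u v : P ⟶ X) (h : u ≫ f = v ≫ f) : Set P :=
  (pullback.lift u v h : P ⟶ pullback f f) ⁻¹' Set.range (pullback.diagonal f)

theorem mem_agree {P X Y : Scheme.{u}} {f : X ⟶ Y} {u v : P ⟶ X} (h : u ≫ f = v ≫ f) {L : Type u}
    [Field L] (ζ : Spec (CommRingCat.of L) ⟶ P) (e : ζ ≫ u = ζ ≫ v) (p : Spec (CommRingCat.of L)) :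
    ζ p ∈ agree f u v h := by
  refine ⟨(ζ ≫ u) p, ?_⟩
  suffices he : (ζ ≫ u) ≫ pullback.diagonal f = ζ ≫ pullback.lift u v h by
    rw [← Scheme.Hom.comp_apply, he, Scheme.Hom.comp_apply]
  apply pullback.hom_ext
  · simp [pullback.lift_fst]
  · simp [e, pullback.lift_snd]

theorem eq_of_mem_agree {P X Y : Scheme.{u}} {f : X ⟶ Y} [IsOpenImmersion (pullback.diagonal f)]
    {u v : P ⟶ X} (h : u ≫ f = v ≫ f) {Q : Scheme.{u}} (ζ : Q ⟶ P)
    (hz : ∀ q, ζ q ∈ agree f u v h) : ζ ≫ u = ζ ≫ v := by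
  have hr : Set.range (ζ ≫ pullback.lift u v h) ⊆ Set.range (pullback.diagonal f) := by
    rintro _ ⟨q, rfl⟩
    rw [Scheme.Hom.comp_apply]
    exact hz q
  have e := IsOpenImmersion.lift_fac (pullback.diagonal f) (ζ ≫ pullback.lift u v h) hr
  have e1 := congrArg (· ≫ pullback.fst f f) e
  have e2 := congrArg (· ≫ pullback.snd f f) e
  simp only [Category.assoc, pullback.lift_fst, pullback.lift_snd, pullback.diagonal_fst,
    pullback.diagonal_snd, Category.comp_id] at e1 e2
  rw [← e1, ← e2]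

theorem isOpen_agree {P X Y : Scheme.{u}} {f : X ⟶ Y} [IsOpenImmersion (pullback.diagonal f)]
    {u v : P ⟶ X} (h : u ≫ f = v ≫ f) : IsOpen (agree f u v h) :=
  (pullback.diagonal f).isOpenEmbedding.isOpen_range.preimage (Scheme.Hom.continuous _)

variable {S : Scheme.{u}} {G : Over S} [GrpObj G]

theorem irreducibleSpace_point [LocallyOfFiniteType G.hom]
    (hconn : ∀ s : S, ConnectedSpace (G.hom.fiber s)) {K : Type u} [Field K]
    (ξ : Spec (CommRingCat.of K) ⟶ S) : IrreducibleSpace (G ⊗ Over.mk ξ).left := by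
  let p₀ := IsLocalRing.closedPoint K
  let s := ξ p₀
  obtain ⟨φ, hφ⟩ : ∃ φ : S.residueField s ⟶ CommRingCat.of K,
      Spec.map φ ≫ S.fromSpecResidueField s = ξ :=
    ⟨_, Scheme.descResidueField_stalkClosedPointTo_fromSpecResidueField K S ξ⟩
  let σ : Spec (CommRingCat.of (S.residueField s)) ⟶ G.hom.fiber s :=
    pullback.lift (S.fromSpecResidueField s ≫ η[G].left) (𝟙 _)
      (by simp [GrpBasics.unit_comp_hom G])
  have := hconn s
  have := RatConn.geometricallyConnected_of_section (G.hom.fiberToSpecResidueField s) σ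
    (pullback.lift_snd _ _ _)
  have hc : ConnectedSpace ↥(pullback (G.hom.fiberToSpecResidueField s) (Spec.map φ)) :=
    pullback_of_geometrically this.geometrically_connectedSpace K (Spec.map φ)
  let e : pullback (G.hom.fiberToSpecResidueField s) (Spec.map φ) ≅ pullback G.hom ξ :=
    pullbackLeftPullbackSndIso G.hom (S.fromSpecResidueField s) (Spec.map φ) ≪≫
      pullback.congrHom rfl hφ
  have : ConnectedSpace (Red.bc ξ G).left :=
    e.hom.homeomorph.surjective.connectedSpace e.hom.continuous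
  have : LocallyOfFiniteType (Red.bc ξ G).hom :=
    inferInstanceAs (LocallyOfFiniteType (pullback.snd G.hom ξ))
  have : IsLocallyNoetherian (Red.bc ξ G).left :=
    LocallyOfFiniteType.isLocallyNoetherian (Red.bc ξ G).hom
  exact Component.irreducibleSpace (Red.bc ξ G)

variable {X Y : Over S} (a : AlgGrp.Action G X) (b : AlgGrp.Action G Y) (f : X ⟶ Y)
  (hf : a.act ≫ f = (G ◁ f) ≫ b.act)

theorem one_smul {T : Over S} (x : T ⟶ X) : lift (1 : T ⟶ G) x ≫ a.act = x := by
  have h : lift (1 : T ⟶ G) x = lift (toUnit T) x ≫ (η[G] ▷ X) := by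
    rw [lift_whiskerRight, Hom.one_def]
  rw [h, Category.assoc, a.one_act]
  simp

theorem mul_smul {T : Over S} (g h : T ⟶ G) (x : T ⟶ X) :
    lift (g * h) x ≫ a.act = lift g (lift h x ≫ a.act) ≫ a.act := by
  have e : lift (g * h) x = lift (lift g h) x ≫ (μ[G] ▷ X) := by
    rw [lift_whiskerRight, Hom.mul_def]
  rw [e, Category.assoc, a.mul_act, lift_lift_associator_hom_assoc, lift_whiskerLeft_assoc]

include hf in
theorem act_comp {T : Over S} (g : T ⟶ G) (x : T ⟶ X) :
    (lift g x ≫ a.act) ≫ f = lift g (x ≫ f) ≫ b.act := by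
  rw [Category.assoc, hf, lift_whiskerLeft_assoc]

include hf in
theorem smul_eq_of_field [LocallyOfFiniteType G.hom]
    (hconn : ∀ s : S, ConnectedSpace (G.hom.fiber s)) [IsOpenImmersion (pullback.diagonal f.left)]
    {K : Type u} [Field K] (ξ : Spec (CommRingCat.of K) ⟶ S) (g : Over.mk ξ ⟶ G) (x : Over.mk ξ ⟶ X)
    (hx : ∀ (T' : Over S) (t : T' ⟶ Over.mk ξ) (h : T' ⟶ G),
      lift h (t ≫ x ≫ f) ≫ b.act = t ≫ x ≫ f) : lift g x ≫ a.act = x := by
  let T : Over S := Over.mk ξ
  let u₁ : G ⊗ T ⟶ X := lift (fst G T) (snd G T ≫ x) ≫ a.act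
  let v₁ : G ⊗ T ⟶ X := snd G T ≫ x
  have huv : u₁.left ≫ f.left = v₁.left ≫ f.left := by
    rw [← Over.comp_left, ← Over.comp_left]
    congr 1
    simp only [u₁, v₁, act_comp a b f hf, Category.assoc]
    exact hx _ _ _
  let pe : T ⟶ G ⊗ T := lift 1 (𝟙 T)
  let pg : T ⟶ G ⊗ T := lift g (𝟙 T)
  let τ : G ⊗ T ⟶ G ⊗ T := lift ((fst G T)⁻¹ * (snd G T ≫ g)) (snd G T)
  let W : Set (G ⊗ T).left := agree f.left u₁.left v₁.left huv
  have hW : IsOpen W := isOpen_agree huv
  let p₀ : T.left := IsLocalRing.closedPoint K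
  have he : pe.left p₀ ∈ W := by
    refine mem_agree huv pe.left ?_ p₀
    rw [← Over.comp_left, ← Over.comp_left]
    congr 1
    simp [pe, u₁, v₁, comp_lift_assoc, one_smul]
  have hτg : τ.left (pg.left p₀) = pe.left p₀ := by
    rw [← Scheme.Hom.comp_apply, ← Over.comp_left]
    suffices hh : pg ≫ τ = pe by rw [hh]
    apply CartesianMonoidalCategory.hom_ext <;>
      simp [τ, pg, pe, MonObj.comp_mul, GrpObj.comp_inv]
  have := irreducibleSpace_point hconn ξ
  obtain ⟨z, hz1, hz2⟩ := nonempty_preirreducible_inter hW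
    (hW.preimage τ.left.continuous) ⟨_, he⟩ ⟨pg.left p₀, by
      show τ.left (pg.left p₀) ∈ W
      rwa [hτg]⟩
  let T₂ : Over S := Over.mk ((G ⊗ T).left.fromSpecResidueField z ≫ (G ⊗ T).hom)
  let ζ : T₂ ⟶ G ⊗ T := Over.homMk ((G ⊗ T).left.fromSpecResidueField z) rfl
  have hζ : ∀ q : T₂.left, ζ.left q = z := fun q => Scheme.fromSpecResidueField_apply _ q
  have h1 : ζ ≫ u₁ = ζ ≫ v₁ :=
    Over.OverMorphism.ext (eq_of_mem_agree huv ζ.left fun q => by rw [hζ]; exact hz1)
  have h2 : (ζ ≫ τ) ≫ u₁ = (ζ ≫ τ) ≫ v₁ :=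
    Over.OverMorphism.ext (eq_of_mem_agree huv (ζ ≫ τ).left fun q => by
      show τ.left (ζ.left q) ∈ W
      rw [hζ]; exact hz2)
  have key : (ζ ≫ snd G T) ≫ lift g x ≫ a.act = (ζ ≫ snd G T) ≫ x := by
    have e1 : lift (ζ ≫ fst G T) ((ζ ≫ snd G T) ≫ x) ≫ a.act = (ζ ≫ snd G T) ≫ x := by
      simpa [u₁, v₁, comp_lift_assoc] using h1
    have e2 : lift ((ζ ≫ fst G T)⁻¹ * ((ζ ≫ snd G T) ≫ g)) ((ζ ≫ snd G T) ≫ x) ≫ a.act =
        (ζ ≫ snd G T) ≫ x := by
      simpa [u₁, v₁, τ, comp_lift_assoc, MonObj.comp_mul, GrpObj.comp_inv] using h2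
    have e3 := mul_smul a (ζ ≫ fst G T) ((ζ ≫ fst G T)⁻¹ * ((ζ ≫ snd G T) ≫ g))
      ((ζ ≫ snd G T) ≫ x)
    rw [e2, e1, mul_inv_cancel_left] at e3
    rw [comp_lift_assoc, e3]
  -- descend
  have hgx : (lift g x ≫ a.act).left ≫ f.left = x.left ≫ f.left := by
    rw [← Over.comp_left, ← Over.comp_left, act_comp a b f hf]
    congr 1
    simpa using hx T (𝟙 T) g
  obtain ⟨q⟩ : Nonempty T₂.left := inferInstanceAs (Nonempty (Spec (_ : CommRingCat.{u})))
  have hq := mem_agree hgx (L := (G ⊗ T).left.residueField z) (ζ ≫ snd G T).left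
    (by rw [← Over.comp_left, ← Over.comp_left]; exact congrArg (fun m => m.left) key) q
  have := eq_of_mem_agree hgx (𝟙 T.left) fun r => by
    have : Subsingleton T.left := inferInstanceAs (Subsingleton (PrimeSpectrum K))
    rwa [Subsingleton.elim ((𝟙 T.left : T.left ⟶ T.left) r) ((ζ ≫ snd G T).left q)]
  exact Over.OverMorphism.ext (by simpa using this)

include hf in
/-- A lift along an unramified equivariant map of a fixed point is fixed. -/
theorem smul_eq [LocallyOfFiniteType G.hom]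
    (hconn : ∀ s : S, ConnectedSpace (G.hom.fiber s)) [IsOpenImmersion (pullback.diagonal f.left)]
    {T : Over S} (g : T ⟶ G) (x : T ⟶ X)
    (hx : ∀ (T' : Over S) (t : T' ⟶ T) (h : T' ⟶ G),
      lift h (t ≫ x ≫ f) ≫ b.act = t ≫ x ≫ f) : lift g x ≫ a.act = x := by
  have hgx : (lift g x ≫ a.act).left ≫ f.left = x.left ≫ f.left := by
    rw [← Over.comp_left, ← Over.comp_left, act_comp a b f hf]
    congr 1
    simpa using hx T (𝟙 T) g
  have := eq_of_mem_agree hgx (𝟙 T.left) fun z => by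
    let ξ : Spec (CommRingCat.of (T.left.residueField z)) ⟶ S := T.left.fromSpecResidueField z ≫ T.hom
    let ζ : Over.mk ξ ⟶ T := Over.homMk (T.left.fromSpecResidueField z) rfl
    have e : ζ ≫ lift g x ≫ a.act = ζ ≫ x := by
      rw [comp_lift_assoc]
      refine smul_eq_of_field a b f hf hconn ξ _ _ fun T' t h => ?_
      simpa using hx T' (t ≫ ζ) h
    have := mem_agree hgx ζ.left
      (by rw [← Over.comp_left, ← Over.comp_left]; exact congrArg (fun m => m.left) e)
      (IsLocalRing.closedPoint (T.left.residueField z))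
    have hz : ζ.left (IsLocalRing.closedPoint (T.left.residueField z)) = z :=
      Scheme.fromSpecResidueField_apply _ _
    rw [hz] at this
    exact this
  exact Over.OverMorphism.ext (by simpa using this)

end Groth.L25.FixedEtale
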