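import Mathlib.AlgebraicGeometry.IdealSheaf.Functorial
import Mathlib.AlgebraicGeometry.Morphisms.ClosedImmersion
import Mathlib.AlgebraicGeometry.ResidueField
import Mathlib.RingTheory.Nilpotent.Basic

/-!
# Closed immersions with locally nilpotent ideal
-/

set_option autoImplicit false
universe u

open CategoryTheory CategoryTheory.Limits AlgebraicGeometry

set_option backward.isDefEq.respectTransparency.types false

namespace Groth.L25.NilThick

variable {S S₀ : Scheme.{u}} (i₀ : S₀ ⟶ S) [IsClosedImmersion i₀]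
  (hnil : ∀ x : S, ∃ U : S.affineOpens, x ∈ (U : S.Opens) ∧ IsNilpotent (i₀.ker.ideal U))

include hnil in
theorem surjective : Surjective i₀ := by
  refine ⟨fun x => ?_⟩
  obtain ⟨U, hxU, N, hN⟩ := hnil x
  have h1 : x ∈ S.zeroLocus (U := U.1) (i₀.ker.ideal U : Set Γ(S, U.1)) := by
    rw [Scheme.mem_zeroLocus_iff]
    intro f hf hxf
    have h2 : f ^ (N + 1) = 0 := by
      have := Ideal.pow_mem_pow hf (N + 1)
      rw [pow_succ, hN, Ideal.zero_eq_bot, Ideal.bot_mul, Ideal.mem_bot] at this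
      exact this
    have h3 : S.basicOpen (f ^ (N + 1)) = S.basicOpen f := Scheme.basicOpen_pow _ _ N.succ_pos
    rw [h2, Scheme.basicOpen_zero] at h3
    rw [← h3] at hxf
    exact hxf
  have h4 := ((i₀.ker.coe_support_inter U).ge ⟨h1, hxU⟩).1
  rw [Scheme.Hom.support_ker] at h4
  rwa [i₀.isClosedEmbedding.isClosed_range.closure_eq] at h4

include hnil in
/-- field valued points factor through the thickening's subscheme -/
theorem exists_lift_field {K : Type u} [Field K] (ζ : Spec (CommRingCat.of K) ⟶ S) :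
    ∃ w : Spec (CommRingCat.of K) ⟶ S₀, w ≫ i₀ = ζ := by
  have := surjective i₀ hnil
  have : IsIso (pullback.fst ζ i₀) := isIso_of_isClosedImmersion_of_surjective _
  exact ⟨inv (pullback.fst ζ i₀) ≫ pullback.snd ζ i₀, by
    rw [Category.assoc, ← pullback.condition, IsIso.inv_hom_id_assoc]⟩

/-- a map from an affine scheme through an affine open factors when the ideal maps to zero -/
theorem exists_lift_of_kills (U : S.affineOpens) {B : CommRingCat.{u}} (ψ : Γ(S, U.1) ⟶ B)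
    (hψ : ∀ x ∈ i₀.ker.ideal U, ψ x = 0) :
    ∃ w : Spec B ⟶ S₀, w ≫ i₀ = Spec.map ψ ≫ U.2.fromSpec := by
  refine ⟨IsClosedImmersion.lift i₀ _ ?_, IsClosedImmersion.lift_fac _ _ _⟩
  rw [← Scheme.IdealSheafData.map_ker, Scheme.IdealSheafData.le_map_iff_comap_le]
  refine Scheme.IdealSheafData.le_of_isAffine fun x hx => ?_
  rw [Scheme.IdealSheafData.ideal_comap_of_isOpenImmersion, Ideal.mem_comap] at hx
  rw [Scheme.Hom.ker_apply, RingHom.mem_ker]
  have hle : U.1 ≤ U.2.fromSpec ''ᵁ ⊤ := by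
    rw [Scheme.Hom.image_top_eq_opensRange, IsAffineOpen.opensRange_fromSpec]
  have hy := Ideal.mem_map_of_mem (S.presheaf.map (homOfLE hle).op).hom hx
  have hy' := hψ _ ((i₀.ker.map_ideal (U := U)
    (V := ⟨_, (isAffineOpen_top (Spec Γ(S, U.1))).image_of_isOpenImmersion U.2.fromSpec⟩) hle).le hy)
  have hbij : Function.Bijective (Scheme.ΓSpecIso B).hom := ConcreteCategory.bijective_of_isIso _
  refine hbij.1 (Eq.trans ?_ (map_zero (Scheme.ΓSpecIso B).hom.hom).symm)
  refine Eq.trans ?_ hy'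
  change ((Spec.map ψ).appTop ≫ (Scheme.ΓSpecIso B).hom) x = _
  rw [Scheme.ΓSpecIso_naturality]
  change ψ ((Scheme.ΓSpecIso Γ(S, U.1)).hom x) = ψ _
  congr 1
  rw [← CommRingCat.comp_apply]
  have e : (Scheme.ΓSpecIso Γ(S, U.1)).hom = (U.2.fromSpec.appIso ⊤).inv ≫
      S.presheaf.map (homOfLE hle).op := by
    rw [Iso.eq_inv_comp]
    rw [Scheme.Hom.appIso_hom, IsAffineOpen.fromSpec_app_of_le _ _ (by
      rw [Scheme.Hom.image_top_eq_opensRange, IsAffineOpen.opensRange_fromSpec])]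
    simp only [Category.assoc]
    rw [← Functor.map_comp_assoc]
    refine Eq.trans (congrArg (fun z => _ ≫ _ ≫ z ≫ _)
      ((congrArg (Spec Γ(S, U.1)).presheaf.map (Subsingleton.elim _
        (𝟙 (Opposite.op (⊤ : (Spec Γ(S, U.1)).Opens))))).trans (CategoryTheory.Functor.map_id _ _))) ?_
    simp
  rw [e]

/-- on small affine schemes over the base the subscheme is cut out by a nilpotent ideal -/
theorem exists_nilpotent {R : CommRingCat.{u}} (U : S.affineOpens)
    (hU : IsNilpotent (i₀.ker.ideal U)) (φ : Γ(S, U.1) ⟶ R) :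
    ∃ n : Ideal R, IsNilpotent n ∧ ∀ (C : CommRingCat.{u}) (θ : R ⟶ C), (∀ r ∈ n, θ r = 0) →
      ∃ w : Spec C ⟶ S₀, w ≫ i₀ = Spec.map θ ≫ Spec.map φ ≫ U.2.fromSpec := by
  obtain ⟨N, hN⟩ := hU
  have hn : IsNilpotent ((i₀.ker.ideal U).map φ.hom) :=
    ⟨N, by rw [← Ideal.map_pow, hN, Ideal.zero_eq_bot, Ideal.map_bot]; rfl⟩
  refine ⟨(i₀.ker.ideal U).map φ.hom, hn, fun C θ hθ => ?_⟩
  obtain ⟨w, hw⟩ := exists_lift_of_kills i₀ U (φ ≫ θ)
    (fun x hx => hθ _ (Ideal.mem_map_of_mem φ.hom hx))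
  exact ⟨w, by rw [hw, Spec.map_comp, Category.assoc]⟩

end Groth.L25.NilThick
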