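import Groth.Agent.L25.DSPts
import Groth.Agent.L25.ActCoeff
import Groth.Agent.L25.NilThick
import Groth.Agent.L25.FixedEtale
import Groth.Prelude.Def_TwC
import Mathlib.AlgebraicGeometry.Morphisms.Flat

/-!
# Actions of groups of multiplicative type trivial modulo a nilpotent ideal are trivial
-/

set_option autoImplicit false
universe u

open CategoryTheory CategoryTheory.Limits MonoidalCategory CartesianMonoidalCategory MonObj GrpObj
open AlgebraicGeometry

set_option backward.isDefEq.respectTransparency.types false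

namespace Groth.L25.NilAction

section Base

variable {S P : Scheme.{u}} (j : P ⟶ S) {G : Over S} [GrpObj G]

/-- a point of the base change as a point -/
noncomputable def toBase {X : Over S} {Y : Over P} (a : Y ⟶ Red.bc j X) :
    Over.mk (Y.hom ≫ j) ⟶ X :=
  Over.homMk (a.left ≫ pullback.fst X.hom j) (by
    show (a.left ≫ pullback.fst X.hom j) ≫ X.hom = Y.hom ≫ j
    rw [Category.assoc, pullback.condition, ← Over.w a]
    exact (Category.assoc _ _ _).symm)

/-- a point as a point of the base change -/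
noncomputable def ofBase {X : Over S} {Y : Over P} (x : Over.mk (Y.hom ≫ j) ⟶ X) :
    Y ⟶ Red.bc j X :=
  Over.homMk (pullback.lift x.left Y.hom (Over.w x)) (pullback.lift_snd _ _ _)

theorem ofBase_toBase {X : Over S} {Y : Over P} (a : Y ⟶ Red.bc j X) : ofBase j (toBase j a) = a := by
  apply Over.OverMorphism.ext
  apply pullback.hom_ext
  · exact pullback.lift_fst _ _ _
  · exact (pullback.lift_snd _ _ _).trans (Over.w a).symm

theorem toBase_ofBase {X : Over S} {Y : Over P} (x : Over.mk (Y.hom ≫ j) ⟶ X) :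
    toBase j (ofBase j x) = x :=
  Over.OverMorphism.ext (pullback.lift_fst _ _ _)

theorem ofBase_comp {X X' : Over S} {Y : Over P} (x : Over.mk (Y.hom ≫ j) ⟶ X) (f : X ⟶ X') :
    ofBase j x ≫ (Over.pullback j).map f = ofBase j (x ≫ f) := by
  apply Over.OverMorphism.ext
  apply pullback.hom_ext
  · simp only [ofBase, Over.comp_left, Over.homMk_left, Over.pullback_map_left, Category.assoc,
      pullback.lift_fst, pullback.lift_fst_assoc]
  · simp only [ofBase, Over.comp_left, Over.homMk_left, Over.pullback_map_left, Category.assoc,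
      pullback.lift_snd]

theorem toBase_mul {Y : Over P} (a b : Y ⟶ Red.bc j G) :
    toBase j (a * b) = toBase j a * toBase j b := by
  let d := ofBase j (𝟙 (Over.mk (Y.hom ≫ j)))
  have key : ∀ g : Over.mk (Y.hom ≫ j) ⟶ G, ofBase j g = d ≫ (Over.pullback j).map g := fun g => by
    rw [ofBase_comp, Category.id_comp]
  have h : ofBase j (toBase j a * toBase j b) = a * b := by
    rw [key, show (Over.pullback j).map (toBase j a * toBase j b) =
      (Over.pullback j).map (toBase j a) * (Over.pullback j).map (toBase j b) from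
        map_mul ((Over.pullback j).homMonoidHom) _ _, MonObj.comp_mul, ← key, ← key,
      ofBase_toBase, ofBase_toBase]
  rw [← h, toBase_ofBase]

theorem toBase_one {Y : Over P} : toBase j (1 : Y ⟶ Red.bc j G) = 1 := by
  let f : (Y ⟶ Red.bc j G) →* (Over.mk (Y.hom ≫ j) ⟶ G) :=
    MonoidHom.mk' (toBase j) (toBase_mul j)
  exact map_one f

end Base

variable {S S₀ : Scheme.{u}} (i₀ : S₀ ⟶ S) [IsClosedImmersion i₀]
  (hnil : ∀ x : S, ∃ U : S.affineOpens, x ∈ (U : S.Opens) ∧ IsNilpotent (i₀.ker.ideal U))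
  {G X : Over S} [GrpObj G] (a : AlgGrp.Action G X)
  (h0 : ∀ (Y : Over S) (_ : Y ⟶ Over.mk i₀) (g : Y ⟶ G) (x : Y ⟶ X), lift g x ≫ a.act = x)

include hnil h0 in
/-- on field-valued points the action is trivial -/
theorem field_eq {Y : Over S} (g : Y ⟶ G) (x : Y ⟶ X) (y : Y.left) :
    Y.left.fromSpecResidueField y ≫ (lift g x ≫ a.act).left = Y.left.fromSpecResidueField y ≫ x.left := by
  obtain ⟨w, hw⟩ := NilThick.exists_lift_field i₀ hnil (Y.left.fromSpecResidueField y ≫ Y.hom)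
  let Y₁ : Over S := Over.mk (Y.left.fromSpecResidueField y ≫ Y.hom)
  let ζ : Y₁ ⟶ Y := Over.homMk (Y.left.fromSpecResidueField y) rfl
  have h := h0 Y₁ (Over.homMk w hw) (ζ ≫ g) (ζ ≫ x)
  rw [← comp_lift_assoc] at h
  exact congrArg (fun m : Y₁ ⟶ X => m.left) h

section Local

variable {U : Scheme.{u}} (jU : U ⟶ S) {M : Type} [AddCommGroup M]
  (e : Grp.mk (Red.bc jU G) ≅ Grp.mk (Red.DS U M))
  {R : Type u} [CommRing R] (k : Spec (CommRingCat.of R) ⟶ U)
  {B : Type u} [CommRing B] [Algebra R B] (ι' : Spec (CommRingCat.of B) ⟶ pullback X.hom (k ≫ jU))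
  [IsOpenImmersion ι'] (hι : ι' ≫ pullback.snd X.hom (k ≫ jU) = Spec.map (CommRingCat.ofHom (algebraMap R B)))

/-- `Spec C` over `U` -/
noncomputable abbrev YC (C : Type u) [CommRing C] [Algebra R C] : Over U :=
  Over.mk (Spec.map (CommRingCat.ofHom (algebraMap R C)) ≫ k)

/-- `Spec C` over `S` -/
noncomputable abbrev YS (C : Type u) [CommRing C] [Algebra R C] : Over S :=
  Over.mk ((YC k C).hom ≫ jU)

/-- scalars as global functions -/
noncomputable abbrev toΓ (C : Type u) [CommRing C] : C →* Γ(Spec (CommRingCat.of C), ⊤) :=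
  (Scheme.ΓSpecIso (CommRingCat.of C)).inv.hom.toMonoidHom

/-- characters give points -/
noncomputable def gC {C : Type u} [CommRing C] [Algebra R C] (χ : Multiplicative M →* C) :
    YS jU k C ⟶ G :=
  toBase jU (DSPts.pt (T := YC k C) ((toΓ C).comp χ) ≫
    e.inv.hom.hom)

theorem gC_mul {C : Type u} [CommRing C] [Algebra R C] (χ ψ : Multiplicative M →* C) :
    gC jU e k (χ * ψ) = gC jU e k χ * gC jU e k ψ := by
  rw [gC, gC, gC, ← toBase_mul,
    ← @MonObj.mul_comp _ _ _ _ _ _ _ _ _ _ e.inv.hom.hom e.inv.hom.isMonHom_hom, ← DSPts.pt_mul]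
  congr 3
  exact MonoidHom.ext fun m => map_mul (Scheme.ΓSpecIso (CommRingCat.of C)).inv.hom _ _

theorem gC_one {C : Type u} [CommRing C] [Algebra R C] :
    gC jU e k (1 : Multiplicative M →* C) = 1 := by
  have h : (toΓ C).comp (1 : Multiplicative M →* C) = 1 :=
    MonoidHom.ext fun m => map_one (Scheme.ΓSpecIso (CommRingCat.of C)).inv.hom
  rw [gC, h, DSPts.pt_one, @MonObj.one_comp _ _ _ _ _ _ _ _ e.inv.hom.hom e.inv.hom.isMonHom_hom,
    toBase_one]

include hι in
theorem xC_w {C : Type u} [CommRing C] [Algebra R C] (β : B →ₐ[R] C) :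
    (Spec.map (CommRingCat.ofHom β.toRingHom) ≫ ι' ≫ pullback.fst X.hom (k ≫ jU)) ≫ X.hom =
      (YS jU k C).hom := by
  rw [Category.assoc, Category.assoc, pullback.condition, reassoc_of% hι, ← Spec.map_comp_assoc,
    ← CommRingCat.ofHom_comp, AlgHom.toRingHom_eq_coe, AlgHom.comp_algebraMap]
  simp [YC]

/-- algebra maps give points -/
noncomputable def xC {C : Type u} [CommRing C] [Algebra R C] (β : B →ₐ[R] C) : YS jU k C ⟶ X :=
  Over.homMk (Spec.map (CommRingCat.ofHom β.toRingHom) ≫ ι' ≫ pullback.fst X.hom (k ≫ jU))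
    (xC_w jU k ι' hι β)

include hι in
theorem eq_of_xC_eq {C : Type u} [CommRing C] [Algebra R C] {β β' : B →ₐ[R] C}
    (h : xC jU k ι' hι β = xC jU k ι' hι β') : β = β' := by
  have h1 : (Spec.map (CommRingCat.ofHom β.toRingHom) ≫ ι') = Spec.map (CommRingCat.ofHom β'.toRingHom) ≫ ι' := by
    apply pullback.hom_ext
    · simp only [Category.assoc]
      exact congrArg (fun m => m.left) h
    · simp only [Category.assoc, hι, ← Spec.map_comp, ← CommRingCat.ofHom_comp,
        AlgHom.toRingHom_eq_coe, AlgHom.comp_algebraMap]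
  have h2 := Spec.map_injective ((cancel_mono ι').1 h1)
  exact AlgHom.ext fun b => congrArg (fun m => m.hom b) h2

include hnil h0 hι in
theorem exists_sm {C : Type u} [CommRing C] [Algebra R C] (χ : Multiplicative M →* C) (β : B →ₐ[R] C) :
    ∃ β' : B →ₐ[R] C, xC jU k ι' hι β' = lift (gC jU e k χ) (xC jU k ι' hι β) ≫ a.act := by
  let r := lift (gC jU e k χ) (xC jU k ι' hι β) ≫ a.act
  let str := Spec.map (CommRingCat.ofHom (algebraMap R C))
  let r' : Spec (CommRingCat.of C) ⟶ pullback X.hom (k ≫ jU) :=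
    pullback.lift r.left str ((Over.w r).trans (Category.assoc _ _ _))
  have hrange : Set.range r' ⊆ Set.range ι' := by
    rintro _ ⟨q, rfl⟩
    refine ⟨Spec.map (CommRingCat.ofHom β.toRingHom) q, ?_⟩
    have h := field_eq i₀ hnil a h0 (gC jU e k χ) (xC jU k ι' hι β) q
    have h1 : (Spec (CommRingCat.of C)).fromSpecResidueField q ≫ r' =
        (Spec (CommRingCat.of C)).fromSpecResidueField q ≫ Spec.map (CommRingCat.ofHom β.toRingHom) ≫ ι' := by
      apply pullback.hom_ext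
      · simp only [Category.assoc, r', pullback.lift_fst]
        exact h
      · simp only [Category.assoc, r', pullback.lift_snd, hι, ← Spec.map_comp, ← CommRingCat.ofHom_comp,
          AlgHom.toRingHom_eq_coe, AlgHom.comp_algebraMap, str]
    have h2 := congrArg (fun m => m (IsLocalRing.closedPoint ((Spec (CommRingCat.of C)).residueField q))) h1
    simp only [Scheme.Hom.comp_apply, Scheme.fromSpecResidueField_apply] at h2
    exact h2.symm
  obtain ⟨φ, hφ⟩ := Spec.map_surjective (IsOpenImmersion.lift ι' r' hrange)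
  have hfac : Spec.map φ ≫ ι' = r' := by rw [hφ, IsOpenImmersion.lift_fac]
  have hstr : CommRingCat.ofHom (algebraMap R B) ≫ φ = CommRingCat.ofHom (algebraMap R C) := by
    apply Spec.map_injective
    rw [Spec.map_comp, ← hι, reassoc_of% hfac, pullback.lift_snd]
  refine ⟨{ φ.hom with commutes' := fun x => congrArg (fun m => m.hom x) hstr },
    Over.OverMorphism.ext ?_⟩
  show Spec.map φ ≫ ι' ≫ pullback.fst X.hom (k ≫ jU) = r.left
  rw [reassoc_of% hfac, pullback.lift_fst]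

variable {C C' : Type u} [CommRing C] [CommRing C'] [Algebra R C] [Algebra R C']

/-- change of algebra -/
noncomputable def homC (h : C →ₐ[R] C') : YC k C' ⟶ YC k C :=
  Over.homMk (Spec.map (CommRingCat.ofHom h.toRingHom)) (by
    simp only [Over.mk_hom]
    rw [← Spec.map_comp_assoc, ← CommRingCat.ofHom_comp, AlgHom.toRingHom_eq_coe, AlgHom.comp_algebraMap])

/-- change of algebra over `S` -/
noncomputable def homS (h : C →ₐ[R] C') : YS jU k C' ⟶ YS jU k C :=
  Over.homMk (Spec.map (CommRingCat.ofHom h.toRingHom)) (by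
    simp only [Over.mk_hom]
    rw [← Category.assoc, ← Spec.map_comp_assoc, ← CommRingCat.ofHom_comp, AlgHom.toRingHom_eq_coe,
      AlgHom.comp_algebraMap])

theorem homS_gC (h : C →ₐ[R] C') (χ : Multiplicative M →* C) :
    homS jU k h ≫ gC jU e k χ = gC jU e k ((h : C →* C').comp χ) := by
  have h1 : homC k h ≫ DSPts.pt ((toΓ C).comp χ) =
      DSPts.pt ((toΓ C').comp ((h : C →* C').comp χ)) := by
    refine DSPts.char_injective (MonoidHom.ext fun m => ?_)
    rw [DSPts.char_comp, DSPts.char_pt, DSPts.char_pt]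
    exact congrArg (fun ψ => (ConcreteCategory.hom ψ) (χ m))
      (Scheme.ΓSpecIso_inv_naturality (CommRingCat.ofHom h.toRingHom)).symm
  rw [gC, gC, ← h1]
  apply Over.OverMorphism.ext
  simp [toBase, homS, homC]

theorem homS_xC (h : C →ₐ[R] C') (β : B →ₐ[R] C) :
    homS jU k h ≫ xC jU k ι' hι β = xC jU k ι' hι (h.comp β) := by
  apply Over.OverMorphism.ext
  simp only [homS, xC, Over.comp_left, Over.homMk_left]
  rw [← Spec.map_comp_assoc, ← CommRingCat.ofHom_comp]
  rfl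

/-- the rule of action -/
noncomputable def theAct : ActCoeff.Act R B (Multiplicative M) where
  sm C _ _ χ β := (exists_sm i₀ hnil a h0 jU e k ι' hι χ β).choose
  nat C C' _ _ _ _ h χ β := by
    apply eq_of_xC_eq jU k ι' hι
    rw [(exists_sm i₀ hnil a h0 jU e k ι' hι _ _).choose_spec, ← homS_xC jU k ι' hι h (β := (exists_sm i₀ hnil a h0 jU e k ι' hι χ β).choose),
      (exists_sm i₀ hnil a h0 jU e k ι' hι χ β).choose_spec, comp_lift_assoc, homS_gC, homS_xC]
  mul C _ _ χ ψ β := by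
    apply eq_of_xC_eq jU k ι' hι
    rw [(exists_sm i₀ hnil a h0 jU e k ι' hι _ _).choose_spec,
      (exists_sm i₀ hnil a h0 jU e k ι' hι _ _).choose_spec,
      (exists_sm i₀ hnil a h0 jU e k ι' hι _ _).choose_spec, gC_mul, FixedEtale.mul_smul]
  one C _ _ β := by
    apply eq_of_xC_eq jU k ι' hι
    rw [(exists_sm i₀ hnil a h0 jU e k ι' hι _ _).choose_spec, gC_one, FixedEtale.one_smul]

variable {n : Ideal R} (hn : IsNilpotent n)
  (hfac : ∀ (C : CommRingCat.{u}) (θ : CommRingCat.of R ⟶ C), (∀ r ∈ n, θ r = 0) →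
      ∃ w : Spec C ⟶ S₀, w ≫ i₀ = Spec.map θ ≫ k ≫ jU)

include hnil h0 hι hn hfac e in
theorem smul_xC (g : YS jU k C ⟶ G) (β : B →ₐ[R] C) :
    lift g (xC jU k ι' hι β) ≫ a.act = xC jU k ι' hι β := by
  have hg : ∃ χ : Multiplicative M →* C, gC jU e k χ = g := by
    let t := ofBase jU g ≫ e.hom.hom.hom
    refine ⟨((Scheme.ΓSpecIso (CommRingCat.of C)).hom.hom.toMonoidHom).comp (DSPts.char t), ?_⟩
    have h1 : (toΓ C).comp
        (((Scheme.ΓSpecIso (CommRingCat.of C)).hom.hom.toMonoidHom).comp (DSPts.char t)) = DSPts.char t :=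
      MonoidHom.ext fun m => Iso.hom_inv_id_apply (Scheme.ΓSpecIso (CommRingCat.of C)) _
    have h2 : e.hom.hom.hom ≫ e.inv.hom.hom = 𝟙 _ := congr($(e.hom_inv_id).hom.hom)
    rw [gC, h1, DSPts.pt_char, Category.assoc, h2, Category.comp_id, toBase_ofBase]
  obtain ⟨χ, rfl⟩ := hg
  have h := ActCoeff.sm_eq_self (theAct i₀ hnil a h0 jU e k ι' hι) n hn (fun C _ _ hC χ β => by
    apply eq_of_xC_eq jU k ι' hι
    show xC jU k ι' hι (exists_sm i₀ hnil a h0 jU e k ι' hι χ β).choose = _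
    rw [(exists_sm i₀ hnil a h0 jU e k ι' hι χ β).choose_spec]
    obtain ⟨w, hw⟩ := hfac (CommRingCat.of C) (CommRingCat.ofHom (algebraMap R C)) hC
    exact h0 _ (Over.homMk w (by simpa using hw)) _ _) C χ β
  rw [← (exists_sm i₀ hnil a h0 jU e k ι' hι χ β).choose_spec]
  exact congrArg (xC jU k ι' hι) h

end Local

section Global

variable {U : Scheme.{u}} (jU : U ⟶ S) {M : Type} [AddCommGroup M]
  (e : Grp.mk (Red.bc jU G) ≅ Grp.mk (Red.DS U M))

include hnil h0 e in
/-- trivial over a member of the cover -/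
theorem smul_eq_of_split {Y : Over U} (g : Over.mk (Y.hom ≫ jU) ⟶ G) (x : Over.mk (Y.hom ≫ jU) ⟶ X) :
    lift g x ≫ a.act = x := by
  apply Over.OverMorphism.ext
  let r := lift g x ≫ a.act
  suffices hloc : ∀ y : Y.left, ∃ D : Y.left.Opens, y ∈ D ∧ D.ι ≫ r.left = D.ι ≫ x.left by
    choose D hyD hD using hloc
    exact (Y.left.openCoverOfIsOpenCover D (TopologicalSpace.IsOpenCover.mk (top_le_iff.1 fun z _ =>
      TopologicalSpace.Opens.mem_iSup.2 ⟨z, hyD z⟩))).hom_ext _ _ fun z => hD z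
  intro y
  obtain ⟨Us, hyUs, hUs⟩ := hnil (jU (Y.hom y))
  obtain ⟨_, ⟨W, hW, rfl⟩, hyW, hWU⟩ := U.isBasis_affineOpens.exists_subset_of_mem_open
    (show Y.hom y ∈ jU ⁻¹ᵁ Us.1 from hyUs) (jU ⁻¹ᵁ Us.1).2
  obtain ⟨n, hn, hfac⟩ := NilThick.exists_nilpotent i₀ Us hUs (jU.appLE Us.1 W hWU)
  have hk : Spec.map (jU.appLE Us.1 W hWU) ≫ Us.2.fromSpec = hW.fromSpec ≫ jU :=
    IsAffineOpen.SpecMap_appLE_fromSpec jU Us.2 hW hWU
  have hfac' : ∀ (C : CommRingCat.{u}) (θ : CommRingCat.of Γ(U, W) ⟶ C), (∀ r ∈ n, θ r = 0) →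
      ∃ w : Spec C ⟶ S₀, w ≫ i₀ = Spec.map θ ≫ hW.fromSpec ≫ jU := fun C θ hθ => by
    obtain ⟨w, hw⟩ := hfac C θ hθ
    exact ⟨w, by rw [hw, hk]⟩
  let k : Spec (CommRingCat.of Γ(U, W)) ⟶ U := hW.fromSpec
  let W' : Y.left.Opens := Y.hom ⁻¹ᵁ W
  have hrk : Set.range (W'.ι ≫ Y.hom) ⊆ Set.range k := by
    rintro _ ⟨q, rfl⟩
    rw [hW.range_fromSpec]
    exact q.2
  let δ : W'.toScheme ⟶ Spec (CommRingCat.of Γ(U, W)) := IsOpenImmersion.lift k (W'.ι ≫ Y.hom) hrk
  have hδ : δ ≫ k = W'.ι ≫ Y.hom := IsOpenImmersion.lift_fac _ _ _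
  let xT : W'.toScheme ⟶ pullback X.hom (k ≫ jU) := pullback.lift (W'.ι ≫ x.left) δ (by
    rw [Category.assoc, Over.w x, reassoc_of% hδ]
    rfl)
  obtain ⟨_, ⟨V, hV, rfl⟩, hyV, -⟩ := (pullback X.hom (k ≫ jU)).isBasis_affineOpens.exists_subset_of_mem_open
    (Set.mem_univ (xT ⟨y, hyW⟩)) isOpen_univ
  obtain ⟨_, ⟨D, hD, rfl⟩, hyD, hDV⟩ := Y.left.isBasis_affineOpens.exists_subset_of_mem_open
    (show y ∈ W'.ι ''ᵁ (xT ⁻¹ᵁ V) from ⟨⟨y, hyW⟩, hyV, rfl⟩) (W'.ι ''ᵁ (xT ⁻¹ᵁ V)).2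
  have hDW : D ≤ W' := fun z hz => by
    obtain ⟨q, -, rfl⟩ := hDV hz
    exact q.2
  refine ⟨D, hyD, ?_⟩
  have hrD : Set.range hD.fromSpec ⊆ Set.range W'.ι := by
    rw [hD.range_fromSpec, Scheme.Opens.range_ι]; exact hDW
  let d : Spec Γ(Y.left, D) ⟶ W'.toScheme := IsOpenImmersion.lift W'.ι hD.fromSpec hrD
  have hd : d ≫ W'.ι = hD.fromSpec := IsOpenImmersion.lift_fac _ _ _
  obtain ⟨rC, hrC⟩ := Spec.map_surjective (d ≫ δ)
  obtain ⟨rB, hrB⟩ := Spec.map_surjective (hV.fromSpec ≫ pullback.snd X.hom (k ≫ jU))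
  letI : Algebra Γ(U, W) Γ(Y.left, D) := rC.hom.toAlgebra
  letI : Algebra Γ(U, W) Γ(pullback X.hom (k ≫ jU), V) := rB.hom.toAlgebra
  have hι : hV.fromSpec ≫ pullback.snd X.hom (k ≫ jU) = Spec.map (CommRingCat.ofHom
      (algebraMap Γ(U, W) Γ(pullback X.hom (k ≫ jU), V))) := hrB.symm
  have hrV : Set.range (d ≫ xT) ⊆ Set.range hV.fromSpec := by
    rintro _ ⟨q, rfl⟩
    have hq : hD.fromSpec q ∈ (D : Set Y.left) := by rw [← hD.range_fromSpec]; exact ⟨q, rfl⟩
    obtain ⟨q', hq', hqq⟩ := hDV hq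
    have e1 : d q = q' := W'.ι.isEmbedding.injective (by
      rw [← Scheme.Hom.comp_apply, hd]; exact hqq.symm)
    rw [hV.range_fromSpec, Scheme.Hom.comp_apply, e1]
    exact hq'
  obtain ⟨β, hβ⟩ := Spec.map_surjective (IsOpenImmersion.lift hV.fromSpec (d ≫ xT) hrV)
  have hβ' : Spec.map β ≫ hV.fromSpec = d ≫ xT := by rw [hβ, IsOpenImmersion.lift_fac]
  have hβR : rB ≫ β = rC := by
    apply Spec.map_injective
    rw [Spec.map_comp, hrB, reassoc_of% hβ', pullback.lift_snd, hrC]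
  let β' : Γ(pullback X.hom (k ≫ jU), V) →ₐ[Γ(U, W)] Γ(Y.left, D) :=
    { β.hom with commutes' := fun r => congrArg (fun m => m.hom r) hβR }
  have hw : hD.fromSpec ≫ Y.hom = Spec.map rC ≫ k := by
    rw [hrC, Category.assoc, hδ, reassoc_of% hd]
  let ζ : YS jU k Γ(Y.left, D) ⟶ Over.mk (Y.hom ≫ jU) := Over.homMk hD.fromSpec (by
    show hD.fromSpec ≫ Y.hom ≫ jU = (Spec.map rC ≫ k) ≫ jU
    rw [reassoc_of% hw, Category.assoc])
  have hx : ζ ≫ x = xC jU k hV.fromSpec hι β' := by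
    apply Over.OverMorphism.ext
    show hD.fromSpec ≫ x.left = Spec.map β ≫ hV.fromSpec ≫ pullback.fst X.hom (k ≫ jU)
    rw [reassoc_of% hβ', pullback.lift_fst, reassoc_of% hd]
  have h := smul_xC i₀ hnil a h0 jU e k hV.fromSpec hι hn hfac' (ζ ≫ g) β'
  rw [← hx, ← comp_lift_assoc] at h
  have h1 : hD.fromSpec ≫ r.left = hD.fromSpec ≫ x.left := congrArg (fun m => m.left) h
  rw [← cancel_epi hD.isoSpec.inv]
  simpa [IsAffineOpen.isoSpec_inv_ι_assoc] using h1

include hnil h0 in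
/-- an action of a group of multiplicative type trivial over the thickened subscheme is trivial -/
theorem smul_eq (hG : TwC.Locally S TwC.Topology.fpqc (fun S' f => ∃ (M : Type) (_ : AddCommGroup M),
      Nonempty (Grp.mk (Red.bc f G) ≅ Grp.mk (Red.DS S' M))))
    {Y : Over S} (g : Y ⟶ G) (x : Y ⟶ X) : lift g x ≫ a.act = x := by
  obtain ⟨S', f, hflat, hsurj, -, hloc⟩ := hG
  apply Over.OverMorphism.ext
  have : Epi (pullback.fst Y.hom f) := Flat.epi_of_flat_of_surjective _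
  rw [← cancel_epi (pullback.fst Y.hom f)]
  choose W hsW M inst e using hloc
  let c := pullback.snd Y.hom f
  refine ((pullback Y.hom f).openCoverOfIsOpenCover (fun s => c ⁻¹ᵁ W s) (TopologicalSpace.IsOpenCover.mk
    (top_le_iff.1 fun z _ => TopologicalSpace.Opens.mem_iSup.2 ⟨c z, hsW (c z)⟩))).hom_ext _ _ fun s => ?_
  obtain ⟨es⟩ := e s
  letI := inst s
  let Y₁ : Over (W s).toScheme := Over.mk (c ∣_ W s)
  let p : Over.mk (Y₁.hom ≫ (W s).ι ≫ f) ⟶ Y := Over.homMk ((c ⁻¹ᵁ W s).ι ≫ pullback.fst Y.hom f) (by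
    show ((c ⁻¹ᵁ W s).ι ≫ pullback.fst Y.hom f) ≫ Y.hom = (c ∣_ W s) ≫ (W s).ι ≫ f
    rw [morphismRestrict_ι_assoc, Category.assoc, pullback.condition])
  have h := smul_eq_of_split i₀ hnil a h0 ((W s).ι ≫ f) es (Y := Y₁) (p ≫ g) (p ≫ x)
  rw [← comp_lift_assoc] at h
  have h1 := congrArg (fun m => m.left) h
  simp [p] at h1 ⊢
  exact h1

end Global

end Groth.L25.NilAction
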