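import Mathlib.RingTheory.MvPolynomial.EulerIdentity
import Mathlib.RingTheory.Derivation.Basic
import Mathlib.RingTheory.Filtration
import Mathlib.RingTheory.Finiteness.Ideal
import Mathlib.LinearAlgebra.Basis.VectorSpace
import Mathlib.LinearAlgebra.Dimension.Finite
import Mathlib.Algebra.CharZero.Defs
import Mathlib.Algebra.MvPolynomial.PDeriv
import Mathlib.RingTheory.Nilpotent.Defs

/-! In characteristic zero, a Noetherian algebra all of whose tangent vectors at rational points
extend to derivations has no nilpotents. -/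

namespace Groth.L25.DerReduced

open MvPolynomial

variable {k A : Type*} [Field k] [CommRing A] [Algebra k A]

lemma derivation_pow {m : Ideal A} (D : Derivation k A A) :
    ∀ (d : ℕ) {a : A}, a ∈ m ^ (d + 1) → D a ∈ m ^ d := by
  intro d
  induction d with
  | zero => intro a _; simp
  | succ d ih =>
    intro a ha
    rw [pow_succ] at ha
    refine Submodule.mul_induction_on ha (fun x hx y hy => ?_) (fun x y hx hy => ?_)
    · rw [Derivation.leibniz, smul_eq_mul, smul_eq_mul]
      refine Ideal.add_mem _ (Ideal.mul_mem_right _ _ hx) ?_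
      rw [pow_succ']
      exact Ideal.mul_mem_mul hy (ih hx)
    · rw [map_add]; exact Ideal.add_mem _ hx hy

lemma derivation_aeval {σ : Type*} [Fintype σ] (x : σ → A) (D : Derivation k A A) (P : MvPolynomial σ k) :
    D (aeval x P) = ∑ j, aeval x (pderiv j P) * D (x j) := by
  classical
  induction P using MvPolynomial.induction_on with
  | C a => simp
  | add p q hp hq => simp [hp, hq, add_mul, Finset.sum_add_distrib]
  | mul_X p i hp =>
    have e : ∀ j, aeval x (pderiv j (p * X i)) = aeval x (pderiv j p) * x i + aeval x p * (if j = i then 1 else 0) := by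
      intro j
      rw [Derivation.leibniz]
      simp only [pderiv_X, smul_eq_mul, map_add, map_mul, aeval_X, Pi.single_apply]
      rcases eq_or_ne i j with rfl | h
      · simp only [if_true, map_one, mul_one]; ring
      · simp only [if_neg h, if_neg h.symm, map_zero, mul_zero]; ring
    simp only [e, add_mul, Finset.sum_add_distrib, mul_assoc, ite_mul, zero_mul, one_mul, mul_ite, mul_zero,
      Finset.sum_ite_eq', Finset.mem_univ, if_true]
    rw [map_mul, aeval_X, Derivation.leibniz, hp, smul_eq_mul, smul_eq_mul, Finset.mul_sum, add_comm]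
    congr 1
    exact Finset.sum_congr rfl fun j _ => by ring

lemma pow_sub_pow_mem {m : Ideal A} {d : ℕ} {a b : A} (ha : a ∈ m ^ d) (hb : b ∈ m ^ d)
    (h : a - b ∈ m ^ (d + 1)) : ∀ N, a ^ N - b ^ N ∈ m ^ (d * N + 1) := by
  intro N
  induction N with
  | zero => simp
  | succ N ih =>
    have e : a ^ (N + 1) - b ^ (N + 1) = (a ^ N - b ^ N) * a + b ^ N * (a - b) := by ring
    rw [e]
    refine Ideal.add_mem _ ?_ ?_
    · rw [show d * (N + 1) + 1 = (d * N + 1) + d by ring, pow_add]
      exact Ideal.mul_mem_mul ih ha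
    · rw [show d * (N + 1) + 1 = d * N + (d + 1) by ring, pow_add]
      refine Ideal.mul_mem_mul ?_ h
      rw [pow_mul]; exact Ideal.pow_mem_pow hb N

/-- Local statement at a rational point. -/
theorem exists_smul_eq_of_nilpotent [CharZero k] [IsNoetherianRing A] (m : Ideal A) (hm : m ≠ ⊤)
    (χ : A →ₐ[k] k) (hχ : ∀ a, a - algebraMap k A (χ a) ∈ m)
    (hlift : ∀ w : A →ₗ[k] k, w 1 = 0 → (∀ a b, w (a * b) = χ a * w b + χ b * w a) →
      ∃ D : Derivation k A A, ∀ a, χ (D a) = w a)
    (a : A) (ha : IsNilpotent a) : ∃ r ∈ m, r * a = a := by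
  classical
  have hχm : ∀ a ∈ m, χ a = 0 := by
    intro a ha
    by_contra h
    apply hm
    have : algebraMap k A (χ a) ∈ m := by simpa using Ideal.sub_mem _ ha (hχ a)
    exact Ideal.eq_top_of_isUnit_mem _ this ((isUnit_iff_ne_zero.2 h).map _)
  have hmem : ∀ a, χ a = 0 → a ∈ m := fun a h => by simpa [h] using hχ a
  let S : Submodule k A := (m ^ 2).restrictScalars k ⊔ Submodule.span k {1}
  have hfin : Module.Finite k (A ⧸ S) := by
    obtain ⟨g, hg⟩ := (IsNoetherian.noetherian m : m.FG)
    refine ⟨⟨g.image S.mkQ, eq_top_iff.2 fun v _ => ?_⟩⟩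
    obtain ⟨a, rfl⟩ := S.mkQ_surjective v
    have h1 : S.mkQ a = S.mkQ (a - algebraMap k A (χ a)) := by
      rw [map_sub, Algebra.algebraMap_eq_smul_one, map_smul,
        show S.mkQ 1 = 0 from (Submodule.Quotient.mk_eq_zero S).2 (le_sup_right (a := (m ^ 2).restrictScalars k) (Submodule.mem_span_singleton_self _)),
        smul_zero, sub_zero]
    rw [h1]
    obtain ⟨c, hc⟩ : ∃ c : A → A, ∑ x ∈ g, c x * x = a - algebraMap k A (χ a) := by
      have := hχ a
      rw [← hg, Ideal.submodule_span_eq] at this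
      obtain ⟨c, hc⟩ := (Submodule.mem_span_finset (s := g)).1 this
      exact ⟨c, by simpa [smul_eq_mul] using hc.2⟩
    rw [← hc, map_sum]
    refine Submodule.sum_mem _ fun x hx => ?_
    have : S.mkQ (c x * x) = χ (c x) • S.mkQ x := by
      rw [← map_smul, ← sub_eq_zero, ← map_sub, Algebra.smul_def, ← sub_mul]
      refine (Submodule.Quotient.mk_eq_zero S).2 (Submodule.mem_sup_left ?_)
      show _ ∈ m ^ 2
      rw [pow_two]
      exact Ideal.mul_mem_mul (hχ _) (hg ▸ Ideal.subset_span hx)
    rw [this]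
    exact Submodule.smul_mem _ _ (Submodule.subset_span (by simp; exact ⟨x, hx, rfl⟩))
  let B := Module.finBasis k (A ⧸ S)
  choose y hy using fun i => S.mkQ_surjective (B i)
  let x := fun i => y i - algebraMap k A (χ (y i))
  have hxm : ∀ i, x i ∈ m := fun i => hχ _
  have h1S : S.mkQ 1 = 0 := (Submodule.Quotient.mk_eq_zero S).2 (Submodule.mem_sup_right (Submodule.mem_span_singleton_self _))
  have hx : ∀ i, S.mkQ (x i) = B i := by
    intro i
    simp only [x, map_sub, Algebra.algebraMap_eq_smul_one, map_smul, h1S, smul_zero, sub_zero, hy]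
  have h2S : ∀ a ∈ m ^ 2, S.mkQ a = 0 := fun a ha => (Submodule.Quotient.mk_eq_zero S).2 (Submodule.mem_sup_left ha)
  have hD : ∀ i, ∃ D : Derivation k A A, ∀ j, D (x j) - (if i = j then 1 else 0) ∈ m := by
    intro i
    have hw : ∀ a b, (B.coord i).comp S.mkQ (a * b) =
        χ a * (B.coord i).comp S.mkQ b + χ b * (B.coord i).comp S.mkQ a := by
      intro a b
      have e : a * b = (a - algebraMap k A (χ a)) * (b - algebraMap k A (χ b)) + χ a • b + χ b • a - (χ a * χ b) • 1 := by
        simp only [Algebra.smul_def, map_mul]; ring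
      have h0 := h2S _ (pow_two m ▸ Ideal.mul_mem_mul (hχ a) (hχ b))
      simp only [LinearMap.comp_apply]
      rw [e, map_sub, map_add, map_add, h0, map_smul, map_smul, map_smul, h1S, zero_add, smul_zero, sub_zero,
        map_add, map_smul, map_smul, smul_eq_mul, smul_eq_mul]
    obtain ⟨D, hD⟩ := hlift ((B.coord i).comp S.mkQ) (by simp only [LinearMap.comp_apply, h1S, map_zero]) hw
    refine ⟨D, fun j => hmem _ ?_⟩
    rw [map_sub, hD, LinearMap.comp_apply, hx]
    by_cases h : i = j <;> simp [h, Module.Basis.coord_apply, Ne.symm, eq_comm]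
  choose D hD using hD
  have span1 : ∀ b ∈ m, ∃ P : MvPolynomial (Fin (Module.finrank k (A ⧸ S))) k, P.IsHomogeneous 1 ∧ b - aeval x P ∈ m ^ 2 := by
    intro b hb
    refine ⟨∑ i, C (B.repr (S.mkQ b) i) * X i, IsHomogeneous.sum _ _ _ fun i _ => isHomogeneous_C_mul_X _ i, ?_⟩
    have h0 : S.mkQ (b - aeval x (∑ i, C (B.repr (S.mkQ b) i) * X i)) = 0 := by
      simp only [map_sub, map_sum, map_mul, aeval_C, aeval_X, ← Algebra.smul_def, map_smul, hx, B.sum_repr, sub_self]
    obtain ⟨u, hu, v, hv, huv⟩ := Submodule.mem_sup.1 ((Submodule.Quotient.mk_eq_zero S).1 h0)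
    obtain ⟨c, rfl⟩ := Submodule.mem_span_singleton.1 hv
    have hmem2 : b - aeval x (∑ i, C (B.repr (S.mkQ b) i) * X i) ∈ m :=
      Ideal.sub_mem _ hb (by simp only [map_sum, map_mul, aeval_X]; exact Ideal.sum_mem _ fun i _ => Ideal.mul_mem_left _ _ (hxm i))
    have hum : u ∈ m := Ideal.pow_le_self two_ne_zero hu
    have : c = 0 := by
      have := congrArg χ huv
      rw [map_add, map_smul, map_one, hχm _ hum, hχm _ hmem2, zero_add, smul_eq_mul, mul_one] at this
      exact this
    rw [← huv, this, zero_smul, add_zero]; exact hu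
  have span : ∀ d, ∀ b ∈ m ^ d, ∃ P : MvPolynomial (Fin (Module.finrank k (A ⧸ S))) k, P.IsHomogeneous d ∧ b - aeval x P ∈ m ^ (d + 1) := by
    intro d
    induction d with
    | zero =>
      intro b _
      exact ⟨C (χ b), isHomogeneous_C _ _, by simpa using hχ b⟩
    | succ d ih =>
      intro b hb
      rw [pow_succ] at hb
      refine Submodule.mul_induction_on hb (fun u hu v hv => ?_) (fun u v hu hv => ?_)
      · obtain ⟨P, hP, hP'⟩ := ih u hu
        obtain ⟨Q, hQ, hQ'⟩ := span1 v hv
        refine ⟨P * Q, hP.mul hQ, ?_⟩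
        have hPm : aeval x P ∈ m ^ d := by simpa using Ideal.sub_mem _ hu (Ideal.pow_le_pow_right (Nat.le_succ d) hP')
        rw [map_mul, show u * v - aeval x P * aeval x Q = (u - aeval x P) * v + aeval x P * (v - aeval x Q) by ring]
        refine Ideal.add_mem _ ?_ ?_
        · rw [pow_succ]; exact Ideal.mul_mem_mul hP' hv
        · rw [show d + 1 + 1 = d + 2 by ring, pow_add]; exact Ideal.mul_mem_mul hPm hQ'
      · obtain ⟨P, hP, hP'⟩ := hu
        obtain ⟨Q, hQ, hQ'⟩ := hv
        exact ⟨P + Q, hP.add hQ, by rw [map_add]; convert Ideal.add_mem _ hP' hQ' using 1; ring⟩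
  have inj : ∀ d (P : MvPolynomial (Fin (Module.finrank k (A ⧸ S))) k), P.IsHomogeneous d → aeval x P ∈ m ^ (d + 1) → P = 0 := by
    intro d
    induction d with
    | zero =>
      intro P hP h
      rw [← totalDegree_zero_iff_isHomogeneous, totalDegree_eq_zero_iff_eq_C] at hP
      rw [hP] at h ⊢
      have := hχm _ (by simpa using h)
      rw [AlgHom.commutes] at this
      simp at this; simp [this]
    | succ d ih =>
      intro P hP h
      have hi : ∀ i, pderiv i P = 0 := by
        intro i
        have hdeg : (pderiv i P).IsHomogeneous d := hP.pderiv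
        refine ih _ hdeg ?_
        have h1 := derivation_pow (D i) (d + 1) h
        rw [derivation_aeval] at h1
        have e : aeval x (pderiv i P) = ∑ j, aeval x (pderiv j P) * D i (x j) -
            ∑ j, aeval x (pderiv j P) * (D i (x j) - if i = j then 1 else 0) := by
          simp [mul_sub, Finset.sum_sub_distrib]
        rw [e]
        refine Ideal.sub_mem _ h1 (Ideal.sum_mem _ fun j _ => ?_)
        rw [pow_succ]
        refine Ideal.mul_mem_mul ?_ (hD i j)
        have hj : ∀ (R : MvPolynomial (Fin (Module.finrank k (A ⧸ S))) k), R.IsHomogeneous d → aeval x R ∈ m ^ d := by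
          intro R hR
          rw [aeval_def, eval₂_eq]
          refine Ideal.sum_mem _ fun s hs => Ideal.mul_mem_left _ _ ?_
          rw [← hR (mem_support_iff.1 hs)]
          have : ∀ (T : Finset (Fin (Module.finrank k (A ⧸ S)))), ∏ l ∈ T, x l ^ s l ∈ m ^ (∑ l ∈ T, s l) := by
            intro T
            induction T using Finset.induction_on with
            | empty => simp
            | insert l T hl ihT =>
              rw [Finset.prod_insert hl, Finset.sum_insert hl, pow_add]
              exact Ideal.mul_mem_mul (Ideal.pow_mem_pow (hxm l) _) ihT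
          simpa [Finsupp.weight_apply, Finsupp.sum] using this s.support
        exact hj _ hP.pderiv
      have e := hP.sum_X_mul_pderiv
      simp only [hi, mul_zero, Finset.sum_const_zero] at e
      have : ((d + 1 : ℕ) : k) • P = 0 := by rw [Nat.cast_smul_eq_nsmul]; exact e.symm
      exact (smul_eq_zero.1 this).resolve_left (Nat.cast_ne_zero.2 (Nat.succ_ne_zero d))
  obtain ⟨N, hN⟩ := ha
  have hall : ∀ d, a ∈ m ^ d := by
    intro d
    induction d with
    | zero => simp
    | succ d ih =>
      obtain ⟨P, hP, hP'⟩ := span d a ih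
      have hPm : aeval x P ∈ m ^ d := by simpa using Ideal.sub_mem _ ih (Ideal.pow_le_pow_right (Nat.le_succ d) hP')
      have h2 := pow_sub_pow_mem ih hPm hP' N
      rw [hN, zero_sub, Submodule.neg_mem_iff, ← map_pow] at h2
      have h3 := inj (d * N) (P ^ N) (hP.pow N) h2
      rw [eq_zero_of_pow_eq_zero h3, map_zero, sub_zero] at hP'
      exact hP'
  have h4 : a ∈ (⨅ i : ℕ, m ^ i • ⊤ : Submodule A A) := by
    simp only [Submodule.mem_iInf, smul_eq_mul, Ideal.mul_top]; exact hall
  obtain ⟨r, hr⟩ := (m.mem_iInf_smul_pow_eq_bot_iff a).1 h4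
  exact ⟨r, r.2, hr⟩

theorem isReduced [CharZero k] [IsNoetherianRing A]
    (hrat : ∀ m : Ideal A, m.IsMaximal → ∃ χ : A →ₐ[k] k, ∀ a, a - algebraMap k A (χ a) ∈ m)
    (hlift : ∀ (χ : A →ₐ[k] k) (w : A →ₗ[k] k), w 1 = 0 → (∀ a b, w (a * b) = χ a * w b + χ b * w a) →
      ∃ D : Derivation k A A, ∀ a, χ (D a) = w a) : IsReduced A := by
  refine ⟨fun a ha => ?_⟩
  by_contra h
  have hne : LinearMap.ker (LinearMap.toSpanSingleton A A a) ≠ ⊤ := by
    rw [Ne, Ideal.eq_top_iff_one, LinearMap.mem_ker]; simpa using h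
  obtain ⟨m, hm, hle⟩ := Ideal.exists_le_maximal _ hne
  obtain ⟨χ, hχ⟩ := hrat m hm
  obtain ⟨r, hr, hra⟩ := exists_smul_eq_of_nilpotent m hm.ne_top χ hχ (hlift χ) a ha
  have h1 : 1 - r ∈ LinearMap.ker (LinearMap.toSpanSingleton A A a) := by simp [sub_mul, hra]
  exact hm.ne_top ((Ideal.eq_top_iff_one _).2 (by simpa using Ideal.add_mem _ (hle h1) hr))

end Groth.L25.DerReduced
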