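import Mathlib.AlgebraicGeometry.Morphisms.FormallyUnramified
import Mathlib.AlgebraicGeometry.Morphisms.FiniteType
import Mathlib.AlgebraicGeometry.Fiber
import Mathlib.RingTheory.Kaehler.TensorProduct
import Mathlib.RingTheory.LocalRing.Module
import Mathlib.RingTheory.LocalRing.ResidueField.Fiber
import Mathlib.RingTheory.RingHom.Unramified

/-! A morphism locally of finite type with unramified fibres is unramified. -/

universe u

open CategoryTheory CategoryTheory.Limits AlgebraicGeometry TensorProduct

attribute [local instance] Algebra.TensorProduct.rightAlgebra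

namespace Groth.L25.Unramified

theorem formallyUnramified_of_fiber {R S : Type u} [CommRing R] [CommRing S] [Algebra R S]
    [Algebra.EssFiniteType R S]
    (h : ∀ (p : Ideal R) [p.IsPrime], Algebra.FormallyUnramified p.ResidueField (p.Fiber S)) :
    Algebra.FormallyUnramified R S := by
  rw [Algebra.formallyUnramified_iff]
  have hsupp : Module.support S Ω[S⁄R] = ∅ := by
    rw [Set.eq_empty_iff_forall_notMem]
    intro q hq
    rw [Module.mem_support_iff_nontrivial_residueField_tensorProduct] at hq
    let p : Ideal R := q.asIdeal.under R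
    haveI := h p
    let g := Ideal.ResidueField.mapₐ p q.asIdeal (Algebra.ofId R S) rfl
    letI : Algebra p.ResidueField q.asIdeal.ResidueField := g.toRingHom.toAlgebra
    haveI : IsScalarTower R p.ResidueField q.asIdeal.ResidueField :=
      IsScalarTower.of_algebraMap_eq fun r => (g.commutes r).symm
    have h1 : Subsingleton (p.ResidueField ⊗[R] Ω[S⁄R]) :=
      (KaehlerDifferential.tensorKaehlerEquivBase R p.ResidueField S (p.Fiber S)).toEquiv.subsingleton
    have h2 : Subsingleton (q.asIdeal.ResidueField ⊗[R] Ω[S⁄R]) :=
      (TensorProduct.AlgebraTensorModule.cancelBaseChange R p.ResidueField p.ResidueField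
        q.asIdeal.ResidueField Ω[S⁄R]).symm.toEquiv.subsingleton
    have h3 : Function.Surjective
        (TensorProduct.mapOfCompatibleSMul S R S q.asIdeal.ResidueField Ω[S⁄R]) :=
      fun x => TensorProduct.mapOfCompatibleSMul_surjective _ _ _ _ _ x
    exact not_subsingleton _ h3.subsingleton
  exact Module.support_eq_empty_iff.mp hsupp

theorem formallyUnramified_of_fibres {X Y : Scheme.{u}} (f : X ⟶ Y) [LocallyOfFiniteType f]
    (h : ∀ y, FormallyUnramified (f.fiberToSpecResidueField y)) : FormallyUnramified f := by
  wlog hR : ∃ R, Y = Spec R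
  · rw [IsZariskiLocalAtTarget.iff_of_openCover (P := @FormallyUnramified) Y.affineCover]
    intro i
    dsimp [Scheme.Cover.pullbackHom]
    have hft : LocallyOfFiniteType (pullback.snd f (Y.affineCover.f i)) :=
      MorphismProperty.pullback_snd _ _ ‹_›
    refine @this _ _ _ hft (fun y ↦ ?_) ⟨_, rfl⟩
    apply MorphismProperty.of_isPullback
    · exact isPullback_fiberToSpecResidueField_of_isPullback (IsPullback.of_hasPullback _ _) _
    · exact h _
  obtain ⟨R, rfl⟩ := hR
  wlog hS : ∃ S, X = Spec S generalizing f X
  · rw [IsZariskiLocalAtSource.iff_of_openCover (P := @FormallyUnramified) X.affineCover]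
    intro i
    have _ (y) : FormallyUnramified (pullback.snd f ((Spec R).fromSpecResidueField y)) := h y
    refine this _ (fun y ↦ ?_) ⟨_, rfl⟩
    rw [Scheme.Hom.fiberToSpecResidueField, ← pullbackRightPullbackFstIso_inv_snd_snd]
    exact MorphismProperty.comp_mem _ _ _ inferInstance
      (MorphismProperty.comp_mem _ _ _ (MorphismProperty.pullback_snd _ _ inferInstance) (h y))
  obtain ⟨S, rfl⟩ := hS
  obtain ⟨φ, rfl⟩ := Spec.map_surjective f
  simp only [HasRingHomProperty.Spec_iff] at *
  algebraize [φ.hom]
  refine formallyUnramified_of_fiber fun p hp ↦ ?_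
  rw [← RingHom.formallyUnramified_algebraMap,
    ← CommRingCat.hom_ofHom (algebraMap p.ResidueField (p.Fiber ↑S)),
    ← HasRingHomProperty.Spec_iff (P := @FormallyUnramified),
    ← MorphismProperty.arrow_mk_iso_iff (P := @FormallyUnramified)
      (Spec.fiberToSpecResidueFieldIso R S ⟨p, hp⟩)]
  exact h ⟨p, hp⟩

end Groth.L25.Unramified
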