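import Groth.Agent.L25.NilAction
import Groth.Agent.L25.Unramified
import Groth.Agent.L25.FixedEtale
import Groth.Prelude.Def_SGA3x

/-!
# Homomorphisms which are monomorphisms on every fibre
-/

set_option autoImplicit false
universe u

open CategoryTheory CategoryTheory.Limits MonoidalCategory CartesianMonoidalCategory MonObj GrpObj
open AlgebraicGeometry

set_option backward.isDefEq.respectTransparency.types false

namespace Groth.L25.MonoFibres

variable {S : Scheme.{u}}

theorem one_left {Z G : Over S} [GrpObj G] : (1 : Z ⟶ G).left = Z.hom ≫ η[G].left := by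
  rw [Hom.one_def]
  show (toUnit Z).left ≫ η[G].left = _
  rw [show (toUnit Z).left = Z.hom from (Category.comp_id _).symm.trans (Over.w (toUnit Z))]

/-- kernel-triviality over a base on which the source is locally of finite type -/
theorem eq_one_of_lft {U : Scheme.{u}} {H G : Over U} [GrpObj H] [GrpObj G] [LocallyOfFiniteType H.hom]
    (v : H ⟶ G) [IsMonHom v]
    (hf : ∀ (q : U) (Z : Over U) (w : Z.left ⟶ Spec (U.residueField q)),
      w ≫ U.fromSpecResidueField q = Z.hom → ∀ h : Z ⟶ H, h ≫ v = 1 → h = 1)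
    {Y : Over U} (h : Y ⟶ H) (hh : h ≫ v = 1) : h = 1 := by
  let e₀ : U ⟶ G.left := η[G].left
  have he₀ : e₀ ≫ G.hom = 𝟙 U := GrpBasics.unit_comp_hom G
  let K := pullback v.left e₀
  let p : K ⟶ U := pullback.fst v.left e₀ ≫ H.hom
  have hp : p = pullback.snd v.left e₀ := by
    have := congrArg (· ≫ G.hom) (pullback.condition (f := v.left) (g := e₀))
    simp only [Category.assoc, he₀, Category.comp_id, Over.w v] at this
    exact this
  have : LocallyOfFiniteType (v.left ≫ G.hom) := by rw [Over.w v]; infer_instance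
  have : LocallyOfFiniteType v.left := locallyOfFiniteType_of_comp v.left G.hom
  have : LocallyOfFiniteType p := by rw [hp]; infer_instance
  -- points of the kernel
  have kpt : ∀ {Q : Scheme.{u}} (t : Q ⟶ K), ∃ z : Over.mk (t ≫ p) ⟶ H,
      z.left = t ≫ pullback.fst v.left e₀ ∧ z ≫ v = 1 := by
    intro Q t
    refine ⟨Over.homMk (t ≫ pullback.fst v.left e₀) (Category.assoc _ _ _), rfl, ?_⟩
    apply Over.OverMorphism.ext
    show (t ≫ pullback.fst v.left e₀) ≫ v.left = _
    rw [one_left, Category.assoc, pullback.condition]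
    show t ≫ pullback.snd v.left e₀ ≫ e₀ = (t ≫ p) ≫ η[G].left
    rw [hp, Category.assoc]
  have kuniq : ∀ (q : U) {Q : Scheme.{u}} (a b : Q ⟶ K) (w : Q ⟶ Spec (U.residueField q)),
      a ≫ p = w ≫ U.fromSpecResidueField q → b ≫ p = w ≫ U.fromSpecResidueField q → a = b := by
    intro q Q a b w ha hb
    obtain ⟨za, hza, hza'⟩ := kpt a
    obtain ⟨zb, hzb, hzb'⟩ := kpt b
    have h1 := hf q _ w ha.symm za hza'
    have h2 := hf q _ w hb.symm zb hzb'
    have e1 : za.left = zb.left := by
      rw [h1, h2, one_left, one_left]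
      show (a ≫ p) ≫ η[H].left = (b ≫ p) ≫ η[H].left
      rw [ha, hb]
    apply pullback.hom_ext
    · rw [← hza, ← hzb, e1]
    · rw [← hp, ha, hb]
  -- the unit
  let σ : U ⟶ K := pullback.lift η[H].left (𝟙 U) (by
    rw [Category.id_comp, ← Over.comp_left, IsMonHom.one_hom])
  have hσ : σ ≫ p = 𝟙 U := by rw [hp]; exact pullback.lift_snd _ _ _
  have : FormallyUnramified p := by
    refine Unramified.formallyUnramified_of_fibres p fun q => ?_
    have : IsIso (p.fiberToSpecResidueField q) := by
      let sec : Spec (U.residueField q) ⟶ p.fiber q :=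
        pullback.lift (U.fromSpecResidueField q ≫ σ) (𝟙 _)
          (by rw [Category.assoc, hσ, Category.comp_id, Category.id_comp])
      refine ⟨sec, ?_, pullback.lift_snd _ _ _⟩
      apply pullback.hom_ext
      · refine kuniq q _ _ (p.fiberToSpecResidueField q) ?_ ?_
        · show (pullback.snd p _ ≫ sec) ≫ pullback.fst p _ ≫ p = pullback.snd p _ ≫ _
          simp only [sec, Category.assoc]
          erw [pullback.lift_fst_assoc, Category.assoc, hσ, Category.comp_id]
        · show (𝟙 _ ≫ pullback.fst p _) ≫ p = pullback.snd p _ ≫ _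
          rw [Category.id_comp]
          exact pullback.condition
      · show (pullback.snd p _ ≫ sec) ≫ pullback.snd p _ = 𝟙 _ ≫ pullback.snd p _
        simp only [sec, Category.assoc]
        erw [pullback.lift_snd, Category.comp_id]
    infer_instance
  let a : Y.left ⟶ K := pullback.lift h.left Y.hom (by
    rw [← Over.comp_left, hh, one_left])
  let b : Y.left ⟶ K := Y.hom ≫ σ
  have hab : a ≫ p = b ≫ p := by
    rw [hp, pullback.lift_snd, Category.assoc, ← hp, hσ, Category.comp_id]
  have key := FixedEtale.eq_of_mem_agree hab (𝟙 Y.left) fun y => by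
    let L := Y.left.residueField y
    let ζ : Spec (CommRingCat.of L) ⟶ Y.left := Y.left.fromSpecResidueField y
    let q : U := (ζ ≫ Y.hom) (IsLocalRing.closedPoint L)
    obtain ⟨w, hw⟩ : ∃ w, w ≫ U.fromSpecResidueField q = ζ ≫ Y.hom :=
      ⟨Spec.map _, Scheme.descResidueField_stalkClosedPointTo_fromSpecResidueField L U (ζ ≫ Y.hom)⟩
    have e : ζ ≫ a = ζ ≫ b := kuniq q _ _ w
      (by rw [hw, Category.assoc, hp, pullback.lift_snd])
      (by rw [hw, Category.assoc, Category.assoc, hσ, Category.comp_id])
    have := FixedEtale.mem_agree hab ζ e (IsLocalRing.closedPoint L)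
    rwa [Scheme.fromSpecResidueField_apply] at this
  rw [Category.id_comp, Category.id_comp] at key
  apply Over.OverMorphism.ext
  have := congrArg (· ≫ pullback.fst v.left e₀) key
  simp only [a, b, σ, Category.assoc, pullback.lift_fst] at this
  rw [this, one_left]

theorem eq_one {H G : Over S} [GrpObj H] [GrpObj G] (hH : SGA3x.IsMultTypeFT H)
    (u : H ⟶ G) [IsMonHom u]
    (hfib : ∀ s : S, Mono ((Over.pullback (S.fromSpecResidueField s)).map u).left)
    {Y : Over S} (h : Y ⟶ H) (hh : h ≫ u = 1) : h = 1 := by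
  -- kernels are trivial on fibres
  have hpt : ∀ (s : S) (Z : Over S) (w : Z.left ⟶ Spec (S.residueField s)),
      w ≫ S.fromSpecResidueField s = Z.hom → ∀ z : Z ⟶ H, z ≫ u = 1 → z = 1 := by
    intro s Z w hw z hz
    let i := S.fromSpecResidueField s
    have := hfib s
    let Z' : Over (Spec (S.residueField s)) := Over.mk w
    let c : Over.mk (Z'.hom ≫ i) ⟶ Z := Over.homMk (𝟙 Z.left) (by
      exact (Category.id_comp _).trans hw.symm)
    have h1 : NilAction.ofBase i (c ≫ z) ≫ (Over.pullback i).map u =
        NilAction.ofBase i (c ≫ (1 : Z ⟶ H)) ≫ (Over.pullback i).map u := by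
      rw [NilAction.ofBase_comp, NilAction.ofBase_comp, Category.assoc, Category.assoc, hz,
        MonObj.one_comp]
    have h2 : NilAction.ofBase i (c ≫ z) = NilAction.ofBase i (c ≫ (1 : Z ⟶ H)) := by
      apply Over.OverMorphism.ext
      exact (cancel_mono ((Over.pullback i).map u).left).1 (congrArg (fun m => m.left) h1)
    have h3 := congrArg (fun m => (NilAction.toBase i m).left) h2
    simp only [NilAction.toBase_ofBase] at h3
    apply Over.OverMorphism.ext
    have h5 : z.left = (1 : Z ⟶ H).left :=
      ((Category.id_comp _).symm.trans h3).trans (Category.id_comp _)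
    exact h5
  obtain ⟨S', f, hflat, hsurj, -, hloc⟩ := hH
  apply Over.OverMorphism.ext
  have : Epi (pullback.fst Y.hom f) := Flat.epi_of_flat_of_surjective _
  rw [← cancel_epi (pullback.fst Y.hom f)]
  choose W hsW M inst hfg hne using hloc
  let c := pullback.snd Y.hom f
  refine ((pullback Y.hom f).openCoverOfIsOpenCover (fun s => c ⁻¹ᵁ W s) (TopologicalSpace.IsOpenCover.mk
    (top_le_iff.1 fun z _ => TopologicalSpace.Opens.mem_iSup.2 ⟨c z, hsW (c z)⟩))).hom_ext _ _ fun s => ?_
  obtain ⟨es⟩ := hne s
  let j := (W s).ι ≫ f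
  have : LocallyOfFiniteType (Red.bc j H).hom := by
    letI := inst s
    have : IsIso es.hom.hom.hom :=
      ⟨es.inv.hom.hom, congr($(es.hom_inv_id).hom.hom), congr($(es.inv_hom_id).hom.hom)⟩
    have : IsIso es.hom.hom.hom.left := inferInstanceAs (IsIso ((Over.forget _).map es.hom.hom.hom))
    have : Monoid.FG (Multiplicative (M s)) :=
      AddMonoid.fg_iff_mul_fg.1 (AddGroup.fg_iff_addMonoid_fg.1 (hfg s))
    have h1 : LocallyOfFiniteType (Red.diag (ULift.{u} ℤ) (M s)).hom := by
      show LocallyOfFiniteType (Spec.map (CommRingCat.ofHom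
        (algebraMap (ULift.{u} ℤ) (MonoidAlgebra (ULift.{u} ℤ) (Multiplicative (M s))))))
      rw [HasRingHomProperty.Spec_iff (P := @LocallyOfFiniteType), CommRingCat.hom_ofHom,
        RingHom.finiteType_algebraMap]
      infer_instance
    have h2 : LocallyOfFiniteType (Red.DS (W s).toScheme (M s)).hom :=
      MorphismProperty.pullback_snd _ _ h1
    rw [← Over.w es.hom.hom.hom]
    infer_instance
  let Y₁ : Over (W s).toScheme := Over.mk (c ∣_ W s)
  let t : Over.mk (Y₁.hom ≫ j) ⟶ Y := Over.homMk ((c ⁻¹ᵁ W s).ι ≫ pullback.fst Y.hom f) (by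
    show ((c ⁻¹ᵁ W s).ι ≫ pullback.fst Y.hom f) ≫ Y.hom = (c ∣_ W s) ≫ (W s).ι ≫ f
    rw [morphismRestrict_ι_assoc, Category.assoc, pullback.condition])
  have hfj : ∀ (q : (W s).toScheme) (Z : Over (W s).toScheme) (w : Z.left ⟶ Spec ((W s).toScheme.residueField q)),
      w ≫ (W s).toScheme.fromSpecResidueField q = Z.hom →
      ∀ z : Z ⟶ Red.bc j H, z ≫ (Over.pullback j).map u = 1 → z = 1 := by
    intro q Z w hw z hz
    let ξ : Spec (CommRingCat.of ((W s).toScheme.residueField q)) ⟶ S :=
      (W s).toScheme.fromSpecResidueField q ≫ j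
    let s₀ := ξ (IsLocalRing.closedPoint ((W s).toScheme.residueField q))
    have hd := Scheme.descResidueField_stalkClosedPointTo_fromSpecResidueField
      ((W s).toScheme.residueField q) S ξ
    have h1 : NilAction.toBase j z = 1 := by
      refine hpt s₀ _ (w ≫ Spec.map _) (by rw [Category.assoc, hd]; exact (reassoc_of% hw) _) _ ?_
      have h2 : NilAction.ofBase j (NilAction.toBase j z ≫ u) = 1 := by
        rw [← NilAction.ofBase_comp, NilAction.ofBase_toBase, hz]
      rw [← NilAction.toBase_ofBase j (NilAction.toBase j z ≫ u), h2, NilAction.toBase_one]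
    rw [← NilAction.ofBase_toBase j z, h1, ← NilAction.toBase_one j, NilAction.ofBase_toBase]
  have key := eq_one_of_lft ((Over.pullback j).map u) hfj (NilAction.ofBase j (t ≫ h)) (by
    rw [NilAction.ofBase_comp, Category.assoc, hh, MonObj.comp_one, ← NilAction.toBase_one j,
      NilAction.ofBase_toBase])
  have h4 := congrArg (fun m => (NilAction.toBase j m).left) key
  simp only [NilAction.toBase_ofBase, NilAction.toBase_one, Over.comp_left, one_left] at h4
  simp only [t, Y₁, Over.homMk_left, Category.assoc] at h4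
  rw [one_left]
  refine h4.trans ?_
  simp only [Over.mk_hom, Category.assoc, j, morphismRestrict_ι_assoc]
  rw [← pullback.condition_assoc]
  rfl

theorem mono {H G : Over S} [GrpObj H] [GrpObj G] (hH : SGA3x.IsMultTypeFT H)
    (u : H ⟶ G) [IsMonHom u]
    (hfib : ∀ s : S, Mono ((Over.pullback (S.fromSpecResidueField s)).map u).left) : Mono u.left := by
  constructor
  intro Z a b hab
  have hstr : a ≫ H.hom = b ≫ H.hom := by
    rw [← Over.w u, reassoc_of% hab]
  let Y : Over S := Over.mk (a ≫ H.hom)
  let g₁ : Y ⟶ H := Over.homMk a rfl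
  let g₂ : Y ⟶ H := Over.homMk b hstr.symm
  have h : g₁ ≫ u = g₂ ≫ u := Over.OverMorphism.ext hab
  have h1 := eq_one hH u hfib (g₁ * g₂⁻¹) (by
    rw [MonObj.mul_comp, GrpObj.inv_comp, ← h, mul_inv_cancel])
  exact congrArg (fun m => m.left) (mul_inv_eq_one.1 h1)

end Groth.L25.MonoFibres
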