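import Groth.Agent.L25.NilAction
import Groth.Agent.L25.MonoFibres
import Groth.Agent.L25.FpqcLocal
import Groth.Agent.L20.FibreScheme
import Groth.Prelude.Def_SGA3x
import Groth.Prelude.Def_ActBC
import Mathlib.AlgebraicGeometry.Morphisms.FinitePresentation
import Mathlib.AlgebraicGeometry.Morphisms.LocalFlatDescent
import Mathlib.RingTheory.Ideal.IdempotentFG

/-!
# The locus where a homomorphism from a group of multiplicative type is trivial
-/

set_option autoImplicit false
universe u

open CategoryTheory CategoryTheory.Limits MonoidalCategory CartesianMonoidalCategory MonObj GrpObj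
open AlgebraicGeometry

set_option backward.isDefEq.respectTransparency.types false

noncomputable section

namespace Groth.L25.TrivLocus

variable {S : Scheme.{u}} {H G : Over S} [GrpObj G]

section Triv

variable (u : H ⟶ G)

/-- `u` is trivial over `t` -/
def Triv {T : Scheme.{u}} (t : T ⟶ S) : Prop :=
  ∀ (Y : Over S) (_ : Y ⟶ Over.mk t) (g : Y ⟶ H), g ≫ u = 1

theorem Triv.comp {T T' : Scheme.{u}} {t : T ⟶ S} {t' : T' ⟶ S} (h : Triv u t) (c : T' ⟶ T)
    (hc : c ≫ t = t') : Triv u t' :=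
  fun Y p g => h Y (p ≫ Over.homMk c hc) g

theorem Triv.of_flat_surjective {T T' : Scheme.{u}} {t : T ⟶ S} (f : T' ⟶ T) [Flat f] [Surjective f]
    (h : Triv u (f ≫ t)) : Triv u t := by
  intro Y p g
  let q := pullback.fst p.left f
  have : Epi q := Flat.epi_of_flat_of_surjective _
  let Y' : Over S := Over.mk (q ≫ Y.hom)
  let c : Y' ⟶ Y := Over.homMk q rfl
  have h1 := h Y' (Over.homMk (pullback.snd p.left f) (by
    show pullback.snd p.left f ≫ f ≫ t = q ≫ Y.hom
    rw [← Category.assoc, ← pullback.condition, Category.assoc]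
    exact congrArg (q ≫ ·) (Over.w p))) (c ≫ g)
  rw [Category.assoc, ← MonObj.comp_one c] at h1
  apply Over.OverMorphism.ext
  exact (cancel_epi q).1 (congrArg (fun m => m.left) h1)

theorem Triv.of_opens {T : Scheme.{u}} {t : T ⟶ S}
    (h : ∀ x : T, ∃ (P : Scheme.{u}) (o : P ⟶ T) (_ : IsOpenImmersion o), x ∈ Set.range o ∧ Triv u (o ≫ t)) :
    Triv u t := by
  intro Y p g
  choose P o ho hx htriv using h
  apply Over.OverMorphism.ext
  refine (Y.left.openCoverOfIsOpenCover (fun z => p.left ⁻¹ᵁ (o z).opensRange) (TopologicalSpace.IsOpenCover.mk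
    (top_le_iff.1 fun z _ => TopologicalSpace.Opens.mem_iSup.2 ⟨p.left z, hx (p.left z)⟩))).hom_ext _ _ fun z => ?_
  let D := p.left ⁻¹ᵁ (o z).opensRange
  have hr : Set.range (D.ι ≫ p.left) ⊆ Set.range (o z) := by
    rintro _ ⟨q, rfl⟩
    exact q.2
  let c : Over.mk (D.ι ≫ Y.hom) ⟶ Y := Over.homMk D.ι rfl
  have h1 := htriv z _ (Over.homMk (IsOpenImmersion.lift (o z) (D.ι ≫ p.left) hr) (by
    show IsOpenImmersion.lift (o z) (D.ι ≫ p.left) hr ≫ o z ≫ t = D.ι ≫ Y.hom
    rw [IsOpenImmersion.lift_fac_assoc, Category.assoc]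
    exact congrArg (D.ι ≫ ·) (Over.w p))) (c ≫ g)
  rw [Category.assoc, ← MonObj.comp_one c] at h1
  exact congrArg (fun m => m.left) h1

theorem triv_field_iff {K : Type u} [Field K] (ξ : Spec (CommRingCat.of K) ⟶ S) :
    Triv u ξ ↔ Triv u (S.fromSpecResidueField (ξ (IsLocalRing.closedPoint K))) := by
  have hd := Scheme.descResidueField_stalkClosedPointTo_fromSpecResidueField K S ξ
  constructor
  · intro h
    let f := Spec.map (S.descResidueField (Scheme.stalkClosedPointTo ξ))
    have : Surjective f := ⟨fun x => ⟨IsLocalRing.closedPoint K, Subsingleton.elim _ _⟩⟩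
    have : Flat f := by
      rw [HasRingHomProperty.Spec_iff (P := @Flat)]
      letI := (S.descResidueField (Scheme.stalkClosedPointTo ξ)).hom.toAlgebra
      exact Module.Flat.of_free
    exact Triv.of_flat_surjective u f (h.comp u (𝟙 _) (by rw [Category.id_comp, hd]))
  · intro h
    exact h.comp u _ hd

theorem triv_iff_map [GrpObj H] [IsMonHom u] {T : Scheme.{u}} (t : T ⟶ S) :
    Triv u t ↔ (Over.pullback t).map u = 1 := by
  constructor
  · intro h
    have h1 := h (Over.mk ((Red.bc t H).hom ≫ t)) (Over.homMk (Red.bc t H).hom rfl)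
      (NilAction.toBase t (𝟙 (Red.bc t H)))
    have h2 : NilAction.ofBase t (NilAction.toBase t (𝟙 (Red.bc t H)) ≫ u) = 1 := by
      rw [h1, ← NilAction.toBase_one t (Y := Red.bc t H), NilAction.ofBase_toBase]
    rwa [← NilAction.ofBase_comp, NilAction.ofBase_toBase, Category.id_comp] at h2
  · intro h Y p g
    let Y' : Over T := Over.mk p.left
    let c : Over.mk (Y'.hom ≫ t) ⟶ Y := Over.homMk (𝟙 Y.left) (by
      show 𝟙 Y.left ≫ Y.hom = p.left ≫ t
      rw [Category.id_comp]; exact (Over.w p).symm)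
    have h1 : NilAction.ofBase t (c ≫ g) ≫ (Over.pullback t).map u = 1 := by rw [h, MonObj.comp_one]
    have h2 : c ≫ g ≫ u = c ≫ 1 := by
      rw [← NilAction.toBase_ofBase t (c ≫ g ≫ u), ← Category.assoc c g u, ← NilAction.ofBase_comp, h1,
        NilAction.toBase_one, MonObj.comp_one]
    apply Over.OverMorphism.ext
    have h3 := congrArg (fun m => m.left) h2
    simp only [Over.comp_left] at h3
    exact ((Category.id_comp _).symm.trans h3).trans (Category.id_comp _)

end Triv

section Kernel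

variable (u : H ⟶ G)

/-- inclusion of the kernel -/
abbrev kerι : pullback u.left η[G].left ⟶ H.left := pullback.fst u.left η[G].left

theorem comp_eq_one_iff {Y : Over S} (g : Y ⟶ H) : g ≫ u = 1 ↔ ∃ w, w ≫ kerι u = g.left := by
  constructor
  · intro h
    refine ⟨pullback.lift g.left Y.hom ?_, pullback.lift_fst _ _ _⟩
    rw [← Over.comp_left, h, MonoFibres.one_left]
  · rintro ⟨w, hw⟩
    have he : η[G].left ≫ G.hom = 𝟙 S := GrpBasics.unit_comp_hom G
    have h1 : g.left ≫ u.left = (w ≫ pullback.snd u.left η[G].left) ≫ η[G].left := by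
      rw [← hw, Category.assoc, pullback.condition, Category.assoc]
    have h2 : w ≫ pullback.snd u.left η[G].left = Y.hom := by
      have := congrArg (· ≫ G.hom) h1
      simp only [Category.assoc, Over.w u] at this
      erw [he, Category.comp_id] at this
      exact this.symm.trans (Over.w g)
    apply Over.OverMorphism.ext
    rw [Over.comp_left, h1, h2, MonoFibres.one_left]

theorem isClosedImmersion_one [IsSeparated G.hom] : IsClosedImmersion η[G].left := by
  have : IsClosedImmersion (η[G].left ≫ G.hom) := by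
    rw [GrpBasics.unit_comp_hom G]; exact inferInstanceAs (IsClosedImmersion (𝟙 S))
  exact IsClosedImmersion.of_comp _ G.hom

theorem lfp_one [LocallyOfFiniteType G.hom] : LocallyOfFinitePresentation η[G].left := by
  have : LocallyOfFinitePresentation (η[G].left ≫ G.hom) := by
    rw [GrpBasics.unit_comp_hom G]; exact inferInstanceAs (LocallyOfFinitePresentation (𝟙 S))
  exact Groth.L20.locallyOfFinitePresentation_of_comp η[G].left G.hom

theorem lfp_of_noetherian {X Y : Scheme.{u}} (f : X ⟶ Y) [LocallyOfFiniteType f] [IsLocallyNoetherian Y] :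
    LocallyOfFinitePresentation f := by
  rw [HasRingHomProperty.iff_appLE (P := @LocallyOfFinitePresentation)]
  intro U V e
  have : IsNoetherianRing Γ(Y, U.1) := IsLocallyNoetherian.component_noetherian U
  exact RingHom.FinitePresentation.of_finiteType.1 (f.finiteType_appLE U.2 V.2 e)

theorem lft_of_multTypeFT {H : Over S} [GrpObj H] (hH : SGA3x.IsMultTypeFT H) :
    LocallyOfFiniteType H.hom := by
  obtain ⟨S', f, hflat, hsurj, hqc, hloc⟩ := hH
  refine FpqcLocal.of_fpqc (P := @LocallyOfFiniteType) H.hom (𝟙 S) f hqc fun s => ?_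
  obtain ⟨W, hsW, M, instM, hfg, ⟨e⟩⟩ := hloc s
  refine ⟨W, hsW, FpqcLocal.bc_comp H.hom (pullback.snd (𝟙 S) (W.ι ≫ f)) (W.ι ≫ f) _
    (by rw [← pullback.condition, Category.comp_id]) ?_⟩
  have : IsIso e.hom.hom.hom :=
    ⟨e.inv.hom.hom, congr($(e.hom_inv_id).hom.hom), congr($(e.inv_hom_id).hom.hom)⟩
  have : IsIso e.hom.hom.hom.left := inferInstanceAs (IsIso ((Over.forget _).map e.hom.hom.hom))
  have : Monoid.FG (Multiplicative M) :=
    AddMonoid.fg_iff_mul_fg.1 (AddGroup.fg_iff_addMonoid_fg.1 hfg)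
  have h1 : LocallyOfFiniteType (Red.diag (ULift.{u} ℤ) M).hom := by
    show LocallyOfFiniteType (Spec.map (CommRingCat.ofHom
      (algebraMap (ULift.{u} ℤ) (MonoidAlgebra (ULift.{u} ℤ) (Multiplicative M)))))
    rw [HasRingHomProperty.Spec_iff (P := @LocallyOfFiniteType), CommRingCat.hom_ofHom,
      RingHom.finiteType_algebraMap]
    infer_instance
  have h2 : LocallyOfFiniteType (Red.DS W.toScheme M).hom := MorphismProperty.pullback_snd _ _ h1
  show LocallyOfFiniteType (Red.bc (W.ι ≫ f) H).hom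
  rw [← Over.w e.hom.hom.hom]
  infer_instance

end Kernel

section Restrict

variable [GrpObj H] {U T : Scheme.{u}} {M : Type} [AddCommGroup M] (j : U ⟶ S) (k : T ⟶ U)

/-- a splitting stays one after base change -/
def restrictIso (e : Grp.mk (Red.bc j H) ≅ Grp.mk (Red.DS U M)) {d : T ⟶ S} (hd : k ≫ j = d) :
    Grp.mk (Red.bc d H) ≅ Grp.mk (Red.DS T M) :=
  (Grp.mkIso' (ActBC.bcCompIso k j H hd)).symm ≪≫ (Over.pullback k).mapGrp.mapIso e ≪≫
    Grp.mkIso' (ActBC.bcCompIso k (specULiftZIsTerminal.from U) (Red.diag (ULift.{u} ℤ) M)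
      (specULiftZIsTerminal.hom_ext _ (specULiftZIsTerminal.from T)))

end Restrict

section Split

variable [GrpObj H] (u : H ⟶ G) [IsMonHom u] {R : Type u} [CommRing R] (j : Spec (CommRingCat.of R) ⟶ S)
  {M : Type} [AddCommGroup M]
  (e : Grp.mk (Red.bc j H) ≅ Grp.mk (Red.DS (Spec (CommRingCat.of R)) M))

/-- evaluation at a character -/
abbrev evχ {C : Type u} [CommRing C] [Algebra R C] (χ : Multiplicative M →* C) :
    MonoidAlgebra R (Multiplicative M) →ₐ[R] C :=
  MonoidAlgebra.lift R C (Multiplicative M) χ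

theorem exists_gC {C : Type u} [CommRing C] [Algebra R C] (g : NilAction.YS j (𝟙 _) C ⟶ H) :
    ∃ χ : Multiplicative M →* C, NilAction.gC j e (𝟙 _) χ = g := by
  let t := NilAction.ofBase j g ≫ e.hom.hom.hom
  refine ⟨((Scheme.ΓSpecIso (CommRingCat.of C)).hom.hom.toMonoidHom).comp (DSPts.char t), ?_⟩
  have h1 : (NilAction.toΓ C).comp
      (((Scheme.ΓSpecIso (CommRingCat.of C)).hom.hom.toMonoidHom).comp (DSPts.char t)) = DSPts.char t :=
    MonoidHom.ext fun m => Iso.hom_inv_id_apply (Scheme.ΓSpecIso (CommRingCat.of C)) _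
  have h2 : e.hom.hom.hom ≫ e.inv.hom.hom = 𝟙 _ := congr($(e.hom_inv_id).hom.hom)
  rw [NilAction.gC, h1, DSPts.pt_char, Category.assoc, h2, Category.comp_id, NilAction.toBase_ofBase]

theorem exists_ideal_kernel [IsClosedImmersion (kerι u)] [LocallyOfFinitePresentation (kerι u)] :
    ∃ I : Ideal (MonoidAlgebra R (Multiplicative M)), I.FG ∧
      ∀ (C : Type u) [CommRing C] [Algebra R C] (χ : Multiplicative M →* C),
        NilAction.gC j e (𝟙 _) χ ≫ u = 1 ↔ ∀ x ∈ I, evχ χ x = 0 := by
  let A := MonoidAlgebra R (Multiplicative M)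
  let g₀ := NilAction.gC j e (𝟙 _) (MonoidAlgebra.of R (Multiplicative M))
  let p := pullback.fst g₀.left (kerι u)
  have : IsClosedImmersion p := MorphismProperty.pullback_fst _ _ ‹_›
  have hp : LocallyOfFinitePresentation p := MorphismProperty.pullback_fst _ _ ‹_›
  obtain ⟨I, ε, hε⟩ := (IsClosedImmersion.Spec_iff (R := CommRingCat.of A) (f := p)).1 ‹_›
  have hI : I.FG := by
    have h1 : LocallyOfFinitePresentation (ε.inv ≫ p) := inferInstance
    rw [hε, Iso.inv_hom_id_assoc, HasRingHomProperty.Spec_iff (P := @LocallyOfFinitePresentation)] at h1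
    have : Algebra.FinitePresentation A (A ⧸ I) := RingHom.finitePresentation_algebraMap.1 h1
    have h2 := Algebra.FinitePresentation.ker_fG_of_surjective (Ideal.Quotient.mkₐ A I)
      (Ideal.Quotient.mkₐ_surjective A I)
    have e1 : RingHom.ker (Ideal.Quotient.mkₐ A I).toRingHom = I := Ideal.mk_ker
    exact e1 ▸ h2
  refine ⟨I, hI, fun C _ _ χ => ?_⟩
  have hnat : NilAction.homS j (𝟙 _) (evχ χ) ≫ g₀ = NilAction.gC j e (𝟙 _) χ := by
    rw [NilAction.homS_gC]
    congr 1
    refine MonoidHom.ext fun m => ?_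
    simp [evχ]
  rw [comp_eq_one_iff, ← hnat, Over.comp_left]
  show (∃ w, w ≫ kerι u = Spec.map (CommRingCat.ofHom (evχ χ).toRingHom) ≫ g₀.left) ↔ _
  constructor
  · rintro ⟨w, hw⟩ x hx
    let w' := pullback.lift (Spec.map (CommRingCat.ofHom (evχ χ).toRingHom)) w hw.symm
    obtain ⟨ψ, hψ⟩ := Spec.map_surjective (w' ≫ ε.hom)
    have h1 : CommRingCat.ofHom (Ideal.Quotient.mk I) ≫ ψ = CommRingCat.ofHom (evχ χ).toRingHom := by
      apply Spec.map_injective
      rw [Spec.map_comp, hψ, Category.assoc, ← hε]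
      exact pullback.lift_fst _ _ _
    have h2 := congrArg (fun m => m.hom x) h1
    simp only [CommRingCat.hom_comp, CommRingCat.hom_ofHom, RingHom.comp_apply,
      Ideal.Quotient.eq_zero_iff_mem.2 hx, map_zero] at h2
    exact h2.symm
  · intro h
    let ψ := Ideal.Quotient.lift I (evχ χ).toRingHom h
    refine ⟨Spec.map (CommRingCat.ofHom ψ) ≫ ε.inv ≫ pullback.snd g₀.left (kerι u), ?_⟩
    rw [Category.assoc, Category.assoc, ← pullback.condition]
    show Spec.map _ ≫ ε.inv ≫ p ≫ _ = _
    rw [hε, Category.assoc, Iso.inv_hom_id_assoc, ← Spec.map_comp_assoc, ← CommRingCat.ofHom_comp,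
      Ideal.Quotient.lift_comp_mk]

include e in
theorem exists_content [IsClosedImmersion (kerι u)] [LocallyOfFinitePresentation (kerι u)] :
    ∃ c : Ideal R, c.FG ∧ ∀ (C : Type u) [CommRing C] [Algebra R C],
      Triv u (Spec.map (CommRingCat.ofHom (algebraMap R C)) ≫ j) ↔ ∀ r ∈ c, algebraMap R C r = 0 := by
  classical
  obtain ⟨I, ⟨t, ht⟩, hI⟩ := exists_ideal_kernel u j e
  let cs : Finset R := t.biUnion fun x => x.coeff.support.image x.coeff
  refine ⟨Ideal.span (cs : Set R), ⟨cs, rfl⟩, fun C _ _ => ?_⟩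
  constructor
  · intro h
    let CM := MonoidAlgebra C (Multiplicative M)
    let χ : Multiplicative M →* CM := MonoidAlgebra.of C (Multiplicative M)
    let p : NilAction.YS j (𝟙 _) CM ⟶ Over.mk (Spec.map (CommRingCat.ofHom (algebraMap R C)) ≫ j) :=
      Over.homMk (Spec.map (CommRingCat.ofHom (algebraMap C CM))) (by
        simp only [Over.mk_hom, NilAction.YS, NilAction.YC, Category.comp_id]
        rw [← Category.assoc, ← Spec.map_comp, ← CommRingCat.ofHom_comp, ← IsScalarTower.algebraMap_eq])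
    have h0 := (hI CM χ).1 (h _ p _)
    have hcoeff : ∀ (x : MonoidAlgebra R (Multiplicative M)) (m : Multiplicative M),
        (evχ χ x).coeff m = algebraMap R C (x.coeff m) := by
      intro x m
      induction x using MonoidAlgebra.induction_linear with
      | zero => simp
      | add a b ha hb =>
        rw [map_add, MonoidAlgebra.coeff_add, Finsupp.add_apply, ha, hb, ← map_add,
          MonoidAlgebra.coeff_add, Finsupp.add_apply]
      | single a r =>
        rw [evχ, MonoidAlgebra.lift_single, Algebra.smul_def,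
          IsScalarTower.algebraMap_apply R C CM]
        simp [χ, CM, MonoidAlgebra.coe_algebraMap, MonoidAlgebra.single_mul_single,
          MonoidAlgebra.coeff_single, Finsupp.single_apply, apply_ite (algebraMap R C)]
    intro r hr
    refine (Ideal.span_le (I := RingHom.ker (algebraMap R C))).2 ?_ hr
    intro a ha
    obtain ⟨x, hxt, hax⟩ := Finset.mem_biUnion.1 ha
    obtain ⟨m, -, rfl⟩ := Finset.mem_image.1 hax
    rw [SetLike.mem_coe, RingHom.mem_ker, ← hcoeff, h0 x (ht ▸ Ideal.subset_span hxt)]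
    simp
  · intro h Y p g
    apply Over.OverMorphism.ext
    refine Scheme.Cover.hom_ext (Y.left.affineCover) _ _ fun i => ?_
    obtain ⟨B, hB⟩ : ∃ B, Y.left.affineCover.X i = Spec B := ⟨_, rfl⟩
    let o : Spec B ⟶ Y.left := eqToHom hB.symm ≫ Y.left.affineCover.f i
    suffices h1 : o ≫ (g ≫ u).left = o ≫ (1 : Y ⟶ G).left by
      simp only [o, Category.assoc] at h1
      exact (cancel_epi _).1 h1
    obtain ⟨θ, hθ⟩ := Spec.map_surjective (o ≫ p.left)
    letI : Algebra R B := (θ.hom.comp (algebraMap R C)).toAlgebra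
    let ζ : NilAction.YS j (𝟙 _) B ⟶ Y := Over.homMk o (by
      simp only [Over.mk_hom, NilAction.YS, NilAction.YC, Category.comp_id]
      rw [← Over.w p, ← Category.assoc, ← hθ, RingHom.algebraMap_toAlgebra, CommRingCat.ofHom_comp,
        Spec.map_comp, Category.assoc]
      rfl)
    obtain ⟨χ, hχ⟩ := exists_gC j e (ζ ≫ g)
    have hk : ∀ x ∈ I, evχ χ x = 0 := by
      intro x hx
      refine (Ideal.span_le (I := RingHom.ker (evχ χ).toRingHom)).2 ?_ (ht.symm ▸ hx)
      intro y hy
      show evχ χ y = 0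
      rw [evχ, MonoidAlgebra.lift_apply]
      refine Finset.sum_eq_zero fun m hm => ?_
      have : algebraMap R C (y.coeff m) = 0 :=
        h _ (Ideal.subset_span (Finset.mem_biUnion.2 ⟨y, hy, Finset.mem_image_of_mem _ hm⟩))
      show y.coeff m • χ m = 0
      rw [Algebra.smul_def, RingHom.algebraMap_toAlgebra, RingHom.comp_apply, this, map_zero,
        zero_mul]
    have h2 : ζ ≫ g ≫ u = ζ ≫ 1 := by
      rw [← Category.assoc, ← hχ, (hI B χ).2 hk, MonObj.comp_one]
    exact congrArg (fun m => m.left) h2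

/-- rigidity: triviality spreads over a square zero thickening -/
theorem Triv.of_sq_zero {R₀ R₁ : Type u} [CommRing R₀] [CommRing R₁] (θ : R →+* R₁) (π : R₁ →+* R₀)
    (hπ : Function.Surjective π) (hsq : ∀ x y, π x = 0 → π y = 0 → x * y = 0)
    (h : Triv u (Spec.map (CommRingCat.ofHom (π.comp θ)) ≫ j)) (e' : Grp.mk (Red.bc (Spec.map (CommRingCat.ofHom θ) ≫ j) H) ≅
      Grp.mk (Red.DS (Spec (CommRingCat.of R₁)) M)) :
    Triv u (Spec.map (CommRingCat.ofHom θ) ≫ j) := by
  let t := Spec.map (CommRingCat.ofHom θ) ≫ j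
  let T := Spec (CommRingCat.of R₁)
  let i₀ : Spec (CommRingCat.of R₀) ⟶ T := Spec.map (CommRingCat.ofHom π)
  have : IsClosedImmersion i₀ := IsClosedImmersion.spec_of_surjective _ hπ
  have hker : ∀ a ∈ i₀.ker.ideal ⟨⊤, isAffineOpen_top _⟩,
      π ((Scheme.ΓSpecIso (CommRingCat.of R₁)).hom a) = 0 := by
    intro a ha
    rw [Scheme.Hom.ker_apply, RingHom.mem_ker] at ha
    have h1 : (Scheme.ΓSpecIso (CommRingCat.of R₀)).hom (i₀.appTop a) = 0 := by
      erw [ha, map_zero]
    have h2 := congrArg (fun m => m.hom a) (Scheme.ΓSpecIso_naturality (CommRingCat.ofHom π))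
    exact h2.symm.trans h1
  have hnil : ∀ x : T, ∃ U : T.affineOpens, x ∈ (U : T.Opens) ∧ IsNilpotent (i₀.ker.ideal U) := by
    intro x
    refine ⟨⟨⊤, isAffineOpen_top _⟩, trivial, 2, ?_⟩
    rw [pow_two, Ideal.zero_eq_bot, eq_bot_iff, Ideal.mul_le]
    intro a ha b hb
    rw [Ideal.mem_bot]
    apply (ConcreteCategory.bijective_of_isIso (Scheme.ΓSpecIso (CommRingCat.of R₁)).hom).1
    rw [map_mul, map_zero]
    exact hsq _ _ (hker a ha) (hker b hb)
  let v := (Over.pullback t).map u
  let a : AlgGrp.Action (Red.bc t H) (Red.bc t G) :=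
    { act := (fst (Red.bc t H) (Red.bc t G) ≫ v) * snd _ _
      one_act := by
        rw [MonObj.comp_mul, ← Category.assoc, whiskerRight_fst, whiskerRight_snd, Category.assoc,
          IsMonHom.one_hom, leftUnitor_hom,
          show fst (𝟙_ (Over T)) (Red.bc t G) ≫ η[Red.bc t G] = 1 by
            rw [Hom.one_def, toUnit_unique (fst (𝟙_ (Over T)) (Red.bc t G)) (toUnit _)],
          _root_.one_mul]
      mul_act := by
        simp only [MonObj.comp_mul, MonObj.mul_eq_mul, whiskerRight_fst_assoc, whiskerRight_snd,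
          whiskerLeft_fst_assoc, whiskerLeft_snd, associator_hom_fst_assoc, associator_hom_snd_fst_assoc,
          associator_hom_snd_snd, MonObj.mul_comp]
        exact mul_assoc _ _ _ }
  have h0 : ∀ (Y : Over T) (_ : Y ⟶ Over.mk i₀) (g : Y ⟶ Red.bc t H) (x : Y ⟶ Red.bc t G),
      lift g x ≫ a.act = x := by
    intro Y q g x
    have h1 := h (Over.mk (Y.hom ≫ t)) (Over.homMk q.left (by
      show q.left ≫ Spec.map (CommRingCat.ofHom (π.comp θ)) ≫ j = Y.hom ≫ t
      rw [CommRingCat.ofHom_comp, Spec.map_comp, Category.assoc, ← Over.w q, Category.assoc]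
      rfl)) (NilAction.toBase t g)
    have h2 : g ≫ v = 1 := by
      rw [← NilAction.ofBase_toBase t g, NilAction.ofBase_comp, h1, ← NilAction.toBase_one t (Y := Y),
        NilAction.ofBase_toBase]
    show lift g x ≫ ((fst _ _ ≫ v) * snd _ _) = x
    rw [MonObj.comp_mul, lift_fst_assoc, lift_snd, h2, _root_.one_mul]
  rw [triv_iff_map]
  let eT : Grp.mk (Red.bc (𝟙 T) (Red.bc t H)) ≅ Grp.mk (Red.DS T M) :=
    Grp.mkIso' (ActBC.bcCompIso (𝟙 T) t H (Category.id_comp t)) ≪≫ e'
  let Y := Red.bc t H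
  let c : Over.mk (Y.hom ≫ 𝟙 T) ⟶ Y := Over.homMk (𝟙 Y.left) ((Category.id_comp _).trans (Category.comp_id _).symm)
  have h3 := NilAction.smul_eq_of_split i₀ hnil a h0 (𝟙 T) eT (Y := Y) (c ≫ 𝟙 Y) (c ≫ 1)
  change lift (c ≫ 𝟙 Y) (c ≫ 1) ≫ ((fst _ _ ≫ v) * snd _ _) = c ≫ 1 at h3
  rw [MonObj.comp_mul, lift_fst_assoc, lift_snd, Category.assoc, Category.id_comp, MonObj.comp_one, _root_.mul_one] at h3
  have : IsIso c := by
    have : IsIso c.left := inferInstanceAs (IsIso (𝟙 Y.left))
    have : IsIso ((Over.forget T).map c) := this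
    exact isIso_of_reflects_iso c (Over.forget T)
  rw [← MonObj.comp_one c] at h3
  exact (cancel_epi c).1 h3

include e in
theorem exists_clopen [IsClosedImmersion (kerι u)] [LocallyOfFinitePresentation (kerι u)] :
    ∃ (C : Type u) (_ : CommRing C) (θ : R →+* C), IsOpenImmersion (Spec.map (CommRingCat.ofHom θ)) ∧
      IsClosed (Set.range (Spec.map (CommRingCat.ofHom θ))) ∧
      Triv u (Spec.map (CommRingCat.ofHom θ) ≫ j) ∧
      ∀ q : Spec (CommRingCat.of R), Triv u ((Spec (CommRingCat.of R)).fromSpecResidueField q ≫ j) →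
        q ∈ Set.range (Spec.map (CommRingCat.ofHom θ)) := by
  obtain ⟨c, hfg, hc⟩ := exists_content u j e
  have hidem : IsIdempotentElem c := by
    refine le_antisymm Ideal.mul_le_right ?_
    let θ₁ := Ideal.Quotient.mk (c * c)
    let π := Ideal.Quotient.factor (S := c * c) (T := c) Ideal.mul_le_right
    have h0 : Triv u (Spec.map (CommRingCat.ofHom (π.comp θ₁)) ≫ j) := by
      rw [Ideal.Quotient.factor_comp_mk]
      exact (hc (R ⧸ c)).2 fun r hr => Ideal.Quotient.eq_zero_iff_mem.2 hr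
    have h1 := Triv.of_sq_zero u j θ₁ π (Ideal.Quotient.factor_surjective _) (fun x y hx hy => by
      obtain ⟨a, rfl⟩ := Ideal.Quotient.mk_surjective x
      obtain ⟨b, rfl⟩ := Ideal.Quotient.mk_surjective y
      rw [Ideal.Quotient.factor_mk, Ideal.Quotient.eq_zero_iff_mem] at hx hy
      rw [← map_mul, Ideal.Quotient.eq_zero_iff_mem]
      exact Ideal.mul_mem_mul hx hy) h0 (restrictIso j _ e rfl)
    intro r hr
    exact Ideal.Quotient.eq_zero_iff_mem.1 ((hc (R ⧸ c * c)).1 h1 r hr)
  obtain ⟨eI, heI, hspan⟩ := (Ideal.isIdempotentElem_iff_of_fg c hfg).1 hidem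
  let C := Localization.Away (1 - eI)
  have hzero : algebraMap R C eI = 0 := by
    have hu := IsLocalization.Away.algebraMap_isUnit (S := C) (1 - eI)
    rw [← hu.mul_right_eq_zero, ← map_mul, sub_mul, _root_.one_mul, heI.eq, sub_self, map_zero]
  have : IsOpenImmersion (Spec.map (CommRingCat.ofHom (algebraMap R C))) :=
    IsOpenImmersion.of_isLocalization (1 - eI)
  have hrange : Set.range (Spec.map (CommRingCat.ofHom (algebraMap R C))) =
      (PrimeSpectrum.zeroLocus {eI} : Set (PrimeSpectrum R)) := by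
    refine Eq.trans (PrimeSpectrum.localization_away_comap_range C (1 - eI)) ?_
    ext q
    simp only [SetLike.mem_coe, PrimeSpectrum.mem_basicOpen, PrimeSpectrum.mem_zeroLocus,
      Set.singleton_subset_iff]
    constructor
    · intro h
      refine (q.2.mem_or_mem (x := eI) (y := 1 - eI) ?_).resolve_right h
      rw [mul_sub, _root_.mul_one, heI.eq, sub_self]
      exact zero_mem _
    · intro h h'
      exact q.2.ne_top ((Ideal.eq_top_iff_one _).2 (by simpa using add_mem h h'))
  refine ⟨C, inferInstance, algebraMap R C, ‹_›, ?_, (hc C).2 ?_, fun q hq => ?_⟩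
  · rw [hrange]
    exact PrimeSpectrum.isClosed_zeroLocus _
  · intro r hr
    rw [hspan] at hr
    obtain ⟨a, rfl⟩ := Ideal.mem_span_singleton'.1 hr
    rw [map_mul, hzero, mul_zero]
  · let K : Type u := (Spec (CommRingCat.of R)).residueField q
    obtain ⟨φ, hφ⟩ := Spec.map_surjective ((Spec (CommRingCat.of R)).fromSpecResidueField q)
    letI : Algebra R ((Spec (CommRingCat.of R)).residueField q) := φ.hom.toAlgebra
    rw [← hφ] at hq
    have h0 := (hc ((Spec (CommRingCat.of R)).residueField q)).1 hq eI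
      (hspan ▸ Ideal.mem_span_singleton_self eI)
    rw [hrange]
    have hq' : Spec.map φ (IsLocalRing.closedPoint ((Spec (CommRingCat.of R)).residueField q)) = q := by
      rw [hφ, Scheme.fromSpecResidueField_apply]
    intro x hx
    rw [Set.mem_singleton_iff] at hx
    rw [hx, ← hq']
    show φ.hom eI ∈ IsLocalRing.maximalIdeal ((Spec (CommRingCat.of R)).residueField q)
    erw [h0]
    exact zero_mem _

end Split

theorem main_of_kernel {H G : Over S} [GrpObj H] [GrpObj G] (hH : SGA3x.IsMultTypeFT H)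
    (u : H ⟶ G) [IsMonHom u] [hcl : IsClosedImmersion η[G].left]
    [hlfp : LocallyOfFinitePresentation (kerι u)] :
    ∃ U : S.Opens, IsClosed (U : Set S) ∧
      (∀ s : S, s ∈ U ↔ (Over.pullback (S.fromSpecResidueField s)).map u = 1) ∧
      (Over.pullback U.ι).map u = 1 := by
  have : IsClosedImmersion (kerι u) := MorphismProperty.pullback_fst _ _ hcl
  obtain ⟨S', f, hflat, hsurj, hqc, hloc⟩ := hH
  let Uset : Set S := {s | Triv u (S.fromSpecResidueField s)}
  have hpiece : ∀ x : S', ∃ (P : Scheme.{u}) (o : P ⟶ S') (Q : Set S'), IsOpenImmersion o ∧ IsOpen Q ∧ x ∈ Q ∧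
      Set.range o = Q ∩ f ⁻¹' Uset ∧ IsOpen (Q \ f ⁻¹' Uset) ∧ Triv u (o ≫ f) := by
    intro x
    obtain ⟨W, hxW, M, instM, -, ⟨e⟩⟩ := hloc x
    obtain ⟨_, ⟨V, hV, rfl⟩, hxV, hVW⟩ := S'.isBasis_affineOpens.exists_subset_of_mem_open hxW W.2
    have hr : Set.range hV.fromSpec ⊆ Set.range W.ι := by
      rw [hV.range_fromSpec, Scheme.Opens.range_ι]; exact hVW
    let k : Spec (CommRingCat.of Γ(S', V)) ⟶ W.toScheme := IsOpenImmersion.lift W.ι hV.fromSpec hr
    have hk : k ≫ W.ι ≫ f = hV.fromSpec ≫ f := IsOpenImmersion.lift_fac_assoc _ _ _ _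
    let j : Spec (CommRingCat.of Γ(S', V)) ⟶ S := hV.fromSpec ≫ f
    obtain ⟨C, instC, θ, ho, hcl, htriv, hmem⟩ := exists_clopen u j (restrictIso (W.ι ≫ f) k e hk)
    let o := Spec.map (CommRingCat.ofHom θ) ≫ hV.fromSpec
    have hiff : ∀ q : Spec (CommRingCat.of Γ(S', V)),
        hV.fromSpec q ∈ f ⁻¹' Uset ↔ q ∈ Set.range (Spec.map (CommRingCat.ofHom θ)) := by
      intro q
      have hpt : ((Spec (CommRingCat.of Γ(S', V))).fromSpecResidueField q ≫ j)
          (IsLocalRing.closedPoint ((Spec (CommRingCat.of Γ(S', V))).residueField q)) =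
          f (hV.fromSpec q) := by
        rw [Scheme.Hom.comp_apply, Scheme.fromSpecResidueField_apply]
        rfl
      have hf := triv_field_iff u ((Spec (CommRingCat.of Γ(S', V))).fromSpecResidueField q ≫ j)
      erw [hpt] at hf
      constructor
      · exact fun h => hmem q (hf.2 h)
      · intro hq
        refine hf.1 ?_
        have hr2 : Set.range ((Spec (CommRingCat.of Γ(S', V))).fromSpecResidueField q) ⊆
            Set.range (Spec.map (CommRingCat.ofHom θ)) := by
          rintro _ ⟨z, rfl⟩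
          rwa [Scheme.fromSpecResidueField_apply]
        exact htriv.comp u (IsOpenImmersion.lift _ _ hr2) (IsOpenImmersion.lift_fac_assoc _ _ _ _)
    refine ⟨_, o, V, inferInstance, V.2, hxV, ?_, ?_, ?_⟩
    · ext z
      constructor
      · rintro ⟨w, rfl⟩
        exact ⟨hV.range_fromSpec.le ⟨_, rfl⟩, (hiff _).2 ⟨w, rfl⟩⟩
      · rintro ⟨hzV, hz⟩
        obtain ⟨q, rfl⟩ := hV.range_fromSpec.ge hzV
        obtain ⟨w, rfl⟩ := (hiff q).1 hz
        exact ⟨w, rfl⟩
    · have h1 : (V : Set S') \ f ⁻¹' Uset = hV.fromSpec '' (Set.range (Spec.map (CommRingCat.ofHom θ)))ᶜ := by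
        ext z
        constructor
        · rintro ⟨hzV, hz⟩
          obtain ⟨q, rfl⟩ := hV.range_fromSpec.ge hzV
          exact ⟨q, fun hq => hz ((hiff q).2 hq), rfl⟩
        · rintro ⟨q, hq, rfl⟩
          exact ⟨hV.range_fromSpec.le ⟨q, rfl⟩, fun h => hq ((hiff q).1 h)⟩
      rw [h1]
      exact hV.fromSpec.isOpenEmbedding.isOpenMap _ hcl.isOpen_compl
    · rw [Category.assoc]
      exact htriv
  choose P o Q ho hQ hxQ hrange hdiff htriv using hpiece
  have hopen' : IsOpen (f ⁻¹' Uset) := by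
    rw [isOpen_iff_forall_mem_open]
    intro x hx
    exact ⟨Set.range (o x), by rw [hrange]; exact Set.inter_subset_right,
      (o x).isOpenEmbedding.isOpen_range, (hrange x).ge ⟨hxQ x, hx⟩⟩
  have hclosed' : IsOpen (f ⁻¹' Usetᶜ) := by
    rw [isOpen_iff_forall_mem_open]
    intro x hx
    exact ⟨_, fun y hy => hy.2, hdiff x, hxQ x, hx⟩
  have hdescend : ∀ A : Set S, IsOpen (f ⁻¹' A) → IsOpen A := by
    intro A hA
    rw [isOpen_iff_forall_mem_open]
    intro s hs
    obtain ⟨_, ⟨V₀, hV, rfl⟩, hsV, -⟩ := S.isBasis_affineOpens.exists_subset_of_mem_open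
      (Set.mem_univ s) isOpen_univ
    let V : S.Opens := V₀
    obtain ⟨W, hW, hWV⟩ := hqc V hV
    have hWle : W ≤ f ⁻¹ᵁ V := fun z hz => by
      show f z ∈ (V : Set S)
      rw [← hWV]; exact ⟨z, hz, rfl⟩
    let q := f.resLE V W hWle
    have : CompactSpace W := isCompact_iff_compactSpace.mp hW
    have : IsAffine V.toScheme := hV
    have : Flat q := by
      have : Flat (q ≫ V.ι) := by rw [Scheme.Hom.resLE_comp_ι]; infer_instance
      exact MorphismProperty.of_postcomp (W := @Flat) (W' := @IsOpenImmersion) q V.ι inferInstance this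
    have hqval : ∀ z, (q z).1 = f z.1 := fun z => by
      change (q ≫ V.ι) z = _
      rw [Scheme.Hom.resLE_comp_ι]
      rfl
    have : Surjective q := ⟨fun a => by
      obtain ⟨z, hz, e⟩ := hWV.ge a.2
      exact ⟨⟨z, hz⟩, Subtype.ext ((hqval _).trans e)⟩⟩
    have : QuasiCompact q := inferInstance
    have h1 : IsOpen (Subtype.val ⁻¹' A : Set V) := by
      rw [← (Flat.isQuotientMap_of_surjective q).isCoinducing.isOpen_preimage]
      have : q ⁻¹' (Subtype.val ⁻¹' A : Set V) = Subtype.val ⁻¹' (f ⁻¹' A) := by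
        ext z
        show (q z).1 ∈ A ↔ f z.1 ∈ A
        rw [hqval z]
      rw [this]
      exact hA.preimage continuous_subtype_val
    exact ⟨Subtype.val '' (Subtype.val ⁻¹' A : Set V), Set.image_preimage_subset _ _,
      V.2.isOpenEmbedding_subtypeVal.isOpenMap _ h1, ⟨⟨s, hsV⟩, hs, rfl⟩⟩
  let U : S.Opens := ⟨Uset, hdescend _ hopen'⟩
  refine ⟨U, ⟨hdescend _ hclosed'⟩, fun s => triv_iff_map u _, ?_⟩
  rw [← triv_iff_map]
  have hU : Triv u ((f ∣_ U) ≫ U.ι) := by
    rw [morphismRestrict_ι]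
    refine Triv.of_opens u fun x => ?_
    have hr : Set.range (o x.1) ⊆ Set.range (f ⁻¹ᵁ U).ι := by
      rw [hrange, Scheme.Opens.range_ι]; exact Set.inter_subset_right
    refine ⟨_, IsOpenImmersion.lift (f ⁻¹ᵁ U).ι (o x.1) hr, inferInstance, ?_, ?_⟩
    · obtain ⟨w, hw⟩ := (hrange x.1).ge ⟨hxQ x.1, x.2⟩
      refine ⟨w, Subtype.ext ?_⟩
      change (IsOpenImmersion.lift (f ⁻¹ᵁ U).ι (o x.1) hr ≫ (f ⁻¹ᵁ U).ι) w = _
      rw [IsOpenImmersion.lift_fac, hw]
    · exact (htriv x.1).comp u (𝟙 _) (by rw [Category.id_comp, IsOpenImmersion.lift_fac_assoc])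
  have : Surjective (f ∣_ U) := IsZariskiLocalAtTarget.restrict (P := @Surjective) hsurj U
  exact hU.of_flat_surjective u (f ∣_ U)

theorem main {H G : Over S} [GrpObj H] [GrpObj G] (hH : SGA3x.IsMultTypeFT H) [IsSeparated G.hom]
    (hG : IsLocallyNoetherian S ∨
      (LocallyOfFinitePresentation G.hom ∧ QuasiCompact G.hom ∧ QuasiSeparated G.hom))
    (u : H ⟶ G) [IsMonHom u] :
    ∃ U : S.Opens, IsClosed (U : Set S) ∧
      (∀ s : S, s ∈ U ↔ (Over.pullback (S.fromSpecResidueField s)).map u = 1) ∧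
      (Over.pullback U.ι).map u = 1 := by
  have hone := isClosedImmersion_one (G := G)
  have : IsClosedImmersion (kerι u) := MorphismProperty.pullback_fst _ _ hone
  have : LocallyOfFinitePresentation (kerι u) := by
    rcases hG with hN | ⟨hfp, -, -⟩
    · have := lft_of_multTypeFT hH
      have : IsLocallyNoetherian H.left := LocallyOfFiniteType.isLocallyNoetherian H.hom
      exact lfp_of_noetherian _
    · have := lfp_one (G := G)
      exact MorphismProperty.pullback_fst _ _ this
  exact main_of_kernel hH u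

end Groth.L25.TrivLocus
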