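import Groth.Agent.L25.Translate
import Groth.Agent.L25.GrpDeriv
import Groth.Agent.L01.Regular
import Mathlib.RingTheory.RegularLocalRing.Defs
import Mathlib.RingTheory.Ideal.KrullsHeightTheorem

/-! Smoothness of a group scheme from the local ring at the identity. -/

universe u

open CategoryTheory CategoryTheory.Limits MonoidalCategory CartesianMonoidalCategory MonObj AlgebraicGeometry
open TensorProduct

namespace Groth.L25.SmoothUnit

theorem stalk_iso_of_iso {X : Scheme.{u}} (φ : X ⟶ X) [IsIso φ] {a x : X} (h : φ a = x) :
    Nonempty (X.presheaf.stalk a ≅ X.presheaf.stalk x) := by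
  subst h
  exact ⟨(asIso (φ.stalkMap a)).symm⟩

theorem stalkRingEquiv (A : Type u) [CommRing A] (p : PrimeSpectrum A) :
    Nonempty (Localization.AtPrime p.asIdeal ≃+*
      (Spec (CommRingCat.of A)).presheaf.stalk (p : Spec (CommRingCat.of A))) :=
  ⟨(IsLocalization.algEquiv p.asIdeal.primeCompl (Localization.AtPrime p.asIdeal)
    ((Spec.structureSheaf A).presheaf.stalk p)).toRingEquiv⟩

theorem eta_bc_fst {S S' : Scheme.{u}} (t : S' ⟶ S) (G : Over S) [GrpObj G] :
    η[Red.bc t G].left ≫ pullback.fst G.hom t = t ≫ η[G].left := by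
  have h : pullback.fst (𝟙 S) t = pullback.snd (𝟙 S) t ≫ t :=
    (Category.comp_id _).symm.trans pullback.condition
  simp [Functor.obj.η_def, h]
  exact pullback.lift_fst _ _ _

theorem isReduced_of_forall_closed {X : Scheme.{u}} [JacobsonSpace X]
    (h : ∀ x : X, IsClosed ({x} : Set X) → _root_.IsReduced (X.presheaf.stalk x)) : IsReduced X := by
  apply +allowSynthFailures @IsReduced.of_openCover (𝒰 := X.affineOpenCover.openCover)
  intro i
  let A := X.affineOpenCover.X i
  let j : Spec (CommRingCat.of A) ⟶ X := X.affineOpenCover.f i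
  have : IsOpenImmersion j := X.affineOpenCover.map_prop i
  show IsReduced (Spec (CommRingCat.of A))
  rw [affine_isReduced_iff]
  refine isReduced_ofLocalizationMaximal A fun m hm => ?_
  let p : Spec (CommRingCat.of A) := ⟨m, hm.isPrime⟩
  have hp : IsClosed ({p} : Set (Spec (CommRingCat.of A))) :=
    (PrimeSpectrum.isClosed_singleton_iff_isMaximal (R := A) _).mpr hm
  have hjp : IsClosed ({j p} : Set X) :=
    mem_closedPoints_iff.mp (j.isOpenEmbedding.preimage_closedPoints.ge hp)
  have := h (j p) hjp
  have h2 : _root_.IsReduced ((Spec (CommRingCat.of A)).presheaf.stalk p) :=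
    isReduced_of_injective (inv (j.stalkMap p)).hom (ConcreteCategory.bijective_of_isIso (inv (j.stalkMap p))).1
  obtain ⟨e⟩ := stalkRingEquiv A p
  show _root_.IsReduced (Localization.AtPrime m)
  exact isReduced_of_injective e.toRingHom e.injective

/-- Over an algebraically closed field a group scheme lft with reduced local ring at the identity is
reduced. -/
theorem isReduced_of_stalk_unit {K : Type u} [Field K] [IsAlgClosed K]
    (G : Over (Spec (CommRingCat.of K))) [GrpObj G] [LocallyOfFiniteType G.hom]
    (h : _root_.IsReduced (G.left.presheaf.stalk (Component.one G))) : IsReduced G.left := by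
  have := LocallyOfFiniteType.jacobsonSpace G.hom
  refine isReduced_of_forall_closed fun x hx => ?_
  let q : 𝟙_ (Over (Spec (CommRingCat.of K))) ⟶ G :=
    Over.homMk _ ((pointEquivClosedPoint G.hom).symm ⟨x, hx⟩).2
  have hq : q.left (IsLocalRing.closedPoint K) = x :=
    congrArg Subtype.val ((pointEquivClosedPoint G.hom).apply_symm_apply ⟨x, hx⟩)
  have e : η[G] ≫ (GrpObj.mulRight q).hom = q := by
    simp only [GrpObj.mulRight_hom, comp_lift_assoc, Category.comp_id]
    rw [← Category.assoc η[G] (toUnit G) q, toUnit_unique (η[G] ≫ toUnit G) (𝟙 _), Category.id_comp]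
    rw [← Category.id_comp η[G]]
    exact lift_comp_one_left _ q
  haveI : IsIso (GrpObj.mulRight q).hom.left :=
    inferInstanceAs (IsIso ((Over.forget _).map (GrpObj.mulRight q).hom))
  obtain ⟨i⟩ := stalk_iso_of_iso (GrpObj.mulRight q).hom.left (a := Component.one G) (x := x)
    ((congr(($e).left (IsLocalRing.closedPoint K))).trans hq)
  exact isReduced_of_injective i.inv.hom (ConcreteCategory.bijective_of_isIso i.inv).1

variable {k : Type u} [Field k]

/-- Reducedness of the local ring at the identity after base change to the algebraic closure gives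
smoothness. -/
theorem smooth_of_isReduced_stalk (G : Over (Spec (CommRingCat.of k))) [GrpObj G] [LocallyOfFiniteType G.hom]
    (h : _root_.IsReduced ((Red.bc (Spec.map (CommRingCat.ofHom (algebraMap k (AlgebraicClosure k)))) G).left.presheaf.stalk
      (Component.one (Red.bc (Spec.map (CommRingCat.ofHom (algebraMap k (AlgebraicClosure k)))) G)))) :
    Smooth G.hom := by
  haveI : GrpObj (Over.mk G.hom) := inferInstanceAs (GrpObj G)
  refine GrpDeriv.smooth_of_isReduced_baseChange G.hom ?_
  intro _
  let t := Spec.map (CommRingCat.ofHom (algebraMap k (AlgebraicClosure k)))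
  haveI : LocallyOfFiniteType (Red.bc t G).hom :=
    inferInstanceAs (LocallyOfFiniteType (pullback.snd G.hom t))
  exact isReduced_of_stalk_unit (Red.bc t G) h

open Algebra.TensorProduct in
/-- A rational point with regular local ring stays regular after extending the base field. -/
theorem isRegularLocalRing_baseChange {A : Type u} [CommRing A] [Algebra k A] [Algebra.FiniteType k A]
    (χ : A →ₐ[k] k) (L : Type u) [Field L] [Algebra k L] (m : Ideal A) [m.IsPrime] (hm : m = RingHom.ker χ)
    (m' : Ideal (A ⊗[k] L)) [m'.IsPrime]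
    (hm' : m' = RingHom.ker ((Algebra.TensorProduct.lid k L).toAlgHom.comp (Algebra.TensorProduct.map χ (AlgHom.id k L))))
    [IsRegularLocalRing (Localization.AtPrime m)] : IsRegularLocalRing (Localization.AtPrime m') := by
  let ev := (Algebra.TensorProduct.lid k L).toAlgHom.comp (Algebra.TensorProduct.map χ (AlgHom.id k L))
  have hgen : m' = m.map (algebraMap A (A ⊗[k] L)) := by
    refine le_antisymm ?_ (Ideal.map_le_iff_le_comap.mpr ?_)
    · intro t ht
      have key : ∀ t, t - 1 ⊗ₜ[k] ev t ∈ m.map (algebraMap A (A ⊗[k] L)) := by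
        intro t
        induction t using TensorProduct.induction_on with
        | zero => simp
        | tmul a w =>
          have : a ⊗ₜ[k] w - 1 ⊗ₜ[k] ev (a ⊗ₜ w) =
              algebraMap A (A ⊗[k] L) (a - algebraMap k A (χ a)) * (1 ⊗ₜ w) := by
            rw [Algebra.TensorProduct.algebraMap_apply, Algebra.algebraMap_self_apply,
              Algebra.TensorProduct.tmul_mul_tmul, _root_.mul_one, _root_.one_mul, sub_tmul, Algebra.algebraMap_eq_smul_one]
            simp [ev, TensorProduct.smul_tmul]
          rw [this]
          exact Ideal.mul_mem_right _ _ (Ideal.mem_map_of_mem _ (hm ▸ by simp))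
        | add x y hx hy =>
          rw [map_add, TensorProduct.tmul_add, add_sub_add_comm]; exact add_mem hx hy
      have hev : ev t = 0 := by rw [hm'] at ht; exact ht
      simpa [hev] using key t
    · intro a ha
      rw [hm] at ha
      rw [Ideal.mem_comap, hm', RingHom.mem_ker]
      simp [(RingHom.mem_ker).mp ha]
  have hover : m'.LiesOver m := ⟨by
    refine le_antisymm ?_ ?_
    · intro a ha
      rw [Ideal.under, Ideal.mem_comap, hgen]
      exact Ideal.mem_map_of_mem _ ha
    · intro a ha
      rw [Ideal.under, Ideal.mem_comap, hm', RingHom.mem_ker] at ha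
      rw [hm, RingHom.mem_ker]
      simpa [← Algebra.algebraMap_eq_smul_one] using ha⟩
  have : IsNoetherianRing A := Algebra.FiniteType.isNoetherianRing k A
  have : IsNoetherianRing (A ⊗[k] L) := by
    have : Algebra.FiniteType L (L ⊗[k] A) := inferInstance
    have : IsNoetherianRing (L ⊗[k] A) := Algebra.FiniteType.isNoetherianRing L _
    exact isNoetherianRing_of_ringEquiv _ (Algebra.TensorProduct.comm k L A).toRingEquiv
  have : IsNoetherianRing (Localization.AtPrime m') := IsLocalization.isNoetherianRing m'.primeCompl _ inferInstance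
  refine IsRegularLocalRing.of_spanFinrank_maximalIdeal_le _ ?_
  have hh : (IsLocalRing.maximalIdeal (Localization.AtPrime m')).height = m'.height := by
    rw [← Localization.AtPrime.map_eq_maximalIdeal (I := m')]
    exact IsLocalization.height_map_of_disjoint m'.primeCompl m'
      (Set.disjoint_left.mpr fun x hx hx' => hx hx')
  rw [← IsLocalRing.maximalIdeal_height_eq_ringKrullDim, hh,
    Ideal.height_eq_height_add_of_liesOver_of_hasGoingDown m m']
  have h0 : ((IsLocalRing.maximalIdeal (Localization.AtPrime m)).spanFinrank : WithBot ℕ∞) = (m.height : WithBot ℕ∞) := by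
    rw [IsRegularLocalRing.spanFinrank_maximalIdeal, ← IsLocalRing.maximalIdeal_height_eq_ringKrullDim,
      ← Localization.AtPrime.map_eq_maximalIdeal (I := m),
      IsLocalization.height_map_of_disjoint m.primeCompl m (Set.disjoint_left.mpr fun x hx hx' => hx hx')]
  refine le_trans ?_ (WithBot.coe_le_coe.mpr le_self_add)
  rw [← h0]
  refine Nat.cast_le.mpr ?_
  let φ : Localization.AtPrime m →+* Localization.AtPrime m' :=
    Localization.localRingHom m m' (algebraMap A (A ⊗[k] L)) hover.over
  have hφ : IsLocalRing.maximalIdeal (Localization.AtPrime m') = (IsLocalRing.maximalIdeal (Localization.AtPrime m)).map φ := by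
    rw [← Localization.AtPrime.map_eq_maximalIdeal (I := m'), ← Localization.AtPrime.map_eq_maximalIdeal (I := m),
      Ideal.map_map, show φ.comp (algebraMap A (Localization.AtPrime m)) =
        (algebraMap (A ⊗[k] L) (Localization.AtPrime m')).comp (algebraMap A (A ⊗[k] L)) from
        IsLocalization.map_comp _, ← Ideal.map_map, ← hgen]
  rw [hφ]
  exact Ideal.spanFinrank_map_le_of_fg φ (IsNoetherian.noetherian _)

/-- A group scheme lft over a field whose local ring at the identity is regular is smooth. -/
theorem smooth_of_regular (G : Over (Spec (CommRingCat.of k))) [GrpObj G] [LocallyOfFiniteType G.hom]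
    [IsRegularLocalRing (G.left.presheaf.stalk (Component.one G))] : Smooth G.hom := by
  refine smooth_of_isReduced_stalk G ?_
  let L := AlgebraicClosure k
  let t := Spec.map (CommRingCat.ofHom (algebraMap k L))
  obtain ⟨_, ⟨U, hU, rfl⟩, hne, -⟩ := G.left.isBasis_affineOpens.exists_subset_of_mem_open
    (Set.mem_univ (Component.one G)) isOpen_univ
  let A := Γ(G.left, U)
  have : IsOpenImmersion hU.fromSpec := hU.isOpenImmersion_fromSpec
  let j : Spec (CommRingCat.of A) ⟶ G.left := hU.fromSpec
  letI : Algebra k A := (Spec.preimage (j ≫ G.hom)).hom.toAlgebra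
  have hj : j ≫ G.hom = Spec.map (CommRingCat.ofHom (algebraMap k A)) := (Spec.map_preimage _).symm
  have : Algebra.FiniteType k A := by
    have h : LocallyOfFiniteType (j ≫ G.hom) := inferInstance
    rw [hj, HasRingHomProperty.Spec_iff (P := @LocallyOfFiniteType)] at h
    exact h
  let e0 : Spec (CommRingCat.of k) ⟶ Spec (CommRingCat.of A) :=
    IsOpenImmersion.lift j η[G].left (by
      rintro _ ⟨c, rfl⟩
      rw [show c = IsLocalRing.closedPoint k from Subsingleton.elim (α := PrimeSpectrum k) _ _]
      exact hU.range_fromSpec.ge hne)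
  obtain ⟨χ₀, hχ₀⟩ := Spec.map_surjective e0
  have he0 : e0 ≫ j = η[G].left := IsOpenImmersion.lift_fac _ _ _
  have hcomm : CommRingCat.ofHom (algebraMap k A) ≫ χ₀ = 𝟙 _ := by
    apply Spec.map_injective
    rw [Spec.map_comp, hχ₀, ← hj, ← Category.assoc, he0, Spec.map_id]
    exact GrpBasics.unit_comp_hom G
  let χ : A →ₐ[k] k := { χ₀.hom with commutes' := fun r => congr(($hcomm).hom r) }
  let ev := (Algebra.TensorProduct.lid k L).toAlgHom.comp (Algebra.TensorProduct.map χ (AlgHom.id k L))
  let m : Ideal A := RingHom.ker χ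
  let m' : Ideal (A ⊗[k] L) := RingHom.ker ev
  have : m.IsPrime := RingHom.ker_isPrime _
  have : m'.IsPrime := RingHom.ker_isPrime _
  let P : Spec (CommRingCat.of A) := ⟨m, ‹_›⟩
  have hP : j P = Component.one G := by
    rw [show P = e0 (IsLocalRing.closedPoint k) from ?_]
    · exact congr(($he0) (IsLocalRing.closedPoint k))
    · rw [← hχ₀]
      refine PrimeSpectrum.ext ?_
      show RingHom.ker χ = Ideal.comap χ₀.hom (IsLocalRing.maximalIdeal k)
      rw [IsLocalRing.maximalIdeal_eq_bot]
      rfl
  have hregA : IsRegularLocalRing (Localization.AtPrime m) := by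
    have : IsRegularLocalRing (G.left.presheaf.stalk (j P)) := by rw [hP]; infer_instance
    have : IsRegularLocalRing ((Spec (CommRingCat.of A)).presheaf.stalk P) :=
      IsRegularLocalRing.of_ringEquiv (asIso (j.stalkMap P)).commRingCatIsoToRingEquiv
    obtain ⟨e⟩ := stalkRingEquiv A P
    exact IsRegularLocalRing.of_ringEquiv e.symm
  have := isRegularLocalRing_baseChange χ L m rfl m' rfl
  let J : Spec (CommRingCat.of (A ⊗[k] L)) ⟶ pullback G.hom t :=
    (pullback.congrHom hj rfl ≪≫ pullbackSpecIso k A L).inv ≫
      pullback.map (j ≫ G.hom) t G.hom t j (𝟙 _) (𝟙 _) (by simp) (by simp)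
  let Q : Spec (CommRingCat.of (A ⊗[k] L)) := ⟨m', ‹_›⟩
  have hJ : IsOpenImmersion J := inferInstance
  have hfst : J ≫ pullback.fst G.hom t = Spec.map (CommRingCat.ofHom (algebraMap A (A ⊗[k] L))) ≫ j := by
    simp only [J, Category.assoc, pullback.lift_fst, Iso.trans_inv, pullback.congrHom_inv,
      Category.comp_id, pullbackSpecIso_inv_fst_assoc]
    rw [pullback.map, pullback.lift_fst_assoc, Category.comp_id, pullbackSpecIso_inv_fst_assoc]
  have hQ : J Q = Component.one (Red.bc t G) := by
    have key : Subsingleton ↥(pullback (pullback.fst G.hom t) η[G].left) := by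
      have hiso : IsIso (η[G].left ≫ G.hom) := by
        rw [GrpBasics.unit_comp_hom G]; exact IsIso.id _
      let e : pullback (pullback.fst G.hom t) η[G].left ≅ Spec (CommRingCat.of L) :=
        pullbackSymmetry _ _ ≪≫ pullbackRightPullbackFstIso G.hom t η[G].left ≪≫
          asIso (pullback.snd (η[G].left ≫ G.hom) t)
      exact e.hom.homeomorph.injective.subsingleton
    have hover : ∀ d, pullback.fst G.hom t d = Component.one G →
        d ∈ Set.range (pullback.fst (pullback.fst G.hom t) η[G].left) := fun d hd => by
      rw [Scheme.Pullback.range_fst]; exact ⟨_, hd.symm⟩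
    have h1 : pullback.fst G.hom t (J Q) = Component.one G := by
      refine (congr(($hfst) Q)).trans ?_
      rw [← hP]
      refine congrArg j (PrimeSpectrum.ext ?_)
      ext a
      show algebraMap A (A ⊗[k] L) a ∈ RingHom.ker ev ↔ a ∈ RingHom.ker χ
      simp [ev, RingHom.mem_ker, ← Algebra.algebraMap_eq_smul_one]
    have h2 : pullback.fst G.hom t (Component.one (Red.bc t G)) = Component.one G := by
      exact (congr(($(eta_bc_fst t G)) (IsLocalRing.closedPoint L))).trans
        (congrArg η[G].left (Subsingleton.elim (α := PrimeSpectrum k) _ _))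
    obtain ⟨a, ha⟩ := hover _ h1
    obtain ⟨b, hb⟩ := hover _ h2
    rw [← ha, ← hb, key.elim a b]
  have h1 : IsRegularLocalRing ((Spec (CommRingCat.of (A ⊗[k] L))).presheaf.stalk Q) :=
    IsRegularLocalRing.of_ringEquiv (R := Localization.AtPrime m') (stalkRingEquiv (A ⊗[k] L) Q).some
  have h2 : IsRegularLocalRing ((pullback G.hom t).presheaf.stalk (J Q)) :=
    IsRegularLocalRing.of_ringEquiv (asIso (J.stalkMap Q)).symm.commRingCatIsoToRingEquiv
  rw [hQ] at h2
  have := @Groth.L01.isDomain_of_regular ((Red.bc t G).left.presheaf.stalk (Component.one (Red.bc t G))) _ h2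
  exact (inferInstance : _root_.IsReduced ((Red.bc t G).left.presheaf.stalk (Component.one (Red.bc t G))))

end Groth.L25.SmoothUnit
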