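import Groth.Agent.L25.Component
import Groth.Agent.L19.Closure
import Mathlib.AlgebraicGeometry.PullbackCarrier
import Mathlib.AlgebraicGeometry.Morphisms.Flat

/-! Translation by an arbitrary (non-rational) point of a group scheme over a field: writing a point
as a product inside dense opens, closures of subgroups, flatness of homomorphisms. -/

universe u

open CategoryTheory CategoryTheory.Limits MonoidalCategory CartesianMonoidalCategory MonObj AlgebraicGeometry

namespace Groth.L25.Translate

/-- A point of a binary product lifts along a product of morphisms iff both projections do. -/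
theorem range_tensorHom {S : Scheme.{u}} {A B X Y : Over S} (i : A ⟶ X) (j : B ⟶ Y) :
    Set.range (i ⊗ₘ j).left =
      (fst X Y).left ⁻¹' Set.range i.left ∩ (snd X Y).left ⁻¹' Set.range j.left := by
  rw [Over.tensorHom_left, Scheme.Pullback.range_map, Over.fst_left, Over.snd_left]

variable {k : Type u} [Field k] {G : Over (Spec (CommRingCat.of k))}

/-- The spectrum of the residue field of a point, as a `k`-scheme. -/
noncomputable abbrev pts (x : G.left) : Over (Spec (CommRingCat.of k)) :=
  Over.mk (G.left.fromSpecResidueField x ≫ G.hom)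

/-- The tautological point at `x`. -/
noncomputable abbrev pt (x : G.left) : pts x ⟶ G := Over.homMk (G.left.fromSpecResidueField x)

/-- The unique point of `pts x`. -/
noncomputable abbrev base (x : G.left) : (pts x).left :=
  IsLocalRing.closedPoint (G.left.residueField x)

lemma pt_apply (x : G.left) (c : (pts x).left) : (pt x).left c = x :=
  Scheme.fromSpecResidueField_apply x c

instance (x : G.left) : Surjective (pts x).hom :=
  ⟨fun s => ⟨base x, Subsingleton.elim (α := PrimeSpectrum k) _ _⟩⟩

variable [GrpObj G]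

lemma one_left_apply {T : Over (Spec (CommRingCat.of k))} (c : T.left) :
    (1 : T ⟶ G).left c = Component.one G :=
  congrArg η[G].left (Subsingleton.elim (α := PrimeSpectrum k) _ _)

/-- `(h, x) ↦ h⁻¹ * x`. -/
noncomputable def psi (x : G.left) : G ⊗ pts x ⟶ G :=
  (fst G (pts x))⁻¹ * (snd G (pts x) ≫ pt x)

/-- `(h, x) ↦ (h⁻¹ * x, x)`, an involution up to inversion. -/
noncomputable def sh (x : G.left) : G ⊗ pts x ≅ G ⊗ pts x where
  hom := CartesianMonoidalCategory.lift (psi x) (snd G (pts x))
  inv := CartesianMonoidalCategory.lift ((snd G (pts x) ≫ pt x) * (fst G (pts x))⁻¹) (snd G (pts x))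
  hom_inv_id := by
    refine CartesianMonoidalCategory.hom_ext _ _ ?_ ?_
    · simp only [Category.assoc, lift_fst, MonObj.comp_mul, GrpObj.comp_inv, Category.id_comp]
      rw [← Category.assoc, lift_snd]
      simp only [psi]
      group
    · simp
  inv_hom_id := by
    refine CartesianMonoidalCategory.hom_ext _ _ ?_ ?_
    · simp only [Category.assoc, lift_fst, psi, MonObj.comp_mul, GrpObj.comp_inv, Category.id_comp]
      rw [← Category.assoc, lift_snd]
      group
    · simp

lemma sh_hom_fst (x : G.left) : (sh x).hom ≫ fst G (pts x) = psi x := lift_fst _ _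

lemma fst_props (x : G.left) : IsOpenMap (fst G (pts x)).left ∧
    Function.Surjective (fst G (pts x)).left ∧ GeneralizingMap (fst G (pts x)).left := by
  rw [Over.fst_left]
  exact ⟨(pullback.fst G.hom (pts x).hom).isOpenMap, (pullback.fst G.hom (pts x).hom).surjective,
    Flat.generalizingMap (pullback.fst G.hom (pts x).hom)⟩

lemma psi_props (x : G.left) : IsOpenMap (psi x).left ∧ Function.Surjective (psi x).left ∧
    GeneralizingMap (psi x).left := by
  rw [← sh_hom_fst, Over.comp_left, Scheme.Hom.comp_base, TopCat.coe_comp]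
  haveI : IsIso (sh x).hom.left := inferInstanceAs (IsIso ((Over.forget _).map (sh x).hom))
  obtain ⟨h1, h2, h3⟩ := fst_props x
  have e := (sh x).hom.left.homeomorph
  exact ⟨h1.comp (sh x).hom.left.isOpenMap, h2.comp (sh x).hom.left.surjective,
    GeneralizingMap.comp (sh x).hom.left.homeomorph.isOpenEmbedding.generalizingMap h3⟩

/-- A point of `G ⊗ pts x` gives a factorisation of `x`. -/
lemma exists_mul_eq (x : G.left) (z : (G ⊗ pts x).left) :
    ∃ w : (G ⊗ G).left, μ[G].left w = x ∧ (fst G G).left w = (fst G (pts x)).left z ∧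
      (snd G G).left w = (psi x).left z := by
  refine ⟨(CartesianMonoidalCategory.lift (fst G (pts x)) (psi x)).left z, ?_, ?_, ?_⟩
  · have h : CartesianMonoidalCategory.lift (fst G (pts x)) (psi x) ≫ μ[G] = snd G (pts x) ≫ pt x := by
      rw [← Hom.mul_def]; simp only [psi]; group
    exact (congr(($h).left z)).trans (pt_apply x _)
  · exact congr(($(lift_fst (fst G (pts x)) (psi x))).left z)
  · exact congr(($(lift_snd (fst G (pts x)) (psi x))).left z)

theorem exists_mul_eq_of_dense {U V : Set G.left} (hU : IsOpen U) (hU' : Dense U) (hV' : Dense V)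
    (x : G.left) : ∃ w : (G ⊗ G).left, μ[G].left w = x ∧ (fst G G).left w ∈ U ∧ (snd G G).left w ∈ V := by
  have : Nonempty (G ⊗ pts x).left := ⟨((fst_props x).2.1 x).choose⟩
  obtain ⟨z, h1, h2⟩ := (hV'.preimage (psi_props x).1).inter_open_nonempty _
    (hU.preimage (fst G (pts x)).left.continuous) (hU'.preimage (fst_props x).1).nonempty
  obtain ⟨w, hw, hf, hs⟩ := exists_mul_eq x z
  exact ⟨w, hw, hf ▸ h1, hs ▸ h2⟩

theorem maximal_map {α β : Type*} [TopologicalSpace α] [TopologicalSpace β] {f : α → β}
    (hc : Continuous f) (hf : GeneralizingMap f) {a : α} (ha : ∀ b, b ⤳ a → a ⤳ b) :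
    ∀ w, w ⤳ f a → f a ⤳ w := fun w hw => by
  obtain ⟨w', hw', rfl⟩ := hf hw
  exact (ha w' hw').map hc

/-- Every point is a product of two maximal points. -/
theorem exists_mul_eq_maximal (x : G.left) :
    ∃ w : (G ⊗ G).left, μ[G].left w = x ∧
      (∀ a, a ⤳ (fst G G).left w → (fst G G).left w ⤳ a) ∧
      (∀ a, a ⤳ (snd G G).left w → (snd G G).left w ⤳ a) := by
  obtain ⟨z₀, -⟩ := (fst_props x).2.1 x
  obtain ⟨Z, hZ, -⟩ := exists_mem_irreducibleComponents_subset_of_isIrreducible {z₀} isIrreducible_singleton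
  obtain ⟨z, -, hz⟩ := Component.maximal_of_mem_irreducibleComponents hZ
  obtain ⟨w, hw, hf, hs⟩ := exists_mul_eq x z
  exact ⟨w, hw, hf ▸ maximal_map (fst G (pts x)).left.continuous (fst_props x).2.2 hz,
    hs ▸ maximal_map (psi x).left.continuous (psi_props x).2.2 hz⟩

variable {H : Over (Spec (CommRingCat.of k))} [GrpObj H]

/-- The image of a homomorphism is closed under multiplication of points. -/
theorem mul_mem_range (f : H ⟶ G) [IsMonHom f] (w : (G ⊗ G).left)
    (h1 : (fst G G).left w ∈ Set.range f.left) (h2 : (snd G G).left w ∈ Set.range f.left) :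
    μ[G].left w ∈ Set.range f.left := by
  obtain ⟨a, rfl⟩ : w ∈ Set.range (f ⊗ₘ f).left := by rw [range_tensorHom]; exact ⟨h1, h2⟩
  exact ⟨μ[H].left a, congr(($(IsMonHom.mul_hom f)).left a)⟩

/-- If the range of a homomorphism contains `τ`-translates near the identity, closures of its range
are stable under division. -/
theorem isClosed_range_of_inter (f : H ⟶ G) [IsMonHom f] {O : Set G.left} (hO : IsOpen O)
    (heq : Set.range f.left = closure (Set.range f.left) ∩ O) : IsClosed (Set.range f.left) := by
  let Y := Set.range f.left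
  let C := closure Y
  have he : Component.one G ∈ O := by
    have : Component.one G ∈ Y :=
      ⟨(η[H]).left (IsLocalRing.closedPoint k),
        (congr(($(IsMonHom.one_hom f)).left (IsLocalRing.closedPoint k)))⟩
    exact (heq ▸ this : Component.one G ∈ C ∩ O).2
  let d : G ⊗ G ⟶ G := (fst G G)⁻¹ * snd G G
  have hd : ∀ w, (fst G G).left w ∈ C → (snd G G).left w ∈ C → d.left w ∈ C := by
    -- the closed subscheme with support `C`
    let I := Scheme.IdealSheafData.vanishingIdeal (X := G.left) ⟨C, isClosed_closure⟩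
    have hI : Set.range I.subschemeι = C := by
      rw [Scheme.IdealSheafData.range_subschemeι, Scheme.IdealSheafData.coe_support_vanishingIdeal]; rfl
    let A : Over (Spec (CommRingCat.of k)) := Over.mk (I.subschemeι ≫ G.hom)
    let jA : A ⟶ G := Over.homMk I.subschemeι
    let p1 := (fst G G).left
    let p2 := (snd G G).left
    have s1 : ∀ w, p1 w ∈ C → p2 w ∈ Y → w ∈ closure (p1 ⁻¹' Y ∩ p2 ⁻¹' Y) := by
      intro w h1 h2
      obtain ⟨w', rfl⟩ : w ∈ Set.range (𝟙 G ⊗ₘ f).left := by
        rw [range_tensorHom]; exact ⟨⟨p1 w, rfl⟩, h2⟩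
      have ho : IsOpenMap (fst G H).left := by
        rw [Over.fst_left]; exact (pullback.fst G.hom H.hom).isOpenMap
      have e : ∀ v, p1 ((𝟙 G ⊗ₘ f).left v) = (fst G H).left v := fun v =>
        (congr(($(tensorHom_fst (𝟙 G) f)).left v)).trans (by rw [Category.comp_id])
      have hw' : w' ∈ closure ((fst G H).left ⁻¹' Y) := by
        rw [← ho.preimage_closure_eq_closure_preimage (fst G H).left.continuous]
        show (fst G H).left w' ∈ C
        rw [← e]; exact h1
      refine closure_mono ?_ (image_closure_subset_closure_image (𝟙 G ⊗ₘ f).left.continuous ⟨w', hw', rfl⟩)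
      rintro _ ⟨v, hv, rfl⟩
      exact ⟨show p1 _ ∈ Y by rw [e]; exact hv,
        ⟨(snd G H).left v, (congr(($(tensorHom_snd (𝟙 G) f)).left v)).symm⟩⟩
    have s2 : ∀ w, p1 w ∈ C → p2 w ∈ C → w ∈ closure (p1 ⁻¹' Y ∩ p2 ⁻¹' Y) := by
      intro w h1 h2
      obtain ⟨w', rfl⟩ : w ∈ Set.range (jA ⊗ₘ 𝟙 G).left := by
        rw [range_tensorHom]; exact ⟨hI.symm ▸ h1, ⟨p2 w, rfl⟩⟩
      have ho : IsOpenMap (snd A G).left := by
        rw [Over.snd_left]; exact (pullback.snd A.hom G.hom).isOpenMap
      have e : ∀ v, p2 ((jA ⊗ₘ 𝟙 G).left v) = (snd A G).left v := fun v =>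
        (congr(($(tensorHom_snd jA (𝟙 G))).left v)).trans (by rw [Category.comp_id])
      have hw' : w' ∈ closure ((snd A G).left ⁻¹' Y) := by
        rw [← ho.preimage_closure_eq_closure_preimage (snd A G).left.continuous]
        show (snd A G).left w' ∈ C
        rw [← e]; exact h2
      have hm := image_closure_subset_closure_image (jA ⊗ₘ 𝟙 G).left.continuous ⟨w', hw', rfl⟩
      refine closure_minimal ?_ isClosed_closure hm
      rintro _ ⟨v, hv, rfl⟩
      refine s1 _ ?_ (show p2 _ ∈ Y by rw [e]; exact hv)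
      rw [show p1 ((jA ⊗ₘ 𝟙 G).left v) = jA.left ((fst A G).left v) from
        congr(($(tensorHom_fst jA (𝟙 G))).left v)]
      exact hI.le ⟨_, rfl⟩
    intro w h1 h2
    refine closure_mono ?_ (image_closure_subset_closure_image d.left.continuous ⟨w, s2 w h1 h2, rfl⟩)
    rintro _ ⟨v, ⟨hv1, hv2⟩, rfl⟩
    obtain ⟨a, rfl⟩ : v ∈ Set.range (f ⊗ₘ f).left := by rw [range_tensorHom]; exact ⟨hv1, hv2⟩
    have h : (f ⊗ₘ f) ≫ d = ((fst H H)⁻¹ * snd H H) ≫ f := by
      simp only [d, MonObj.comp_mul, GrpObj.comp_inv, tensorHom_fst, tensorHom_snd, MonObj.mul_comp,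
        GrpObj.inv_comp]
    exact ⟨((fst H H)⁻¹ * snd H H).left a, (congr(($h).left a)).symm⟩
  refine isClosed_of_closure_subset fun g hg => ?_
  let τ : pts g ⟶ G ⊗ pts g := CartesianMonoidalCategory.lift (pt g) (𝟙 _)
  have hτ1 : (fst G (pts g)).left (τ.left (base g)) = g :=
    (congr(($(lift_fst (pt g) (𝟙 (pts g)))).left (base g))).trans (pt_apply g _)
  have hτ2 : (psi g).left (τ.left (base g)) = Component.one G := by
    have h : τ ≫ psi g = 1 := by
      simp only [τ, psi, MonObj.comp_mul, GrpObj.comp_inv, lift_fst, ← Category.assoc, lift_snd,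
        Category.id_comp]
      group
    exact (congr(($h).left (base g))).trans (one_left_apply _)
  have hcl : τ.left (base g) ∈ closure ((fst G (pts g)).left ⁻¹' Y) := by
    rw [← (fst_props g).1.preimage_closure_eq_closure_preimage (fst G (pts g)).left.continuous]
    show _ ∈ C
    rw [hτ1]; exact hg
  obtain ⟨z, hzO, hzY⟩ := mem_closure_iff.mp hcl _ (hO.preimage (psi g).left.continuous)
    (show _ ∈ O by rw [hτ2]; exact he)
  have hpair : CartesianMonoidalCategory.lift (fst G (pts g)) (snd G (pts g) ≫ pt g) ≫ d = psi g := by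
    simp only [d, psi, MonObj.comp_mul, GrpObj.comp_inv, lift_fst, lift_snd]
  have hzC : (psi g).left z ∈ C := by
    rw [← hpair]
    refine hd _ ?_ ?_
    · exact Eq.subst (motive := fun v => v ∈ C)
        (congr(($(lift_fst (fst G (pts g)) (snd G (pts g) ≫ pt g))).left z)).symm (subset_closure hzY)
    · exact Eq.subst (motive := fun v => v ∈ C)
        ((congr(($(lift_snd (fst G (pts g)) (snd G (pts g) ≫ pt g))).left z)).trans (pt_apply g _)).symm hg
  obtain ⟨w, hw, hf1, hf2⟩ := exists_mul_eq g z
  rw [← hw]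
  exact mul_mem_range f w (hf1 ▸ hzY) (hf2 ▸ (heq.symm ▸ ⟨hzC, hzO⟩ : (psi g).left z ∈ Set.range f.left))

/-- A quasi-compact dominant homomorphism is surjective. -/
theorem surjective_of_denseRange (f : H ⟶ G) [IsMonHom f] [QuasiCompact f.left] (hf : DenseRange f.left) :
    Surjective f.left := by
  refine ⟨fun x => ?_⟩
  have hmax : ∀ ξ : G.left, (∀ a, a ⤳ ξ → ξ ⤳ a) → ξ ∈ Set.range f.left := by
    intro ξ hξ
    obtain ⟨a, ha⟩ := Groth.L19.exists_specializes_of_mem_closure_range f.left (hf ξ)
    exact ⟨a, (ha.antisymm (hξ _ ha)).eq⟩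
  obtain ⟨w, hw, h1, h2⟩ := exists_mul_eq_maximal x
  exact hw ▸ mul_mem_range f w (hmax _ h1) (hmax _ h2)

open TensorProduct in
theorem flat_of_comp_faithfullyFlat {R S T : Type u} [CommRing R] [CommRing S] [CommRing T]
    [Algebra R S] [Algebra S T] [Algebra R T] [IsScalarTower R S T] [Module.Flat R T]
    [Module.FaithfullyFlat S T] : Module.Flat R S := by
  rw [Module.Flat.iff_lTensor_injective']
  intro I
  rw [injective_iff_map_eq_zero]
  intro z hz
  apply Module.FaithfullyFlat.tensorProduct_mk_injective (A := S) (B := T) (S ⊗[R] I)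
  rw [map_zero]
  apply (AlgebraTensorModule.cancelBaseChange R S S T I).injective
  rw [map_zero]
  apply Module.Flat.lTensor_preserves_injective_linearMap (M := T) I.subtype Subtype.val_injective
  rw [map_zero]
  have key : ∀ w : S ⊗[R] I, (I.subtype.lTensor T)
      (AlgebraTensorModule.cancelBaseChange R S S T I ((1 : T) ⊗ₜ[S] w)) =
      ((IsScalarTower.toAlgHom R S T).toLinearMap.rTensor R) (I.subtype.lTensor S w) := by
    intro w
    induction w using TensorProduct.induction_on with
    | zero => simp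
    | tmul s a => simp [Algebra.smul_def]
    | add a b ha hb => simp only [TensorProduct.tmul_add, map_add, ha, hb]
  exact (key z).trans (by rw [hz, map_zero])

/-- Flatness descends along a flat surjection at the source. -/
theorem flat_of_comp {X Y Z : Scheme.{u}} (f : X ⟶ Y) (g : Y ⟶ Z) [Flat f] [Surjective f]
    [Flat (f ≫ g)] : Flat g := by
  refine Flat.of_stalkMap g fun y => ?_
  obtain ⟨x, rfl⟩ := f.surjective y
  have h1 := Flat.stalkMap f x
  have h2 : (g.stalkMap (f x) ≫ f.stalkMap x).hom.Flat := by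
    rw [← Scheme.Hom.stalkMap_comp]; exact Flat.stalkMap _ x
  rw [CommRingCat.hom_comp] at h2
  algebraize [(g.stalkMap (f x)).hom, (f.stalkMap x).hom,
    (f.stalkMap x).hom.comp (g.stalkMap (f x)).hom]
  have : Module.FaithfullyFlat (Y.presheaf.stalk (f x)) (X.presheaf.stalk x) :=
    @Module.FaithfullyFlat.of_flat_of_isLocalHom _ _ _ _ _ _ _ (h1 : _) (by
      rw [RingHom.algebraMap_toAlgebra]; infer_instance)
  exact flat_of_comp_faithfullyFlat (T := X.presheaf.stalk x)

/-- The stalk of a reduced scheme at a maximal point is a field. -/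
theorem isField_stalk_of_maximal {X : Scheme.{u}} [IsReduced X] {ξ : X} (hξ : ∀ a, a ⤳ ξ → ξ ⤳ a) :
    IsField (X.presheaf.stalk ξ) := by
  rw [IsLocalRing.isField_iff_maximalIdeal_eq,
    show (⊥ : Ideal (X.presheaf.stalk ξ)) = nilradical _ from (nilradical_eq_zero _).symm,
    nilradical_eq_sInf]
  refine le_antisymm (le_sInf fun q hq => ?_) (sInf_le (IsLocalRing.maximalIdeal.isMaximal _).isPrime)
  let Q : Spec (X.presheaf.stalk ξ) := ⟨q, hq⟩
  let M : Spec (X.presheaf.stalk ξ) := IsLocalRing.closedPoint (X.presheaf.stalk ξ)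
  have hQ : X.fromSpecStalk ξ Q ⤳ ξ := Scheme.range_fromSpecStalk.le ⟨Q, rfl⟩
  have hM : X.fromSpecStalk ξ M = ξ := Scheme.fromSpecStalk_closedPoint
  have : Q = M := (X.fromSpecStalk ξ).isEmbedding.injective
    (((hQ.antisymm (hξ _ hQ)).eq).trans hM.symm)
  exact (congrArg PrimeSpectrum.asIdeal this).ge

/-- A flatness statement into a point with field stalk. -/
theorem flat_of_isField_stalk {X Y : Scheme.{u}} (f : X ⟶ Y) (h : ∀ x, IsField (Y.presheaf.stalk (f x))) :
    Flat f := by
  refine Flat.of_stalkMap f fun x => ?_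
  letI := (h x).toField
  letI := (f.stalkMap x).hom.toAlgebra
  have : Module.Flat (Y.presheaf.stalk (f x)) (X.presheaf.stalk x) := inferInstance
  exact this

/-- A homomorphism whose image contains a maximal point of a reduced target is flat. -/
theorem flat_of_maximal_mem (f : H ⟶ G) [IsMonHom f] [IsReduced G.left] (h₀ : H.left)
    (hξ : ∀ a, a ⤳ f.left h₀ → f.left h₀ ⤳ a) : Flat f.left := by
  let ξ := f.left h₀
  let p : pts h₀ ⟶ pts ξ := Over.homMk (Spec.map (f.left.residueFieldMap h₀))
    (by
      show Spec.map (f.left.residueFieldMap h₀) ≫ G.left.fromSpecResidueField ξ ≫ G.hom = _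
      rw [← Category.assoc, Scheme.Hom.SpecMap_residueFieldMap_fromSpecResidueField, Category.assoc, Over.w]
      rfl)
  have hp : p ≫ pt ξ = pt h₀ ≫ f :=
    Over.OverMorphism.ext (Scheme.Hom.SpecMap_residueFieldMap_fromSpecResidueField f.left h₀)
  have hflat : Flat (pt ξ).left :=
    flat_of_isField_stalk _ fun c => (pt_apply ξ c).symm ▸ isField_stalk_of_maximal hξ
  -- `(g, x) ↦ g * pt x` on the source and on the target
  let Φ : H ⊗ pts h₀ ⟶ H := fst H (pts h₀) * (snd H (pts h₀) ≫ pt h₀)
  let Ψ : H ⊗ pts ξ ⟶ G := (fst H (pts ξ) ≫ f) * (snd H (pts ξ) ≫ pt ξ)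
  have hcomm : Φ ≫ f = (H ◁ p) ≫ Ψ := by
    simp only [Φ, Ψ, MonObj.mul_comp, MonObj.comp_mul, Category.assoc]
    rw [← hp, whiskerLeft_fst_assoc, whiskerLeft_snd_assoc]
  have hΦ : Flat Φ.left ∧ Surjective Φ.left := by
    let e : H ⊗ pts h₀ ≅ H ⊗ pts h₀ :=
      { hom := CartesianMonoidalCategory.lift Φ (snd H (pts h₀))
        inv := CartesianMonoidalCategory.lift (fst H (pts h₀) * (snd H (pts h₀) ≫ pt h₀)⁻¹) (snd H (pts h₀))
        hom_inv_id := by
          refine CartesianMonoidalCategory.hom_ext _ _ ?_ ?_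
          · simp only [Category.assoc, lift_fst, MonObj.comp_mul, GrpObj.comp_inv, Category.id_comp]
            rw [← Category.assoc, lift_snd]
            simp only [Φ]
            group
          · simp
        inv_hom_id := by
          refine CartesianMonoidalCategory.hom_ext _ _ ?_ ?_
          · simp only [Category.assoc, lift_fst, Φ, MonObj.comp_mul, Category.id_comp]
            rw [← Category.assoc, lift_snd]
            group
          · simp }
    have he : e.hom ≫ fst H (pts h₀) = Φ := lift_fst _ _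
    haveI : IsIso e.hom := Iso.isIso_hom e
    haveI : IsIso e.hom.left := inferInstanceAs (IsIso ((Over.forget _).map e.hom))
    rw [← he, Over.comp_left, Over.fst_left]
    exact ⟨inferInstance, inferInstance⟩
  have hΨ : Flat Ψ.left := by
    let sΨ : H ⊗ G ≅ H ⊗ G := GrpBasics.shear f
    haveI : IsIso sΨ.hom.left := inferInstanceAs (IsIso ((Over.forget _).map sΨ.hom))
    have hΨ' : Ψ = (H ◁ pt ξ) ≫ sΨ.hom ≫ snd H G := by
      simp only [Ψ, sΨ, GrpBasics.shear_hom, lift_snd, MonObj.comp_mul, whiskerLeft_fst_assoc,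
        whiskerLeft_snd]
    rw [hΨ', Over.comp_left, Over.comp_left, Over.snd_left]
    have : Flat (H ◁ pt ξ).left :=
      MorphismProperty.of_isPullback ((GrpBasics.isPullback_whiskerLeft H (pt ξ)).map (Over.forget _)).flip hflat
    infer_instance
  have : Flat (Φ ≫ f).left := by
    rw [hcomm, Over.comp_left]
    have : Flat p.left := by
      show Flat (Spec.map (f.left.residueFieldMap h₀))
      infer_instance
    have : Flat (H ◁ p).left :=
      MorphismProperty.of_isPullback ((GrpBasics.isPullback_whiskerLeft H p).map (Over.forget _)).flip this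
    infer_instance
  rw [Over.comp_left] at this
  obtain ⟨_, _⟩ := hΦ
  exact flat_of_comp Φ.left f.left

/-- A quasi-compact dominant homomorphism to a reduced group scheme is flat. -/
theorem flat_of_denseRange (f : H ⟶ G) [IsMonHom f] [IsReduced G.left] [QuasiCompact f.left]
    (hf : DenseRange f.left) : Flat f.left := by
  obtain ⟨Z, hZ, -⟩ := exists_mem_irreducibleComponents_subset_of_isIrreducible {Component.one G} isIrreducible_singleton
  obtain ⟨ξ, -, hξ⟩ := Component.maximal_of_mem_irreducibleComponents hZ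
  obtain ⟨h₀, rfl⟩ := (surjective_of_denseRange f hf).surj ξ
  exact flat_of_maximal_mem f h₀ hξ

end Groth.L25.Translate
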