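import Groth.Agent.L25.Component
import Groth.Agent.L22.GeomConn.Crit
import Groth.Prelude.Def_AlgGrp
import Mathlib.AlgebraicGeometry.PullbackCarrier

/-!
# Irreducible homogeneous spaces over a field are quasi-compact
-/

set_option autoImplicit false
universe u

open CategoryTheory CategoryTheory.Limits MonoidalCategory CartesianMonoidalCategory MonObj GrpObj
open AlgebraicGeometry

set_option backward.isDefEq.respectTransparency.types false

namespace Groth.L25.Homogeneous

open Groth.L22.GeomConn

variable {k : Type u} [Field k]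

theorem isPullback_whiskerLeft (Y : Over (Spec (CommRingCat.of k))) {S T : Over (Spec (CommRingCat.of k))} (g : S ⟶ T) :
    IsPullback (Y ◁ g).left (snd Y S).left (snd Y T).left g.left := by
  refine IsPullback.of_right ?_ ?_ (IsPullback.of_hasPullback Y.hom T.hom)
  · rw [show (Y ◁ g).left ≫ pullback.fst Y.hom T.hom = pullback.fst Y.hom S.hom from
      congrArg (fun x => x.left) (whiskerLeft_fst Y g), Over.w g]
    exact IsPullback.of_hasPullback Y.hom S.hom
  · exact congrArg (fun x => x.left) (whiskerLeft_snd Y g)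

variable {G X : Over (Spec (CommRingCat.of k))} [GrpObj G] (a : AlgGrp.Action G X)

theorem one_smul {T : Over (Spec (CommRingCat.of k))} (x : T ⟶ X) : lift (1 : T ⟶ G) x ≫ a.act = x := by
  have h : lift (1 : T ⟶ G) x = lift (toUnit T) x ≫ (η[G] ▷ X) := by
    rw [lift_whiskerRight, Hom.one_def]
  rw [h, Category.assoc, a.one_act]
  simp

theorem mul_smul {T : Over (Spec (CommRingCat.of k))} (g h : T ⟶ G) (x : T ⟶ X) :
    lift (g * h) x ≫ a.act = lift g (lift h x ≫ a.act) ≫ a.act := by
  have e : lift (g * h) x = lift (lift g h) x ≫ (μ[G] ▷ X) := by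
    rw [lift_whiskerRight, Hom.mul_def]
  rw [e, Category.assoc, a.mul_act, lift_lift_associator_hom_assoc, lift_whiskerLeft_assoc]

/-- left translation by a point -/
noncomputable def tr {T : Over (Spec (CommRingCat.of k))} (c : T ⟶ G) : G ⊗ T ⟶ G ⊗ T :=
  lift ((snd G T ≫ c) * fst G T) (snd G T)

theorem tr_tr {T : Over (Spec (CommRingCat.of k))} (c d : T ⟶ G) : tr c ≫ tr d = tr (d * c) := by
  apply CartesianMonoidalCategory.hom_ext <;> simp [tr, MonObj.comp_mul, _root_.mul_assoc]

theorem isIso_tr {T : Over (Spec (CommRingCat.of k))} (c : T ⟶ G) : IsIso (tr c) := by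
  have h1 : tr (1 : T ⟶ G) = 𝟙 _ := by
    apply CartesianMonoidalCategory.hom_ext <;> simp [tr]
  exact ⟨tr c⁻¹, by rw [tr_tr, inv_mul_cancel, h1], by rw [tr_tr, mul_inv_cancel, h1]⟩

/-- translation of the homogeneous space by a point -/
noncomputable def act' {T : Over (Spec (CommRingCat.of k))} (c : T ⟶ G) : X ⊗ T ⟶ X ⊗ T :=
  lift (lift (snd X T ≫ c) (fst X T) ≫ a.act) (snd X T)

theorem act'_act' {T : Over (Spec (CommRingCat.of k))} (c d : T ⟶ G) : act' a c ≫ act' a d = act' a (d * c) := by
  apply CartesianMonoidalCategory.hom_ext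
  · simp only [act', Category.assoc, lift_fst]
    rw [MonObj.comp_mul, mul_smul, ← Category.assoc, comp_lift, lift_fst, lift_snd_assoc]
  · simp [act']

theorem isIso_act' {T : Over (Spec (CommRingCat.of k))} (c : T ⟶ G) : IsIso (act' a c) := by
  have h1 : act' a (1 : T ⟶ G) = 𝟙 _ := by
    apply CartesianMonoidalCategory.hom_ext
    · simp only [act', MonObj.comp_one, one_smul, lift_fst, Category.id_comp]
    · simp [act']
  exact ⟨act' a c⁻¹, by rw [act'_act', inv_mul_cancel, h1], by rw [act'_act', mul_inv_cancel, h1]⟩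

/-- orbit map of a point -/
noncomputable def orb {T : Over (Spec (CommRingCat.of k))} (x : T ⟶ X) : G ⊗ T ⟶ X ⊗ T :=
  lift (lift (fst G T) (snd G T ≫ x) ≫ a.act) (snd G T)

theorem tr_orb {T : Over (Spec (CommRingCat.of k))} (c : T ⟶ G) (x : T ⟶ X) : tr c ≫ orb a x = orb a x ≫ act' a c := by
  apply CartesianMonoidalCategory.hom_ext
  · simp only [tr, orb, act', Category.assoc, lift_fst]
    rw [← Category.assoc, comp_lift, lift_fst, lift_snd_assoc, mul_smul, ← Category.assoc (lift _ _),
      comp_lift, lift_fst, lift_snd_assoc]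
  · simp [tr, orb, act']

theorem isPullback_orb {T : Over (Spec (CommRingCat.of k))} (x : T ⟶ X) :
    IsPullback (G ◁ x).left (orb a x).left (lift a.act (snd G X)).left (X ◁ x).left := by
  refine IsPullback.of_bot ?_ ?_ (isPullback_whiskerLeft X x)
  · rw [← Over.comp_left, ← Over.comp_left, orb, lift_snd, lift_snd]
    exact isPullback_whiskerLeft G x
  · rw [← Over.comp_left, ← Over.comp_left]
    congr 1
    apply CartesianMonoidalCategory.hom_ext
    · simp only [orb, Category.assoc, lift_fst, whiskerLeft_fst]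
      congr 1
    · simp [orb]

theorem isPullback_orb_comp {S T : Over (Spec (CommRingCat.of k))} (s : S ⟶ T) (x : T ⟶ X) :
    IsPullback (G ◁ s).left (orb a (s ≫ x)).left (orb a x).left (X ◁ s).left := by
  refine IsPullback.of_bot ?_ ?_ (isPullback_whiskerLeft X s)
  · rw [← Over.comp_left, ← Over.comp_left, orb, orb, lift_snd, lift_snd]
    exact isPullback_whiskerLeft G s
  · rw [← Over.comp_left, ← Over.comp_left]
    congr 1
    apply CartesianMonoidalCategory.hom_ext
    · simp only [orb, Category.assoc, lift_fst, whiskerLeft_fst]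
      rw [← Category.assoc (G ◁ s), comp_lift, whiskerLeft_fst, whiskerLeft_snd_assoc]
    · simp [orb]

theorem isMaxPt_eq_genericPoint {Y : Scheme.{u}} [IrreducibleSpace Y] {y : Y} (h : IsMaxPt y) :
    y = genericPoint Y :=
  (h _ (genericPoint_specializes y)).symm

theorem compactSpace (hΦ : Surjective (lift a.act (snd G X)).left) [IrreducibleSpace X.left] :
    CompactSpace X.left := by
  obtain ⟨C₀, hC₀, heC₀⟩ := exists_mem_irreducibleComponents_subset_of_isIrreducible
    {Component.one G} isIrreducible_singleton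
  have hcpt := Component.isCompact_component G hC₀ (heC₀ rfl)
  obtain ⟨_, ⟨U, hU, rfl⟩, hηU, -⟩ := X.left.isBasis_affineOpens.exists_subset_of_mem_open
    (Set.mem_univ (genericPoint X.left)) isOpen_univ
  let invG : G.left ⟶ G.left := (GrpObj.inv : G ⟶ G).left
  let S := {A : G.left.Opens // IsAffineOpen A}
  obtain ⟨t, ht⟩ := (hcpt.image invG.continuous).elim_finite_subcover
    (fun A : S => (A.1 : Set G.left)) (fun A => A.1.2) (fun g _ => by
      obtain ⟨_, ⟨A, hA, rfl⟩, hg, -⟩ := G.left.isBasis_affineOpens.exists_subset_of_mem_open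
        (Set.mem_univ g) isOpen_univ
      exact Set.mem_iUnion.2 ⟨⟨A, hA⟩, hg⟩)
  let K : Set (G ⊗ X).left :=
    ⋃ A ∈ t, (fst G X).left ⁻¹' (A.1 : Set G.left) ∩ (snd G X).left ⁻¹' (U : Set X.left)
  have hK : IsCompact K := by
    refine t.isCompact_biUnion fun A _ => ?_
    have : IsAffine A.1.toScheme := A.2
    have : IsAffine (Scheme.Opens.toScheme U) := hU
    have h := Scheme.Pullback.range_map (A.1.ι ≫ G.hom) ((Scheme.Opens.ι U) ≫ X.hom) G.hom X.hom A.1.ι (Scheme.Opens.ι U) (𝟙 _)
      (Category.comp_id _) (Category.comp_id _)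
    rw [Scheme.Opens.range_ι, Scheme.Opens.range_ι] at h
    exact h ▸ isCompact_range (Scheme.Hom.continuous _)
  refine ⟨?_⟩
  suffices h : (Set.univ : Set X.left) ⊆ a.act.left '' K from
    (hK.image a.act.left.continuous).of_isClosed_subset isClosed_univ h
  intro p _
  -- the point, rationally over an algebraically closed field
  let K₁ := AlgebraicClosure (X.left.residueField p)
  let i₁ : Spec (CommRingCat.of K₁) ⟶ X.left :=
    Spec.map (CommRingCat.ofHom (algebraMap (X.left.residueField p) K₁)) ≫ X.left.fromSpecResidueField p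
  let T₁ : Over (Spec (CommRingCat.of k)) := Over.mk (i₁ ≫ X.hom)
  let x : T₁ ⟶ X := Over.homMk i₁ rfl
  have hx : ∀ z : T₁.left, x.left z = p := fun z => by
    change i₁ z = p
    rw [Scheme.Hom.comp_apply]; exact Scheme.fromSpecResidueField_apply _ _
  have : Surjective (orb a x).left := MorphismProperty.of_isPullback (isPullback_orb a x) hΦ
  obtain ⟨t₁⟩ : Nonempty (PrimeSpectrum K₁) := inferInstance
  have : Nonempty (X ⊗ T₁).left := by
    obtain ⟨z, -, -⟩ := Scheme.Pullback.exists_preimage_pullback (f := X.hom) (g := T₁.hom) p t₁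
      (Subsingleton.elim (α := PrimeSpectrum k) _ _)
    exact ⟨z⟩
  obtain ⟨η₁, hη₁, -⟩ := exists_isMaxPt_specializes (Classical.arbitrary (X ⊗ T₁).left)
  obtain ⟨q, hq⟩ := (orb a x).left.surjective η₁
  -- the residue field of `q`
  let T₂ : Over (Spec (CommRingCat.of k)) := Over.mk ((G ⊗ T₁).left.fromSpecResidueField q ≫ (G ⊗ T₁).hom)
  let qq : T₂ ⟶ G ⊗ T₁ := Over.homMk ((G ⊗ T₁).left.fromSpecResidueField q) rfl
  let s : T₂ ⟶ T₁ := qq ≫ snd G T₁
  let c : T₂ ⟶ G := qq ≫ fst G T₁
  obtain ⟨θ, hθ⟩ := Spec.map_surjective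
    (s.left : Spec ((G ⊗ T₁).left.residueField q) ⟶ Spec (CommRingCat.of K₁))
  letI : Algebra K₁ ((G ⊗ T₁).left.residueField q) := θ.hom.toAlgebra
  have hflat : Flat s.left := by
    rw [show s.left = Spec.map θ from hθ.symm]
    refine (HasRingHomProperty.Spec_iff (P := @Flat)).2 ?_
    exact RingHom.flat_algebraMap_iff.2 inferInstance
  have hgi : GeometricallyIrreducible (G ◁ s).left := by
    refine MorphismProperty.of_isPullback (isPullback_whiskerLeft G s).flip ?_
    rw [show s.left = Spec.map θ from hθ.symm]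
    exact geometricallyIrreducible_specMap (k := K₁) ((G ⊗ T₁).left.residueField q)
  have : Flat (G ◁ s).left := MorphismProperty.of_isPullback (isPullback_whiskerLeft G s).flip hflat
  have : Flat (X ◁ s).left := MorphismProperty.of_isPullback (isPullback_whiskerLeft X s).flip hflat
  have huo : UniversallyOpen (G ◁ s).left := by
    refine MorphismProperty.of_isPullback (isPullback_whiskerLeft G s).flip ?_
    rw [show s.left = Spec.map θ from hθ.symm]
    have : Subsingleton ↥(Spec (CommRingCat.of K₁)) := inferInstanceAs (Subsingleton (PrimeSpectrum K₁))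
    exact inferInstanceAs (UniversallyOpen (Spec.map θ : _ ⟶ Spec (CommRingCat.of K₁)))
  let P : Set (G ⊗ T₂).left := (G ◁ s).left ⁻¹' closure {q}
  have hP : IsIrreducible P :=
    (G ◁ s).left.isIrreducible_preimage (G ◁ s).left.isOpenMap isIrreducible_singleton.closure
  -- the rational point of `P` is translated to the unit
  obtain ⟨t₂⟩ : Nonempty (PrimeSpectrum ((G ⊗ T₁).left.residueField q)) := inferInstance
  let pc : T₂ ⟶ G ⊗ T₂ := lift c (𝟙 T₂)
  have hpc : pc.left t₂ ∈ P := by
    have e : pc ≫ (G ◁ s) = qq := by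
      apply CartesianMonoidalCategory.hom_ext <;> simp [pc, c, s]
    show (G ◁ s).left (pc.left t₂) ∈ closure {q}
    rw [← Scheme.Hom.comp_apply, ← Over.comp_left, e]
    exact subset_closure (Scheme.fromSpecResidueField_apply q _)
  have hone : (fst G T₂).left ((tr c⁻¹).left (pc.left t₂)) = Component.one G := by
    rw [← Scheme.Hom.comp_apply, ← Scheme.Hom.comp_apply, ← Over.comp_left, ← Over.comp_left]
    have e : pc ≫ tr c⁻¹ ≫ fst G T₂ = toUnit T₂ ≫ η[G] := by
      simp [pc, tr, MonObj.comp_mul, Hom.one_def]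
    rw [e]
    exact congrArg η[G].left (Subsingleton.elim (α := PrimeSpectrum k) _ _)
  have himg : ∀ g ∈ P, (fst G T₂).left ((tr c⁻¹).left g) ∈ C₀ := by
    intro g hg
    obtain ⟨W, hW, hsub⟩ := exists_mem_irreducibleComponents_subset_of_isIrreducible _
      (hP.image (fun z => (fst G T₂).left ((tr c⁻¹).left z))
        ((Scheme.Hom.continuous _).comp (Scheme.Hom.continuous _)).continuousOn)
    have := hsub ⟨pc.left t₂, hpc, rfl⟩
    simp only [hone] at this
    rw [← Component.uniqueComp G _ W hW C₀ hC₀ this (heC₀ rfl)]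
    exact hsub ⟨g, hg, rfl⟩
  -- a maximal point over `η₁`
  have : Surjective (X ◁ s).left := by
    refine MorphismProperty.of_isPullback (isPullback_whiskerLeft X s).flip ?_
    rw [show s.left = Spec.map θ from hθ.symm]
    exact surjective_specMap (L := K₁) ((G ⊗ T₁).left.residueField q)
  obtain ⟨v, hv⟩ := (X ◁ s).left.surjective η₁
  obtain ⟨η₂, hη₂, hη₂v⟩ := exists_isMaxPt_specializes v
  have hη₂₁ : (X ◁ s).left η₂ = η₁ := hη₁ _ (hv ▸ hη₂v.map (Scheme.Hom.continuous _))
  let sq := isPullback_orb_comp a s x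
  obtain ⟨z, hz1, hz2⟩ := Scheme.Pullback.exists_preimage_pullback q η₂ (hq.trans hη₂₁.symm)
  let g₂ := sq.isoPullback.inv z
  have hg1 : (G ◁ s).left g₂ = q := by
    show (G ◁ s).left (sq.isoPullback.inv z) = q
    rw [← Scheme.Hom.comp_apply, sq.isoPullback_inv_fst]; exact hz1
  have hg2 : (orb a (s ≫ x)).left g₂ = η₂ := by
    show (orb a (s ≫ x)).left (sq.isoPullback.inv z) = η₂
    rw [← Scheme.Hom.comp_apply, sq.isoPullback_inv_snd]; exact hz2
  -- translate
  have := isIso_act' a c⁻¹
  have : IsIso (act' a c⁻¹).left := inferInstanceAs (IsIso ((Over.forget _).map (act' a c⁻¹)))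
  have hfX : Flat (fst X T₂).left := by
    have : Flat T₂.hom := flat_toSpecField _
    exact MorphismProperty.pullback_fst X.hom T₂.hom this
  have hmax : IsMaxPt ((fst X T₂).left ((act' a c⁻¹).left η₂)) := (hη₂.map _).map _
  let h : (G ⊗ X).left := (tr c⁻¹ ≫ (G ◁ (s ≫ x))).left g₂
  have hh1 : (fst G X).left h ∈ C₀ := by
    simp only [h]
    rw [← Scheme.Hom.comp_apply, ← Over.comp_left, Category.assoc, whiskerLeft_fst]
    exact himg g₂ (show (G ◁ s).left g₂ ∈ closure {q} from hg1 ▸ subset_closure rfl)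
  have hh2 : (snd G X).left h = p := by
    simp only [h]
    rw [← Scheme.Hom.comp_apply, ← Over.comp_left, Category.assoc, whiskerLeft_snd]
    simp only [Over.comp_left, Scheme.Hom.comp_apply]
    exact hx _
  have hh3 : a.act.left h = genericPoint X.left := by
    refine Eq.trans ?_ (isMaxPt_eq_genericPoint hmax)
    have e : tr c⁻¹ ≫ (G ◁ (s ≫ x)) ≫ a.act = orb a (s ≫ x) ≫ act' a c⁻¹ ≫ fst X T₂ := by
      rw [← Category.assoc (orb a (s ≫ x)), ← tr_orb, Category.assoc]
      have e' : (G ◁ (s ≫ x)) ≫ a.act = orb a (s ≫ x) ≫ fst X T₂ := by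
        rw [orb, lift_fst]
        congr 1
      simp only [s, Category.assoc] at e' ⊢
      rw [e']
    have := congrArg (fun f => f.left g₂) e
    simp only [Over.comp_left, Scheme.Hom.comp_apply] at this
    rw [hg2] at this
    simp only [h, Over.comp_left, Scheme.Hom.comp_apply]
    exact this
  clear_value h
  let τ : G ⊗ X ⟶ G ⊗ X := lift (fst G X)⁻¹ a.act
  have hτ : τ ≫ a.act = snd G X := by
    have := mul_smul a (fst G X)⁻¹ (fst G X) (snd G X)
    rw [inv_mul_cancel, one_smul, lift_fst_snd, Category.id_comp] at this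
    exact this.symm
  have h1 : (fst G X).left (τ.left h) = invG ((fst G X).left h) := by
    show _ = (GrpObj.inv : G ⟶ G).left ((fst G X).left h)
    rw [← Scheme.Hom.comp_apply, ← Scheme.Hom.comp_apply, ← Over.comp_left, ← Over.comp_left,
      lift_fst]
    simp [Hom.inv_def]
  obtain ⟨A, hA, hAh⟩ := Set.mem_iUnion₂.1 (ht ⟨_, hh1, h1.symm⟩)
  refine ⟨τ.left h, Set.mem_iUnion₂.2 ⟨A, hA, hAh, ?_⟩, ?_⟩
  · show (snd G X).left (τ.left h) ∈ U
    rw [← Scheme.Hom.comp_apply, ← Over.comp_left, lift_snd, hh3]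
    exact hηU
  · rw [← Scheme.Hom.comp_apply, ← Over.comp_left, hτ, hh2]

end Groth.L25.Homogeneous
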