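import Groth.Agent.L25.Component
import Groth.Agent.L19.Closure
import Groth.Agent.L26.AV.GroupSep
import Mathlib.AlgebraicGeometry.Morphisms.UniversallyOpen

/-! A connected group scheme over a field is irreducible (no finiteness hypothesis). -/

universe u

open CategoryTheory CategoryTheory.Limits MonoidalCategory CartesianMonoidalCategory MonObj AlgebraicGeometry

namespace Groth.L25.ConnIrred

open Component

variable {k : Type u} [Field k] (G : Over (Spec (CommRingCat.of k))) [GrpObj G]

theorem one_apply {T : Over (Spec (CommRingCat.of k))} (c : T.left) : (1 : T ⟶ G).left c = one G :=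
  congrArg η[G].left (Subsingleton.elim (α := PrimeSpectrum k) _ _)

/-- Two points one of which generalizes the other differ by a point of the component of the identity. -/
theorem exists_pair {C : Set G.left} (hC : C ∈ irreducibleComponents ↥G.left) (he : one G ∈ C)
    {ξ x : G.left} (h : ξ ⤳ x) :
    ∃ w : (G ⊗ G).left, (fst G G).left w ∈ C ∧ (snd G G).left w = ξ ∧ μ[G].left w = x := by
  let kb := AlgebraicClosure k
  let t : Spec (CommRingCat.of kb) ⟶ Spec (CommRingCat.of k) :=
    Spec.map (CommRingCat.ofHom (algebraMap k kb))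
  let p := pullback.fst G.hom t
  haveI : Flat t := inferInstance
  haveI : Surjective t := ⟨fun c => ⟨IsLocalRing.closedPoint kb, Subsingleton.elim (α := PrimeSpectrum k) _ _⟩⟩
  obtain ⟨xb, hxb⟩ := p.surjective x
  obtain ⟨ξb, hξb, hpξ⟩ := Flat.generalizingMap p (show ξ ⤳ p xb from hxb ▸ h)
  let I := Scheme.IdealSheafData.vanishingIdeal (X := pullback G.hom t) ⟨closure {ξb}, isClosed_closure⟩
  have hr : Set.range I.subschemeι = closure {ξb} := by
    rw [Scheme.IdealSheafData.range_subschemeι, Scheme.IdealSheafData.coe_support_vanishingIdeal]; rfl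
  obtain ⟨ax, hax⟩ : xb ∈ Set.range I.subschemeι := hr ▸ specializes_iff_mem_closure.mp hξb
  obtain ⟨aξ, haξ⟩ : ξb ∈ Set.range I.subschemeι := hr ▸ subset_closure rfl
  haveI := irreducibleSpace_of_range I.subschemeι (hr ▸ isIrreducible_singleton.closure)
  let s := I.subschemeι ≫ pullback.snd G.hom t
  let r := I.subschemeι ≫ p
  have hsr : s ≫ t = r ≫ G.hom := by
    simp only [s, r, p, Category.assoc, pullback.condition]
  haveI : GeometricallyIrreducible s := GeomIrred.geometricallyIrreducible_of_isAlgClosed s
  haveI : IrreducibleSpace ↥(pullback s s) := inferInstance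
  obtain ⟨q, hq1, hq2⟩ := Scheme.Pullback.exists_preimage_pullback ax aξ
    (show s ax = s aξ from Subsingleton.elim (α := PrimeSpectrum kb) _ _)
  let qq : Over.mk (pullback.fst s s ≫ r ≫ G.hom) ⟶ G := Over.homMk (pullback.fst s s ≫ r) (Category.assoc _ _ _)
  let qq' : Over.mk (pullback.fst s s ≫ r ≫ G.hom) ⟶ G := Over.homMk (pullback.snd s s ≫ r) (by
    show (_ ≫ r) ≫ G.hom = pullback.fst s s ≫ r ≫ G.hom
    rw [Category.assoc, ← hsr, ← pullback.condition_assoc])
  let d := qq * qq'⁻¹
  have hd : Set.range d.left ⊆ C := by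
    have hirr : IsIrreducible (Set.range d.left) := by
      rw [← Set.image_univ]
      exact (IrreducibleSpace.isIrreducible_univ ↥(pullback s s)).image _ d.left.continuous.continuousOn
    have h1 : one G ∈ Set.range d.left := by
      let δ : Over.mk (r ≫ G.hom) ⟶ Over.mk (pullback.fst s s ≫ r ≫ G.hom) :=
        Over.homMk (pullback.lift (𝟙 _) (𝟙 _) rfl) (by
          show _ ≫ pullback.fst s s ≫ r ≫ G.hom = r ≫ G.hom
          rw [pullback.lift_fst_assoc]; exact Category.id_comp _)
      have h : δ ≫ d = 1 := by
        have : δ ≫ qq = δ ≫ qq' := Over.OverMorphism.ext (by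
          show pullback.lift _ _ _ ≫ _ ≫ r = pullback.lift _ _ _ ≫ _ ≫ r
          rw [pullback.lift_fst_assoc, pullback.lift_snd_assoc])
        simp only [d, MonObj.comp_mul, GrpObj.comp_inv, this, mul_inv_cancel]
      exact ⟨δ.left aξ, (congr(($h).left aξ)).trans (one_apply G _)⟩
    obtain ⟨W, hW, hsub⟩ := exists_mem_irreducibleComponents_subset_of_isIrreducible _ hirr
    rw [← uniqueComp G (one G) W hW C hC (hsub h1) he]
    exact hsub
  refine ⟨(lift d qq').left q, ?_, ?_, ?_⟩
  · rw [show (fst G G).left ((lift d qq').left q) = d.left q from congr(($(lift_fst d qq')).left q)]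
    exact hd ⟨q, rfl⟩
  · rw [show (snd G G).left ((lift d qq').left q) = qq'.left q from congr(($(lift_snd d qq')).left q)]
    show p (I.subschemeι (pullback.snd s s q)) = ξ
    rw [hq2, haξ, hpξ]
  · have : lift d qq' ≫ μ[G] = qq := by
      rw [← Hom.mul_def]; simp [d]
    rw [show μ[G].left ((lift d qq').left q) = qq.left q from congr(($this).left q)]
    show p (I.subschemeι (pullback.fst s s q)) = x
    rw [hq1, hax, hxb]

/-- A connected group scheme over a field is irreducible. -/
theorem irreducibleSpace [ConnectedSpace G.left] : IrreducibleSpace G.left := by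
  haveI := Groth.Agent.AV.isSeparated_of_grpObj G
  obtain ⟨C, hC, hCe⟩ := exists_mem_irreducibleComponents_subset_of_isIrreducible {one G} isIrreducible_singleton
  replace hCe : one G ∈ C := hCe rfl
  let I := Scheme.IdealSheafData.vanishingIdeal (X := G.left) ⟨C, isClosed_of_mem_irreducibleComponents C hC⟩
  have hI : Set.range I.subschemeι = C := by
    rw [Scheme.IdealSheafData.range_subschemeι, Scheme.IdealSheafData.coe_support_vanishingIdeal]; rfl
  haveI := irreducibleSpace_of_range I.subschemeι (hI.symm ▸ hC.1)
  haveI := geometricallyIrreducible_component G I.subschemeι (hI.symm ▸ hC) (hI.symm ▸ hCe)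
  let q : pullback I.subschemeι (fst G G).left ⟶ (G ⊗ G).left := pullback.snd _ _
  have hq : Set.range q = (fst G G).left ⁻¹' C := by
    show Set.range ⇑(pullback.snd I.subschemeι (fst G G).left) = _
    rw [Scheme.Pullback.range_snd, hI]
  let e : pullback I.subschemeι (fst G G).left ≅ pullback (I.subschemeι ≫ G.hom) G.hom :=
    pullbackRightPullbackFstIso G.hom G.hom I.subschemeι
  have he : e.hom ≫ pullback.snd _ _ = q ≫ (snd G G).left := by
    simp [e, q]
  have hopen : IsOpenMap ⇑(q ≫ (snd G G).left) := by
    rw [← he]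
    haveI : UniversallyOpen (I.subschemeι ≫ G.hom) := inferInstance
    exact (e.hom ≫ pullback.snd (I.subschemeι ≫ G.hom) G.hom).isOpenMap
  let τ' : G ⊗ G ⟶ G ⊗ G := lift (fst G G) ((fst G G)⁻¹ * snd G G)
  let τ : G ⊗ G ⟶ G ⊗ G := lift (fst G G) μ[G]
  have hμ : μ[G] = fst G G * snd G G := by
    rw [Hom.mul_def, lift_fst_snd, Category.id_comp]
  have hττ : τ ≫ τ' = 𝟙 _ := by
    apply CartesianMonoidalCategory.hom_ext
    · simp [τ, τ']
    · simp [τ, τ', MonObj.comp_mul, GrpObj.comp_inv, hμ]
  have hττ' : τ' ≫ τ = 𝟙 _ := by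
    apply CartesianMonoidalCategory.hom_ext
    · simp [τ, τ']
    · simp [τ, τ', MonObj.comp_mul, hμ]
  have key : ∀ V : G.left.Opens, IsAffineOpen V → (V : Set G.left).Nonempty →
      closure (V : Set G.left) = Set.univ ∧ ∀ x, ∃ v ∈ V, v ⤳ x := by
    intro V hV hne
    haveI : IsAffine (V : Scheme.{u}) := hV
    haveI : QuasiCompact (Scheme.Opens.ι V) := QuasiCompact.of_comp _ G.hom
    have hgen : ∀ x ∈ closure (V : Set G.left), ∃ v ∈ V, v ⤳ x := by
      intro x hx
      rw [← Scheme.Opens.range_ι V] at hx
      obtain ⟨a, ha⟩ := Groth.L19.exists_specializes_of_mem_closure_range (Scheme.Opens.ι V) hx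
      exact ⟨_, a.2, ha⟩
    let S : Set G.left := μ[G].left '' ((fst G G).left ⁻¹' C ∩ (snd G G).left ⁻¹' (V : Set G.left))
    have hS : IsOpen S := by
      have : S = ⇑(q ≫ (snd G G).left) '' (q ⁻¹' (τ'.left ⁻¹' ((snd G G).left ⁻¹' (V : Set G.left)))) := by
        ext y
        constructor
        · rintro ⟨w, ⟨hwC, hwV⟩, rfl⟩
          obtain ⟨a, ha⟩ : τ.left w ∈ Set.range q := by
            rw [hq]
            show (fst G G).left (τ.left w) ∈ C
            rw [show (fst G G).left (τ.left w) = (fst G G).left w from
              congr(($(lift_fst (fst G G) μ[G])).left w)]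
            exact hwC
          refine ⟨a, ?_, ?_⟩
          · show (snd G G).left (τ'.left (q a)) ∈ V
            rw [ha, show τ'.left (τ.left w) = w from congr(($hττ).left w)]
            exact hwV
          · show (snd G G).left (q a) = _
            rw [ha]
            exact congr(($(lift_snd (fst G G) μ[G])).left w)
        · rintro ⟨a, haV, rfl⟩
          refine ⟨τ'.left (q a), ⟨?_, haV⟩, ?_⟩
          · show (fst G G).left (τ'.left (q a)) ∈ C
            rw [show (fst G G).left (τ'.left (q a)) = (fst G G).left (q a) from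
              congr(($(lift_fst (fst G G) ((fst G G)⁻¹ * snd G G))).left (q a))]
            exact (Set.ext_iff.mp hq _).mp ⟨a, rfl⟩
          · have h : τ' ≫ μ[G] = snd G G := by
              simp [τ', MonObj.comp_mul, hμ]
            exact congr(($h).left (q a))
      rw [this]
      exact hopen _ ((V.isOpen.preimage (snd G G).left.continuous).preimage τ'.left.continuous |>.preimage q.continuous)
    have hSV : S = closure (V : Set G.left) := by
      refine subset_antisymm ?_ fun x hx => ?_
      · rintro _ ⟨w, ⟨hwC, hwV⟩, rfl⟩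
        set v := (snd G G).left w with hv
        let ψ := G.left.fromSpecResidueField v
        let R := pullback (q ≫ (snd G G).left) ψ
        have : IrreducibleSpace ↥R := by
          let e₂ : pullback (q ≫ (snd G G).left) ψ ≅ pullback (I.subschemeι ≫ G.hom) (ψ ≫ G.hom) :=
            pullback.congrHom he.symm rfl ≪≫
              asIso (pullback.map (e.hom ≫ pullback.snd _ _) ψ (pullback.snd _ _) ψ e.hom (𝟙 _) (𝟙 _)
                (by simp) (by simp)) ≪≫ pullbackLeftPullbackSndIso _ _ _
          exact e₂.hom.homeomorph.irreducibleSpace_iff.mpr inferInstance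
        let g := pullback.fst (q ≫ (snd G G).left) ψ ≫ q ≫ μ[G].left
        have hirr : IsIrreducible (Set.range g) := by
          rw [← Set.image_univ]
          exact (IrreducibleSpace.isIrreducible_univ ↥R).image _ g.continuous.continuousOn
        have hmem : ∀ w', (fst G G).left w' ∈ C → (snd G G).left w' = v → μ[G].left w' ∈ Set.range g := by
          intro w' h1 h2
          obtain ⟨a, rfl⟩ : w' ∈ Set.range q := hq ▸ h1
          obtain ⟨b, hb, -⟩ := Scheme.Pullback.exists_preimage_pullback (f := q ≫ (snd G G).left) (g := ψ)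
            a (IsLocalRing.closedPoint (G.left.residueField v))
            (h2.trans (Scheme.fromSpecResidueField_apply v _).symm)
          exact ⟨b, congrArg (fun c => μ[G].left (q c)) hb⟩
        have hvg : v ∈ Set.range g := by
          let P : Over (Spec (CommRingCat.of k)) := Over.mk (ψ ≫ G.hom)
          let gp : P ⟶ G := Over.homMk ψ
          let c : P.left := IsLocalRing.closedPoint (G.left.residueField v)
          have hc : gp.left c = v := Scheme.fromSpecResidueField_apply v _
          have h := hmem ((lift 1 gp).left c)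
            (by rw [show (fst G G).left ((lift 1 gp).left c) = (1 : P ⟶ G).left c from
                  congr(($(lift_fst (1 : P ⟶ G) gp)).left c), one_apply]
                exact hCe)
            ((congr(($(lift_snd (1 : P ⟶ G) gp)).left c)).trans hc)
          rwa [show μ[G].left ((lift 1 gp).left c) = v from
            (congr(($((Hom.mul_def (1 : P ⟶ G) gp).symm.trans (_root_.one_mul gp))).left c)).trans hc] at h
        obtain ⟨D, hD, hsub⟩ := exists_mem_irreducibleComponents_subset_of_isIrreducible _ hirr
        obtain ⟨ξ, rfl, -⟩ := maximal_of_mem_irreducibleComponents hD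
        have hξV : ξ ∈ V := (specializes_iff_mem_closure.mpr (hsub hvg)).mem_open V.isOpen hwV
        exact closure_mono (Set.singleton_subset_iff.mpr hξV) (hsub (hmem w hwC rfl))
      · obtain ⟨ξ, hξ, hξx⟩ := hgen x hx
        obtain ⟨w, h1, h2, h3⟩ := exists_pair G hC hCe hξx
        exact ⟨w, ⟨h1, by show (snd G G).left w ∈ V; rw [h2]; exact hξ⟩, h3⟩
    have huniv : closure (V : Set G.left) = Set.univ :=
      IsClopen.eq_univ ⟨isClosed_closure, hSV ▸ hS⟩ (hne.mono subset_closure)
    exact ⟨huniv, fun x => hgen x (huniv ▸ Set.mem_univ x)⟩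
  obtain ⟨ξ, hξ, hmax⟩ := maximal_of_mem_irreducibleComponents hC
  have hdense : closure {ξ} = Set.univ := by
    refine Set.eq_univ_of_forall fun x => mem_closure_iff.mpr fun o ho hxo => ⟨ξ, ?_, rfl⟩
    obtain ⟨_, ⟨V, hV, rfl⟩, hxV, hVo⟩ := G.left.isBasis_affineOpens.exists_subset_of_mem_open hxo ho
    obtain ⟨v, hv, hvξ⟩ := (key V hV ⟨x, hxV⟩).2 ξ
    exact hVo ((hmax v hvξ).mem_open V.isOpen hv)
  rw [irreducibleSpace_def]
  show IsIrreducible (Set.univ : Set G.left)
  rw [← hdense]
  exact isIrreducible_singleton.closure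

end Groth.L25.ConnIrred
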