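import Groth.Agent.L27.Torsor.Cov
import Groth.Prelude.Def_AlgGrp

/-!
# Homomorphisms killing the kernel of a flat surjection descend
-/

set_option autoImplicit false
universe u

open CategoryTheory CategoryTheory.Limits MonoidalCategory CartesianMonoidalCategory MonObj AlgebraicGeometry

namespace Groth.L25.DescHom

open Groth.L27.Torsor

variable {S : Scheme.{u}}

theorem cov_of_flat {X Y : Over S} (q : X ⟶ Y) [Flat q.left] [Surjective q.left] [QuasiCompact q.left] :
    Cov q :=
  Precoverage.generate_mem_toGrothendieck q.left.singleton_mem_fpqcPrecoverage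

theorem cov_whiskerRight (A : Over S) {X Y : Over S} {q : X ⟶ Y} (hq : Cov q) : Cov (q ▷ A) :=
  Cov.of_isPullback (p := fst X A) (g := fst Y A)
    (IsPullback.of_isLimit' ⟨(whiskerRight_fst _ _).symm⟩ (PullbackCone.IsLimit.mk _
      (fun s => lift s.fst (s.snd ≫ snd Y A)) (fun s => by simp)
      (fun s => by ext1 <;> simp [s.condition])
      (fun s m h₁ h₂ => by
        ext1
        · simp [h₁]
        · simp [← h₂]))) hq

/-- a homomorphism killing the kernel of a quotient map descends to a homomorphism -/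
theorem exists_desc_hom {N G Q T : Over S} [GrpObj G] [GrpObj Q] [GrpObj T] (i : N ⟶ G) (q : G ⟶ Q)
    [IsMonHom q] (hq : Cov q) (hker : AlgGrp.IsKernel i q) (g : G ⟶ T) [IsMonHom g] (hg : i ≫ g = 1) :
    ∃ h : Q ⟶ T, IsMonHom h ∧ q ≫ h = g := by
  obtain ⟨h, hh⟩ := descend hq g (fun W a b e => by
    have e1 : (a / b) ≫ q = toUnit W ≫ η[Q] := by
      rw [← Hom.one_def, GrpObj.div_comp, e, div_self']
    have e2 : (a / b) ≫ g = 1 := by
      rw [← hker.lift_fst _ _ e1, Category.assoc, hg, MonObj.comp_one]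
    rw [GrpObj.div_comp, div_eq_one] at e2
    exact e2)
  refine ⟨h, { one_hom := ?_, mul_hom := ?_ }, hh⟩
  · rw [← IsMonHom.one_hom q, Category.assoc, hh, IsMonHom.one_hom]
  · refine cancel (hq.whiskerLeft Q) (cancel (cov_whiskerRight G hq) ?_)
    rw [← Category.assoc, ← tensorHom_def, ← Category.assoc (q ▷ G), ← tensorHom_def, ← Category.assoc,
      ← IsMonHom.mul_hom q, Category.assoc, hh, IsMonHom.mul_hom g, ← Category.assoc,
      tensorHom_comp_tensorHom, hh]

end Groth.L25.DescHom
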