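import Mathlib.GroupTheory.Solvable
import Mathlib.GroupTheory.Nilpotent
import Groth.Agent.L26.AV.Isogeny
import Groth.Agent.L26.AV.GroupSep
import Groth.Agent.L26.AV.SmoothField
import Mathlib.CategoryTheory.Monoidal.Cartesian.Grp

/-!
# Iterated commutator words and the derived and lower central series of groups of points
-/

set_option autoImplicit false
set_option backward.isDefEq.respectTransparency.types false
set_option linter.style.haveILetI false

universe u v w

open CategoryTheory CategoryTheory.Limits MonoidalCategory CartesianMonoidalCategory MonObj AlgebraicGeometry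
open scoped commutatorElement

noncomputable section

namespace Groth.L25.CommWords

section Group

variable {Γ : Type w} [Group Γ]

/-- iterated commutators -/
def SD : ℕ → Set Γ
  | 0 => Set.univ
  | n + 1 => Set.image2 (fun a b => ⁅a, b⁆) (SD n) (SD n)

/-- iterated left-normed commutators -/
def SL : ℕ → Set Γ
  | 0 => Set.univ
  | n + 1 => Set.image2 (fun a b => ⁅a, b⁆) (SL n) Set.univ

theorem conj_SD (n : ℕ) (x a : Γ) (ha : a ∈ SD n) : x * a * x⁻¹ ∈ SD n := by
  induction n generalizing a with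
  | zero => trivial
  | succ n ih =>
    obtain ⟨p, hp, q, hq, rfl⟩ := ha
    exact ⟨_, ih p hp, _, ih q hq, (conjugate_commutatorElement p q x).symm⟩

theorem conj_SL (n : ℕ) (x a : Γ) (ha : a ∈ SL n) : x * a * x⁻¹ ∈ SL n := by
  induction n generalizing a with
  | zero => trivial
  | succ n ih =>
    obtain ⟨p, hp, q, -, rfl⟩ := ha
    exact ⟨_, ih p hp, _, Set.mem_univ _, (conjugate_commutatorElement p q x).symm⟩

theorem normal_closure_of_conj {A : Set Γ} (hA : ∀ x, ∀ a ∈ A, x * a * x⁻¹ ∈ A) : (Subgroup.closure A).Normal := by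
  refine ⟨fun a ha x => ?_⟩
  induction ha using Subgroup.closure_induction with
  | mem a ha => exact Subgroup.subset_closure (hA x a ha)
  | one => simp
  | mul a b _ _ iha ihb =>
    rw [show x * (a * b) * x⁻¹ = (x * a * x⁻¹) * (x * b * x⁻¹) by group]
    exact mul_mem iha ihb
  | inv a _ iha =>
    rw [show x * a⁻¹ * x⁻¹ = (x * a * x⁻¹)⁻¹ by group]
    exact inv_mem iha

theorem commutator_closure_le {A B : Set Γ} {M : Subgroup Γ} [M.Normal]
    (h : ∀ a ∈ A, ∀ b ∈ B, ⁅a, b⁆ ∈ M) : ⁅Subgroup.closure A, Subgroup.closure B⁆ ≤ M := by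
  let π := QuotientGroup.mk' M
  have hA : (Subgroup.closure A).map π ≤ Subgroup.centralizer (π '' B) := by
    rw [MonoidHom.map_closure, Subgroup.closure_le]
    rintro _ ⟨a, ha, rfl⟩
    rw [SetLike.mem_coe, Subgroup.mem_centralizer_iff]
    rintro _ ⟨b, hb, rfl⟩
    exact (commutatorElement_eq_one_iff_mul_comm.1
      (by rw [← map_commutatorElement]; exact (QuotientGroup.eq_one_iff _).2 (h a ha b hb))).symm
  rw [Subgroup.commutator_le]
  intro a ha b hb
  refine (QuotientGroup.eq_one_iff _).1 ?_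
  show π ⁅a, b⁆ = 1
  rw [map_commutatorElement, commutatorElement_eq_one_iff_mul_comm]
  have hB : (Subgroup.closure B).map π ≤ Subgroup.centralizer {π a} := by
    rw [MonoidHom.map_closure, Subgroup.closure_le]
    rintro _ ⟨b', hb', rfl⟩
    rw [SetLike.mem_coe, Subgroup.mem_centralizer_iff]
    rintro _ rfl
    exact (Subgroup.mem_centralizer_iff.1 (hA ⟨a, ha, rfl⟩) _ ⟨b', hb', rfl⟩).symm
  exact Subgroup.mem_centralizer_iff.1 (hB ⟨b, hb, rfl⟩) _ rfl

theorem derived_eq (n : ℕ) : derivedSeries Γ n = Subgroup.closure (SD n) := by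
  induction n with
  | zero => simp [SD]
  | succ n ih =>
    haveI := normal_closure_of_conj (conj_SD (Γ := Γ) (n + 1))
    refine le_antisymm ?_ (Subgroup.closure_le _ |>.2 ?_)
    · rw [derivedSeries_succ, ih]
      exact commutator_closure_le fun a ha b hb => Subgroup.subset_closure ⟨a, ha, b, hb, rfl⟩
    · rintro _ ⟨a, ha, b, hb, rfl⟩
      rw [SetLike.mem_coe, derivedSeries_succ, ih]
      exact Subgroup.commutator_mem_commutator (Subgroup.subset_closure ha) (Subgroup.subset_closure hb)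

theorem lower_eq (n : ℕ) : Subgroup.lowerCentralSeries (⊤ : Subgroup Γ) n = Subgroup.closure (SL n) := by
  induction n with
  | zero => simp [SL, Subgroup.lowerCentralSeries]
  | succ n ih =>
    haveI := normal_closure_of_conj (conj_SL (Γ := Γ) (n + 1))
    refine le_antisymm ?_ (Subgroup.closure_le _ |>.2 ?_)
    · rw [Subgroup.lowerCentralSeries, ih, show (⊤ : Subgroup Γ) = Subgroup.closure Set.univ from
        Subgroup.closure_univ.symm]
      exact commutator_closure_le fun a ha b hb => Subgroup.subset_closure ⟨a, ha, b, hb, rfl⟩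
    · rintro _ ⟨a, ha, b, hb, rfl⟩
      rw [SetLike.mem_coe, Subgroup.lowerCentralSeries, ih]
      exact Subgroup.commutator_mem_commutator (Subgroup.subset_closure ha) (Subgroup.mem_top b)

end Group

section Words

variable {C : Type w} [Category.{v} C] [CartesianMonoidalCategory C] (G : C) [GrpObj G]

/-- the source of the derived word -/
def TD : ℕ → C
  | 0 => G
  | n + 1 => TD n ⊗ TD n

/-- the source of the lower central word -/
def TL : ℕ → C
  | 0 => G
  | n + 1 => TL n ⊗ G

/-- the derived word -/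
def wD : (n : ℕ) → (TD G n ⟶ G)
  | 0 => 𝟙 G
  | n + 1 => show TD G n ⊗ TD G n ⟶ G from ⁅fst (TD G n) (TD G n) ≫ wD n, snd (TD G n) (TD G n) ≫ wD n⁆

/-- the lower central word -/
def wL : (n : ℕ) → (TL G n ⟶ G)
  | 0 => 𝟙 G
  | n + 1 => show TL G n ⊗ G ⟶ G from ⁅fst (TL G n) G ≫ wL n, snd (TL G n) G⁆

theorem comp_commutatorElement {T X : C} (P : T ⟶ X) (a b : X ⟶ G) : P ≫ ⁅a, b⁆ = ⁅P ≫ a, P ≫ b⁆ := by
  simp only [commutatorElement_def, MonObj.comp_mul, GrpObj.comp_inv]

theorem range_wD (T : C) (n : ℕ) : Set.range (fun P : T ⟶ TD G n => P ≫ wD G n) = SD n := by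
  induction n with
  | zero => exact Set.eq_univ_of_forall fun g => ⟨g, Category.comp_id g⟩
  | succ n ih =>
    ext g
    constructor
    · rintro ⟨P, rfl⟩
      have h1 : ∀ Q : T ⟶ TD G n, Q ≫ wD G n ∈ SD n := fun Q => by rw [← ih]; exact ⟨Q, rfl⟩
      refine ⟨_, h1 ((P : T ⟶ TD G n ⊗ TD G n) ≫ fst _ _), _, h1 ((P : T ⟶ TD G n ⊗ TD G n) ≫ snd _ _), ?_⟩
      simp only [Category.assoc]
      exact (comp_commutatorElement G (P : T ⟶ TD G n ⊗ TD G n) _ _).symm
    · rintro ⟨a, ha, b, hb, rfl⟩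
      rw [← ih] at ha hb
      obtain ⟨p, rfl⟩ := ha
      obtain ⟨q, rfl⟩ := hb
      refine ⟨CartesianMonoidalCategory.lift p q, ?_⟩
      exact (comp_commutatorElement G (CartesianMonoidalCategory.lift p q) (fst (TD G n) (TD G n) ≫ wD G n) (snd (TD G n) (TD G n) ≫ wD G n)).trans (by rw [lift_fst_assoc, lift_snd_assoc])

theorem range_wL (T : C) (n : ℕ) : Set.range (fun P : T ⟶ TL G n => P ≫ wL G n) = SL n := by
  induction n with
  | zero => exact Set.eq_univ_of_forall fun g => ⟨g, Category.comp_id g⟩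
  | succ n ih =>
    ext g
    constructor
    · rintro ⟨P, rfl⟩
      have h1 : ∀ Q : T ⟶ TL G n, Q ≫ wL G n ∈ SL n := fun Q => by rw [← ih]; exact ⟨Q, rfl⟩
      refine ⟨_, h1 ((P : T ⟶ TL G n ⊗ G) ≫ fst _ _), (P : T ⟶ TL G n ⊗ G) ≫ snd _ _, Set.mem_univ _, ?_⟩
      simp only [Category.assoc]
      exact (comp_commutatorElement G (P : T ⟶ TL G n ⊗ G) _ _).symm
    · rintro ⟨a, ha, b, -, rfl⟩
      rw [← ih] at ha
      obtain ⟨p, rfl⟩ := ha
      refine ⟨CartesianMonoidalCategory.lift p b, ?_⟩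
      exact (comp_commutatorElement G (CartesianMonoidalCategory.lift p b) (fst (TL G n) G ≫ wL G n) (snd (TL G n) G)).trans (by rw [lift_fst_assoc, lift_snd])

theorem derived_bot_iff (T : C) (n : ℕ) :
    derivedSeries (T ⟶ G) n = ⊥ ↔ ∀ P : T ⟶ TD G n, P ≫ wD G n = 1 := by
  rw [derived_eq, Subgroup.closure_eq_bot_iff, ← range_wD G T n, Set.range_subset_iff]
  rfl

theorem lower_bot_iff (T : C) (n : ℕ) :
    Subgroup.lowerCentralSeries (⊤ : Subgroup (T ⟶ G)) n = ⊥ ↔ ∀ P : T ⟶ TL G n, P ≫ wL G n = 1 := by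
  rw [lower_eq, Subgroup.closure_eq_bot_iff, ← range_wL G T n, Set.range_subset_iff]
  rfl

end Words

section Scheme

variable {k : Type u} [Field k] (G : Over (Spec (CommRingCat.of k))) [GrpObj G] [Smooth G.hom]

theorem smooth_tensor (X Y : Over (Spec (CommRingCat.of k))) [Smooth X.hom] [Smooth Y.hom] : Smooth (X ⊗ Y).hom :=
  inferInstanceAs (Smooth (pullback.fst X.hom Y.hom ≫ X.hom))

theorem smooth_TD : ∀ n, Smooth (TD G n).hom
  | 0 => ‹Smooth G.hom›
  | n + 1 => haveI := smooth_TD n; smooth_tensor (TD G n) (TD G n)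

theorem smooth_TL : ∀ n, Smooth (TL G n).hom
  | 0 => ‹Smooth G.hom›
  | n + 1 => haveI := smooth_TL n; smooth_tensor (TL G n) G

/-- a morphism from a smooth scheme to the group is trivial if it is so on geometric points -/
theorem eq_one_of_points (Ω : Type u) [Field Ω] [Algebra k Ω] [IsAlgClosed Ω] {X : Over (Spec (CommRingCat.of k))}
    [Smooth X.hom] (w : X ⟶ G)
    (h : ∀ P : (Over.mk (Spec.map (CommRingCat.ofHom (algebraMap k Ω))) : Over (Spec (CommRingCat.of k))) ⟶ X,
      P ≫ w = 1) : w = 1 := by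
  haveI := Groth.Agent.AV.isReduced_of_smooth_field X.hom
  haveI := Groth.Agent.AV.isSeparated_of_grpObj G
  exact Groth.Agent.AV.Isogeny.ext_of_points Ω w 1 fun P => (h P).trans (MonObj.comp_one _).symm

theorem main (Ω : Type u) [Field Ω] [Algebra k Ω] [IsAlgClosed Ω] (n : ℕ) :
    ((∀ T : Over (Spec (CommRingCat.of k)), derivedSeries (T ⟶ G) n = ⊥) ↔ derivedSeries ((Over.mk (Spec.map (CommRingCat.ofHom (algebraMap k Ω))) : Over (Spec (CommRingCat.of k))) ⟶ G) n = ⊥) ∧
    ((∀ T : Over (Spec (CommRingCat.of k)), Subgroup.lowerCentralSeries (⊤ : Subgroup (T ⟶ G)) n = ⊥) ↔ Subgroup.lowerCentralSeries (⊤ : Subgroup (((Over.mk (Spec.map (CommRingCat.ofHom (algebraMap k Ω))) : Over (Spec (CommRingCat.of k))) ⟶ G))) n = ⊥) := by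
  haveI := smooth_TD G n
  haveI := smooth_TL G n
  refine ⟨⟨fun h => h _, fun h T => (derived_bot_iff G T n).2 fun P => ?_⟩,
    ⟨fun h => h _, fun h T => (lower_bot_iff G T n).2 fun P => ?_⟩⟩
  · rw [eq_one_of_points G Ω (wD G n) ((derived_bot_iff G _ n).1 h), MonObj.comp_one]
  · rw [eq_one_of_points G Ω (wL G n) ((lower_bot_iff G _ n).1 h), MonObj.comp_one]

end Scheme

end Groth.L25.CommWords
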