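import Groth.Prelude.Def_AlgGrp
import Mathlib.AlgebraicGeometry.Sites.Fpqc
import Mathlib.AlgebraicGeometry.Morphisms.QuasiSeparated
import Mathlib.CategoryTheory.Limits.Constructions.Over.Connected
import Mathlib.CategoryTheory.Monoidal.Cartesian.Grp
import Mathlib.GroupTheory.Nilpotent
import Mathlib.GroupTheory.Solvable

/-! fpqc covers in `Over S`, and lifting of points of group schemes along a covering homomorphism. -/

universe u

open CategoryTheory CategoryTheory.Limits MonoidalCategory CartesianMonoidalCategory MonObj AlgebraicGeometry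

namespace Groth.L25.Covers

open scoped commutatorElement

variable {S : Scheme.{u}}

/-- An fpqc covering morphism of `S`-schemes. -/
def Cov {X' X : Over S} (c : X' ⟶ X) : Prop :=
  (@Surjective ⊓ @Flat ⊓ @QuasiCompact : MorphismProperty Scheme.{u}) c.left

lemma Cov.id (X : Over S) : Cov (𝟙 X) := by
  refine ⟨⟨?_, ?_⟩, ?_⟩ <;> (rw [Over.id_left]; infer_instance)

lemma Cov.comp {X'' X' X : Over S} {d : X'' ⟶ X'} {c : X' ⟶ X} (hd : Cov d) (hc : Cov c) :
    Cov (d ≫ c) := by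
  obtain ⟨⟨_, _⟩, _⟩ := hd
  obtain ⟨⟨_, _⟩, _⟩ := hc
  refine ⟨⟨?_, ?_⟩, ?_⟩ <;> (rw [Over.comp_left]; infer_instance)

lemma Cov.of_isPullback {P A B C : Over S} {p : P ⟶ A} {p' : P ⟶ B} {f : A ⟶ C} {g : B ⟶ C}
    (h : IsPullback p p' f g) (hg : Cov g) : Cov p := by
  have h' := h.map (Over.forget S)
  exact ⟨⟨MorphismProperty.of_isPullback (P := @Surjective) h'.flip hg.1.1,
    MorphismProperty.of_isPullback (P := @Flat) h'.flip hg.1.2⟩,
    MorphismProperty.of_isPullback (P := @QuasiCompact) h'.flip hg.2⟩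

lemma Cov.epi {X' X : Over S} {c : X' ⟶ X} (hc : Cov c) : Epi c := by
  obtain ⟨⟨_, _⟩, _⟩ := hc
  have : EffectiveEpi c.left := inferInstance
  exact Over.epi_of_epi_left c

variable {G Q : Over S} [GrpObj G] [GrpObj Q] (q : G ⟶ Q) [IsMonHom q]

/-- The points of `Q` over `X` lifting, after a cover, to points of `G` in a natural family of
subgroups. -/
def liftable (H : ∀ Y : Over S, Subgroup (Y ⟶ G))
    (hH : ∀ ⦃Y' Y : Over S⦄ (c : Y' ⟶ Y) (g : Y ⟶ G), g ∈ H Y → c ≫ g ∈ H Y') (X : Over S) :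
    Subgroup (X ⟶ Q) where
  carrier := {y | ∃ (X' : Over S) (c : X' ⟶ X) (g : X' ⟶ G), Cov c ∧ g ∈ H X' ∧ g ≫ q = c ≫ y}
  one_mem' := ⟨X, 𝟙 X, 1, Cov.id X, one_mem _, by rw [MonObj.one_comp, Category.id_comp]⟩
  inv_mem' := by
    rintro y ⟨X', c, g, hc, hg, e⟩
    exact ⟨X', c, g⁻¹, hc, inv_mem hg, by rw [GrpObj.inv_comp, e, GrpObj.comp_inv]⟩
  mul_mem' := by
    rintro y z ⟨X', c, g, hc, hg, e⟩ ⟨X'', d, g', hd, hg', e'⟩
    refine ⟨pullback c d, pullback.fst c d ≫ c, (pullback.fst c d ≫ g) * (pullback.snd c d ≫ g'),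
      (Cov.of_isPullback (.of_hasPullback c d) hd).comp hc, mul_mem (hH _ _ hg) (hH _ _ hg'), ?_⟩
    rw [MonObj.mul_comp, Category.assoc, Category.assoc, e, e', MonObj.comp_mul]
    congr 1
    rw [Category.assoc, pullback.condition_assoc]

lemma commutator_comp {X : Over S} (a b : X ⟶ G) : ⁅a, b⁆ ≫ q = ⁅a ≫ q, b ≫ q⁆ := by
  simp only [commutatorElement_def, MonObj.mul_comp, GrpObj.inv_comp]

lemma comp_commutator {X' X : Over S} (c : X' ⟶ X) (a b : X ⟶ Q) :
    c ≫ ⁅a, b⁆ = ⁅c ≫ a, c ≫ b⁆ := by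
  simp only [commutatorElement_def, MonObj.comp_mul, GrpObj.comp_inv]

/-- Precomposition on points. -/
def preComp {X' X : Over S} (c : X' ⟶ X) (G : Over S) [GrpObj G] : (X ⟶ G) →* (X' ⟶ G) where
  toFun g := c ≫ g
  map_one' := MonObj.comp_one c
  map_mul' := MonObj.comp_mul c

lemma derivedSeries_comp (n : ℕ) ⦃Y' Y : Over S⦄ (c : Y' ⟶ Y) (g : Y ⟶ G)
    (hg : g ∈ derivedSeries (Y ⟶ G) n) : c ≫ g ∈ derivedSeries (Y' ⟶ G) n :=
  map_derivedSeries_le_derivedSeries (preComp c G) n ⟨g, hg, rfl⟩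

lemma top_comp ⦃Y' Y : Over S⦄ (c : Y' ⟶ Y) (g : Y ⟶ G) (_ : g ∈ (⊤ : Subgroup (Y ⟶ G))) :
    c ≫ g ∈ (⊤ : Subgroup (Y' ⟶ G)) := Subgroup.mem_top _

lemma lowerCentralSeries_comp (n : ℕ) ⦃Y' Y : Over S⦄ (c : Y' ⟶ Y) (g : Y ⟶ G)
    (hg : g ∈ (⊤ : Subgroup (Y ⟶ G)).lowerCentralSeries n) :
    c ≫ g ∈ (⊤ : Subgroup (Y' ⟶ G)).lowerCentralSeries n := by
  induction n generalizing Y' Y c g with
  | zero => exact Subgroup.mem_top _
  | succ n ih =>
    revert g
    show (⊤ : Subgroup (Y ⟶ G)).lowerCentralSeries (n + 1) ≤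
      ((⊤ : Subgroup (Y' ⟶ G)).lowerCentralSeries (n + 1)).comap (preComp c G)
    rw [Subgroup.lowerCentralSeries_succ, Subgroup.lowerCentralSeries_succ, Subgroup.commutator_le]
    intro a ha b _
    rw [Subgroup.mem_comap, map_commutatorElement]
    exact Subgroup.commutator_mem_commutator (ih c a ha) (Subgroup.mem_top _)

variable (hq : Cov q)
include hq

lemma mem_liftable_top {X : Over S} (y : X ⟶ Q) :
    y ∈ liftable q (fun Y => (⊤ : Subgroup (Y ⟶ G))) top_comp X :=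
  ⟨pullback y q, pullback.fst y q, pullback.snd y q, Cov.of_isPullback (.of_hasPullback y q) hq,
    Subgroup.mem_top _, pullback.condition.symm⟩

omit hq in
lemma commutator_mem_liftable {X : Over S} {A B C : ∀ Y : Over S, Subgroup (Y ⟶ G)} {hA hB hC}
    {a b : X ⟶ Q} (ha : a ∈ liftable q A hA X) (hb : b ∈ liftable q B hB X)
    (h : ∀ Y (g g' : Y ⟶ G), g ∈ A Y → g' ∈ B Y → ⁅g, g'⁆ ∈ C Y) :
    ⁅a, b⁆ ∈ liftable q C hC X := by
  obtain ⟨X', c, g, hc, hg, e⟩ := ha
  obtain ⟨X'', d, g', hd, hg', e'⟩ := hb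
  refine ⟨pullback c d, pullback.fst c d ≫ c, ⁅pullback.fst c d ≫ g, pullback.snd c d ≫ g'⁆,
    (Cov.of_isPullback (.of_hasPullback c d) hd).comp hc, h _ _ _ (hA _ _ hg) (hB _ _ hg'), ?_⟩
  rw [commutator_comp, Category.assoc, Category.assoc, e, e', comp_commutator]
  congr 1
  rw [Category.assoc, pullback.condition_assoc]

theorem derivedSeries_le_liftable (n : ℕ) (X : Over S) :
    derivedSeries (X ⟶ Q) n ≤ liftable q (fun Y => derivedSeries (Y ⟶ G) n) (derivedSeries_comp n) X := by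
  induction n generalizing X with
  | zero => intro y _; exact mem_liftable_top q hq y
  | succ n ih =>
    rw [derivedSeries_succ, Subgroup.commutator_le]
    intro a ha b hb
    exact commutator_mem_liftable q (ih _ ha) (ih _ hb)
      fun Y g g' hg hg' => Subgroup.commutator_mem_commutator hg hg'

theorem lowerCentralSeries_le_liftable (n : ℕ) (X : Over S) :
    (⊤ : Subgroup (X ⟶ Q)).lowerCentralSeries n ≤
      liftable q (fun Y => (⊤ : Subgroup (Y ⟶ G)).lowerCentralSeries n) (lowerCentralSeries_comp n) X := by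
  induction n generalizing X with
  | zero => intro y _; exact mem_liftable_top q hq y
  | succ n ih =>
    rw [Subgroup.lowerCentralSeries_succ, Subgroup.commutator_le]
    intro a ha b _
    exact commutator_mem_liftable q (ih _ ha) (mem_liftable_top q hq b)
      fun Y g g' hg hg' => Subgroup.commutator_mem_commutator hg hg'

omit hq in
lemma eq_one_of_mem_liftable {X : Over S} {H : ∀ Y : Over S, Subgroup (Y ⟶ G)} {hH}
    (hbot : ∀ Y, H Y = ⊥) {y : X ⟶ Q} (hy : y ∈ liftable q H hH X) : y = 1 := by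
  obtain ⟨X', c, g, hc, hg, e⟩ := hy
  rw [hbot, Subgroup.mem_bot] at hg
  subst hg
  have := hc.epi
  rw [← cancel_epi c, ← e, MonObj.one_comp, MonObj.comp_one]

end Groth.L25.Covers
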