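import Groth.Agent.L25.FibAction
import Groth.Prelude.Def_SGA3x

/-!
# The conjugation action through a homomorphism; fibrewise central homomorphisms are central
-/

set_option autoImplicit false
universe u

open CategoryTheory CategoryTheory.Limits MonoidalCategory CartesianMonoidalCategory MonObj GrpObj
open AlgebraicGeometry

set_option backward.isDefEq.respectTransparency.types false

noncomputable section

namespace Groth.L25.ConjAction

variable {S : Scheme.{u}} {H G : Over S} [GrpObj H] [GrpObj G] (u : H ⟶ G) [IsMonHom u]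

/-- `h` acts by conjugation by `u h` -/
def conj : AlgGrp.Action H G where
  act := (fst H G ≫ u) * snd H G * (fst H G ≫ u)⁻¹
  one_act := by
    simp only [MonObj.comp_mul, GrpObj.comp_inv, whiskerRight_fst_assoc, whiskerRight_snd,
      IsMonHom.one_hom, leftUnitor_hom]
    rw [show fst (𝟙_ (Over S)) G ≫ η[G] = 1 by
      rw [Hom.one_def, toUnit_unique (fst (𝟙_ (Over S)) G) (toUnit _)],
      _root_.one_mul, inv_one, _root_.mul_one]
  mul_act := by
    simp only [MonObj.comp_mul, GrpObj.comp_inv, MonObj.mul_eq_mul, whiskerRight_fst_assoc, whiskerRight_snd,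
      whiskerLeft_fst_assoc, whiskerLeft_snd, associator_hom_fst_assoc, associator_hom_snd_fst_assoc,
      associator_hom_snd_snd, MonObj.mul_comp]
    rw [_root_.mul_inv_rev]
    simp only [_root_.mul_assoc]

theorem lift_conj {X : Over S} (h : X ⟶ H) (g : X ⟶ G) :
    lift h g ≫ (conj u).act = (h ≫ u) * g * (h ≫ u)⁻¹ := by
  simp only [conj, MonObj.comp_mul, GrpObj.comp_inv, lift_fst_assoc, lift_snd]

theorem central [LocallyOfFiniteType G.hom] (hH : SGA3x.IsMultTypeFT H)
    (hfib : ∀ (s : S) (X : Over (Spec (S.residueField s))) (g : X ⟶ Red.bc (S.fromSpecResidueField s) G)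
      (h : X ⟶ Red.bc (S.fromSpecResidueField s) H),
      g * (h ≫ (Over.pullback (S.fromSpecResidueField s)).map u) =
        (h ≫ (Over.pullback (S.fromSpecResidueField s)).map u) * g)
    {X : Over S} (g : X ⟶ G) (h : X ⟶ H) : g * (h ≫ u) = (h ≫ u) * g := by
  have hloc : TwC.Locally S TwC.Topology.fpqc (fun S' f => ∃ (M : Type) (_ : AddCommGroup M),
      Nonempty (Grp.mk (Red.bc f H) ≅ Grp.mk (Red.DS S' M))) := by
    obtain ⟨S', f, hflat, hsurj, hqc, hl⟩ := hH
    exact ⟨S', f, hflat, hsurj, hqc, fun s => by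
      obtain ⟨W, hW, M, instM, -, he⟩ := hl s
      exact ⟨W, hW, M, instM, he⟩⟩
  have h0 : ∀ (s : S) (Y : Over S) (_ : Y ⟶ Over.mk (S.fromSpecResidueField s)) (h' : Y ⟶ H) (g' : Y ⟶ G),
      lift h' g' ≫ (conj u).act = g' := by
    intro s Y p h' g'
    let i := S.fromSpecResidueField s
    let Z : Over (Spec (S.residueField s)) := Over.mk p.left
    let c : Over.mk (Z.hom ≫ i) ⟶ Y := Over.homMk (𝟙 Y.left) (by
      show 𝟙 Y.left ≫ Y.hom = p.left ≫ i
      rw [Category.id_comp]; exact (Over.w p).symm)
    have : IsIso c := by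
      have : IsIso c.left := inferInstanceAs (IsIso (𝟙 Y.left))
      have : IsIso ((Over.forget S).map c) := this
      exact isIso_of_reflects_iso c (Over.forget S)
    have h1 := congrArg (NilAction.toBase i)
      (hfib s Z (NilAction.ofBase i (c ≫ g')) (NilAction.ofBase i (c ≫ h')))
    rw [NilAction.toBase_mul, NilAction.toBase_mul, NilAction.ofBase_comp, NilAction.toBase_ofBase,
      NilAction.toBase_ofBase, Category.assoc, ← MonObj.comp_mul, ← MonObj.comp_mul] at h1
    rw [lift_conj, mul_inv_eq_iff_eq_mul]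
    exact ((cancel_epi c).1 h1).symm
  have h2 := FibAction.smul_eq (conj u) h0 hloc h g
  rw [lift_conj, mul_inv_eq_iff_eq_mul] at h2
  exact h2.symm

end Groth.L25.ConjAction
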