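import Groth.Prelude.Def_Red
import Groth.Prelude.Def_Red2
import Groth.Prelude.Def_GmPts
import Mathlib.RingTheory.Bialgebra.MonoidAlgebra
import Mathlib.AlgebraicGeometry.Morphisms.FlatDescent
import Mathlib.FieldTheory.IsAlgClosed.AlgebraicClosure

/-! A torus over a field killed by a positive integer is trivial. -/

set_option autoImplicit false

universe u

open CategoryTheory CategoryTheory.Limits AlgebraicGeometry MonoidalCategory CartesianMonoidalCategory MonObj

namespace Groth.L25.TorusTorsion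

variable {M N : Type} [AddCommGroup M] [AddCommGroup N]

theorem isMonHom_diagMap (R : Type u) [CommRing R] (φ : M →+ N) : IsMonHom (Red.diagMap R φ) := by
  let f := (bialgSpec (CommRingCat.of R)).map (Opposite.op (CommBialgCat.ofHom
    (MonoidAlgebra.mapDomainBialgHom R (AddMonoidHom.toMultiplicative φ))))
  have e : f.hom = Red.diagMap R φ := Over.OverMorphism.ext rfl
  exact e ▸ f.isMonHom_hom

instance isMonHom_DSmap (S : Scheme.{u}) (φ : M →+ N) : IsMonHom (Red.DSmap S φ) := by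
  have := isMonHom_diagMap (ULift.{u} ℤ) φ
  unfold Red.DSmap; infer_instance

theorem DSmap_id (S : Scheme.{u}) : Red.DSmap S (AddMonoidHom.id M) = 𝟙 _ := by
  have : Red.diagMap (ULift.{u} ℤ) (AddMonoidHom.id M) = 𝟙 _ := by
    refine Over.OverMorphism.ext ?_
    change Spec.map _ = 𝟙 _
    rw [← Spec.map_id]
    refine congrArg Spec.map (CommRingCat.hom_ext ?_)
    exact MonoidAlgebra.ringHom_ext (fun r => by simp) (fun a => by simp)
  rw [Red.DSmap, this, CategoryTheory.Functor.map_id]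

theorem DSmap_comp {P : Type} [AddCommGroup P] (S : Scheme.{u}) (φ : M →+ N) (ψ : N →+ P) :
    Red.DSmap S ψ ≫ Red.DSmap S φ = Red.DSmap S (ψ.comp φ) := by
  have : Red.diagMap (ULift.{u} ℤ) ψ ≫ Red.diagMap (ULift.{u} ℤ) φ =
      Red.diagMap (ULift.{u} ℤ) (ψ.comp φ) := by
    refine Over.OverMorphism.ext ?_
    change Spec.map _ ≫ Spec.map _ = Spec.map _
    rw [← Spec.map_comp]
    refine congrArg Spec.map (CommRingCat.hom_ext ?_)
    exact MonoidAlgebra.ringHom_ext (fun r => by simp) (fun a => by simp)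
  rw [Red.DSmap, Red.DSmap, Red.DSmap, ← Functor.map_comp, this]

/-- Transport of `x ^ m = 1` along an isomorphism of groups. -/
theorem pow_id_transfer {U : Scheme.{u}} {G H : Over U} [GrpObj G] [GrpObj H] (a : G ⟶ H)
    [IsMonHom a] (b : H ⟶ G) (hba : b ≫ a = 𝟙 H) (m : ℕ) (h : (𝟙 G) ^ m = 1) :
    (𝟙 H) ^ m = 1 := by
  rw [← hba, ← Category.id_comp a, ← MonObj.comp_pow, ← MonObj.pow_comp, h, MonObj.one_comp,
    MonObj.comp_one]

/-- `D_U(ℤ^r)` killed by `m > 0` on a nonempty base forces `r = 0`. -/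
theorem eq_zero_of_killed (U : Scheme.{u}) [Nonempty U] (r m : ℕ) (hm : 0 < m)
    (h : (𝟙 (Red.DS U (Fin r → ℤ))) ^ m = 1) : r = 0 := by
  by_contra hr
  let i : Fin r := ⟨0, Nat.pos_of_ne_zero hr⟩
  let π : (Fin r → ℤ) →+ ℤ := Pi.evalAddMonoidHom (fun _ : Fin r => ℤ) i
  let ι' : ℤ →+ (Fin r → ℤ) := zmultiplesHom _ (Pi.single i 1)
  have hπι : π.comp ι' = AddMonoidHom.id ℤ := by
    ext
    simp [π, ι']
  -- a point of infinite order of `𝔾ₘ`
  obtain ⟨x⟩ := ‹Nonempty U›
  let L := AlgebraicClosure (U.residueField x)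
  let X : Over U := Over.mk (Spec.map (CommRingCat.ofHom
    (algebraMap (U.residueField x) L)) ≫ U.fromSpecResidueField x)
  let e := Scheme.ΓSpecIso (CommRingCat.of L)
  obtain ⟨c, hc0, hc⟩ : ∃ c : L, c ≠ 0 ∧ c ^ m ≠ 1 := by
    by_contra hcon
    push Not at hcon
    have hfin : {c : L | c ^ m = 1}.Finite :=
      (Polynomial.nthRootsFinset m (1 : L)).finite_toSet.subset fun c hc => by
        simpa [Polynomial.mem_nthRootsFinset hm] using hc
    exact (hfin.union (Set.finite_singleton (0 : L))).not_infinite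
      (Set.infinite_univ.mono fun c _ => by
        by_cases hc : c = 0
        · exact Or.inr hc
        · exact Or.inl (hcon c hc))
  let v : Γ(X.left, ⊤)ˣ := Units.map e.inv.hom.toMonoidHom (Units.mk0 c hc0)
  let t : X ⟶ Red.Gm U := GmPts.ptOfUnit v
  haveI : IsMonHom (Red.DSmap U π) := isMonHom_DSmap U π
  have h1 : (t ^ m) ≫ Red.DSmap U π = 1 := by
    rw [@MonObj.pow_comp _ _ _ _ _ _ _ _ t m (Red.DSmap U π) (isMonHom_DSmap U π), ← Category.comp_id (t ≫ Red.DSmap U π), ← MonObj.comp_pow, h,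
      MonObj.comp_one]
  have h2 := congrArg (· ≫ Red.DSmap U ι') h1
  simp only [Category.assoc, DSmap_comp, hπι, DSmap_id, Category.comp_id, MonObj.one_comp] at h2
  have h3 := congrArg (fun s => GmPts.equiv X s) h2
  simp only [map_pow, map_one, GmPts.equiv_apply] at h3
  rw [GmPts.unitOfPt_ptOfUnit, ← map_pow] at h3
  have h4 := congrArg (fun w : Γ(X.left, ⊤)ˣ => e.hom.hom (w : Γ(X.left, ⊤))) h3
  refine hc ?_
  have h5 : e.hom.hom (e.inv.hom (c ^ m)) = 1 := by
    simpa [v] using h4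
  exact ((Iso.inv_hom_id_apply e (c ^ m)).symm.trans h5)

/-- A torus over a field killed by a positive integer is trivial. -/
theorem isTrivialGrp_of_killed {k : Type u} [Field k] (T : Over (Spec (CommRingCat.of k)))
    [GrpObj T] (hT : Red.IsTorus T) (m : ℕ) (hm : 0 < m) (h : (𝟙 T) ^ m = 1) :
    Red.IsTrivialGrp T := by
  obtain ⟨S', f, -, hfs, -, hloc⟩ := hT
  obtain ⟨s', -⟩ := hfs.surj (IsLocalRing.closedPoint k)
  obtain ⟨U, hsU, r, ⟨e⟩⟩ := hloc s'
  have : Nonempty U.toScheme := ⟨⟨s', hsU⟩⟩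
  let g : U.toScheme ⟶ Spec (CommRingCat.of k) := U.ι ≫ f
  have hbc : (𝟙 (Red.bc g T)) ^ m = 1 := by
    have := congrArg (Over.pullback g).map h
    rw [show (Over.pullback g).map ((𝟙 T) ^ m) = ((Over.pullback g).map (𝟙 T)) ^ m from
      map_pow ((Over.pullback g).homMonoidHom) _ m, CategoryTheory.Functor.map_id,
      CategoryTheory.Functor.map_one] at this
    exact this
  have hDS : (𝟙 (Red.DS U.toScheme (Fin r → ℤ))) ^ m = 1 :=
    @pow_id_transfer _ (Red.bc g T) (Red.DS U.toScheme (Fin r → ℤ)) _ _ e.hom.hom.hom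
      e.hom.hom.isMonHom_hom e.inv.hom.hom congr($(e.inv_hom_id).hom.hom) m hbc
  obtain rfl := eq_zero_of_killed U.toScheme r m hm hDS
  -- the base change of `T` to `U` is trivial
  haveI hiso : IsIso (pullback.snd T.hom g) := by
    have : IsIso (Red.DS U.toScheme (Fin 0 → ℤ)).hom := by
      change IsIso (pullback.snd _ _)
      have : IsIso ((Red.diag (ULift.{u} ℤ) (Fin 0 → ℤ)).hom) := by
        have hb : Function.Bijective (algebraMap (ULift.{u} ℤ)
            (MonoidAlgebra (ULift.{u} ℤ) (Multiplicative (Fin 0 → ℤ)))) := by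
          let inv' := MonoidAlgebra.lift (ULift.{u} ℤ) (ULift.{u} ℤ) (Multiplicative (Fin 0 → ℤ)) 1
          refine Function.bijective_iff_has_inverse.2 ⟨inv', fun r => inv'.commutes r, fun x => ?_⟩
          have : (Algebra.ofId (ULift.{u} ℤ) _).comp inv' = AlgHom.id _ _ :=
            MonoidAlgebra.algHom_ext (fun a => by simp [inv', Subsingleton.elim a 1, MonoidAlgebra.one_def])
              (AlgHom.ext fun r => by simp [inv', MonoidAlgebra.one_def])
          exact AlgHom.congr_fun this x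
        haveI : IsIso (CommRingCat.ofHom (algebraMap (ULift.{u} ℤ)
          (MonoidAlgebra (ULift.{u} ℤ) (Multiplicative (Fin 0 → ℤ))))) :=
            (ConcreteCategory.isIso_iff_bijective _).2 hb
        exact inferInstanceAs (IsIso (Spec.map (CommRingCat.ofHom (algebraMap (ULift.{u} ℤ)
          (MonoidAlgebra (ULift.{u} ℤ) (Multiplicative (Fin 0 → ℤ)))))))
      infer_instance
    haveI : IsIso e.hom.hom.hom :=
      ⟨e.inv.hom.hom, congr($(e.hom_inv_id).hom.hom), congr($(e.inv_hom_id).hom.hom)⟩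
    haveI : IsIso e.hom.hom.hom.left := inferInstanceAs (IsIso ((Over.forget _).map e.hom.hom.hom))
    have hw := Over.w e.hom.hom.hom
    change IsIso (Red.bc g T).hom
    rw [← hw]
    infer_instance
  obtain ⟨V, hV, hsV, hVU⟩ := exists_isAffineOpen_mem_and_subset (X := U.toScheme)
    (x := ⟨s', hsU⟩) (U := ⊤) trivial
  haveI : IsAffine V.toScheme := hV
  let g' : V.toScheme ⟶ Spec (CommRingCat.of k) := V.ι ≫ g
  have hiso' : IsIso (pullback.snd T.hom g') := by
    show IsIso (pullback.snd T.hom (V.ι ≫ g))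
    rw [← pullbackLeftPullbackSndIso_inv_snd_snd T.hom g V.ι]
    infer_instance
  refine MorphismProperty.of_isPullback_of_descendsAlong
    (P := MorphismProperty.isomorphisms Scheme.{u}) (Q := @Surjective ⊓ @Flat ⊓ @QuasiCompact)
    (IsPullback.of_hasPullback T.hom g').flip ⟨⟨?_, ?_⟩, inferInstance⟩ hiso'
  · exact ⟨fun y => ⟨⟨⟨s', hsU⟩, hsV⟩, Subsingleton.elim (α := PrimeSpectrum k) _ _⟩⟩
  · infer_instance

end Groth.L25.TorusTorsion
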