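import Groth.Prelude.Def_VecGrp
import Groth.Prelude.Def_HopfRep
import Mathlib.AlgebraicGeometry.Group.Affine

/-!
# Comodules and modules over an affine group scheme
-/

set_option autoImplicit false
set_option backward.isDefEq.respectTransparency.types false

universe u

open CategoryTheory AlgebraicGeometry WithConv
open scoped TensorProduct MonObj

noncomputable section

namespace Groth.L25.ComodGMod

variable {R A : Type u} [CommRing R] [CommRing A] [HopfAlgebra R A] {E : Type u} [AddCommGroup E] [Module R E]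
  {B : Type u} [CommRing B] [Algebra R B]

/-- the value of a coaction at a point -/
def T (δ : E →ₗ[R] E ⊗[R] A) (f : A →ₐ[R] B) : E →ₗ[R] B ⊗[R] E :=
  (TensorProduct.comm R E B).toLinearMap ∘ₗ f.toLinearMap.lTensor E ∘ₗ δ

/-- the linear extension -/
def L (δ : E →ₗ[R] E ⊗[R] A) (f : A →ₐ[R] B) : B ⊗[R] E →ₗ[B] B ⊗[R] E :=
  (T δ f).liftBaseChange B

theorem T_apply (δ : E →ₗ[R] E ⊗[R] A) (f : A →ₐ[R] B) (x : E) :
    T δ f x = (TensorProduct.comm R E B) (f.toLinearMap.lTensor E (δ x)) := rfl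

@[simp] theorem L_tmul (δ : E →ₗ[R] E ⊗[R] A) (f : A →ₐ[R] B) (b : B) (x : E) :
    L δ f (b ⊗ₜ x) = b • T δ f x :=
  LinearMap.liftBaseChange_tmul B _ _ _

theorem L_one_tmul (δ : E →ₗ[R] E ⊗[R] A) (f : A →ₐ[R] B) (x : E) :
    L δ f ((1 : B) ⊗ₜ x) = T δ f x := by
  rw [L_tmul, one_smul]

/-- linear maps agreeing on the basic elements are equal -/
theorem eq_L {δ : E →ₗ[R] E ⊗[R] A} {f : A →ₐ[R] B} (e : B ⊗[R] E ≃ₗ[B] B ⊗[R] E)
    (h : ∀ x, e ((1 : B) ⊗ₜ x) = T δ f x) (y : B ⊗[R] E) : e y = L δ f y := by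
  induction y using TensorProduct.induction_on with
  | zero => simp
  | add a b ha hb => simp [ha, hb]
  | tmul b x =>
    rw [L_tmul, ← h, ← map_smul, TensorProduct.smul_tmul', smul_eq_mul, mul_one]

/-- the pairing with two points -/
def Φ (f g : A →ₐ[R] B) : E ⊗[R] (A ⊗[R] A) →ₗ[R] B ⊗[R] E :=
  (TensorProduct.comm R E B).toLinearMap ∘ₗ
    (LinearMap.mul' R B ∘ₗ TensorProduct.map f.toLinearMap g.toLinearMap).lTensor E

theorem L_T (δ : E →ₗ[R] E ⊗[R] A) (f g : A →ₐ[R] B) (x : E) :
    L δ f (T δ g x) = Φ f g ((TensorProduct.assoc R E A A) (δ.rTensor A (δ x))) := by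
  rw [T_apply]
  generalize δ x = y
  induction y using TensorProduct.induction_on with
  | zero => simp
  | add a b ha hb => simp [ha, hb]
  | tmul e a =>
    rw [LinearMap.lTensor_tmul, TensorProduct.comm_tmul, L_tmul, LinearMap.rTensor_tmul, T_apply]
    generalize δ e = z
    induction z using TensorProduct.induction_on with
    | zero => simp
    | add a b ha hb =>
      simp only [AlgHom.toLinearMap_apply] at ha hb
      simp [TensorProduct.add_tmul, ha, hb]
    | tmul e' a' => simp [Φ, TensorProduct.smul_tmul', mul_comm]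

theorem T_conv (δ : E →ₗ[R] E ⊗[R] A) (f g : A →ₐ[R] B) (x : E) :
    T δ (toConv f * toConv g).ofConv x =
      Φ f g ((CoalgebraStruct.comul (R := R) (A := A)).lTensor E (δ x)) := by
  rw [T_apply]
  generalize δ x = y
  induction y using TensorProduct.induction_on with
  | zero => simp
  | add a b ha hb => simp [ha, hb]
  | tmul e a =>
    simp only [Φ, LinearMap.comp_apply, LinearMap.lTensor_tmul, LinearEquiv.coe_coe, TensorProduct.comm_tmul]
    congr 1

theorem L_mul (δ : E →ₗ[R] E ⊗[R] A)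
    (hδ : (TensorProduct.assoc R E A A).toLinearMap ∘ₗ δ.rTensor A ∘ₗ δ =
      (CoalgebraStruct.comul (R := R) (A := A)).lTensor E ∘ₗ δ)
    (f g : WithConv (A →ₐ[R] B)) (y : B ⊗[R] E) :
    L δ (f * g).ofConv y = L δ f.ofConv (L δ g.ofConv y) := by
  induction y using TensorProduct.induction_on with
  | zero => simp
  | add a b ha hb => simp [ha, hb]
  | tmul b x =>
    rw [L_tmul, L_tmul, map_smul, L_T]
    congr 1
    have h : (TensorProduct.assoc R E A A) (δ.rTensor A (δ x)) =
        (CoalgebraStruct.comul (R := R) (A := A)).lTensor E (δ x) := congr($hδ x)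
    rw [h, ← T_conv]

theorem L_one (δ : E →ₗ[R] E ⊗[R] A)
    (hδ : (CoalgebraStruct.counit (R := R) (A := A)).lTensor E ∘ₗ δ = (TensorProduct.mk R E R).flip 1)
    (y : B ⊗[R] E) : L δ (1 : WithConv (A →ₐ[R] B)).ofConv y = y := by
  induction y using TensorProduct.induction_on with
  | zero => simp
  | add a b ha hb => simp [ha, hb]
  | tmul b x =>
    rw [L_tmul, T_apply]
    have h : (CoalgebraStruct.counit (R := R) (A := A)).lTensor E (δ x) = x ⊗ₜ[R] (1 : R) := congr($hδ x)
    have e : (1 : WithConv (A →ₐ[R] B)).ofConv.toLinearMap =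
        Algebra.linearMap R B ∘ₗ CoalgebraStruct.counit (R := R) (A := A) := by
      ext a; simp [AlgHom.convOne_apply]
    rw [e, LinearMap.lTensor_comp, LinearMap.comp_apply, h]
    simp [TensorProduct.smul_tmul']

/-- the algebra homomorphism of a point -/
abbrev hom (g : VecGrp.pt R B ⟶ (Spec (CommRingCat.of A)).asOver (Spec (CommRingCat.of R))) :
    WithConv (A →ₐ[R] B) :=
  Spec.mapMulEquiv.symm g

theorem hom_comp {B' : Type u} [CommRing B'] [Algebra R B'] (φ : B →ₐ[R] B')
    (g : VecGrp.pt R B ⟶ (Spec (CommRingCat.of A)).asOver (Spec (CommRingCat.of R))) :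
    hom (VecGrp.ptMap φ ≫ g) = toConv (φ.comp (hom g).ofConv) := by
  obtain ⟨f, rfl⟩ := (Spec.mapMulEquiv (R := R) (S := A) (T := B)).surjective g
  rw [hom, MulEquiv.symm_apply_eq, hom, MulEquiv.symm_apply_apply]
  apply Over.OverMorphism.ext
  show Spec.map _ ≫ Spec.map _ = Spec.map _
  rw [← Spec.map_comp]
  rfl

theorem hom_mul (g g' : VecGrp.pt R B ⟶ (Spec (CommRingCat.of A)).asOver (Spec (CommRingCat.of R))) :
    hom (g * g') = hom g * hom g' := map_mul _ _ _

theorem hom_one : hom (1 : VecGrp.pt R B ⟶ (Spec (CommRingCat.of A)).asOver (Spec (CommRingCat.of R))) = 1 :=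
  map_one _

theorem hom_inv_right (g : VecGrp.pt R B ⟶ (Spec (CommRingCat.of A)).asOver (Spec (CommRingCat.of R))) :
    hom g * hom g⁻¹ = 1 := by
  rw [← hom_mul, mul_inv_cancel, hom_one]

theorem hom_inv_left (g : VecGrp.pt R B ⟶ (Spec (CommRingCat.of A)).asOver (Spec (CommRingCat.of R))) :
    hom g⁻¹ * hom g = 1 := by
  rw [← hom_mul, inv_mul_cancel, hom_one]

/-- a comodule gives a module over the group -/
theorem exists_gmod (δ : E →ₗ[R] E ⊗[R] A)
    (h₁ : (TensorProduct.assoc R E A A).toLinearMap ∘ₗ δ.rTensor A ∘ₗ δ =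
      (CoalgebraStruct.comul (R := R) (A := A)).lTensor E ∘ₗ δ)
    (h₂ : (CoalgebraStruct.counit (R := R) (A := A)).lTensor E ∘ₗ δ = (TensorProduct.mk R E R).flip 1) :
    ∃! m : VecGrp.GMod ((Spec (CommRingCat.of A)).asOver (Spec (CommRingCat.of R))) E,
      ∀ (B : Type u) [CommRing B] [Algebra R B]
        (g : VecGrp.pt R B ⟶ (Spec (CommRingCat.of A)).asOver (Spec (CommRingCat.of R))) (x : E),
        m.ρ B g ((1 : B) ⊗ₜ[R] x) = T δ (hom g).ofConv x := by
  let act : ∀ (B : Type u) [CommRing B] [Algebra R B],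
      (VecGrp.pt R B ⟶ (Spec (CommRingCat.of A)).asOver (Spec (CommRingCat.of R))) →*
        ((B ⊗[R] E) ≃ₗ[B] (B ⊗[R] E)) := fun B _ _ => MonoidHom.mk'
    (fun g => LinearEquiv.ofLinear (L δ (hom g).ofConv) (L δ (hom g⁻¹).ofConv)
      (LinearMap.ext fun y => by
        rw [LinearMap.comp_apply, ← L_mul δ h₁, hom_inv_right, L_one δ h₂]; rfl)
      (LinearMap.ext fun y => by
        rw [LinearMap.comp_apply, ← L_mul δ h₁, hom_inv_left, L_one δ h₂]; rfl))
    (fun g g' => LinearEquiv.ext fun y => by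
      show L δ (hom (g * g')).ofConv y = L δ (hom g).ofConv (L δ (hom g').ofConv y)
      rw [hom_mul, L_mul δ h₁])
  refine ⟨⟨act, fun {B B'} _ _ _ _ φ g y => ?_⟩, fun B _ _ g x => L_one_tmul δ _ x, fun m hm => ?_⟩
  · show VecGrp.Wmap φ (L δ (hom g).ofConv y) = L δ (hom (VecGrp.ptMap φ ≫ g)).ofConv (VecGrp.Wmap φ y)
    rw [hom_comp]
    induction y using TensorProduct.induction_on with
    | zero => simp
    | add a b ha hb => simp [ha, hb]
    | tmul b x =>
      rw [L_tmul, VecGrp.Wmap_smul, VecGrp.Wmap_tmul, L_tmul, T_apply, T_apply]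
      congr 1
      generalize δ x = z
      induction z using TensorProduct.induction_on with
      | zero => simp
      | add a b ha hb => simp [ha, hb]
      | tmul e a => simp
  · obtain ⟨ρ, hρ⟩ := m
    have : ρ = act := by
      funext B _ _
      exact MonoidHom.ext fun g => LinearEquiv.ext fun y => eq_L (ρ B g) (hm B g) y
    subst this
    rfl

/-- a module over the group gives a comodule -/
theorem exists_coact (m : VecGrp.GMod ((Spec (CommRingCat.of A)).asOver (Spec (CommRingCat.of R))) E) :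
    ∃! δ : E →ₗ[R] E ⊗[R] A,
      ((TensorProduct.assoc R E A A).toLinearMap ∘ₗ δ.rTensor A ∘ₗ δ =
          (CoalgebraStruct.comul (R := R) (A := A)).lTensor E ∘ₗ δ ∧
        (CoalgebraStruct.counit (R := R) (A := A)).lTensor E ∘ₗ δ = (TensorProduct.mk R E R).flip 1) ∧
      ∀ (B : Type u) [CommRing B] [Algebra R B]
        (g : VecGrp.pt R B ⟶ (Spec (CommRingCat.of A)).asOver (Spec (CommRingCat.of R))) (x : E),
        m.ρ B g ((1 : B) ⊗ₜ[R] x) = T δ (hom g).ofConv x := by
  let u : VecGrp.pt R A ⟶ (Spec (CommRingCat.of A)).asOver (Spec (CommRingCat.of R)) :=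
    Spec.mapMulEquiv (toConv (AlgHom.id R A))
  have hu : hom u = toConv (AlgHom.id R A) := MulEquiv.symm_apply_apply _ _
  let δ : E →ₗ[R] E ⊗[R] A := (TensorProduct.comm R A E).toLinearMap ∘ₗ
    ((m.ρ A u).toLinearMap.restrictScalars R) ∘ₗ TensorProduct.mk R A E 1
  have key : ∀ (B : Type u) [CommRing B] [Algebra R B]
      (g : VecGrp.pt R B ⟶ (Spec (CommRingCat.of A)).asOver (Spec (CommRingCat.of R))) (x : E),
      m.ρ B g ((1 : B) ⊗ₜ[R] x) = T δ (hom g).ofConv x := by
    intro B _ _ g x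
    have e : VecGrp.ptMap (hom g).ofConv ≫ u = g := by
      apply (Spec.mapMulEquiv (R := R) (S := A) (T := B)).symm.injective
      show hom _ = hom g
      rw [hom_comp, hu]
      rfl
    have h := m.naturality (hom g).ofConv u ((1 : A) ⊗ₜ[R] x)
    rw [e, VecGrp.Wmap_tmul, map_one] at h
    rw [← h, T_apply]
    show VecGrp.Wmap (hom g).ofConv _ =
      (TensorProduct.comm R E B) ((hom g).ofConv.toLinearMap.lTensor E
        ((TensorProduct.comm R A E) (m.ρ A u ((1 : A) ⊗ₜ[R] x))))
    generalize m.ρ A u ((1 : A) ⊗ₜ[R] x) = z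
    induction z using TensorProduct.induction_on with
    | zero => simp
    | add a b ha hb => simp [ha, hb]
    | tmul a e => simp
  refine ⟨δ, ⟨⟨?_, ?_⟩, key⟩, fun δ' ⟨_, hδ'⟩ => ?_⟩
  · refine LinearMap.ext fun x => ?_
    let inl : A →ₐ[R] A ⊗[R] A := Algebra.TensorProduct.includeLeft
    let inr : A →ₐ[R] A ⊗[R] A := Algebra.TensorProduct.includeRight
    have hid : LinearMap.mul' R (A ⊗[R] A) ∘ₗ TensorProduct.map inl.toLinearMap inr.toLinearMap = LinearMap.id := by
      ext a b; simp [inl, inr]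
    have h : ∀ g g' : VecGrp.pt R (A ⊗[R] A) ⟶ (Spec (CommRingCat.of A)).asOver (Spec (CommRingCat.of R)),
        T δ (hom g * hom g').ofConv x = L δ (hom g).ofConv (T δ (hom g').ofConv x) := fun g g' => by
      rw [← key _ g' x, ← eq_L (m.ρ _ g) (key _ g)]
      have h1 := key _ (g * g') x
      rw [map_mul, hom_mul] at h1
      exact h1.symm
    have h := h (Spec.mapMulEquiv (toConv inl) : VecGrp.pt R (A ⊗[R] A) ⟶ _)
      (Spec.mapMulEquiv (toConv inr) : VecGrp.pt R (A ⊗[R] A) ⟶ _)
    rw [hom, hom, MulEquiv.symm_apply_apply, MulEquiv.symm_apply_apply, T_conv, L_T, Φ, hid, LinearMap.lTensor_id,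
      LinearMap.comp_id] at h
    exact ((TensorProduct.comm R E (A ⊗[R] A)).injective h).symm
  · refine LinearMap.ext fun x => ?_
    have h := key R 1 x
    rw [map_one, hom_one, T_apply] at h
    have e : (1 : WithConv (A →ₐ[R] R)).ofConv.toLinearMap = CoalgebraStruct.counit (R := R) (A := A) := by
      ext a; simp [AlgHom.convOne_apply]
    rw [e] at h
    apply (TensorProduct.comm R E R).injective
    exact h.symm
  · refine LinearMap.ext fun x => ?_
    have h := hδ' A u x
    rw [key A u x, hu, T_apply, T_apply] at h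
    have h := (TensorProduct.comm R E A).injective h
    simpa using h.symm

end Groth.L25.ComodGMod
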