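import Groth.Agent.L25.DSPts
import Groth.Prelude.Def_Red2

/-!
# `D_S(M)` over an affine base is the spectrum of the group algebra
-/

set_option autoImplicit false
universe u

open CategoryTheory CategoryTheory.Limits MonoidalCategory CartesianMonoidalCategory MonObj AlgebraicGeometry Opposite

set_option backward.isDefEq.respectTransparency.types false

noncomputable section

namespace Groth.L25.DiagIso

variable (R : Type u) [CommRing R] (M : Type) [AddCommGroup M]

/-- the group algebra -/
abbrev RM : Type u := MonoidAlgebra R (Multiplicative M)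

/-- constants and monomials as functions -/
def chi : Multiplicative M →* Γ((Red.diag R M).left, ⊤) :=
  ((Scheme.ΓSpecIso (CommRingCat.of (RM R M))).inv.hom.toMonoidHom).comp (MonoidAlgebra.of R (Multiplicative M))

/-- the comparison map -/
def theta : Red.diag R M ⟶ Red.DS (Spec (CommRingCat.of R)) M := DSPts.pt (chi R M)

variable {R M}

theorem ringHom_ext {A : Type u} [CommRing A] {f g : RM R M →+* A}
    (h₁ : ∀ r, f (algebraMap R _ r) = g (algebraMap R _ r))
    (h₂ : ∀ m, f (MonoidAlgebra.single m 1) = g (MonoidAlgebra.single m 1)) : f = g :=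
  MonoidAlgebra.ringHom_ext (fun r => by simpa [MonoidAlgebra.coe_algebraMap] using h₁ r) h₂

variable (R M)

/-- the ring map of the inverse -/
def psi : RM R M →+* Γ((Red.DS (Spec (CommRingCat.of R)) M).left, ⊤) :=
  MonoidAlgebra.liftNCRingHom (((Scheme.ΓSpecIso (CommRingCat.of R)).inv ≫
    (Red.DS (Spec (CommRingCat.of R)) M).hom.appTop).hom) (DSPts.char (𝟙 (Red.DS (Spec (CommRingCat.of R)) M)))
    (fun _ _ => Commute.all _ _)

theorem psi_of (m : Multiplicative M) :
    psi R M (MonoidAlgebra.single m 1) = DSPts.char (𝟙 (Red.DS (Spec (CommRingCat.of R)) M)) m := by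
  simp [psi]

theorem psi_algebraMap (r : R) :
    psi R M (algebraMap R _ r) =
      (Red.DS (Spec (CommRingCat.of R)) M).hom.appTop ((Scheme.ΓSpecIso (CommRingCat.of R)).inv r) := by
  simp [psi, MonoidAlgebra.coe_algebraMap]

/-- the underlying map of the inverse -/
def rhoL : (Red.DS (Spec (CommRingCat.of R)) M).left ⟶ Spec (CommRingCat.of (RM R M)) :=
  (Red.DS (Spec (CommRingCat.of R)) M).left.toSpecΓ ≫ Spec.map (CommRingCat.ofHom (psi R M))

theorem rhoL_appTop (x : RM R M) :
    (rhoL R M).appTop ((Scheme.ΓSpecIso (CommRingCat.of (RM R M))).inv x) = psi R M x :=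
  congr($(ΓSpecIso_inv_ΓSpec_adjunction_homEquiv (X := (Red.DS (Spec (CommRingCat.of R)) M).left)
    (CommRingCat.ofHom (psi R M))) x)

theorem diag_hom_appTop (r : R) :
    (Red.diag R M).hom.appTop ((Scheme.ΓSpecIso (CommRingCat.of R)).inv r) =
      (Scheme.ΓSpecIso (CommRingCat.of (RM R M))).inv (algebraMap R _ r) :=
  (congr($(Scheme.ΓSpecIso_inv_naturality (CommRingCat.ofHom (algebraMap R (RM R M)))) r)).symm

theorem rhoL_w : rhoL R M ≫ (Red.diag R M).hom = (Red.DS (Spec (CommRingCat.of R)) M).hom := by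
  refine ext_of_isAffine ?_
  rw [← cancel_epi (Scheme.ΓSpecIso (CommRingCat.of R)).inv]
  refine CommRingCat.hom_ext (RingHom.ext fun r => ?_)
  show (rhoL R M ≫ (Red.diag R M).hom).appTop ((Scheme.ΓSpecIso (CommRingCat.of R)).inv r) = _
  rw [GmPts.appTop_comp_apply]
  exact (congrArg _ (diag_hom_appTop R M r)).trans ((rhoL_appTop R M _).trans (psi_algebraMap R M r))

/-- the inverse -/
def rho : Red.DS (Spec (CommRingCat.of R)) M ⟶ Red.diag R M := Over.homMk (rhoL R M) (rhoL_w R M)

theorem rho_theta : rho R M ≫ theta R M = 𝟙 _ := by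
  refine DSPts.char_injective (MonoidHom.ext fun m => ?_)
  rw [DSPts.char_comp, theta, DSPts.char_pt]
  exact (rhoL_appTop R M _).trans (psi_of R M m)

theorem theta_rho : theta R M ≫ rho R M = 𝟙 _ := by
  refine Over.OverMorphism.ext ?_
  show (theta R M).left ≫ rhoL R M = 𝟙 _
  haveI : IsAffine (Red.diag R M).left := inferInstanceAs (IsAffine (Spec (CommRingCat.of (RM R M))))
  refine ext_of_isAffine (Y := Spec (CommRingCat.of (RM R M))) ?_
  rw [← cancel_epi (Scheme.ΓSpecIso (CommRingCat.of (RM R M))).inv]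
  let F : RM R M →+* Γ((Red.diag R M).left, ⊤) :=
    ((Scheme.ΓSpecIso (CommRingCat.of (RM R M))).inv ≫ ((theta R M).left ≫ rhoL R M).appTop).hom
  let G : RM R M →+* Γ((Red.diag R M).left, ⊤) :=
    ((Scheme.ΓSpecIso (CommRingCat.of (RM R M))).inv ≫ Scheme.Hom.appTop (𝟙 (Spec (CommRingCat.of (RM R M))))).hom
  refine CommRingCat.hom_ext (show F = G from ringHom_ext (fun r => ?_) (fun m => ?_))
  · show ((theta R M).left ≫ rhoL R M).appTop _ = (Scheme.ΓSpecIso (CommRingCat.of (RM R M))).inv _
    rw [GmPts.appTop_comp_apply]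
    refine (congrArg (theta R M).left.appTop ((rhoL_appTop R M _).trans (psi_algebraMap R M r))).trans ?_
    rw [← GmPts.appTop_comp_apply, Over.w]
    exact diag_hom_appTop R M r
  · show ((theta R M).left ≫ rhoL R M).appTop _ = (Scheme.ΓSpecIso (CommRingCat.of (RM R M))).inv _
    rw [GmPts.appTop_comp_apply]
    refine (congrArg (theta R M).left.appTop ((rhoL_appTop R M _).trans (psi_of R M m))).trans ?_
    rw [← DSPts.char_comp, Category.comp_id, theta, DSPts.char_pt]
    rfl

theorem mul_appTop_chi (m : Multiplicative M) :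
    μ[Red.diag R M].left.appTop (chi R M m) =
    (fst (Red.diag R M) (Red.diag R M)).left.appTop (chi R M m) *
      (snd (Red.diag R M) (Red.diag R M)).left.appTop (chi R M m) := by
  let CC : Type u := TensorProduct R (RM R M) (RM R M)
  let iL : RM R M →+* CC := Algebra.TensorProduct.includeLeftRingHom
  let iR : RM R M →+* CC :=
    ((Algebra.TensorProduct.includeRight (R := R) (A := RM R M) (B := RM R M) :
      RM R M →ₐ[R] CC) : RM R M →+* CC)
  let fC : Spec (CommRingCat.of (RM R M)) ⟶ Spec (CommRingCat.of R) :=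
    Spec.map (CommRingCat.ofHom (algebraMap R (RM R M)))
  let psi' := pullbackSpecIso R (RM R M) (RM R M)
  have hfst : pullback.fst fC fC =
      psi'.hom ≫ Spec.map (CommRingCat.ofHom (R := RM R M) (S := CC) iL) := by
    rw [← pullbackSpecIso_inv_fst, Iso.hom_inv_id_assoc]
  have hsnd : pullback.snd fC fC =
      psi'.hom ≫ Spec.map (CommRingCat.ofHom (R := RM R M) (S := CC) iR) := by
    rw [← pullbackSpecIso_inv_snd, Iso.hom_inv_id_assoc]
  have nat : ∀ {A : CommRingCat.{u}} (φ : CommRingCat.of (RM R M) ⟶ A) (c : RM R M),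
      (Spec.map φ).appTop ((Scheme.ΓSpecIso (CommRingCat.of (RM R M))).inv c) = (Scheme.ΓSpecIso A).inv (φ c) :=
    fun φ c => (congr($(Scheme.ΓSpecIso_inv_naturality φ) c)).symm
  have hc : (CommRingCat.ofHom (Bialgebra.comulAlgHom R (RM R M)).toRingHom) (MonoidAlgebra.single m 1) =
      (CommRingCat.ofHom (R := RM R M) (S := CC) iL) (MonoidAlgebra.single m 1) *
        (CommRingCat.ofHom (R := RM R M) (S := CC) iR) (MonoidAlgebra.single m 1) := by
    change Coalgebra.comul (R := R) (MonoidAlgebra.single m (1 : R)) =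
      ((MonoidAlgebra.single m (1 : R)) ⊗ₜ[R] (1 : RM R M)) * ((1 : RM R M) ⊗ₜ[R] MonoidAlgebra.single m (1 : R))
    rw [MonoidAlgebra.comul_single, Algebra.TensorProduct.tmul_mul_tmul, _root_.mul_one, _root_.one_mul]
    simp
  change (psi'.hom ≫ Spec.map (CommRingCat.ofHom
      (Bialgebra.comulAlgHom R (RM R M)).toRingHom)).appTop
        ((Scheme.ΓSpecIso (CommRingCat.of (RM R M))).inv (MonoidAlgebra.single m (1 : R))) =
    (pullback.fst fC fC).appTop ((Scheme.ΓSpecIso (CommRingCat.of (RM R M))).inv (MonoidAlgebra.single m (1 : R))) *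
      (pullback.snd fC fC).appTop ((Scheme.ΓSpecIso (CommRingCat.of (RM R M))).inv (MonoidAlgebra.single m (1 : R)))
  rw [hfst, hsnd, GmPts.appTop_comp_apply, GmPts.appTop_comp_apply, GmPts.appTop_comp_apply,
    nat, nat, nat, hc, map_mul, map_mul]

instance isMonHom_theta : IsMonHom (theta R M) := by
  have hm : ∀ (T : Over (Spec (CommRingCat.of R))) (a b : T ⟶ Red.diag R M),
      (a * b) ≫ theta R M = (a ≫ theta R M) * (b ≫ theta R M) := by
    intro T a b
    refine DSPts.char_injective (MonoidHom.ext fun m => ?_)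
    rw [DSPts.char_mul, MonoidHom.mul_apply, DSPts.char_comp, DSPts.char_comp, DSPts.char_comp, theta,
      DSPts.char_pt, Hom.mul_def, Over.comp_left]
    show ((lift a b).left ≫ μ[Red.diag R M].left).appTop (chi R M m) = _
    rw [GmPts.appTop_comp_apply, mul_appTop_chi, map_mul, ← GmPts.appTop_comp_apply, ← GmPts.appTop_comp_apply,
      ← Over.comp_left, ← Over.comp_left, lift_fst, lift_snd]
  refine { one_hom := ?_, mul_hom := ?_ }
  · have h := hm (𝟙_ _) 1 1
    rw [_root_.one_mul] at h
    have h1 : (1 : 𝟙_ (Over (Spec (CommRingCat.of R))) ⟶ Red.diag R M) ≫ theta R M = 1 := by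
      refine DSPts.char_injective (MonoidHom.ext fun m => ?_)
      rw [DSPts.char_one, MonoidHom.one_apply]
      have h2 := DFunLike.congr_fun (congrArg DSPts.char h) m
      rw [DSPts.char_mul, MonoidHom.mul_apply] at h2
      have hu : IsUnit (DSPts.char ((1 : 𝟙_ (Over (Spec (CommRingCat.of R))) ⟶ Red.diag R M) ≫ theta R M) m) :=
        (Group.isUnit m).map _
      exact hu.mul_left_cancel (h2.symm.trans (_root_.mul_one _).symm)
    rw [Hom.one_def, Hom.one_def, toUnit_unit, Category.id_comp, Category.id_comp] at h1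
    exact h1
  · have h := hm _ (fst (Red.diag R M) (Red.diag R M)) (snd _ _)
    rw [Hom.mul_def, lift_fst_snd, Category.id_comp] at h
    rw [h, Hom.mul_def]
    congr 1


/-- the isomorphism over the base -/
def isoOver : Red.diag R M ≅ Red.DS (Spec (CommRingCat.of R)) M where
  hom := theta R M
  inv := rho R M
  hom_inv_id := theta_rho R M
  inv_hom_id := rho_theta R M

/-- the isomorphism of group schemes -/
def iso : Grp.mk (Red.diag R M) ≅ Grp.mk (Red.DS (Spec (CommRingCat.of R)) M) :=
  haveI : IsMonHom (isoOver R M).hom := isMonHom_theta R M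
  Grp.mkIso' (isoOver R M)

end Groth.L25.DiagIso
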