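import Groth.Prelude.Def_Red

/-!
# The comparison of iterated base changes of group schemes is a homomorphism
-/

set_option autoImplicit false
set_option backward.isDefEq.respectTransparency.types false
set_option linter.style.haveILetI false

universe u v v' w w'

open CategoryTheory CategoryTheory.Limits MonoidalCategory CartesianMonoidalCategory MonObj AlgebraicGeometry

noncomputable section

namespace Groth.L25.BcCompHom

section General

variable {C : Type w} [Category.{v} C] [CartesianMonoidalCategory C] {D : Type w'} [Category.{v'} D]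
  [CartesianMonoidalCategory D]

/-- The components of a natural transformation of product preserving functors at groups are homomorphisms. -/
theorem isMonHom_natApp (F F' : C ⥤ D) [F.Monoidal] [F'.Monoidal] (σ : F ⟶ F') (G : C) [GrpObj G]
    (i : GrpObj (F.obj G)) (i' : GrpObj (F'.obj G))
    (hη : (letI := i; η[F.obj G]) = Functor.LaxMonoidal.ε F ≫ F.map η[G])
    (hμ : (letI := i; μ[F.obj G]) = Functor.LaxMonoidal.μ F G G ≫ F.map μ[G])
    (hη' : (letI := i'; η[F'.obj G]) = Functor.LaxMonoidal.ε F' ≫ F'.map η[G])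
    (hμ' : (letI := i'; μ[F'.obj G]) = Functor.LaxMonoidal.μ F' G G ≫ F'.map μ[G]) :
    letI := i; letI := i'; IsMonHom (σ.app G) := by
  letI := i
  letI := i'
  have hsub : ∀ {T : D} (a b : T ⟶ F'.obj (𝟙_ C)), a = b := fun {T} a b => by
    rw [← Category.comp_id a, ← Category.comp_id b, ← (Functor.Monoidal.εIso F').inv_hom_id, ← Category.assoc,
      ← Category.assoc]
    congr 1
    exact toUnit_unique _ _
  refine ⟨?_, ?_⟩
  · rw [hη, hη']
    rw [Category.assoc, σ.naturality, ← Category.assoc]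
    congr 1
    exact hsub _ _
  · rw [hμ, hμ']
    rw [Category.assoc, σ.naturality, ← Category.assoc, ← Category.assoc]
    congr 1
    rw [← cancel_mono (Functor.Monoidal.μIso F' G G).inv]
    have h1 : (Functor.Monoidal.μIso F' G G).inv ≫ fst (F'.obj G) (F'.obj G) = F'.map (fst G G) :=
      (Iso.inv_comp_eq (Functor.Monoidal.μIso F' G G)).2 (Functor.Monoidal.μ_fst F' G G).symm
    have h2 : (Functor.Monoidal.μIso F' G G).inv ≫ snd (F'.obj G) (F'.obj G) = F'.map (snd G G) :=
      (Iso.inv_comp_eq (Functor.Monoidal.μIso F' G G)).2 (Functor.Monoidal.μ_snd F' G G).symm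
    refine CartesianMonoidalCategory.hom_ext _ _ ?_ ?_
    · simp only [Category.assoc, h1, Functor.Monoidal.μ_fst, tensorHom_fst, ← σ.naturality,
        Functor.Monoidal.μ_fst_assoc]
    · simp only [Category.assoc, h2, Functor.Monoidal.μ_snd, tensorHom_snd, ← σ.naturality,
        Functor.Monoidal.μ_snd_assoc]

end General

theorem η_comp {S₀ S₁ S₂ : Scheme.{u}} (g : S₂ ⟶ S₁) (f : S₁ ⟶ S₀) (G : Over S₀) [GrpObj G] :
    η[Red.bc g (Red.bc f G)] = Functor.LaxMonoidal.ε (Over.pullback f ⋙ Over.pullback g) ≫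
      (Over.pullback f ⋙ Over.pullback g).map η[G] := by
  show Functor.LaxMonoidal.ε (Over.pullback g) ≫
    (Over.pullback g).map (Functor.LaxMonoidal.ε (Over.pullback f) ≫ (Over.pullback f).map η[G]) = _
  rw [Functor.map_comp, Functor.LaxMonoidal.comp_ε, Category.assoc]
  rfl

theorem μ_comp {S₀ S₁ S₂ : Scheme.{u}} (g : S₂ ⟶ S₁) (f : S₁ ⟶ S₀) (G : Over S₀) [GrpObj G] :
    μ[Red.bc g (Red.bc f G)] = Functor.LaxMonoidal.μ (Over.pullback f ⋙ Over.pullback g) G G ≫
      (Over.pullback f ⋙ Over.pullback g).map μ[G] := by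
  show Functor.LaxMonoidal.μ (Over.pullback g) _ _ ≫
    (Over.pullback g).map (Functor.LaxMonoidal.μ (Over.pullback f) G G ≫ (Over.pullback f).map μ[G]) = _
  rw [Functor.map_comp, Functor.LaxMonoidal.comp_μ, Category.assoc]
  rfl

theorem isMonHom_bc_comp {S₀ S₁ S₂ : Scheme.{u}} {g : S₂ ⟶ S₁} {f : S₁ ⟶ S₀} {h : S₂ ⟶ S₀} (hc : g ≫ f = h)
    (G : Over S₀) [GrpObj G] :
    IsMonHom ((Over.pullbackComp g f).inv.app G ≫ eqToHom (congrArg (fun φ => Red.bc φ G) hc) :
      Red.bc g (Red.bc f G) ⟶ Red.bc h G) := by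
  subst hc
  rw [eqToHom_refl, Category.comp_id]
  exact isMonHom_natApp (Over.pullback f ⋙ Over.pullback g) (Over.pullback (g ≫ f)) (Over.pullbackComp g f).inv G
    (Red.grpObj_bc g (Red.bc f G)) (Red.grpObj_bc (g ≫ f) G) (η_comp g f G) (μ_comp g f G) rfl rfl

theorem isMonHom_bc_comp' {S₀ S₁ S₂ : Scheme.{u}} {g : S₂ ⟶ S₁} {f : S₁ ⟶ S₀} {h : S₂ ⟶ S₀} (hc : g ≫ f = h)
    (G : Over S₀) [GrpObj G] :
    IsMonHom (eqToHom (congrArg (fun φ => Red.bc φ G) hc.symm) ≫ (Over.pullbackComp g f).hom.app G :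
      Red.bc h G ⟶ Red.bc g (Red.bc f G)) := by
  subst hc
  rw [eqToHom_refl, Category.id_comp]
  exact isMonHom_natApp (Over.pullback (g ≫ f)) (Over.pullback f ⋙ Over.pullback g) (Over.pullbackComp g f).hom G
    (Red.grpObj_bc (g ≫ f) G) (Red.grpObj_bc g (Red.bc f G)) rfl rfl (η_comp g f G) (μ_comp g f G)

end Groth.L25.BcCompHom
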