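import Groth.Prelude.Def_Red
import Groth.Agent.L19.Limit.OverBase
import Groth.Agent.L25.BcCompHom

/-!
# Morphisms of finitely presented schemes over a limit of schemes with affine transition maps
-/

set_option autoImplicit false
set_option backward.isDefEq.respectTransparency.types false
set_option backward.isDefEq.respectTransparency false
set_option backward.defeqAttrib.useBackward true
set_option linter.style.haveILetI false

universe u

open CategoryTheory CategoryTheory.Limits MonoidalCategory CartesianMonoidalCategory MonObj AlgebraicGeometry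

noncomputable section

namespace Groth.L25.LimHom

set_option linter.unusedSectionVars false

section Bc

variable {A B C : Scheme.{u}} {b : C ⟶ B} {a : B ⟶ A} {h : C ⟶ A}

/-- the comparison of iterated and composed base change -/
def cmp (hc : b ≫ a = h) (X : Over A) : Red.bc b (Red.bc a X) ≅ Red.bc h X :=
  ((Over.pullbackComp b a).app X).symm ≪≫ eqToIso (congrArg (fun g => Red.bc g X) hc)

theorem cmp_fst (hc : b ≫ a = h) (X : Over A) :
    (cmp hc X).hom.left ≫ pullback.fst X.hom h = pullback.fst (Red.bc a X).hom b ≫ pullback.fst X.hom a := by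
  subst hc
  simp only [cmp, eqToIso_refl, Iso.trans_refl, Iso.symm_hom, Iso.app_inv]
  simp [Over.pullbackComp, Over.mapPullbackAdj, conjugateIsoEquiv, Over.mapComp, conjugateEquiv, mateEquiv, TwoSquare.natTrans, Adjunction.comp]

theorem isMonHom_cmp (hc : b ≫ a = h) (G : Over A) [GrpObj G] : IsMonHom (cmp hc G).hom :=
  Groth.L25.BcCompHom.isMonHom_bc_comp hc G

theorem isMonHom_cmp_inv (hc : b ≫ a = h) (G : Over A) [GrpObj G] : IsMonHom (cmp hc G).inv :=
  Groth.L25.BcCompHom.isMonHom_bc_comp' hc G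

/-- morphisms into a base change are determined by the first projection -/
theorem bc_ext {T : Over B} {Y : Over A} {w w' : T ⟶ Red.bc a Y}
    (e : w.left ≫ pullback.fst Y.hom a = w'.left ≫ pullback.fst Y.hom a) : w = w' := by
  refine Over.OverMorphism.ext (pullback.hom_ext e ?_)
  exact (Over.w w).trans (Over.w w').symm

theorem map_eq_map_iff {X Y : Over B} (u u' : X ⟶ Y) :
    (Over.pullback b).map u = (Over.pullback b).map u' ↔
      pullback.fst X.hom b ≫ u.left = pullback.fst X.hom b ≫ u'.left := by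
  have k : ∀ v : X ⟶ Y, ((Over.pullback b).map v).left ≫ pullback.fst Y.hom b = pullback.fst X.hom b ≫ v.left :=
    fun v => by simp
  exact ⟨fun e => by rw [← k, ← k, e], fun e => bc_ext (by rw [k, k, e])⟩

/-- the projection of the base change to `C` onto that to `B` -/
def q (hc : b ≫ a = h) (X : Over A) : pullback X.hom h ⟶ pullback X.hom a :=
  pullback.map _ _ _ _ (𝟙 _) b (𝟙 _) (by simp) (by rw [Category.comp_id, hc])

theorem cmp_q (hc : b ≫ a = h) (X : Over A) :
    (cmp hc X).hom.left ≫ q hc X = pullback.fst (Red.bc a X).hom b := by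
  apply pullback.hom_ext
  · simp only [q, Category.assoc, limit.lift_π, PullbackCone.mk_π_app, Category.comp_id]
    exact cmp_fst hc X
  · simp only [q, Category.assoc, limit.lift_π, PullbackCone.mk_π_app]
    have := Over.w (cmp hc X).hom
    change (cmp hc X).hom.left ≫ pullback.snd X.hom h = pullback.snd (Red.bc a X).hom b at this
    rw [reassoc_of% this]
    exact (pullback.condition (f := (Red.bc a X).hom) (g := b)).symm

/-- when a morphism over `B` pulls back to a given morphism over `C` -/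
theorem map_eq_iff (hc : b ≫ a = h) {X Y : Over A} (v : Red.bc a X ⟶ Red.bc a Y) (w : Red.bc h X ⟶ Red.bc h Y) :
    (Over.pullback b).map v = (cmp hc X).hom ≫ w ≫ (cmp hc Y).inv ↔
      q hc X ≫ v.left ≫ pullback.fst Y.hom a = w.left ≫ pullback.fst Y.hom h := by
  haveI : IsIso (cmp hc X).hom.left := inferInstanceAs (IsIso ((Over.forget _).map (cmp hc X).hom))
  rw [← Category.assoc (cmp hc X).hom w, Iso.eq_comp_inv]
  constructor
  · intro e
    rw [← cancel_epi (cmp hc X).hom.left, reassoc_of% cmp_q hc X]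
    have := congrArg (fun z => z.left ≫ pullback.fst Y.hom h) e
    simp only [Over.comp_left, Category.assoc] at this
    rw [cmp_fst, ← Category.assoc] at this
    simpa using this
  · intro e
    refine bc_ext ?_
    simp only [Over.comp_left, Category.assoc]
    rw [cmp_fst, ← e, reassoc_of% cmp_q hc X, ← Category.assoc]
    simp

/-- extend a morphism over `B` to the composed base change -/
def mk (hc : b ≫ a = h) {X Y : Over A} (v : Red.bc a X ⟶ Red.bc a Y) : Red.bc h X ⟶ Red.bc h Y :=
  Over.homMk (pullback.lift (q hc X ≫ v.left ≫ pullback.fst Y.hom a) (pullback.snd X.hom h) (by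
    rw [Category.assoc, Category.assoc, pullback.condition, show v.left ≫ pullback.snd Y.hom a ≫ a =
      pullback.snd X.hom a ≫ a from by rw [← Category.assoc]; exact congrArg (· ≫ a) (Over.w v)]
    simp [q, hc])) (pullback.lift_snd _ _ _)

theorem mk_fst (hc : b ≫ a = h) {X Y : Over A} (v : Red.bc a X ⟶ Red.bc a Y) :
    (mk hc v).left ≫ pullback.fst Y.hom h = q hc X ≫ v.left ≫ pullback.fst Y.hom a :=
  pullback.lift_fst _ _ _

theorem mk_eq (hc : b ≫ a = h) {X Y : Over A} (v : Red.bc a X ⟶ Red.bc a Y) :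
    mk hc v = (cmp hc X).inv ≫ (Over.pullback b).map v ≫ (cmp hc Y).hom := by
  rw [(map_eq_iff hc v (mk hc v)).2 (mk_fst hc v).symm]
  simp

end Bc

variable {I : Type u} [SmallCategory I] [IsCofiltered I] (D : I ⥤ Scheme.{u}) (c : Cone D) (hc : IsLimit c)
  [∀ (i i' : I) (f : i ⟶ i'), IsAffineHom (D.map f)] [∀ i, CompactSpace (D.obj i)]
  [∀ i, QuasiSeparatedSpace (D.obj i)] (j : I)

/-- the stages over `j` -/
abbrev stage : Over j ⥤ Scheme.{u} := Over.forget j ⋙ D

theorem ht {i i' : Over j} (φ : i ⟶ i') : (stage D j).map φ ≫ D.map i'.hom = D.map i.hom := by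
  show D.map φ.left ≫ D.map i'.hom = D.map i.hom
  rw [← D.map_comp, Over.w φ]

theorem hT (i : Over j) : (c.whisker (Over.forget j)).π.app i ≫ D.map i.hom = c.π.app j :=
  c.w i.hom

variable (X : Over (D.obj j))

/-- the base changes of `X` to the stages -/
abbrev sys : Over j ⥤ Scheme.{u} :=
  Groth.L19.Limit.baseDiagram (D := stage D j) X.hom (fun i => D.map i.hom) (ht D j)

/-- the base change of `X` to the limit, as a cone -/
abbrev sysCone : Cone (sys D j X) :=
  Groth.L19.Limit.baseCone (c := c.whisker (Over.forget j)) X.hom (fun i => D.map i.hom) (ht D j) (c.π.app j)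
    (hT D c j)

include hc in
/-- the base change to the limit is the limit of the base changes -/
def isLimitSysCone : IsLimit (sysCone D c j X) :=
  Groth.L19.Limit.isLimitBaseCone _ _ _ _ _ ((Functor.Initial.isLimitWhiskerEquiv (Over.forget j) c).symm hc)

/-- the structure map of the system -/
def sysT : sys D j X ⟶ (Functor.const (Over j)).obj (D.obj j) where
  app i := pullback.snd X.hom (D.map i.hom) ≫ D.map i.hom
  naturality i i' φ := by
    simp [Groth.L19.Limit.baseDiagram, ← D.map_comp, Over.w φ]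

instance isAffineHom_sys {i i' : Over j} (φ : i ⟶ i') : IsAffineHom ((sys D j X).map φ) :=
  haveI : ∀ {k k' : Over j} (ψ : k ⟶ k'), IsAffineHom ((stage D j).map ψ) := fun ψ =>
    inferInstanceAs (IsAffineHom (D.map ψ.left))
  Groth.L19.Limit.isAffineHom_baseDiagram_map (D := stage D j) X.hom (fun i => D.map i.hom) (ht D j) φ

instance compactSpace_sys [QuasiCompact X.hom] (i : Over j) : CompactSpace ↥((sys D j X).obj i) :=
  QuasiCompact.compactSpace_of_compactSpace (pullback.snd X.hom (D.map i.hom))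

instance quasiSeparatedSpace_sys [QuasiSeparated X.hom] (i : Over j) :
    QuasiSeparatedSpace ↥((sys D j X).obj i) :=
  quasiSeparatedSpace_of_quasiSeparated (pullback.snd X.hom (D.map i.hom))

set_option maxHeartbeats 1600000
set_option synthInstance.maxHeartbeats 200000

include hc in
/-- two morphisms agreeing over the limit agree at a later stage -/
theorem exists_eq [QuasiCompact X.hom] {Y : Over (D.obj j)} [LocallyOfFiniteType Y.hom] (u₁ u₂ : X ⟶ Y)
    (e : (Over.pullback (c.π.app j)).map u₁ = (Over.pullback (c.π.app j)).map u₂) :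
    ∃ (i : I) (g : i ⟶ j), (Over.pullback (D.map g)).map u₁ = (Over.pullback (D.map g)).map u₂ := by
  rw [map_eq_map_iff] at e
  have hS : ∀ v : X ⟶ Y, (sysT D j X).app (Over.mk (𝟙 j)) =
      (pullback.fst X.hom (D.map (𝟙 j)) ≫ v.left) ≫ Y.hom := fun v => by
    rw [Category.assoc, Over.w v]
    exact pullback.condition.symm
  have hq : (sysCone D c j X).π.app (Over.mk (𝟙 j)) ≫ pullback.fst X.hom (D.map (𝟙 j)) =
      pullback.fst X.hom (c.π.app j) := by simp [Groth.L19.Limit.baseCone]
  have hab : (sysCone D c j X).π.app (Over.mk (𝟙 j)) ≫ pullback.fst X.hom (D.map (𝟙 j)) ≫ u₁.left =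
      (sysCone D c j X).π.app (Over.mk (𝟙 j)) ≫ pullback.fst X.hom (D.map (𝟙 j)) ≫ u₂.left := by
    rw [← Category.assoc, ← Category.assoc, hq, e]
  obtain ⟨k, φ, hk⟩ := Scheme.exists_hom_comp_eq_comp_of_locallyOfFiniteType (X := Y.left) (S := D.obj j)
    (sys D j X) (sysT D j X) Y.hom (sysCone D c j X) (isLimitSysCone D c hc j X) (i := Over.mk (𝟙 j))
    (pullback.fst X.hom (D.map (𝟙 j)) ≫ u₁.left) (pullback.fst X.hom (D.map (𝟙 j)) ≫ u₂.left) (hS u₁) (hS u₂) hab
  refine ⟨k.left, k.hom, (map_eq_map_iff u₁ u₂).2 ?_⟩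
  have hm : (sys D j X).map φ ≫ pullback.fst X.hom (D.map (𝟙 j)) = pullback.fst X.hom (D.map k.hom) := by
    simp [Groth.L19.Limit.baseDiagram]
  rw [← Category.assoc, ← Category.assoc, hm] at hk
  exact hk

include hc in
/-- a morphism over the limit comes from a stage -/
theorem exists_hom [QuasiCompact X.hom] [QuasiSeparated X.hom] {Y : Over (D.obj j)}
    [LocallyOfFinitePresentation Y.hom] (w : Red.bc (c.π.app j) X ⟶ Red.bc (c.π.app j) Y) :
    ∃ (i : I) (f : i ⟶ j) (v : Red.bc (D.map f) X ⟶ Red.bc (D.map f) Y),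
      (Over.pullback (c.π.app i)).map v = (cmp (c.w f) X).hom ≫ w ≫ (cmp (c.w f) Y).inv := by
  have hw : w.left ≫ pullback.fst Y.hom (c.π.app j) ≫ Y.hom =
      pullback.snd X.hom (c.π.app j) ≫ c.π.app j := by
    rw [pullback.condition, ← Category.assoc]
    exact congrArg (· ≫ c.π.app j) (Over.w w)
  obtain ⟨k, g, hg, hg'⟩ := Scheme.exists_π_app_comp_eq_of_locallyOfFinitePresentation (sys D j X) (sysT D j X)
    Y.hom (sysCone D c j X) (isLimitSysCone D c hc j X) (w.left ≫ pullback.fst Y.hom (c.π.app j)) (by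
      ext i
      simp [sysT, Groth.L19.Limit.baseCone, hw, c.w i.hom])
  let v : Red.bc (D.map k.hom) X ⟶ Red.bc (D.map k.hom) Y :=
    Over.homMk (pullback.lift g (pullback.snd X.hom (D.map k.hom)) hg') (pullback.lift_snd _ _ _)
  refine ⟨k.left, k.hom, v, (map_eq_iff (c.w k.hom) v w).2 ?_⟩
  have hv : v.left ≫ pullback.fst Y.hom (D.map k.hom) = g := pullback.lift_fst _ _ _
  rw [hv]
  exact hg

include hc in
/-- a homomorphism over the limit comes from a homomorphism at a stage -/
theorem exists_grpHom {G H : Over (D.obj j)} [GrpObj G] [GrpObj H] [QuasiCompact G.hom] [QuasiSeparated G.hom]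
    [LocallyOfFinitePresentation H.hom] (w : Red.bc (c.π.app j) G ⟶ Red.bc (c.π.app j) H) [IsMonHom w] :
    ∃ (i : I) (f : i ⟶ j) (v : Red.bc (D.map f) G ⟶ Red.bc (D.map f) H), IsMonHom v ∧
      (Over.pullback (c.π.app i)).map v = (cmp (c.w f) G).hom ≫ w ≫ (cmp (c.w f) H).inv := by
  obtain ⟨i, f, v, hv⟩ := exists_hom D c hc j G w
  let P := Over.pullback (c.π.app i)
  haveI := isMonHom_cmp (c.w f) G
  haveI := isMonHom_cmp_inv (c.w f) H
  haveI : IsMonHom (P.map v) := by rw [hv]; infer_instance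
  haveI : QuasiCompact (Red.bc (D.map f) G).hom := inferInstanceAs (QuasiCompact (pullback.snd G.hom (D.map f)))
  haveI : QuasiCompact (Red.bc (D.map f) G ⊗ Red.bc (D.map f) G).hom := by
    show QuasiCompact (pullback.fst _ _ ≫ (Red.bc (D.map f) G).hom)
    infer_instance
  haveI : LocallyOfFinitePresentation (Red.bc (D.map f) H).hom :=
    inferInstanceAs (LocallyOfFinitePresentation (pullback.snd H.hom (D.map f)))
  have e : P.map (μ[Red.bc (D.map f) G] ≫ v) = P.map ((v ⊗ₘ v) ≫ μ[Red.bc (D.map f) H]) := by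
    rw [← cancel_epi (Functor.LaxMonoidal.μ P (Red.bc (D.map f) G) (Red.bc (D.map f) G)), P.map_comp, P.map_comp,
      ← Functor.LaxMonoidal.μ_natural_assoc]
    exact (Category.assoc _ _ _).symm.trans (IsMonHom.mul_hom (f := P.map v))
  obtain ⟨i', g, hg⟩ := exists_eq D c hc i _ _ _ e
  let P' := Over.pullback (D.map g)
  haveI : IsMonHom (P'.map v) := by
    have hm : μ[P'.obj (Red.bc (D.map f) G)] ≫ P'.map v =
        (P'.map v ⊗ₘ P'.map v) ≫ μ[P'.obj (Red.bc (D.map f) H)] := by
      rw [P'.map_comp, P'.map_comp] at hg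
      show (Functor.LaxMonoidal.μ P' _ _ ≫ P'.map _) ≫ P'.map v =
        (P'.map v ⊗ₘ P'.map v) ≫ Functor.LaxMonoidal.μ P' _ _ ≫ P'.map _
      rw [Category.assoc, hg, ← Functor.LaxMonoidal.μ_natural_assoc]
    refine ⟨?_, hm⟩
    have h1 := (lift η[P'.obj (Red.bc (D.map f) G)] η[P'.obj (Red.bc (D.map f) G)]) ≫= hm
    rw [← Category.assoc, lift_map_assoc] at h1
    have h2 : (η[P'.obj (Red.bc (D.map f) G)] ≫ P'.map v : 𝟙_ _ ⟶ _) * (η[P'.obj (Red.bc (D.map f) G)] ≫ P'.map v) =
        η[P'.obj (Red.bc (D.map f) G)] ≫ P'.map v := by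
      rw [Hom.mul_def, ← h1, ← Hom.mul_def]
      congr 1
      rw [show η[P'.obj (Red.bc (D.map f) G)] = (1 : 𝟙_ _ ⟶ P'.obj (Red.bc (D.map f) G)) by
        rw [Hom.one_def, toUnit_unique (toUnit (𝟙_ _)) (𝟙 _), Category.id_comp]]
      exact (_root_.one_mul (1 : 𝟙_ (Over (D.obj i')) ⟶ P'.obj (Red.bc (D.map f) G)))
    rw [mul_eq_left] at h2
    rw [h2, Hom.one_def, toUnit_unique (toUnit (𝟙_ _)) (𝟙 _), Category.id_comp]
  have hgf : D.map g ≫ D.map f = D.map (g ≫ f) := (D.map_comp _ _).symm
  haveI := isMonHom_cmp hgf H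
  haveI := isMonHom_cmp_inv hgf G
  refine ⟨i', g ≫ f, mk hgf v, by rw [mk_eq]; infer_instance, (map_eq_iff _ _ _).2 ?_⟩
  rw [mk_fst, ← Category.assoc, show q (c.w (g ≫ f)) G ≫ q hgf G = q (c.w f) G from ?_]
  · exact (map_eq_iff (c.w f) v w).1 hv
  · apply pullback.hom_ext <;> simp [q]

end Groth.L25.LimHom
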