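import Groth.Prelude.Def_Red
import Groth.Prelude.Def_GmPts

/-!
# Points of diagonalisable group schemes are characters

For an `S`-scheme `T`, points `T ⟶ Red.DS S M` correspond multiplicatively and naturally to monoid
homomorphisms `Multiplicative M →* Γ(T, O_T)`.
-/

set_option autoImplicit false
universe u

open CategoryTheory CategoryTheory.Limits MonoidalCategory CartesianMonoidalCategory MonObj AlgebraicGeometry Opposite

set_option backward.isDefEq.respectTransparency.types false

noncomputable section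

namespace Groth.L25.DSPts

variable (M : Type) [AddCommGroup M]

/-- the coordinate ring -/
abbrev Coord : Type u := MonoidAlgebra (ULift.{u} ℤ) (Multiplicative M)

/-- the group over `ℤ` -/
abbrev GZ : Over GmPts.baseZ.{u} := Red.diag (ULift.{u} ℤ) M

/-- monomials -/
abbrev mon (m : Multiplicative M) : Coord.{u} M := MonoidAlgebra.single m 1

abbrev coordIso : Γ(Spec (CommRingCat.of (Coord.{u} M)), ⊤) ≅ CommRingCat.of (Coord.{u} M) :=
  Scheme.ΓSpecIso (CommRingCat.of (Coord.{u} M))

variable {M}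
variable {S : Scheme.{u}} {T T' : Over S}

theorem ringHom_ext {R : Type u} [CommRing R] {f g : Coord.{u} M →+* R}
    (h : ∀ m, f (mon M m) = g (mon M m)) : f = g := by
  refine MonoidAlgebra.ringHom_ext (fun r => ?_) h
  have : MonoidAlgebra.single (1 : Multiplicative M) r = ((r.down : ℤ) : Coord.{u} M) := by
    rcases r with ⟨r⟩
    change MonoidAlgebra.single 1 (ULift.up r) = _
    rw [MonoidAlgebra.intCast_def]
    rfl
  rw [this, map_intCast, map_intCast]

/-- the ring map of a character -/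
def ringHomOfChar {R : Type u} [CommRing R] (χ : Multiplicative M →* R) : Coord.{u} M →+* R :=
  MonoidAlgebra.liftNCRingHom ((Int.castRingHom R).comp (ULift.ringEquiv : ULift.{u} ℤ ≃+* ℤ).toRingHom)
    χ (fun _ _ => Commute.all _ _)

theorem ringHomOfChar_mon {R : Type u} [CommRing R] (χ : Multiplicative M →* R) (m : Multiplicative M) :
    ringHomOfChar χ (mon M m) = χ m := by
  simp [ringHomOfChar, MonoidAlgebra.liftNCRingHom_single]

/-- component of a point -/
abbrev specPt (t : T ⟶ Red.DS S M) : T.left ⟶ Spec (CommRingCat.of (Coord.{u} M)) :=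
  t.left ≫ pullback.fst (GZ M).hom (GmPts.toBaseZ S)

def ringHomOfPt (t : T ⟶ Red.DS S M) : Coord.{u} M →+* Γ(T.left, ⊤) :=
  ((coordIso M).inv ≫ (specPt t).appTop).hom

/-- the character of a point -/
def char (t : T ⟶ Red.DS S M) : Multiplicative M →* Γ(T.left, ⊤) :=
  (ringHomOfPt t : Coord.{u} M →* Γ(T.left, ⊤)).comp (MonoidAlgebra.of _ _)

theorem char_apply (t : T ⟶ Red.DS S M) (m : Multiplicative M) :
    char t m = ringHomOfPt t (mon M m) := rfl

def specOfChar (χ : Multiplicative M →* Γ(T.left, ⊤)) : T.left ⟶ Spec (CommRingCat.of (Coord.{u} M)) :=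
  ΓSpec.adjunction.homEquiv T.left (op (CommRingCat.of (Coord.{u} M))) (CommRingCat.ofHom (ringHomOfChar χ)).op

theorem coordIso_inv_specOfChar (χ : Multiplicative M →* Γ(T.left, ⊤)) :
    (coordIso M).inv ≫ (specOfChar χ).appTop = CommRingCat.ofHom (ringHomOfChar χ) :=
  ΓSpecIso_inv_ΓSpec_adjunction_homEquiv _

theorem specOfChar_w (χ : Multiplicative M →* Γ(T.left, ⊤)) :
    specOfChar χ ≫ (GZ M).hom = T.hom ≫ GmPts.toBaseZ S :=
  specULiftZIsTerminal.hom_ext _ _

/-- the point of a character -/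
def pt (χ : Multiplicative M →* Γ(T.left, ⊤)) : T ⟶ Red.DS S M :=
  Over.homMk (pullback.lift (specOfChar χ) T.hom (specOfChar_w χ)) (pullback.lift_snd _ _ _)

theorem specPt_pt (χ : Multiplicative M →* Γ(T.left, ⊤)) : specPt (pt χ) = specOfChar χ :=
  pullback.lift_fst _ _ _

theorem ringHomOfPt_pt (χ : Multiplicative M →* Γ(T.left, ⊤)) : ringHomOfPt (pt χ) = ringHomOfChar χ := by
  change ((coordIso M).inv ≫ (specPt (pt χ)).appTop).hom = _
  rw [specPt_pt, coordIso_inv_specOfChar]
  rfl

theorem char_pt (χ : Multiplicative M →* Γ(T.left, ⊤)) : char (pt χ) = χ := by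
  refine MonoidHom.ext fun m => ?_
  rw [char_apply, ringHomOfPt_pt, ringHomOfChar_mon]

theorem specOfChar_char (t : T ⟶ Red.DS S M) : specOfChar (char t) = specPt t := by
  have h : (CommRingCat.ofHom (ringHomOfChar (char t))).op =
      (ΓSpec.adjunction.homEquiv T.left (op (CommRingCat.of (Coord.{u} M)))).symm (specPt t) := by
    rw [Adjunction.homEquiv_counit, ΓSpec.adjunction_counit_app]
    change (CommRingCat.ofHom (ringHomOfChar (char t))).op = ((coordIso M).inv ≫ (specPt t).appTop).op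
    congr 1
    ext1
    refine ringHom_ext fun m => ?_
    exact (ringHomOfChar_mon (char t) m).trans (char_apply t m)
  rw [specOfChar, h, Equiv.apply_symm_apply]

theorem pt_char (t : T ⟶ Red.DS S M) : pt (char t) = t := by
  ext1
  apply pullback.hom_ext
  · exact (specPt_pt _).trans (specOfChar_char t)
  · exact (pullback.lift_snd _ _ _).trans (Over.w t).symm

theorem char_injective : Function.Injective (char : (T ⟶ Red.DS S M) → _) := fun a b h => by
  rw [← pt_char a, h, pt_char]

theorem char_comp (g : T' ⟶ T) (t : T ⟶ Red.DS S M) (m : Multiplicative M) :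
    char (g ≫ t) m = g.left.appTop.hom (char t m) := by
  change ((coordIso M).inv ≫ ((g ≫ t).left ≫ pullback.fst (GZ M).hom (GmPts.toBaseZ S)).appTop).hom _ = _
  rw [Over.comp_left, Category.assoc, Scheme.Hom.comp_appTop]
  rfl

theorem pullback_map_left_fst {X Y : Over GmPts.baseZ.{u}} (g : X ⟶ Y) :
    ((Over.pullback (GmPts.toBaseZ S)).map g).left ≫ pullback.fst Y.hom (GmPts.toBaseZ S) =
      pullback.fst X.hom (GmPts.toBaseZ S) ≫ g.left :=
  GmPts.pullback_map_left_fst g

def pairPt (t t' : T ⟶ Red.DS S M) : T.left ⟶ (GZ.{u} M ⊗ GZ.{u} M).left :=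
  (lift t t').left ≫ (Functor.LaxMonoidal.μ (Over.pullback (GmPts.toBaseZ S)) (GZ M) (GZ M)).left ≫
    pullback.fst (GZ M ⊗ GZ M).hom (GmPts.toBaseZ S)

theorem specPt_mul (t t' : T ⟶ Red.DS S M) : specPt (t * t') = pairPt t t' ≫ μ[GZ.{u} M].left := by
  have h1 : t * t' = lift t t' ≫ μ[Red.DS S M] := Hom.mul_def t t'
  have h2 : μ[Red.DS S M] = Functor.LaxMonoidal.μ (Over.pullback (GmPts.toBaseZ S)) (GZ M) (GZ M) ≫
      (Over.pullback (GmPts.toBaseZ S)).map μ[GZ.{u} M] := rfl
  have h3 := pullback_map_left_fst (S := S) μ[GZ.{u} M]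
  rw [specPt, pairPt, h1, h2, Over.comp_left, Over.comp_left]
  simp only [Category.assoc]
  exact _ ≫= (_ ≫= h3)

theorem pairPt_fst (t t' : T ⟶ Red.DS S M) :
    pairPt t t' ≫ pullback.fst (GZ M).hom (GZ M).hom = specPt t := by
  rw [pairPt, Category.assoc, Category.assoc, Over.μ_pullback_left_fst_fst, ← Category.assoc]
  congr 1
  rw [← Over.fst_left, ← Over.comp_left, lift_fst]

theorem pairPt_snd (t t' : T ⟶ Red.DS S M) :
    pairPt t t' ≫ pullback.snd (GZ M).hom (GZ M).hom = specPt t' := by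
  rw [pairPt, Category.assoc, Category.assoc, Over.μ_pullback_left_fst_snd, ← Category.assoc]
  congr 1
  rw [← Over.snd_left, ← Over.comp_left, lift_snd]

theorem mul_appTop_mon (m : Multiplicative M) :
    μ[GZ.{u} M].left.appTop ((coordIso M).inv (mon M m)) =
    (pullback.fst (GZ M).hom (GZ M).hom).appTop ((coordIso M).inv (mon M m)) *
      (pullback.snd (GZ M).hom (GZ M).hom).appTop ((coordIso M).inv (mon M m)) := by
  let CC : Type u := TensorProduct (ULift.{u} ℤ) (Coord.{u} M) (Coord.{u} M)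
  let iL : Coord.{u} M →+* CC := Algebra.TensorProduct.includeLeftRingHom
  let iR : Coord.{u} M →+* CC :=
    ((Algebra.TensorProduct.includeRight (R := ULift.{u} ℤ) (A := Coord.{u} M) (B := Coord.{u} M) :
      Coord.{u} M →ₐ[ULift.{u} ℤ] CC) : Coord.{u} M →+* CC)
  let fC : Spec (CommRingCat.of (Coord.{u} M)) ⟶ GmPts.baseZ.{u} :=
    Spec.map (CommRingCat.ofHom (algebraMap (ULift.{u} ℤ) (Coord.{u} M)))
  let psi := pullbackSpecIso (ULift.{u} ℤ) (Coord.{u} M) (Coord.{u} M)
  have hfst : pullback.fst fC fC =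
      psi.hom ≫ Spec.map (CommRingCat.ofHom (R := Coord.{u} M) (S := CC) iL) := by
    rw [← pullbackSpecIso_inv_fst, Iso.hom_inv_id_assoc]
  have hsnd : pullback.snd fC fC =
      psi.hom ≫ Spec.map (CommRingCat.ofHom (R := Coord.{u} M) (S := CC) iR) := by
    rw [← pullbackSpecIso_inv_snd, Iso.hom_inv_id_assoc]
  have nat : ∀ {R : CommRingCat.{u}} (φ : CommRingCat.of (Coord.{u} M) ⟶ R) (c : Coord.{u} M),
      (Spec.map φ).appTop ((coordIso M).inv c) = (Scheme.ΓSpecIso R).inv (φ c) := fun φ c =>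
    (congrArg (fun ψ => (ConcreteCategory.hom ψ) c) (Scheme.ΓSpecIso_inv_naturality φ)).symm
  have hc : (CommRingCat.ofHom (Bialgebra.comulAlgHom (ULift.{u} ℤ) (Coord.{u} M)).toRingHom) (mon M m) =
      (CommRingCat.ofHom (R := Coord.{u} M) (S := CC) iL) (mon M m) *
        (CommRingCat.ofHom (R := Coord.{u} M) (S := CC) iR) (mon M m) := by
    change Coalgebra.comul (R := ULift.{u} ℤ) (mon M m) =
      (mon M m ⊗ₜ[ULift.{u} ℤ] (1 : Coord.{u} M)) * ((1 : Coord.{u} M) ⊗ₜ[ULift.{u} ℤ] mon M m)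
    rw [MonoidAlgebra.comul_single, Algebra.TensorProduct.tmul_mul_tmul, _root_.mul_one, _root_.one_mul]
    simp
  change (psi.hom ≫ Spec.map (CommRingCat.ofHom
      (Bialgebra.comulAlgHom (ULift.{u} ℤ) (Coord.{u} M)).toRingHom)).appTop ((coordIso M).inv (mon M m)) =
    (pullback.fst fC fC).appTop ((coordIso M).inv (mon M m)) *
      (pullback.snd fC fC).appTop ((coordIso M).inv (mon M m))
  rw [hfst, hsnd, GmPts.appTop_comp_apply, GmPts.appTop_comp_apply, GmPts.appTop_comp_apply,
    nat, nat, nat, hc, map_mul, map_mul]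

theorem char_mul (t t' : T ⟶ Red.DS S M) : char (t * t') = char t * char t' := by
  refine MonoidHom.ext fun m => ?_
  have e1 : char (t * t') m = (pairPt t t').appTop (μ[GZ.{u} M].left.appTop ((coordIso M).inv (mon M m))) := by
    change (specPt (t * t')).appTop ((coordIso M).inv (mon M m)) = _
    rw [specPt_mul]
    exact GmPts.appTop_comp_apply _ _ _
  rw [MonoidHom.mul_apply, e1, mul_appTop_mon, map_mul, ← GmPts.appTop_comp_apply,
    ← GmPts.appTop_comp_apply, pairPt_fst, pairPt_snd]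
  rfl

theorem pt_mul (χ ψ : Multiplicative M →* Γ(T.left, ⊤)) :
    (pt (χ * ψ) : T ⟶ Red.DS S M) = pt χ * pt ψ := by
  apply char_injective
  rw [char_pt, char_mul, char_pt, char_pt]

theorem char_one : char (1 : T ⟶ Red.DS S M) = 1 := by
  refine MonoidHom.ext fun m => ?_
  have h := DFunLike.congr_fun (char_mul (1 : T ⟶ Red.DS S M) 1) m
  have h11 : (1 : T ⟶ Red.DS S M) * 1 = 1 := _root_.one_mul (1 : T ⟶ Red.DS S M)
  rw [h11, MonoidHom.mul_apply] at h
  have hu : IsUnit (char (1 : T ⟶ Red.DS S M) m) :=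
    ((Group.isUnit m).map (char (1 : T ⟶ Red.DS S M)))
  exact (hu.mul_left_cancel (h.symm.trans (_root_.mul_one _).symm))

theorem pt_one : (pt 1 : T ⟶ Red.DS S M) = 1 := by
  apply char_injective
  rw [char_pt, char_one]

end Groth.L25.DSPts
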