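import Groth.Agent.L25.HopfSub
import Groth.Agent.L20.GenericFreeness
import Mathlib.RingTheory.Flat.Equalizer
import Mathlib.RingTheory.Flat.Localization
import Mathlib.RingTheory.Flat.FaithfullyFlat.Algebra
import Mathlib.RingTheory.Ideal.MinimalPrime.Noetherian
import Mathlib.RingTheory.Jacobson.Ring
import Mathlib.RingTheory.RingHom.Flat
import Mathlib.RingTheory.Localization.BaseChange
import Mathlib.FieldTheory.IsAlgClosed.Basic

/-!
# A commutative Hopf algebra is faithfully flat over its Hopf subalgebras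

Over an algebraically closed field and for finitely generated algebras: `A ⊗_B A` is flat over `A`,
which forces `A` to be free over `B` near every minimal prime; translations spread this out.
-/

set_option autoImplicit false

universe u

open TensorProduct WithConv

namespace Groth.L25.HopfFlat

section shear

variable {k : Type u} [Field k] {A B : Type u} [CommRing A] [HopfAlgebra k A] [CommRing B]
  [HopfAlgebra k B] [Algebra B A] [IsScalarTower k B A]

theorem conv_antipode {R' : Type u} [CommRing R'] [Algebra k R'] (g : A →ₐ[k] R') :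
    toConv g * toConv (g.comp (HopfAlgebra.antipodeAlgHom k A)) = 1 ∧
      toConv (g.comp (HopfAlgebra.antipodeAlgHom k A)) * toConv g = 1 := by
  have h1 := mul_inv_cancel (toConv (AlgHom.id k A) : WithConv (A →ₐ[k] A))
  have h2 := inv_mul_cancel (toConv (AlgHom.id k A) : WithConv (A →ₐ[k] A))
  constructor
  · have h := congrArg (fun f : WithConv (A →ₐ[k] A) => g.comp f.ofConv) h1
    simp only [AlgHom.comp_convMul_distrib] at h
    refine WithConv.ext (h.trans (AlgHom.ext fun a => ?_))
    exact g.commutes _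
  · have h := congrArg (fun f : WithConv (A →ₐ[k] A) => g.comp f.ofConv) h2
    simp only [AlgHom.comp_convMul_distrib] at h
    refine WithConv.ext (h.trans (AlgHom.ext fun a => ?_))
    exact g.commutes _

/-- `A ⊗_B A` is a retract of `A ⊗ A/B⁺A`, as an algebra over the left factor. -/
theorem flat_tensor (φ : B →ₐc[k] A) (hφ : ∀ b, φ b = algebraMap B A b)
    : Module.Flat A (A ⊗[B] A) := by
  let J : Ideal A := (RingHom.ker (Bialgebra.counitAlgHom k B)).map (algebraMap B A)
  let C := A ⧸ J
  let φa : B →ₐ[k] A := (φ : B →ₐ[k] A)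
  -- the shear
  let L : A →ₐ[k] A ⊗[k] C := Algebra.TensorProduct.includeLeft
  let Rq : A →ₐ[k] A ⊗[k] C :=
    (Algebra.TensorProduct.includeRight).comp (Ideal.Quotient.mkₐ k J)
  let ρ : WithConv (A →ₐ[k] A ⊗[k] C) := toConv L * toConv Rq
  have hρ : ρ.ofConv.comp φa = L.comp φa := by
    have h1 : toConv (Rq.comp φa) = (1 : WithConv (B →ₐ[k] A ⊗[k] C)) := by
      refine WithConv.ext (AlgHom.ext fun b => ?_)
      change (1 : A) ⊗ₜ[k] Ideal.Quotient.mk J (φ b) =
        algebraMap k (A ⊗[k] C) (Coalgebra.counit b)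
      have h2 : Ideal.Quotient.mk J (φ b) = algebraMap k C (Coalgebra.counit b) := by
        rw [IsScalarTower.algebraMap_apply k A C, Ideal.Quotient.algebraMap_eq,
          Ideal.Quotient.mk_eq_mk_iff_sub_mem, hφ, IsScalarTower.algebraMap_apply k B A,
          ← map_sub]
        exact Ideal.mem_map_of_mem _ (by simp [RingHom.mem_ker])
      rw [h2, Algebra.algebraMap_eq_smul_one, Algebra.algebraMap_eq_smul_one,
        TensorProduct.tmul_smul]
      rfl
    rw [show ρ.ofConv.comp φa = _ from AlgHom.convMul_comp_bialgHom_distrib _ _ φ]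
    simp only [WithConv.ofConv_toConv]
    rw [h1]
    exact congrArg WithConv.ofConv (_root_.mul_one (toConv (L.comp φa) : WithConv (B →ₐ[k] A ⊗[k] C)))
  let Θ : A ⊗[B] A →ₐ[A] A ⊗[k] C :=
    Algebra.TensorProduct.lift (Algebra.ofId A (A ⊗[k] C))
      ({ ρ.ofConv.toRingHom with
          commutes' := fun b => by
            have := AlgHom.congr_fun hρ b
            simp only [AlgHom.comp_apply, φa] at this
            change ρ.ofConv (algebraMap B A b) = _
            rw [← hφ]
            refine this.trans ?_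
            change φ b ⊗ₜ[k] (1 : C) = _
            rw [hφ]
            rfl } : A →ₐ[B] A ⊗[k] C)
      (fun _ _ => Commute.all _ _)
  -- its inverse
  let il : A →ₐ[k] A ⊗[B] A := Algebra.TensorProduct.includeLeft
  let ir : A →ₐ[k] A ⊗[B] A := (Algebra.TensorProduct.includeRight).restrictScalars k
  let χ : WithConv (A →ₐ[k] A ⊗[B] A) :=
    toConv (il.comp (HopfAlgebra.antipodeAlgHom k A)) * toConv ir
  have hχ : χ.ofConv.comp φa = ((Algebra.ofId k (A ⊗[B] A)).comp (Bialgebra.counitAlgHom k B)) := by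
    have h1 : ir.comp φa = il.comp φa := by
      refine AlgHom.ext fun b => ?_
      change (1 : A) ⊗ₜ[B] φ b = φ b ⊗ₜ[B] (1 : A)
      rw [hφ, Algebra.algebraMap_eq_smul_one, ← TensorProduct.smul_tmul]
    have h2 := congrArg WithConv.ofConv (conv_antipode il).2
    have h3 := congrArg (fun g : A →ₐ[k] A ⊗[B] A => g.comp φa) h2
    rw [show (ofConv (toConv (il.comp (HopfAlgebra.antipodeAlgHom k A)) * toConv il)).comp φa = _ from
      AlgHom.convMul_comp_bialgHom_distrib _ _ φ] at h3
    rw [show χ.ofConv.comp φa = _ from AlgHom.convMul_comp_bialgHom_distrib _ _ φ]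
    simp only [WithConv.ofConv_toConv] at h3 ⊢
    rw [show (ir.comp (φ : B →ₐ[k] A)) = il.comp (φ : B →ₐ[k] A) from h1]
    refine h3.trans ?_
    refine AlgHom.ext fun b => ?_
    change algebraMap k (A ⊗[B] A) (Coalgebra.counit (φ b)) = _
    rw [CoalgHomClass.counit_comp_apply]
    rfl
  have hJ : ∀ a ∈ J, χ.ofConv a = 0 := by
    intro a ha
    have : J ≤ RingHom.ker χ.ofConv := by
      rw [Ideal.map_le_iff_le_comap]
      intro b hb
      have := AlgHom.congr_fun hχ b
      rw [Ideal.mem_comap, RingHom.mem_ker, ← hφ]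
      refine this.trans ?_
      change algebraMap k _ (Bialgebra.counitAlgHom k B b) = 0
      rw [RingHom.mem_ker] at hb
      rw [hb, map_zero]
    exact this ha
  let Ψ : A ⊗[k] C →ₐ[A] A ⊗[B] A :=
    Algebra.TensorProduct.lift (Algebra.ofId A (A ⊗[B] A)) (Ideal.Quotient.liftₐ J χ.ofConv hJ)
      (fun _ _ => Commute.all _ _)
  have hΨΘ : Ψ.comp Θ = AlgHom.id A _ := by
    refine Algebra.TensorProduct.ext_ring ?_
    refine AlgHom.ext fun a => ?_
    have e1 : (Ψ.restrictScalars k).comp L = il := by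
      refine AlgHom.ext fun x => ?_
      simp [Ψ, L, il]
    have e2 : (Ψ.restrictScalars k).comp Rq = χ.ofConv := by
      refine AlgHom.ext fun x => ?_
      simp only [Ψ, Rq, AlgHom.comp_apply, AlgHom.restrictScalars_apply,
        Algebra.TensorProduct.includeRight_apply, Algebra.TensorProduct.lift_tmul, map_one]
      rw [_root_.one_mul]
      rfl
    have e3 : (Ψ.restrictScalars k).comp ρ.ofConv = ir := by
      rw [show (Ψ.restrictScalars k).comp ρ.ofConv = _ from
        AlgHom.comp_convMul_distrib _ _ _]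
      simp only [WithConv.ofConv_toConv, e1, e2]
      change ofConv (toConv il * (toConv (il.comp (HopfAlgebra.antipodeAlgHom k A)) * toConv ir)) = ir
      rw [← mul_assoc, (conv_antipode il).1]
      exact congrArg WithConv.ofConv (_root_.one_mul _)
    have := AlgHom.congr_fun e3 a
    simp only [AlgHom.comp_apply, AlgHom.restrictScalars_apply] at this
    simpa [Θ, ir] using this
  exact Module.Flat.of_retract Θ.toLinearMap Ψ.toLinearMap
    (LinearMap.ext fun x => AlgHom.congr_fun hΨΘ x)

end shear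

section nilpotent

/-- A surjection from a free module whose kernel is small is injective, if it becomes a surjection
onto a flat module after an injective base change. -/
theorem injective_of_kernel_le {R A M ι : Type u} [CommRing R] [CommRing A] [Algebra R A]
    (hinj : Function.Injective (algebraMap R A)) (J : Ideal R) (hJ : IsNilpotent J)
    [AddCommGroup M] [Module R M] [Module.Flat A (A ⊗[R] M)] (f : (ι →₀ R) →ₗ[R] M)
    (hfsurj : Function.Surjective f) (hKJ : ∀ x ∈ LinearMap.ker f, ∀ i, x i ∈ J) :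
    Function.Injective f := by
  classical
  obtain ⟨n, hn⟩ := hJ
  rw [injective_iff_map_eq_zero]
  let fA := f.baseChange A
  let P := LinearMap.ker fA
  have hfA : Function.Surjective fA := LinearMap.lTensor_surjective A hfsurj
  let J' := J.map (algebraMap R A)
  have hPJ : ∀ q ∈ P, q ∈ J' • (⊤ : Submodule A (A ⊗[R] (ι →₀ R))) := by
    intro q hq
    have hex := lTensor_exact (M := ↥(LinearMap.ker f)) A (LinearMap.exact_subtype_ker_map f) hfsurj
    obtain ⟨z, rfl⟩ := (hex q).1 hq
    clear hq
    induction z using TensorProduct.induction_on with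
    | zero => simp
    | add a c ha hc => rw [map_add]; exact add_mem ha hc
    | tmul a x =>
      obtain ⟨w, hw⟩ := x
      have e : a ⊗ₜ[R] w = ∑ i ∈ w.support,
          algebraMap R A (w i) • (a ⊗ₜ[R] Finsupp.single i (1 : R)) := by
        conv_lhs => rw [← Finsupp.sum_single w, Finsupp.sum, TensorProduct.tmul_sum]
        refine Finset.sum_congr rfl fun i _ => ?_
        rw [algebraMap_smul, ← TensorProduct.tmul_smul, Finsupp.smul_single, smul_eq_mul,
          _root_.mul_one]
      change a ⊗ₜ[R] w ∈ _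
      rw [e]
      refine Submodule.sum_mem _ fun i _ => ?_
      exact Submodule.smul_mem_smul (Ideal.mem_map_of_mem _ (hKJ w hw i)) trivial
  have hinjP := LinearMap.lTensor_injective_of_exact_of_flat (M := ↥(LinearMap.ker fA)) fA hfA P.subtype P.subtype_injective
      (LinearMap.exact_subtype_ker_map fA) (A ⧸ J')
  have hP : ∀ t, ∀ q : P, q ∈ J' ^ t • (⊤ : Submodule A P) := by
    have h1 : (⊤ : Submodule A P) ≤ J' • ⊤ := by
      intro q _
      have h4 : P.subtype.lTensor (A ⧸ J') ((1 : A ⧸ J') ⊗ₜ[A] q) = 0 := by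
        rw [LinearMap.lTensor_tmul]
        apply (TensorProduct.quotTensorEquivQuotSMul (A ⊗[R] (ι →₀ R)) J').injective
        rw [map_zero, TensorProduct.quotTensorEquivQuotSMul_mk_one_tmul,
          Submodule.Quotient.mk_eq_zero]
        exact hPJ q q.2
      have h5 := congrArg (TensorProduct.quotTensorEquivQuotSMul P J')
        (hinjP (h4.trans (map_zero _).symm))
      rwa [map_zero, TensorProduct.quotTensorEquivQuotSMul_mk_one_tmul,
        Submodule.Quotient.mk_eq_zero] at h5
    intro t
    induction t with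
    | zero => intro q; rw [pow_zero, Ideal.one_eq_top, Submodule.top_smul]; trivial
    | succ t ih =>
      intro q
      rw [pow_succ, Submodule.mul_smul]
      exact Submodule.smul_mono le_rfl h1 (ih q)
  intro x hx
  have hxP : (1 : A) ⊗ₜ[R] x ∈ P := by simp [P, fA, LinearMap.mem_ker, hx]
  have h6 := hP n ⟨_, hxP⟩
  rw [← Ideal.map_pow, hn, Submodule.zero_eq_bot, Ideal.map_bot, Submodule.bot_smul,
    Submodule.mem_bot] at h6
  have h7 : ((Algebra.linearMap R A).rTensor _) ((1 : R) ⊗ₜ[R] x) = 0 := by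
    rw [LinearMap.rTensor_tmul, Algebra.linearMap_apply, map_one]
    exact congrArg Subtype.val h6
  have h8 := Module.Flat.rTensor_preserves_injective_linearMap (Algebra.linearMap R A) hinj
    (h7.trans (map_zero _).symm)
  have h9 := congrArg (TensorProduct.lid R _) h8
  simpa using h9

/-- A module over a ring with a nilpotent ideal `J`, free modulo `J` and flat after an injective
base change, is free. -/
theorem free_of_flat_baseChange {R A M : Type u} [CommRing R] [CommRing A] [Algebra R A]
    (hinj : Function.Injective (algebraMap R A)) (J : Ideal R) (hJ : IsNilpotent J)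
    [AddCommGroup M] [Module R M] [Module.Free (R ⧸ J) ((R ⧸ J) ⊗[R] M)]
    [Module.Flat A (A ⊗[R] M)] : Module.Free R M := by
  classical
  obtain ⟨n, hn⟩ := hJ
  let b := Module.Free.chooseBasis (R ⧸ J) ((R ⧸ J) ⊗[R] M)
  have hsurj : ∀ z : (R ⧸ J) ⊗[R] M, ∃ m : M, (1 : R ⧸ J) ⊗ₜ[R] m = z := by
    intro z
    obtain ⟨m, hm⟩ := TensorProduct.mk_surjective R M (R ⧸ J) Ideal.Quotient.mk_surjective z
    exact ⟨m, hm⟩
  choose v hv using fun i => hsurj (b i)
  let f := Finsupp.linearCombination R v
  have hf1 : ∀ x, (1 : R ⧸ J) ⊗ₜ[R] f x =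
      Finsupp.linearCombination (R ⧸ J) b (x.mapRange (Ideal.Quotient.mk J) (map_zero _)) := by
    intro x
    induction x using Finsupp.induction_linear with
    | zero => simp
    | add x y hx hy =>
      rw [map_add, TensorProduct.tmul_add, hx, hy, Finsupp.mapRange_add (map_add _), map_add]
    | single i r =>
      rw [Finsupp.linearCombination_single, Finsupp.mapRange_single,
        Finsupp.linearCombination_single, TensorProduct.tmul_smul, hv]
      exact (algebraMap_smul (R ⧸ J) r (b i)).symm
  have hfsurj : Function.Surjective f := by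
    have h0 : (⊤ : Submodule R M) ≤ LinearMap.range f ⊔ J • ⊤ := by
      intro m _
      let c := b.repr ((1 : R ⧸ J) ⊗ₜ[R] m)
      obtain ⟨x, hx⟩ := Finsupp.mapRange_surjective (Ideal.Quotient.mk J) (map_zero _)
        Ideal.Quotient.mk_surjective c
      have h1 : (1 : R ⧸ J) ⊗ₜ[R] (m - f x) = 0 := by
        rw [TensorProduct.tmul_sub, hf1, hx, b.linearCombination_repr, sub_self]
      have h2 : m - f x ∈ J • (⊤ : Submodule R M) := by
        have := congrArg (TensorProduct.quotTensorEquivQuotSMul M J) h1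
        rwa [map_zero, TensorProduct.quotTensorEquivQuotSMul_mk_one_tmul,
          Submodule.Quotient.mk_eq_zero] at this
      rw [show m = f x + (m - f x) by abel]
      exact add_mem (Submodule.mem_sup_left ⟨x, rfl⟩) (Submodule.mem_sup_right h2)
    have h3 : ∀ t, (⊤ : Submodule R M) ≤ LinearMap.range f ⊔ J ^ t • ⊤ := by
      intro t
      induction t with
      | zero => exact le_sup_of_le_right (by rw [pow_zero, Ideal.one_eq_top, Submodule.top_smul])
      | succ t ih =>
        refine ih.trans (sup_le le_sup_left ?_)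
        refine (Submodule.smul_mono le_rfl h0).trans ?_
        rw [Submodule.smul_sup, ← Submodule.mul_smul, ← pow_succ]
        exact sup_le_sup_right Submodule.smul_le_right _
    have := h3 n
    rw [hn, Submodule.zero_eq_bot, Submodule.bot_smul, sup_bot_eq, top_le_iff] at this
    exact LinearMap.range_eq_top.1 this
  have hfinj : Function.Injective f := by
    rw [injective_iff_map_eq_zero]
    have hKJ : ∀ x ∈ LinearMap.ker f, ∀ i, x i ∈ J := by
      intro x hx i
      have h1 := hf1 x
      rw [LinearMap.mem_ker.1 hx, TensorProduct.tmul_zero] at h1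
      have h2 := b.linearIndependent (h1.symm.trans (map_zero _).symm)
      have := congrArg (fun q => q i) h2
      simpa [Ideal.Quotient.eq_zero_iff_mem] using this
    exact (injective_iff_map_eq_zero f).1 (injective_of_kernel_le hinj J ⟨n, hn⟩ f hfsurj hKJ)
  exact Module.Free.of_equiv (LinearEquiv.ofBijective f ⟨hfinj, hfsurj⟩)

end nilpotent

section generic

variable {k : Type u} [Field k] {A B : Type u} [CommRing A] [CommRing B] [Algebra k A]
  [Algebra k B] [Algebra B A] [IsScalarTower k B A]

theorem isNilpotent_of_forall_minimalPrimes {R : Type u} [CommRing R] {a : R}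
    (h : ∀ η ∈ minimalPrimes R, a ∈ η) : IsNilpotent a := by
  rw [← mem_nilradical, nilradical_eq_sInf, Ideal.mem_sInf]
  intro q hq
  have : q.IsPrime := hq
  obtain ⟨η, hη, hle⟩ := Ideal.exists_minimalPrimes_le (bot_le : (⊥ : Ideal R) ≤ q)
  exact hle (h η hη)

/-- Near each minimal prime of `B` the algebra `A` is free over `B`. -/
theorem exists_free_at [Algebra.FiniteType k A] [Algebra.FiniteType k B]
    (hinj : Function.Injective (algebraMap B A)) [Module.Flat A (A ⊗[B] A)]
    (η : Ideal B) (hη : η ∈ minimalPrimes B) :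
    ∃ f : B, f ∉ η ∧ (∀ η' ∈ minimalPrimes B, η' ≠ η → f ∈ η') ∧
      Module.Free (Localization.Away f) (Localization.Away f ⊗[B] A) := by
  classical
  haveI : IsNoetherianRing B := Algebra.FiniteType.isNoetherianRing k B
  haveI : η.IsPrime := hη.1.1
  haveI : Algebra.FiniteType B A := Algebra.FiniteType.of_restrictScalars_finiteType k B A
  obtain ⟨f₀, hf₀, hfree, -⟩ := Groth.L20.GF.exists_free_and_nearlyFP (R := B ⧸ η)
    (S := (B ⧸ η) ⊗[B] A) ((B ⧸ η) ⊗[B] A)
  obtain ⟨f₁, rfl⟩ := Ideal.Quotient.mk_surjective f₀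
  let others : Finset (Ideal B) :=
    ((Ideal.finite_minimalPrimes_of_isNoetherianRing B ⊥).toFinset).erase η
  have hothers : ¬ others.inf id ≤ η := by
    intro h
    obtain ⟨η', hη', hle⟩ := (Ideal.IsPrime.inf_le' ‹_›).1 h
    simp only [others, Finset.mem_erase, Set.Finite.mem_toFinset] at hη'
    exact hη'.1 (le_antisymm hle (hη.2 hη'.2.1 hle))
  obtain ⟨g, hg, hgη⟩ := SetLike.not_le_iff_exists.1 hothers
  have hg' : ∀ η' ∈ minimalPrimes B, η' ≠ η → g ∈ η' := fun η' h' hne =>
    (Finset.inf_le (f := id) (Finset.mem_erase.2 ⟨hne, (Set.Finite.mem_toFinset _).2 h'⟩)) hg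
  have hf₁ : f₁ ∉ η := fun h => hf₀ (Ideal.Quotient.eq_zero_iff_mem.2 h)
  set f := f₁ * g with hf
  refine ⟨f, fun h => (‹η.IsPrime›.mem_or_mem h).elim hf₁ hgη,
    fun η' h' hne => η'.mul_mem_left _ (hg' η' h' hne), ?_⟩
  let R := Localization.Away f
  haveI : IsNoetherianRing R := IsLocalization.isNoetherianRing (Submonoid.powers f) R inferInstance
  have hfu : IsUnit (algebraMap B R f) := IsLocalization.Away.algebraMap_isUnit f
  let J : Ideal R := η.map (algebraMap B R)
  have hJ : IsNilpotent J := by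
    obtain ⟨n, hn⟩ := IsNoetherianRing.isNilpotent_nilradical R
    refine ⟨n, le_bot_iff.1 (le_trans (Ideal.pow_right_mono ?_ n) hn.le)⟩
    rw [Ideal.map_le_iff_le_comap]
    intro a ha
    have h1 : IsNilpotent (algebraMap B R (a * f)) := by
      refine (isNilpotent_of_forall_minimalPrimes fun η' h' => ?_).map _
      by_cases hne : η' = η
      · exact hne ▸ η.mul_mem_right _ ha
      · exact η'.mul_mem_left _ (η'.mul_mem_left _ (hg' η' h' hne))
    obtain ⟨m, hm⟩ := h1
    rw [map_mul, mul_pow] at hm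
    exact ⟨m, (hfu.pow m).mul_left_eq_zero.1 hm⟩
  let R' := R ⧸ J
  letI : Algebra (B ⧸ η) R' :=
    (Ideal.quotientMap J (algebraMap B R) Ideal.le_comap_map).toAlgebra
  haveI : IsScalarTower B (B ⧸ η) R' := IsScalarTower.of_algebraMap_eq fun b => rfl
  have hu : IsUnit (algebraMap (B ⧸ η) R' (Ideal.Quotient.mk η f₁)) := by
    have h2 : IsUnit (algebraMap B R f₁) := by
      have h3 : IsUnit (algebraMap B R f₁ * algebraMap B R g) := by rw [← map_mul]; exact hfu
      exact isUnit_of_mul_isUnit_left h3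
    exact h2.map (Ideal.Quotient.mk J)
  haveI : Module.Free R' (R' ⊗[B ⧸ η] ((B ⧸ η) ⊗[B] A)) :=
    Groth.L20.GF.free_of_isUnit R' hu ((B ⧸ η) ⊗[B] A)
  haveI : Module.Free R' (R' ⊗[R] (R ⊗[B] A)) := Module.Free.of_equiv
    ((AlgebraTensorModule.cancelBaseChange B (B ⧸ η) R' R' A).trans
      (AlgebraTensorModule.cancelBaseChange B R R' R' A).symm)
  let A' := R ⊗[B] A
  letI : Algebra A A' := Algebra.TensorProduct.rightAlgebra
  haveI : IsScalarTower B A A' := IsScalarTower.of_algebraMap_eq fun b => by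
    change algebraMap B R b ⊗ₜ[B] (1 : A) = (1 : R) ⊗ₜ[B] algebraMap B A b
    rw [Algebra.algebraMap_eq_smul_one, TensorProduct.smul_tmul, Algebra.algebraMap_eq_smul_one]
  haveI : Module.Flat A' (A' ⊗[R] (R ⊗[B] A)) := Module.Flat.of_linearEquiv
    ((AlgebraTensorModule.cancelBaseChange B R A' A' A).trans
      (AlgebraTensorModule.cancelBaseChange B A A' A' A).symm)
  exact free_of_flat_baseChange (R := R) (A := A') (M := R ⊗[B] A)
    (Algebra.TensorProduct.includeLeft_injective (S := R) hinj) J hJ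

end generic

section translations

variable {k : Type u} [Field k] {A B : Type u} [CommRing A] [HopfAlgebra k A] [CommRing B]
  [HopfAlgebra k B]

/-- The convolution monoid map given by precomposition with a bialgebra map. -/
noncomputable def preHom {R' : Type u} [CommRing R'] [Algebra k R'] (φ : B →ₐc[k] A) :
    WithConv (A →ₐ[k] R') →* WithConv (B →ₐ[k] R') where
  toFun f := toConv (f.ofConv.comp (φ : B →ₐ[k] A))
  map_one' := WithConv.ext (AlgHom.ext fun b => by
    change algebraMap k R' (Coalgebra.counit (φ b)) = _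
    rw [CoalgHomClass.counit_comp_apply]
    rfl)
  map_mul' f g := WithConv.ext (AlgHom.convMul_comp_bialgHom_distrib f g φ)

/-- A point, as a constant endomorphism. -/
noncomputable def const (g : WithConv (A →ₐ[k] k)) : WithConv (A →ₐ[k] A) :=
  toConv ((Algebra.ofId k A).comp g.ofConv)

theorem const_mul (g h : WithConv (A →ₐ[k] k)) : const g * const h = const (g * h) :=
  WithConv.ext (AlgHom.comp_convMul_distrib (Algebra.ofId k A) g h).symm

theorem const_one : const (1 : WithConv (A →ₐ[k] k)) = 1 :=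
  WithConv.ext (AlgHom.ext fun a => (Algebra.ofId k A).commutes _)

theorem comp_const {R' : Type u} [CommRing R'] [Algebra k R'] (φ : A →ₐ[k] R')
    (g : WithConv (A →ₐ[k] k)) : φ.comp (const g).ofConv = (Algebra.ofId k R').comp g.ofConv :=
  AlgHom.ext fun a => φ.commutes _

/-- Translation on the right. -/
noncomputable def rt (g : WithConv (A →ₐ[k] k)) : A →ₐ[k] A :=
  (toConv (AlgHom.id k A) * const g).ofConv

/-- Translation on the left. -/
noncomputable def lt' (g : WithConv (A →ₐ[k] k)) : A →ₐ[k] A :=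
  (const g * toConv (AlgHom.id k A)).ofConv

theorem comp_rt {R' : Type u} [CommRing R'] [Algebra k R'] (φ : A →ₐ[k] R')
    (g : WithConv (A →ₐ[k] k)) :
    φ.comp (rt g) = (toConv φ * toConv ((Algebra.ofId k R').comp g.ofConv)).ofConv := by
  rw [rt, AlgHom.comp_convMul_distrib, comp_const]
  rfl

theorem comp_lt' {R' : Type u} [CommRing R'] [Algebra k R'] (φ : A →ₐ[k] R')
    (g : WithConv (A →ₐ[k] k)) :
    φ.comp (lt' g) = (toConv ((Algebra.ofId k R').comp g.ofConv) * toConv φ).ofConv := by
  rw [lt', AlgHom.comp_convMul_distrib, comp_const]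
  rfl

theorem point_rt (χ g : WithConv (A →ₐ[k] k)) : χ.ofConv.comp (rt g) = (χ * g).ofConv := by
  rw [comp_rt]
  rfl

theorem point_lt' (χ g : WithConv (A →ₐ[k] k)) : χ.ofConv.comp (lt' g) = (g * χ).ofConv := by
  rw [comp_lt']
  rfl

theorem rt_rt (g h : WithConv (A →ₐ[k] k)) : (rt h).comp (rt g) = rt (h * g) := by
  rw [comp_rt]
  change (toConv (rt h) * const g).ofConv = _
  rw [rt, WithConv.toConv_ofConv, mul_assoc, const_mul]
  rfl

theorem lt'_lt' (g h : WithConv (A →ₐ[k] k)) : (lt' h).comp (lt' g) = lt' (g * h) := by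
  rw [comp_lt']
  change (const g * toConv (lt' h)).ofConv = _
  rw [lt', WithConv.toConv_ofConv, ← mul_assoc, const_mul]
  rfl

theorem rt_one : rt (1 : WithConv (A →ₐ[k] k)) = AlgHom.id k A := by
  rw [rt, const_one]
  exact congrArg WithConv.ofConv (_root_.mul_one (toConv (AlgHom.id k A)))

theorem lt'_one : lt' (1 : WithConv (A →ₐ[k] k)) = AlgHom.id k A := by
  rw [lt', const_one]
  exact congrArg WithConv.ofConv (_root_.one_mul (toConv (AlgHom.id k A)))

/-- Right translation as an automorphism. -/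
noncomputable def rtEquiv (g : WithConv (A →ₐ[k] k)) : A ≃ₐ[k] A :=
  AlgEquiv.ofAlgHom (rt g) (rt g⁻¹)
    (by rw [rt_rt, mul_inv_cancel, rt_one]) (by rw [rt_rt, inv_mul_cancel, rt_one])

/-- Left translation as an automorphism. -/
noncomputable def lt'Equiv (g : WithConv (A →ₐ[k] k)) : A ≃ₐ[k] A :=
  AlgEquiv.ofAlgHom (lt' g) (lt' g⁻¹)
    (by rw [lt'_lt', inv_mul_cancel, lt'_one]) (by rw [lt'_lt', mul_inv_cancel, lt'_one])

theorem rt_comp (φ : B →ₐc[k] A) (h : WithConv (A →ₐ[k] k)) (b : B) :
    rt h (φ b) = φ (rt (preHom φ h) b) := by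
  have h1 : (rt h).comp (φ : B →ₐ[k] A) = (φ : B →ₐ[k] A).comp (rt (preHom φ h)) := by
    rw [comp_rt, rt, AlgHom.convMul_comp_bialgHom_distrib]
    rfl
  exact AlgHom.congr_fun h1 b

end translations

section core

variable {k : Type u} [Field k] [IsAlgClosed k] {A B : Type u} [CommRing A] [HopfAlgebra k A]
  [CommRing B] [HopfAlgebra k B] [Algebra B A] [IsScalarTower k B A]
  [Algebra.FiniteType k A]

/-- Points of `B` at which `A` is free lift to `A`. -/
theorem exists_lift (hinj : Function.Injective (algebraMap B A)) (φ : B →ₐc[k] A)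
    (hφ : ∀ b, φ b = algebraMap B A b) {f : B}
    [Module.Free (Localization.Away f) (Localization.Away f ⊗[B] A)]
    (ψ : WithConv (B →ₐ[k] k)) (hψ : ψ.ofConv f ≠ 0) :
    ∃ h : WithConv (A →ₐ[k] k), preHom φ h = ψ := by
  letI : Algebra B k := ψ.ofConv.toRingHom.toAlgebra
  haveI : IsScalarTower k B k := IsScalarTower.of_algebraMap_eq fun c => (ψ.ofConv.commutes c).symm
  let R := Localization.Away f
  let ψR : R →+* k := IsLocalization.Away.lift (S := R) f (g := ψ.ofConv.toRingHom)
    (isUnit_iff_ne_zero.2 hψ)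
  letI : Algebra R k := ψR.toAlgebra
  haveI : IsScalarTower B R k := IsScalarTower.of_algebraMap_eq fun b =>
    (IsLocalization.Away.lift_eq (S := R) f (g := ψ.ofConv.toRingHom) (isUnit_iff_ne_zero.2 hψ) b).symm
  haveI : Nontrivial R := ψR.domain_nontrivial
  haveI : Nontrivial (R ⊗[B] A) :=
    (Algebra.TensorProduct.includeLeft_injective (R := B) (S := R) (A := R) hinj).nontrivial
  haveI : Nontrivial (k ⊗[B] A) := by
    let b := Module.Free.chooseBasis R (R ⊗[B] A)
    haveI := b.index_nonempty
    have : Nontrivial (k ⊗[R] (R ⊗[B] A)) :=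
      ⟨⟨(b.baseChange k) (Classical.arbitrary _), 0, (b.baseChange k).ne_zero _⟩⟩
    exact (AlgebraTensorModule.cancelBaseChange B R k k A).symm.toEquiv.nontrivial
  haveI : Algebra.FiniteType B A := Algebra.FiniteType.of_restrictScalars_finiteType k B A
  haveI : Algebra.FiniteType k (k ⊗[B] A) := inferInstance
  obtain ⟨m, hm⟩ := Ideal.exists_maximal (k ⊗[B] A)
  letI := Ideal.Quotient.field m
  haveI : Algebra.FiniteType k ((k ⊗[B] A) ⧸ m) :=
    Algebra.FiniteType.of_surjective (Ideal.Quotient.mkₐ k m) Ideal.Quotient.mk_surjective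
  haveI : Module.Finite k ((k ⊗[B] A) ⧸ m) :=
    finite_of_finite_type_of_isJacobsonRing k ((k ⊗[B] A) ⧸ m)
  haveI : Algebra.IsIntegral k ((k ⊗[B] A) ⧸ m) := Algebra.IsIntegral.of_finite k _
  let e : k ≃ₐ[k] (k ⊗[B] A) ⧸ m :=
    AlgEquiv.ofBijective (Algebra.ofId k _) IsAlgClosed.algebraMap_bijective_of_isIntegral
  let g : A →+* k := e.symm.toAlgHom.toRingHom.comp
    ((Ideal.Quotient.mk m).comp (Algebra.TensorProduct.includeRight : A →ₐ[B] k ⊗[B] A).toRingHom)
  have hg : ∀ b : B, g (algebraMap B A b) = ψ.ofConv b := by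
    intro b
    change e.symm (Ideal.Quotient.mk m ((1 : k) ⊗ₜ[B] algebraMap B A b)) = _
    rw [AlgEquiv.symm_apply_eq]
    rw [Algebra.algebraMap_eq_smul_one, TensorProduct.tmul_smul, TensorProduct.smul_tmul']
    change Ideal.Quotient.mk m ((ψ.ofConv b * 1) ⊗ₜ[B] (1 : A)) = _
    rw [_root_.mul_one]
    rfl
  refine ⟨toConv { g with
    commutes' := fun c => by
      change g (algebraMap k A c) = c
      rw [IsScalarTower.algebraMap_apply k B A, hg]
      exact ψ.ofConv.commutes c }, ?_⟩
  refine WithConv.ext (AlgHom.ext fun b => ?_)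
  change g (φ b) = ψ.ofConv b
  rw [hφ, hg]

variable [Algebra.FiniteType k B]

theorem flat_translate (φ : B →ₐc[k] A) (hφ : ∀ b, φ b = algebraMap B A b) (f : B)
    [Module.Free (Localization.Away f) (Localization.Away f ⊗[B] A)]
    (h : WithConv (A →ₐ[k] k)) :
    Module.Flat B (Localization.Away (algebraMap B A (rt (preHom φ h) f))) := by
  let R := Localization.Away f
  let T := R ⊗[B] A
  let L := Localization.Away (algebraMap B A (rt (preHom φ h) f))
  let σ := rtEquiv (preHom φ h)
  let σA := rtEquiv h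
  letI : Algebra A T := Algebra.TensorProduct.rightAlgebra
  haveI : IsLocalization (Submonoid.powers (algebraMap B A f)) T := by
    have := IsLocalization.tensorRight (S := A) R (Submonoid.powers f)
    rwa [Algebra.algebraMapSubmonoid_powers] at this
  have hpow : (Submonoid.powers (algebraMap B A f)).map (σA.toRingEquiv : A ≃+* A).toMonoidHom =
      Submonoid.powers (algebraMap B A (rt (preHom φ h) f)) := by
    rw [Submonoid.map_powers]
    congr 1
    change rt h (algebraMap B A f) = _
    rw [← hφ, ← hφ, rt_comp]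
  let e : T ≃+* L := IsLocalization.ringEquivOfRingEquiv T L σA.toRingEquiv hpow
  have heq : algebraMap B L = (e.toRingHom.comp (algebraMap B T)).comp
      σ.symm.toRingEquiv.toRingHom := by
    refine RingHom.ext fun b => ?_
    change algebraMap B L b = e (algebraMap B R (σ.symm b) ⊗ₜ[B] (1 : A))
    have h1 : algebraMap B R (σ.symm b) ⊗ₜ[B] (1 : A) = algebraMap A T (algebraMap B A (σ.symm b)) := by
      change _ = (1 : R) ⊗ₜ[B] algebraMap B A (σ.symm b)
      rw [Algebra.algebraMap_eq_smul_one, TensorProduct.smul_tmul, Algebra.algebraMap_eq_smul_one]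
    rw [h1]
    refine ((IsLocalization.ringEquivOfRingEquiv_eq hpow _).trans ?_).symm
    change algebraMap A L (rt h (algebraMap B A (σ.symm b))) = _
    have h9 : rt h (algebraMap B A (σ.symm b)) = algebraMap B A b := by
      rw [← hφ, rt_comp, hφ, show rt (preHom φ h) (σ.symm b) = b from σ.apply_symm_apply b]
    rw [h9, ← IsScalarTower.algebraMap_apply]
  haveI : Module.Flat B T := Module.Flat.trans B R T
  have hflat : (algebraMap B L).Flat := by
    rw [heq]
    exact (RingHom.Flat.of_bijective σ.symm.bijective).comp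
      (((RingHom.flat_algebraMap_iff).2 inferInstance).comp (RingHom.Flat.of_bijective e.bijective))
  exact RingHom.flat_algebraMap_iff.1 hflat

/-- Over an algebraically closed field, a finitely generated Hopf algebra is faithfully flat over a
finitely generated sub-Hopf-algebra. -/
theorem faithfullyFlat_of_isAlgClosed (hinj : Function.Injective (algebraMap B A)) (φ : B →ₐc[k] A)
    (hφ : ∀ b, φ b = algebraMap B A b) : Module.FaithfullyFlat B A := by
  classical
  haveI : IsNoetherianRing B := Algebra.FiniteType.isNoetherianRing k B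
  haveI : IsJacobsonRing B := isJacobsonRing_of_finiteType (A := k)
  haveI : Nontrivial B := (Bialgebra.counitAlgHom k B).toRingHom.domain_nontrivial
  haveI : Module.Flat A (A ⊗[B] A) := flat_tensor φ hφ
  choose! f hf hf' hfree using fun η => exists_free_at (k := k) hinj η
  let mp := (Ideal.finite_minimalPrimes_of_isNoetherianRing B ⊥).toFinset
  let F := ∑ η ∈ mp, f η
  have hF : ∀ η ∈ minimalPrimes B, F ∉ η := by
    intro η hη hFη
    have hmem : η ∈ mp := (Set.Finite.mem_toFinset _).2 hη
    refine hf η hη ?_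
    have h1 : ∑ η' ∈ mp.erase η, f η' ∈ η :=
      Submodule.sum_mem _ fun η' h' => hf' η' ((Set.Finite.mem_toFinset _).1 (Finset.mem_of_mem_erase h'))
        η hη (Finset.ne_of_mem_erase h').symm
    have h2 : f η + ∑ η' ∈ mp.erase η, f η' ∈ η := by
      rw [Finset.add_sum_erase _ _ hmem]; exact hFη
    exact (Ideal.add_mem_iff_left η h1).1 h2
  have hlift : ∀ ψ : WithConv (B →ₐ[k] k), ψ.ofConv F ≠ 0 →
      (∃ h, preHom φ h = ψ) ∧ ∃ η ∈ minimalPrimes B, ψ.ofConv (f η) ≠ 0 := by
    intro ψ hψ
    obtain ⟨η, hη, hne⟩ := Finset.exists_ne_zero_of_sum_ne_zero (by rwa [map_sum] at hψ)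
    have hη' := (Set.Finite.mem_toFinset _).1 hη
    haveI := hfree η hη'
    exact ⟨exists_lift hinj φ hφ ψ hne, η, hη', hne⟩
  have hgen : ∀ χ : WithConv (B →ₐ[k] k), ∃ ψ : WithConv (B →ₐ[k] k),
      ψ.ofConv F ≠ 0 ∧ (χ * ψ).ofConv F ≠ 0 := by
    intro χ
    let σ := lt'Equiv χ
    have hσF : ¬ IsNilpotent (F * σ F) := by
      intro hnil
      obtain ⟨η, hη⟩ := Ideal.nonempty_minimalPrimes (I := (⊥ : Ideal B)) bot_ne_top
      have hp : η.IsPrime := hη.1.1
      rcases hp.mem_or_mem (nilpotent_iff_mem_prime.1 hnil η hp) with h | h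
      · exact hF η hη h
      · refine hF (η.comap (σ : B →+* B)) ?_ h
        have := Ideal.comap_minimalPrimes_eq_of_surjective (f := (σ : B →+* B)) σ.surjective ⊥
        rw [show Ideal.comap (σ : B →+* B) ⊥ = ⊥ from
          (Ideal.ext fun x => by simp)] at this
        show _ ∈ (⊥ : Ideal B).minimalPrimes
        rw [this]
        exact ⟨η, hη, rfl⟩
    obtain ⟨m, hm, hmem⟩ : ∃ m : Ideal B, m.IsMaximal ∧ F * σ F ∉ m := by
      by_contra hcon
      push Not at hcon
      refine hσF ?_
      rw [← mem_nilradical, nilradical, Ideal.zero_eq_bot, Ideal.radical_eq_jacobson,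
        Ideal.jacobson, Ideal.mem_sInf]
      exact fun m hm => hcon m hm.2
    letI := Ideal.Quotient.field m
    haveI : Algebra.FiniteType k (B ⧸ m) :=
      Algebra.FiniteType.of_surjective (Ideal.Quotient.mkₐ k m) Ideal.Quotient.mk_surjective
    haveI : Module.Finite k (B ⧸ m) := finite_of_finite_type_of_isJacobsonRing k (B ⧸ m)
    haveI : Algebra.IsIntegral k (B ⧸ m) := Algebra.IsIntegral.of_finite k _
    let e : k ≃ₐ[k] B ⧸ m :=
      AlgEquiv.ofBijective (Algebra.ofId k _) IsAlgClosed.algebraMap_bijective_of_isIntegral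
    let ψ : WithConv (B →ₐ[k] k) := toConv ((e.symm : _ →ₐ[k] k).comp (Ideal.Quotient.mkₐ k m))
    have hψ : ψ.ofConv (F * σ F) ≠ 0 := by
      intro h0
      refine hmem (Ideal.Quotient.eq_zero_iff_mem.1 ?_)
      exact e.symm.injective (h0.trans (map_zero _).symm)
    rw [map_mul, mul_ne_zero_iff] at hψ
    refine ⟨ψ, hψ.1, ?_⟩
    rw [← point_lt' ψ χ]
    exact hψ.2
  -- every point lifts
  have hpts : ∀ χ : WithConv (B →ₐ[k] k), ∃ h, preHom φ h = χ := by
    intro χ
    obtain ⟨ψ, h1, h2⟩ := hgen χ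
    obtain ⟨⟨a, ha⟩, -⟩ := hlift ψ h1
    obtain ⟨⟨c, hc⟩, -⟩ := hlift _ h2
    exact ⟨c * a⁻¹, by rw [map_mul, map_inv, ha, hc, mul_inv_cancel_right]⟩
  have hpoint : ∀ m : Ideal B, m.IsMaximal →
      ∃ χ : WithConv (B →ₐ[k] k), ∀ b ∈ m, χ.ofConv b = 0 := by
    intro m hm
    letI := Ideal.Quotient.field m
    haveI : Algebra.FiniteType k (B ⧸ m) :=
      Algebra.FiniteType.of_surjective (Ideal.Quotient.mkₐ k m) Ideal.Quotient.mk_surjective
    haveI : Module.Finite k (B ⧸ m) := finite_of_finite_type_of_isJacobsonRing k (B ⧸ m)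
    haveI : Algebra.IsIntegral k (B ⧸ m) := Algebra.IsIntegral.of_finite k _
    let e : k ≃ₐ[k] B ⧸ m :=
      AlgEquiv.ofBijective (Algebra.ofId k _) IsAlgClosed.algebraMap_bijective_of_isIntegral
    refine ⟨toConv ((e.symm : _ →ₐ[k] k).comp (Ideal.Quotient.mkₐ k m)), fun b hb => ?_⟩
    change e.symm (Ideal.Quotient.mk m b) = 0
    rw [Ideal.Quotient.eq_zero_iff_mem.2 hb, map_zero]
  let s : Set A := {a | ∃ η ∈ minimalPrimes B, ∃ h : WithConv (A →ₐ[k] k),
    a = algebraMap B A (rt (preHom φ h) (f η))}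
  have hs : Ideal.span s = ⊤ := by
    let I : Ideal B := Ideal.span {b | ∃ η ∈ minimalPrimes B, ∃ h : WithConv (A →ₐ[k] k),
      b = rt (preHom φ h) (f η)}
    have hI : I = ⊤ := by
      by_contra hne
      obtain ⟨m, hm, hle⟩ := Ideal.exists_le_maximal I hne
      obtain ⟨χ, hχ⟩ := hpoint m hm
      obtain ⟨ψ, h1, h2⟩ := hgen χ
      obtain ⟨⟨a, ha⟩, -⟩ := hlift ψ h1
      obtain ⟨-, η, hη, hne'⟩ := hlift _ h2
      refine hne' ?_
      rw [← ha, ← point_rt]
      exact hχ _ (hle (Ideal.subset_span ⟨η, hη, a, rfl⟩))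
    have h1 : I.map (algebraMap B A) ≤ Ideal.span s := by
      rw [Ideal.map_le_iff_le_comap, Ideal.span_le]
      rintro _ ⟨η, hη, h, rfl⟩
      exact Ideal.subset_span ⟨η, hη, h, rfl⟩
    rwa [hI, Ideal.map_top, top_le_iff] at h1
  haveI : Module.Flat B A := by
    refine Module.flat_of_isLocalized_span (R := B) A A s hs
      (fun r => Localization.Away (r : A)) (fun r => Algebra.linearMap A _) fun r => ?_
    obtain ⟨_, η, hη, h, rfl⟩ := r
    haveI := hfree η hη
    exact flat_translate φ hφ (f η) h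
  refine ⟨fun m hm htop => ?_⟩
  obtain ⟨χ, hχ⟩ := hpoint m hm
  obtain ⟨h, hh⟩ := hpts χ
  have h1 : (1 : A) ∈ m • (⊤ : Submodule B A) := by rw [htop]; trivial
  rw [Ideal.smul_top_eq_map] at h1
  have h2 : m.map (algebraMap B A) ≤ RingHom.ker h.ofConv := by
    rw [Ideal.map_le_iff_le_comap]
    intro b hb
    rw [Ideal.mem_comap, RingHom.mem_ker, ← hφ]
    have := hχ b hb
    rw [← hh] at this
    exact this
  exact one_ne_zero ((map_one h.ofConv).symm.trans (h2 h1))

end core

end Groth.L25.HopfFlat
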