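import Groth.Agent.L25.CocycleComb
import Mathlib.Algebra.MvPolynomial.Nilpotent
import Mathlib.Algebra.MvPolynomial.Degrees
import Mathlib.Algebra.MvPolynomial.CommRing
import Mathlib.Algebra.CharP.Lemmas
import Mathlib.Algebra.CharP.MixedCharZero
import Mathlib.Algebra.Polynomial.AlgebraMap
import Mathlib.RingTheory.Polynomial.Basic
import Mathlib.RingTheory.Ideal.Maps
import Mathlib.RingTheory.Nilpotent.Lemmas
import Mathlib.RingTheory.Finiteness.Ideal
import Mathlib.Data.Fin.Tuple.Basic

/-!
# Symmetric multiplicative 2-cocycles of `G_a` in `G_m` split when Frobenius is surjective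
-/

set_option autoImplicit false

universe u

open Groth.L25.CocycleComb

namespace Groth.L25.GaGmSplit

variable {p : ℕ} [hp : Fact p.Prime] {R : Type u} [CommRing R] [CharP R p]

local notation "P2" => MvPolynomial (Fin 2) R
local notation "P3" => MvPolynomial (Fin 3) R
local notation "x₀" => (MvPolynomial.X 0 : MvPolynomial (Fin 2) R)
local notation "x₁" => (MvPolynomial.X 1 : MvPolynomial (Fin 2) R)

section rho

/-- `f ↦ f(X) f(Y) / f(X + Y)`. -/
noncomputable def rho : (Polynomial R)ˣ →* P2ˣ :=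
  Units.map (Polynomial.aeval x₀ : Polynomial R →ₐ[R] P2).toMonoidHom *
    Units.map (Polynomial.aeval x₁ : Polynomial R →ₐ[R] P2).toMonoidHom *
    (Units.map (Polynomial.aeval (x₀ + x₁) : Polynomial R →ₐ[R] P2).toMonoidHom)⁻¹

omit hp [CharP R p] in
theorem rho_mul (f : (Polynomial R)ˣ) :
    (rho f : P2) * Polynomial.aeval (x₀ + x₁) (f : Polynomial R) =
      Polynomial.aeval x₀ (f : Polynomial R) * Polynomial.aeval x₁ (f : Polynomial R) := by
  set U := Units.map (Polynomial.aeval (x₀ + x₁) : Polynomial R →ₐ[R] P2).toMonoidHom f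
  show (_ * _ * (↑U⁻¹ : P2)) * (U : P2) = _
  rw [mul_assoc, Units.inv_mul, mul_one]
  rfl

/-- The conditions on a cocycle. -/
structure Cocycle (h : P2) : Prop where
  right : MvPolynomial.aeval ![x₀, 0] h = 1
  symm : MvPolynomial.aeval ![x₁, x₀] h = h
  coc : MvPolynomial.aeval ![(MvPolynomial.X 1 : P3), MvPolynomial.X 2] h *
      MvPolynomial.aeval ![MvPolynomial.X 0, (MvPolynomial.X 1 : P3) + MvPolynomial.X 2] h =
    MvPolynomial.aeval ![(MvPolynomial.X 0 : P3) + MvPolynomial.X 1, MvPolynomial.X 2] h *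
      MvPolynomial.aeval ![(MvPolynomial.X 0 : P3), MvPolynomial.X 1] h

omit hp [CharP R p] in
theorem Cocycle.mul {h h' : P2} (H : Cocycle h) (H' : Cocycle h') : Cocycle (h * h') where
  right := by rw [map_mul, H.right, H'.right, one_mul]
  symm := by rw [map_mul, H.symm, H'.symm]
  coc := by
    simp only [map_mul]
    linear_combination
      (MvPolynomial.aeval ![(MvPolynomial.X 1 : P3), MvPolynomial.X 2] h' *
        MvPolynomial.aeval ![MvPolynomial.X 0, (MvPolynomial.X 1 : P3) + MvPolynomial.X 2] h') *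
          H.coc +
      (MvPolynomial.aeval ![(MvPolynomial.X 0 : P3) + MvPolynomial.X 1, MvPolynomial.X 2] h *
        MvPolynomial.aeval ![(MvPolynomial.X 0 : P3), MvPolynomial.X 1] h) * H'.coc

omit hp [CharP R p] in
theorem apply_rho {S : Type u} [CommRing S] [Algebra R S] (f : (Polynomial R)ˣ) (a b : S) :
    MvPolynomial.aeval ![a, b] (rho f : P2) * Polynomial.aeval (a + b) (f : Polynomial R) =
      Polynomial.aeval a (f : Polynomial R) * Polynomial.aeval b (f : Polynomial R) := by
  have := congrArg (MvPolynomial.aeval ![a, b]) (rho_mul f)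
  rw [map_mul, map_mul, ← Polynomial.aeval_algHom_apply, ← Polynomial.aeval_algHom_apply,
    ← Polynomial.aeval_algHom_apply, map_add, MvPolynomial.aeval_X, MvPolynomial.aeval_X] at this
  exact this

omit hp [CharP R p] in
theorem cocycle_rho (f : (Polynomial R)ˣ) (hf : (f : Polynomial R).coeff 0 = 1) :
    Cocycle (rho f : P2) := by
  have hu : ∀ {S : Type u} [CommRing S] [Algebra R S] (a : S),
      IsUnit (Polynomial.aeval a (f : Polynomial R)) := fun a => f.isUnit.map _
  have h0 : ∀ {S : Type u} [CommRing S] [Algebra R S],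
      Polynomial.aeval (0 : S) (f : Polynomial R) = 1 := by
    intro S _ _
    rw [Polynomial.aeval_def, Polynomial.eval₂_at_zero, hf, map_one]
  refine ⟨?_, ?_, ?_⟩
  · have := apply_rho f x₀ 0
    rw [add_zero, h0, mul_one] at this
    exact (hu x₀).mul_right_cancel (this.trans (one_mul _).symm)
  · have := apply_rho f x₁ x₀
    rw [add_comm x₁ x₀, mul_comm (Polynomial.aeval x₁ _)] at this
    exact (hu (x₀ + x₁)).mul_right_cancel (this.trans (rho_mul f).symm)
  · set a := (MvPolynomial.X 0 : P3)
    set b := (MvPolynomial.X 1 : P3)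
    set c := (MvPolynomial.X 2 : P3)
    have h1 := apply_rho f b c
    have h2 := apply_rho f a (b + c)
    have h3 := apply_rho f (a + b) c
    have h4 := apply_rho f a b
    rw [← add_assoc] at h2
    refine ((hu (a + b + c)).mul (hu (b + c))).mul_right_cancel ?_
    refine ((hu (a + b))).mul_right_cancel ?_
    linear_combination
      (MvPolynomial.aeval ![a, b + c] (rho f : P2) * Polynomial.aeval (a + b + c) (f : Polynomial R)
        * Polynomial.aeval (a + b) (f : Polynomial R)) * h1 +
      (Polynomial.aeval b (f : Polynomial R) * Polynomial.aeval c (f : Polynomial R)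
        * Polynomial.aeval (a + b) (f : Polynomial R)) * h2 -
      (MvPolynomial.aeval ![a + b, c] (rho f : P2) * Polynomial.aeval (a + b + c) (f : Polynomial R)
        * Polynomial.aeval (b + c) (f : Polynomial R)) * h4 -
      (Polynomial.aeval a (f : Polynomial R) * Polynomial.aeval b (f : Polynomial R)
        * Polynomial.aeval (b + c) (f : Polynomial R)) * h3

end rho

section expansion

/-- The exponent of `X ^ i * Y ^ j`. -/
noncomputable def e2 (i j : ℕ) : Fin 2 →₀ ℕ := Finsupp.single 0 i + Finsupp.single 1 j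

/-- The exponent of `X ^ i * Y ^ j * Z ^ l`. -/
noncomputable def e3 (i j l : ℕ) : Fin 3 →₀ ℕ :=
  Finsupp.single 0 i + Finsupp.single 1 j + Finsupp.single 2 l

theorem e2_eq (m : Fin 2 →₀ ℕ) : m = e2 (m 0) (m 1) := by
  ext i
  fin_cases i <;> simp [e2]

omit hp [CharP R p] in
theorem mon2 (c : R) (i j : ℕ) :
    MvPolynomial.monomial (e2 i j) c = MvPolynomial.C c * x₀ ^ i * x₁ ^ j := by
  rw [MvPolynomial.X_pow_eq_monomial, MvPolynomial.X_pow_eq_monomial, mul_assoc,
    MvPolynomial.monomial_mul, MvPolynomial.C_mul_monomial, e2]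
  simp

omit hp [CharP R p] in
theorem mon3 (c : R) (i j l : ℕ) :
    MvPolynomial.monomial (e3 i j l) c =
      MvPolynomial.C c * (MvPolynomial.X 0 : P3) ^ i * (MvPolynomial.X 1 : P3) ^ j *
        (MvPolynomial.X 2 : P3) ^ l := by
  rw [MvPolynomial.X_pow_eq_monomial, MvPolynomial.X_pow_eq_monomial,
    MvPolynomial.X_pow_eq_monomial, MvPolynomial.C_mul_monomial, MvPolynomial.monomial_mul,
    MvPolynomial.monomial_mul, e3]
  simp

theorem e3_inj {i j l i' j' l' : ℕ} : e3 i j l = e3 i' j' l' ↔ i = i' ∧ j = j' ∧ l = l' := by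
  refine ⟨fun h => ⟨?_, ?_, ?_⟩, by rintro ⟨rfl, rfl, rfl⟩; rfl⟩
  · simpa [e3] using DFunLike.congr_fun h 0
  · simpa [e3] using DFunLike.congr_fun h 1
  · simpa [e3] using DFunLike.congr_fun h 2

theorem e2_inj {i j i' j' : ℕ} : e2 i j = e2 i' j' ↔ i = i' ∧ j = j' := by
  refine ⟨fun h => ⟨?_, ?_⟩, by rintro ⟨rfl, rfl⟩; rfl⟩
  · simpa [e2] using DFunLike.congr_fun h 0
  · simpa [e2] using DFunLike.congr_fun h 1

omit hp [CharP R p] in
theorem coeff_left (g : P2) (i j l : ℕ) :
    (MvPolynomial.aeval ![(MvPolynomial.X 0 : P3) + MvPolynomial.X 1, MvPolynomial.X 2] g).coeff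
      (e3 i j l) = ((i + j).choose i : R) * g.coeff (e2 (i + j) l) := by
  classical
  induction g using MvPolynomial.induction_on' with
  | add a b ha hb => simp only [map_add, MvPolynomial.coeff_add, ha, hb, mul_add]
  | monomial m c =>
    rw [e2_eq m]
    generalize m 0 = M
    generalize m 1 = L
    have h : MvPolynomial.aeval ![(MvPolynomial.X 0 : P3) + MvPolynomial.X 1, MvPolynomial.X 2]
        (MvPolynomial.monomial (e2 M L) c) = ∑ r ∈ Finset.range (M + 1),
          MvPolynomial.monomial (e3 r (M - r) L) (c * (M.choose r : R)) := by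
      rw [mon2, map_mul, map_mul, MvPolynomial.aeval_C, map_pow, map_pow, MvPolynomial.aeval_X,
        MvPolynomial.aeval_X]
      show MvPolynomial.C c * ((MvPolynomial.X 0 : P3) + MvPolynomial.X 1) ^ M *
        (MvPolynomial.X 2 : P3) ^ L = _
      rw [add_pow, Finset.mul_sum, Finset.sum_mul]
      refine Finset.sum_congr rfl fun r _ => ?_
      rw [mon3, map_mul, map_natCast]
      ring
    rw [h, MvPolynomial.coeff_sum, MvPolynomial.coeff_monomial]
    simp only [MvPolynomial.coeff_monomial, e3_inj, e2_inj]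
    by_cases hM : M = i + j ∧ L = l
    · obtain ⟨rfl, rfl⟩ := hM
      rw [Finset.sum_eq_single i, if_pos ⟨rfl, by omega, rfl⟩, if_pos ⟨rfl, rfl⟩]
      · ring
      · intro r _ hr
        rw [if_neg fun h => hr h.1]
      · intro hi
        simp at hi
    · rw [if_neg hM, mul_zero, Finset.sum_eq_zero]
      intro r hr
      rw [if_neg]
      rintro ⟨rfl, h2, h3⟩
      exact hM ⟨by simp at hr; omega, h3⟩

omit hp [CharP R p] in
theorem coeff_right (g : P2) (i j l : ℕ) :
    (MvPolynomial.aeval ![(MvPolynomial.X 0 : P3), MvPolynomial.X 1 + MvPolynomial.X 2] g).coeff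
      (e3 i j l) = ((j + l).choose j : R) * g.coeff (e2 i (j + l)) := by
  classical
  induction g using MvPolynomial.induction_on' with
  | add a b ha hb => simp only [map_add, MvPolynomial.coeff_add, ha, hb, mul_add]
  | monomial m c =>
    rw [e2_eq m]
    generalize m 0 = M
    generalize m 1 = L
    have h : MvPolynomial.aeval ![(MvPolynomial.X 0 : P3), MvPolynomial.X 1 + MvPolynomial.X 2]
        (MvPolynomial.monomial (e2 M L) c) = ∑ r ∈ Finset.range (L + 1),
          MvPolynomial.monomial (e3 M r (L - r)) (c * (L.choose r : R)) := by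
      rw [mon2, map_mul, map_mul, MvPolynomial.aeval_C, map_pow, map_pow, MvPolynomial.aeval_X,
        MvPolynomial.aeval_X]
      show MvPolynomial.C c * (MvPolynomial.X 0 : P3) ^ M *
        ((MvPolynomial.X 1 : P3) + MvPolynomial.X 2) ^ L = _
      rw [add_pow, Finset.mul_sum]
      refine Finset.sum_congr rfl fun r _ => ?_
      rw [mon3, map_mul, map_natCast]
      ring
    rw [h, MvPolynomial.coeff_sum, MvPolynomial.coeff_monomial]
    simp only [MvPolynomial.coeff_monomial, e3_inj, e2_inj]
    by_cases hM : M = i ∧ L = j + l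
    · obtain ⟨rfl, rfl⟩ := hM
      rw [Finset.sum_eq_single j, if_pos ⟨rfl, rfl, by omega⟩, if_pos ⟨rfl, rfl⟩]
      · ring
      · intro r _ hr
        rw [if_neg fun h => hr h.2.1]
      · intro hj
        simp at hj
    · rw [if_neg hM, mul_zero, Finset.sum_eq_zero]
      intro r hr
      rw [if_neg]
      rintro ⟨rfl, rfl, h3⟩
      exact hM ⟨rfl, by simp at hr; omega⟩

omit hp [CharP R p] in
theorem coeff_face (g : P2) (i j l : ℕ) :
    (0 < i → (MvPolynomial.aeval ![(MvPolynomial.X 1 : P3), MvPolynomial.X 2] g).coeff (e3 i j l) = 0) ∧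
    (0 < l → (MvPolynomial.aeval ![(MvPolynomial.X 0 : P3), MvPolynomial.X 1] g).coeff (e3 i j l) = 0) := by
  classical
  induction g using MvPolynomial.induction_on' with
  | add a b ha hb =>
    exact ⟨fun h => by rw [map_add, MvPolynomial.coeff_add, ha.1 h, hb.1 h, add_zero],
      fun h => by rw [map_add, MvPolynomial.coeff_add, ha.2 h, hb.2 h, add_zero]⟩
  | monomial m c =>
    rw [e2_eq m]
    generalize m 0 = M
    generalize m 1 = L
    constructor <;> intro hpos
    · have h : MvPolynomial.aeval ![(MvPolynomial.X 1 : P3), MvPolynomial.X 2]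
          (MvPolynomial.monomial (e2 M L) c) = MvPolynomial.monomial (e3 0 M L) c := by
        rw [mon2, mon3, map_mul, map_mul, MvPolynomial.aeval_C, map_pow, map_pow,
          MvPolynomial.aeval_X, MvPolynomial.aeval_X, pow_zero, mul_one]
        rfl
      rw [h, MvPolynomial.coeff_monomial, if_neg]
      rw [e3_inj]
      omega
    · have h : MvPolynomial.aeval ![(MvPolynomial.X 0 : P3), MvPolynomial.X 1]
          (MvPolynomial.monomial (e2 M L) c) = MvPolynomial.monomial (e3 M L 0) c := by
        rw [mon2, mon3, map_mul, map_mul, MvPolynomial.aeval_C, map_pow, map_pow,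
          MvPolynomial.aeval_X, MvPolynomial.aeval_X, pow_zero, mul_one]
        rfl
      rw [h, MvPolynomial.coeff_monomial, if_neg]
      rw [e3_inj]
      omega

omit hp [CharP R p] in
theorem coeff_swap (g : P2) (i j : ℕ) :
    (MvPolynomial.aeval ![x₁, x₀] g).coeff (e2 i j) = g.coeff (e2 j i) := by
  classical
  induction g using MvPolynomial.induction_on' with
  | add a b ha hb => simp only [map_add, MvPolynomial.coeff_add, ha, hb]
  | monomial m c =>
    rw [e2_eq m]
    generalize m 0 = M
    generalize m 1 = L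
    have h : MvPolynomial.aeval ![x₁, x₀] (MvPolynomial.monomial (e2 M L) c) =
        MvPolynomial.monomial (e2 L M) c := by
      rw [mon2, mon2, map_mul, map_mul, MvPolynomial.aeval_C, map_pow, map_pow,
        MvPolynomial.aeval_X, MvPolynomial.aeval_X]
      show MvPolynomial.C c * x₁ ^ M * x₀ ^ L = _
      ring
    rw [h, MvPolynomial.coeff_monomial, MvPolynomial.coeff_monomial]
    simp only [e2_inj, and_comm]

omit hp [CharP R p] in
theorem coeff_axis (g : P2) (i : ℕ) :
    (MvPolynomial.aeval ![x₀, 0] g).coeff (e2 i 0) = g.coeff (e2 i 0) := by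
  classical
  induction g using MvPolynomial.induction_on' with
  | add a b ha hb => simp only [map_add, MvPolynomial.coeff_add, ha, hb]
  | monomial m c =>
    rw [e2_eq m]
    generalize m 0 = M
    generalize m 1 = L
    rcases Nat.eq_zero_or_pos L with rfl | hL
    · have h : MvPolynomial.aeval ![x₀, 0] (MvPolynomial.monomial (e2 M 0) c) =
          MvPolynomial.monomial (e2 M 0) c := by
        rw [mon2, map_mul, map_mul, MvPolynomial.aeval_C, map_pow, map_pow,
          MvPolynomial.aeval_X, MvPolynomial.aeval_X, pow_zero, pow_zero]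
        rfl
      rw [h]
    · have h : MvPolynomial.aeval ![x₀, 0] (MvPolynomial.monomial (e2 M L) c) = 0 := by
        rw [mon2, map_mul, map_pow _ x₁, MvPolynomial.aeval_X]
        show _ * (0 : P2) ^ L = 0
        rw [zero_pow hL.ne', mul_zero]
      rw [h, MvPolynomial.coeff_zero, MvPolynomial.coeff_monomial, if_neg]
      rw [e2_inj]
      omega

omit hp [CharP R p] in
theorem decompose (g : P2) (h₀ : ∀ i, g.coeff (e2 i 0) = 0) (h₁ : ∀ j, g.coeff (e2 0 j) = 0) :
    g = ∑ n ∈ Finset.range (g.totalDegree + 1), ∑ i ∈ Finset.Ioo 0 n,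
      MvPolynomial.C (g.coeff (e2 i (n - i))) * x₀ ^ i * x₁ ^ (n - i) := by
  classical
  refine MvPolynomial.ext _ _ fun m => ?_
  rw [e2_eq m]
  generalize m 0 = M
  generalize m 1 = L
  simp only [MvPolynomial.coeff_sum, ← mon2, MvPolynomial.coeff_monomial, e2_inj]
  by_cases hz : g.coeff (e2 M L) = 0
  · rw [hz, eq_comm]
    refine Finset.sum_eq_zero fun n _ => Finset.sum_eq_zero fun i _ => ?_
    split
    · rename_i h; rw [h.2, h.1, hz]
    · rfl
  have hM : 0 < M := Nat.pos_of_ne_zero fun h => hz (h ▸ h₁ L)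
  have hL : 0 < L := Nat.pos_of_ne_zero fun h => hz (h ▸ h₀ M)
  have hdeg : M + L ≤ g.totalDegree := by
    have := MvPolynomial.le_totalDegree (MvPolynomial.mem_support_iff.2 hz)
    rw [Finsupp.sum_fintype _ _ fun _ => rfl, Fin.sum_univ_two] at this
    simpa [e2] using this
  rw [Finset.sum_eq_single (M + L), Finset.sum_eq_single M,
    if_pos ⟨rfl, by omega⟩, show M + L - M = L by omega]
  · intro i _ hi; rw [if_neg fun h => hi h.1]
  · intro h; simp at h; omega
  · intro n _ hn
    refine Finset.sum_eq_zero fun i hi => ?_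
    rw [if_neg]
    simp at hi
    omega
  · intro h; simp at h; omega

end expansion

section step

omit hp [CharP R p] in
theorem isNilpotent_of_mem_map_C {σ : Type} {J : Ideal R} (hJ : J ≤ nilradical R)
    {x : MvPolynomial σ R} (hx : x ∈ J.map MvPolynomial.C) : IsNilpotent x :=
  MvPolynomial.isNilpotent_iff.2 fun i => mem_nilradical.1 (hJ (MvPolynomial.mem_map_C_iff.1 hx i))

variable {J K : Ideal R}

/-- `x` is, modulo `K`, of the form `rho f - 1`. -/
def Achievable (J K : Ideal R) (x : P2) : Prop :=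
  x ∈ J.map MvPolynomial.C ∧
    ∃ f : (Polynomial R)ˣ, (f : Polynomial R).coeff 0 = 1 ∧
      (rho f : P2) - 1 - x ∈ K.map MvPolynomial.C

omit hp [CharP R p] in
theorem achievable_zero : Achievable J K (0 : P2) :=
  ⟨Ideal.zero_mem _, 1, by simp, by simp⟩

omit hp [CharP R p] in
theorem achievable_of_sub_mem (hKJ : K ≤ J) {x y : P2} (h : Achievable J K x)
    (hxy : y - x ∈ K.map MvPolynomial.C) : Achievable J K y := by
  obtain ⟨hx, f, hf0, hf⟩ := h
  refine ⟨?_, f, hf0, ?_⟩
  · have := Ideal.add_mem _ (Ideal.map_mono hKJ hxy) hx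
    rwa [sub_add_cancel] at this
  · have e : (rho f : P2) - 1 - y = ((rho f : P2) - 1 - x) - (y - x) := by ring
    rw [e]
    exact Ideal.sub_mem _ hf hxy

omit hp [CharP R p] in
theorem achievable_add (hKJ : K ≤ J) (hJK : J * J ≤ K) {x y : P2} (hx : Achievable J K x)
    (hy : Achievable J K y) : Achievable J K (x + y) := by
  obtain ⟨hxJ, f, hf0, hf⟩ := hx
  obtain ⟨hyJ, f', hf0', hf'⟩ := hy
  refine ⟨Ideal.add_mem _ hxJ hyJ, f * f', ?_, ?_⟩
  · rw [Units.val_mul, Polynomial.mul_coeff_zero, hf0, hf0', one_mul]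
  have hmulK : ∀ a ∈ J.map MvPolynomial.C, ∀ b ∈ J.map MvPolynomial.C,
      a * b ∈ K.map (MvPolynomial.C : R →+* P2) := fun a ha b hb =>
    Ideal.map_mono hJK (by rw [Ideal.map_mul]; exact Ideal.mul_mem_mul ha hb)
  have h1 : (rho f : P2) - 1 ∈ J.map MvPolynomial.C := by
    have := Ideal.add_mem _ (Ideal.map_mono hKJ hf) hxJ
    rwa [sub_add_cancel] at this
  have h2 : (rho f' : P2) - 1 ∈ J.map MvPolynomial.C := by
    have := Ideal.add_mem _ (Ideal.map_mono hKJ hf') hyJ
    rwa [sub_add_cancel] at this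
  have e : (rho (f * f') : P2) - 1 - (x + y) = ((rho f : P2) - 1) * ((rho f' : P2) - 1) +
      (((rho f : P2) - 1 - x) + ((rho f' : P2) - 1 - y)) := by
    rw [map_mul, Units.val_mul]
    ring
  rw [e]
  exact Ideal.add_mem _ (hmulK _ h1 _ h2) (Ideal.add_mem _ hf hf')

omit hp [CharP R p] in
theorem achievable_sum (hKJ : K ≤ J) (hJK : J * J ≤ K) {ι : Type*} (s : Finset ι) (x : ι → P2)
    (h : ∀ i ∈ s, Achievable J K (x i)) : Achievable J K (∑ i ∈ s, x i) := by
  classical
  induction s using Finset.induction with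
  | empty => exact achievable_zero
  | insert a s ha ih =>
    rw [Finset.sum_insert ha]
    exact achievable_add hKJ hJK (h a (Finset.mem_insert_self _ _))
      (ih fun i hi => h i (Finset.mem_insert_of_mem hi))

omit hp [CharP R p] in
/-- The general criterion: `f` close to `1` modulo `L`, and `L * x ⊆ K`. -/
theorem achievable_of_unit {L : Ideal R} (f : Polynomial R) (hf : IsUnit f) (hf0 : f.coeff 0 = 1)
    (hfL : Polynomial.aeval (x₀ + x₁) f - 1 ∈ L.map MvPolynomial.C) {x : P2}
    (hx : x ∈ J.map MvPolynomial.C) (hLJ : L * J ≤ K)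
    (h : Polynomial.aeval x₀ f * Polynomial.aeval x₁ f - Polynomial.aeval (x₀ + x₁) f - x ∈
      K.map MvPolynomial.C) : Achievable J K x := by
  refine ⟨hx, hf.unit, by simpa using hf0, ?_⟩
  have hu : IsUnit (Polynomial.aeval (x₀ + x₁) f) := hf.map _
  have h1 := rho_mul hf.unit
  rw [IsUnit.unit_spec] at h1
  have e : ((rho hf.unit : P2) - 1 - x) * Polynomial.aeval (x₀ + x₁) f =
      (Polynomial.aeval x₀ f * Polynomial.aeval x₁ f - Polynomial.aeval (x₀ + x₁) f - x) -
        (Polynomial.aeval (x₀ + x₁) f - 1) * x := by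
    linear_combination h1
  have h2 : ((rho hf.unit : P2) - 1 - x) * Polynomial.aeval (x₀ + x₁) f ∈
      K.map MvPolynomial.C := by
    rw [e]
    refine Ideal.sub_mem _ h ?_
    exact Ideal.map_mono hLJ (by rw [Ideal.map_mul]; exact Ideal.mul_mem_mul hfL hx)
  have h3 := Ideal.mul_mem_right (↑hu.unit⁻¹ : P2) _ h2
  rwa [mul_assoc, IsUnit.mul_val_inv, mul_one] at h3

omit hp [CharP R p] in
/-- Coboundaries. -/
theorem achievable_coboundary (hJ : J ≤ nilradical R) (hJK : J * J ≤ K) {c : R} (hc : c ∈ J)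
    {n : ℕ} (hn : 0 < n) :
    Achievable J K (∑ i ∈ Finset.Ioo 0 n,
      MvPolynomial.C ((n.choose i : R) * c) * x₀ ^ i * x₁ ^ (n - i)) := by
  set f : Polynomial R := 1 - Polynomial.C c * Polynomial.X ^ n with hf
  have hcn : IsNilpotent (Polynomial.C c * Polynomial.X ^ n) :=
    (Commute.all _ _).isNilpotent_mul_right ((mem_nilradical.1 (hJ hc)).map Polynomial.C)
  have hCmem : ∀ (d : R), d ∈ J → MvPolynomial.C d ∈ J.map (MvPolynomial.C : R →+* P2) :=
    fun d hd => Ideal.mem_map_of_mem _ hd
  refine achievable_of_unit (L := J) f hcn.isUnit_one_sub ?_ ?_ ?_ hJK ?_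
  · simp [hf, Polynomial.coeff_X_pow, hn.ne]
  · simp only [hf, map_sub, map_one, map_mul, Polynomial.aeval_C, map_pow, Polynomial.aeval_X,
      sub_sub_cancel_left]
    exact neg_mem (Ideal.mul_mem_right _ _ (hCmem c hc))
  · exact Ideal.sum_mem _ fun i _ => Ideal.mul_mem_right _ _
      (Ideal.mul_mem_right _ _ (hCmem _ (J.mul_mem_left _ hc)))
  · simp only [hf, map_sub, map_one, map_mul, Polynomial.aeval_C, map_pow, Polynomial.aeval_X,
      MvPolynomial.algebraMap_eq, map_natCast]
    have hbin : (x₀ + x₁) ^ n = x₀ ^ n + x₁ ^ n +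
        ∑ i ∈ Finset.Ioo 0 n, x₀ ^ i * x₁ ^ (n - i) * (n.choose i : P2) := by
      rw [add_pow, Finset.sum_range_succ]
      simp only [Nat.sub_self, pow_zero, Nat.choose_self, Nat.cast_one, mul_one]
      rw [show Finset.range n = insert 0 (Finset.Ioo 0 n) by
        ext k; simp; omega, Finset.sum_insert (by simp)]
      simp only [pow_zero, Nat.sub_zero, Nat.choose_zero_right, Nat.cast_one, mul_one, one_mul]
      ring
    have e : (1 - MvPolynomial.C c * x₀ ^ n) * (1 - MvPolynomial.C c * x₁ ^ n) -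
        (1 - MvPolynomial.C c * (x₀ + x₁) ^ n) -
        ∑ i ∈ Finset.Ioo 0 n, (n.choose i : P2) * MvPolynomial.C c * x₀ ^ i * x₁ ^ (n - i) =
        MvPolynomial.C c * MvPolynomial.C c * (x₀ ^ n * x₁ ^ n) := by
      rw [hbin]
      simp only [mul_add, Finset.mul_sum]
      have : ∀ i ∈ Finset.Ioo 0 n,
          MvPolynomial.C c * (x₀ ^ i * x₁ ^ (n - i) * (n.choose i : P2)) =
            (n.choose i : P2) * MvPolynomial.C c * x₀ ^ i * x₁ ^ (n - i) := fun i _ => by ring
      rw [Finset.sum_congr rfl this]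
      ring
    rw [e, ← map_mul]
    exact Ideal.mul_mem_right _ _ (Ideal.mem_map_of_mem _ (hJK (Ideal.mul_mem_mul hc hc)))

/-- Inverses of `i !` for `i < p`. -/
theorem exists_weights : ∃ w : ℕ → R, w 0 = 1 ∧ ∀ i, i < p → (i.factorial : R) * w i = 1 := by
  have : ∀ i, ∃ y : R, i < p → (i.factorial : R) * y = 1 := fun i => by
    by_cases h : i < p
    · obtain ⟨y, hy⟩ := exists_inv (R := R) (CharP.cast_eq_zero R p)
        (C := i.factorial) (fun hd => absurd (hp.out.dvd_factorial.1 hd) (by omega))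
      exact ⟨y, fun _ => hy⟩
    · exact ⟨0, fun c => absurd c h⟩
  choose y hy using this
  refine ⟨y, ?_, hy⟩
  have := hy 0 hp.out.pos
  simpa using this

omit hp [CharP R p] in
/-- The product of two truncated exponentials. -/
theorem sum_mul_sum_eq (w : ℕ → R) (hw : ∀ i, i < p → (i.factorial : R) * w i = 1) (U V : P2) :
    (∑ i ∈ Finset.range p, MvPolynomial.C (w i) * U ^ i) *
        (∑ j ∈ Finset.range p, MvPolynomial.C (w j) * V ^ j) -
      ∑ n ∈ Finset.range p, MvPolynomial.C (w n) * (U + V) ^ n =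
    ∑ x ∈ (Finset.range p ×ˢ Finset.range p).filter (fun x => p ≤ x.1 + x.2),
      MvPolynomial.C (w x.1 * w x.2) * (U ^ x.1 * V ^ x.2) := by
  classical
  set F : ℕ × ℕ → P2 := fun x => MvPolynomial.C (w x.1 * w x.2) * (U ^ x.1 * V ^ x.2)
  have h1 : (∑ i ∈ Finset.range p, MvPolynomial.C (w i) * U ^ i) *
      (∑ j ∈ Finset.range p, MvPolynomial.C (w j) * V ^ j) =
      ∑ x ∈ Finset.range p ×ˢ Finset.range p, F x := by
    rw [Finset.sum_mul_sum, Finset.sum_product]
    refine Finset.sum_congr rfl fun i _ => Finset.sum_congr rfl fun j _ => ?_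
    simp only [F, map_mul]
    ring
  have h2 : ∑ n ∈ Finset.range p, MvPolynomial.C (w n) * (U + V) ^ n =
      ∑ x ∈ (Finset.range p ×ˢ Finset.range p).filter (fun x => ¬ p ≤ x.1 + x.2), F x := by
    rw [← Finset.sum_fiberwise_of_maps_to (s := (Finset.range p ×ˢ Finset.range p).filter
      (fun x => ¬ p ≤ x.1 + x.2)) (t := Finset.range p) (g := fun x => x.1 + x.2)
      (fun x hx => by
        simp only [Finset.mem_filter, not_le] at hx
        exact Finset.mem_range.2 hx.2)]
    refine Finset.sum_congr rfl fun n hn => ?_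
    rw [Finset.mem_range] at hn
    rw [add_pow, Finset.mul_sum]
    refine Finset.sum_nbij' (fun m => (m, n - m)) (fun x => x.1) ?_ ?_ ?_ ?_ ?_
    · intro m hm; simp only [Finset.mem_range] at hm; simp; omega
    · intro x hx; simp at hx; simp; omega
    · intro m _; rfl
    · intro x hx; simp at hx; ext <;> simp; omega
    · intro m hm
      simp only [Finset.mem_range] at hm
      have hc : (n.choose m : R) * ((m.factorial : R) * ((n - m).factorial : R)) =
          (n.factorial : R) := by
        rw [← Nat.cast_mul, ← Nat.cast_mul, ← mul_assoc,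
          Nat.choose_mul_factorial_mul_factorial (by omega)]
      have e : w m * w (n - m) = w n * (n.choose m : R) := by
        calc w m * w (n - m) = w n * (n.factorial : R) * (w m * w (n - m)) := by
              rw [mul_comm (w n), hw n hn, one_mul]
          _ = w n * (n.choose m : R) * (((m.factorial : R) * w m) *
                (((n - m).factorial : R) * w (n - m))) := by rw [← hc]; ring
          _ = w n * (n.choose m : R) := by rw [hw m (by omega), hw _ (by omega)]; ring
      have e' := congrArg (MvPolynomial.C : R →+* P2) e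
      simp only [map_mul, map_natCast] at e'
      simp only [F, map_mul]
      linear_combination (-(U ^ m * V ^ (n - m))) * e' 
  rw [h1, h2, ← Finset.sum_filter_add_sum_filter_not (Finset.range p ×ˢ Finset.range p)
    (fun x => p ≤ x.1 + x.2) F, add_sub_cancel_right]

/-- Witt's cocycle. -/
theorem achievable_witt {M : Ideal R} (hM : M ≤ nilradical R) {b : R} (hb : b ∈ M)
    (hbJ : b ^ p ∈ J) (hMJ : M * J ≤ K) (hbK : b ^ (p + 1) ∈ K) (t : ℕ) (w : ℕ → R)
    (hw0 : w 0 = 1) (hw : ∀ i, i < p → (i.factorial : R) * w i = 1) :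
    Achievable J K (∑ m ∈ Finset.Ico 1 p, MvPolynomial.C (b ^ p * (w m * w (p - m))) *
      x₀ ^ (m * p ^ t) * x₁ ^ (p ^ (t + 1) - m * p ^ t)) := by
  classical
  set z : Polynomial R := Polynomial.C b * Polynomial.X ^ (p ^ t) with hz
  set f : Polynomial R := ∑ i ∈ Finset.range p, Polynomial.C (w i) * z ^ i with hf
  have hzn : IsNilpotent z :=
    (Commute.all _ _).isNilpotent_mul_right ((mem_nilradical.1 (hM hb)).map Polynomial.C)
  have hr : Finset.range p = insert 0 (Finset.Ico 1 p) := by
    ext k; simp; have := hp.out.pos; omega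
  have hf1 : f = 1 + ∑ i ∈ Finset.Ico 1 p, Polynomial.C (w i) * z ^ i := by
    rw [hf, hr, Finset.sum_insert (by simp), hw0, map_one, pow_zero, one_mul]
  have hfn : IsNilpotent (∑ i ∈ Finset.Ico 1 p, Polynomial.C (w i) * z ^ i) :=
    isNilpotent_sum fun i hi =>
      (Commute.all _ _).isNilpotent_mul_left (hzn.pow_of_pos (by simp at hi; omega))
  have hev : ∀ a : P2, Polynomial.aeval a f =
      ∑ i ∈ Finset.range p, MvPolynomial.C (w i) * (MvPolynomial.C b * a ^ (p ^ t)) ^ i := by
    intro a
    simp only [hf, hz, map_sum, map_mul, map_pow, Polynomial.aeval_C, Polynomial.aeval_X,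
      MvPolynomial.algebraMap_eq]
  refine achievable_of_unit (L := M) f (hf1 ▸ hfn.isUnit_one_add) ?_ ?_ ?_ hMJ ?_
  · rw [hf1, Polynomial.coeff_add, Polynomial.coeff_one_zero, Polynomial.finsetSum_coeff,
      Finset.sum_eq_zero, add_zero]
    intro i hi
    rw [hz, Polynomial.mul_coeff_zero]
    have : (Polynomial.C b * Polynomial.X ^ (p ^ t) : Polynomial R).coeff 0 ^ i = 0 := by
      rw [Polynomial.mul_coeff_zero, Polynomial.coeff_X_pow,
        if_neg (pow_pos hp.out.pos t).ne, mul_zero, zero_pow (by simp at hi; omega)]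
    rw [← Polynomial.constantCoeff_apply ((_ : Polynomial R) ^ i), map_pow,
      Polynomial.constantCoeff_apply, this, mul_zero]
  · rw [hf1, map_add, map_one, add_sub_cancel_left, map_sum]
    refine Ideal.sum_mem _ fun i hi => ?_
    simp only [hz, map_mul, map_pow, Polynomial.aeval_C, MvPolynomial.algebraMap_eq,
      Polynomial.aeval_X, mul_pow]
    refine Ideal.mul_mem_left _ _ (Ideal.mul_mem_right _ _ ?_)
    exact Ideal.pow_mem_of_mem _ (Ideal.mem_map_of_mem _ hb) i (by simp at hi; omega)
  · exact Ideal.sum_mem _ fun i _ => Ideal.mul_mem_right _ _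
      (Ideal.mul_mem_right _ _ (Ideal.mem_map_of_mem _ (J.mul_mem_right _ hbJ)))
  · rw [hev, hev, hev, add_pow_char_pow, mul_add, sum_mul_sum_eq w hw]
    set S := (Finset.range p ×ˢ Finset.range p).filter (fun x => p ≤ x.1 + x.2) with hS
    rw [← Finset.sum_filter_add_sum_filter_not S (fun x => x.1 + x.2 = p)]
    have hmain : ∑ x ∈ S.filter (fun x => x.1 + x.2 = p),
        MvPolynomial.C (w x.1 * w x.2) *
          ((MvPolynomial.C b * x₀ ^ (p ^ t)) ^ x.1 * (MvPolynomial.C b * x₁ ^ (p ^ t)) ^ x.2) =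
        ∑ m ∈ Finset.Ico 1 p, MvPolynomial.C (b ^ p * (w m * w (p - m))) *
          x₀ ^ (m * p ^ t) * x₁ ^ (p ^ (t + 1) - m * p ^ t) := by
      symm
      refine Finset.sum_nbij' (fun m => (m, p - m)) (fun x => x.1) ?_ ?_ ?_ ?_ ?_
      · intro m hm; simp at hm; simp [hS]; omega
      · intro x hx; simp [hS] at hx; simp; omega
      · intro m _; rfl
      · intro x hx; simp [hS] at hx; ext <;> simp; omega
      · intro m hm
        simp only [Finset.mem_Ico] at hm
        have e : p ^ (t + 1) - m * p ^ t = (p - m) * p ^ t := by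
          rw [Nat.sub_mul, pow_succ']
        have eb : b ^ p = b ^ m * b ^ (p - m) := by rw [← pow_add, Nat.add_sub_cancel' hm.2.le]
        rw [e, eb]
        simp only [map_mul, map_pow, mul_pow, ← pow_mul]
        ring
    rw [hmain, add_sub_cancel_left]
    refine Ideal.sum_mem _ fun x hx => ?_
    simp only [hS, Finset.mem_filter, Finset.mem_product, Finset.mem_range] at hx
    refine Ideal.mul_mem_left _ _ ?_
    rw [mul_pow, mul_pow, mul_mul_mul_comm, ← pow_add]
    refine Ideal.mul_mem_right _ _ ?_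
    rw [show x.1 + x.2 = p + 1 + (x.1 + x.2 - (p + 1)) by omega, pow_add, ← map_pow]
    exact Ideal.mul_mem_right _ _ (Ideal.mem_map_of_mem _ hbK)

/-- One step of the approximation. -/
theorem step (M J₀ : Ideal R) (hM : M ≤ nilradical R) (hJ₀ : J₀ ≤ J) (hJn : J ≤ nilradical R)
    (hroot : ∀ κ ∈ J₀, ∃ b ∈ M, b ^ p = κ)
    (hKJ : K ≤ J) (hJK : J * J ≤ K) (hMJK : M * J ≤ K) (hpow : ∀ b ∈ M, b ^ (p + 1) ∈ K)
    (h : P2) (hc : Cocycle h) (hh₀ : h - 1 ∈ J₀.map MvPolynomial.C) :
    ∃ f : (Polynomial R)ˣ, (f : Polynomial R).coeff 0 = 1 ∧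
      h * (rho f : P2) - 1 ∈ K.map MvPolynomial.C := by
  classical
  have hp0 : (p : R) = 0 := CharP.cast_eq_zero R p
  have hh : h - 1 ∈ J.map MvPolynomial.C := Ideal.map_mono hJ₀ hh₀
  obtain ⟨w, hw0, hw⟩ := exists_weights (p := p) (R := R)
  set g : P2 := h - 1 with hg
  have he : ∀ i j, 0 < i + j → e2 i j ≠ 0 := by
    intro i j hij he
    have h0 : e2 i j = e2 0 0 := by rw [he]; simp [e2]
    rw [e2_inj] at h0
    omega
  have hgJ₀ : ∀ i j, g.coeff (e2 i j) ∈ J₀ := fun i j => MvPolynomial.mem_map_C_iff.1 hh₀ _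
  have hg0 : ∀ i, g.coeff (e2 i 0) = 0 := by
    intro i
    rw [← coeff_axis g i, hg, map_sub, map_one, hc.right, sub_self, MvPolynomial.coeff_zero]
  have hgs : ∀ i j, g.coeff (e2 i j) = g.coeff (e2 j i) := by
    intro i j
    rw [← coeff_swap g i j, hg, map_sub, map_one, hc.symm]
  have hlin : ∀ i j l, 0 < i → 0 < j → 0 < l →
      ((i + j).choose i : R) * g.coeff (e2 (i + j) l) -
        ((j + l).choose j : R) * g.coeff (e2 i (j + l)) ∈ K := by
    intro i j l hi hj hl
    have hm : ∀ v : Fin 2 → P3, MvPolynomial.aeval v g ∈ J.map MvPolynomial.C := by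
      intro v
      have hv : J.map (MvPolynomial.C : R →+* P2) ≤
          (J.map (MvPolynomial.C : R →+* P3)).comap (MvPolynomial.aeval v).toRingHom := by
        rw [Ideal.map_le_iff_le_comap]
        intro c hc'
        show MvPolynomial.aeval v (MvPolynomial.C c) ∈ J.map (MvPolynomial.C : R →+* P3)
        rw [MvPolynomial.aeval_C]
        exact Ideal.mem_map_of_mem _ hc'
      exact hv hh
    have hcoc := hc.coc
    rw [show h = 1 + g by rw [hg]; ring] at hcoc
    simp only [map_add, map_one] at hcoc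
    set A := MvPolynomial.aeval ![(MvPolynomial.X 1 : P3), MvPolynomial.X 2] g
    set B := MvPolynomial.aeval ![MvPolynomial.X 0, (MvPolynomial.X 1 : P3) + MvPolynomial.X 2] g
    set C' := MvPolynomial.aeval ![(MvPolynomial.X 0 : P3) + MvPolynomial.X 1, MvPolynomial.X 2] g
    set D := MvPolynomial.aeval ![(MvPolynomial.X 0 : P3), MvPolynomial.X 1] g
    have hK2 : (C' + D) - (A + B) ∈ K.map MvPolynomial.C := by
      have e : (C' + D) - (A + B) = A * B - C' * D := by linear_combination -hcoc
      rw [e]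
      refine Ideal.map_mono hJK ?_
      rw [Ideal.map_mul]
      exact Ideal.sub_mem _ (Ideal.mul_mem_mul (hm _) (hm _)) (Ideal.mul_mem_mul (hm _) (hm _))
    have := MvPolynomial.mem_map_C_iff.1 hK2 (e3 i j l)
    simp only [MvPolynomial.coeff_sub, MvPolynomial.coeff_add] at this
    rwa [coeff_left, coeff_right, (coeff_face g i j l).1 hi, (coeff_face g i j l).2 hl, add_zero,
      zero_add] at this
  -- every homogeneous part is achievable up to sign
  have hpart : ∀ n, Achievable J K (-(∑ i ∈ Finset.Ioo 0 n,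
      MvPolynomial.C (g.coeff (e2 i (n - i))) * x₀ ^ i * x₁ ^ (n - i))) := by
    intro n
    rcases Nat.lt_or_ge n 2 with hn2 | hn2
    · rw [show Finset.Ioo 0 n = ∅ by ext k; simp; omega, Finset.sum_empty, neg_zero]
      exact achievable_zero
    have hcn : IsCoc K n (fun i => g.coeff (e2 i (n - i))) := by
      intro i j l hi hj hl hijl
      have := hlin i j l hi hj hl
      dsimp only
      rwa [show n - (i + j) = l by omega, show n - i = j + l by omega]
    have hsn : ∀ i, 0 < i → i < n →
        g.coeff (e2 i (n - i)) - g.coeff (e2 (n - i) (n - (n - i))) ∈ K := by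
      intro i hi hin
      rw [hgs i, show n - (n - i) = i by omega, sub_self]
      exact K.zero_mem
    obtain ⟨v, d, hd, hnd⟩ := Nat.exists_eq_pow_mul_and_not_dvd (show n ≠ 0 by omega) p
      hp.out.ne_one
    rcases Nat.lt_or_ge 1 d with hd1 | hd1
    · obtain ⟨f, hf, hfi⟩ := exists_coboundary hp0 (J := J₀) v d hd hd1 hnd hcn hsn (fun i => hgJ₀ _ _)
      refine achievable_of_sub_mem hKJ
        (achievable_coboundary hJn hJK (J.neg_mem (hJ₀ hf)) (n := n) (by omega)) ?_
      rw [← Finset.sum_neg_distrib, ← Finset.sum_sub_distrib]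
      refine Ideal.sum_mem _ fun i hi => ?_
      rw [Finset.mem_Ioo] at hi
      simp only [← neg_mul, ← map_neg, ← sub_mul, ← map_sub]
      refine Ideal.mul_mem_right _ _ (Ideal.mul_mem_right _ _ (Ideal.mem_map_of_mem _ ?_))
      have := K.neg_mem (hfi i hi.1 hi.2)
      convert this using 1
      ring
    · have hd0 : d = 1 := by
        rcases Nat.eq_zero_or_pos d with rfl | h
        · simp at hnd; omega
        · omega
      subst hd0
      rw [mul_one] at hnd
      obtain ⟨t, rfl⟩ : ∃ t, v = t + 1 := ⟨v - 1, by rcases v with _ | v <;> simp at hnd ⊢; omega⟩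
      obtain ⟨κ, hκ, hndvd, hκm⟩ := exists_witt hp0 (J := J₀) t hnd hcn (fun i => hgJ₀ _ _)
      obtain ⟨b, hb, hbκ'⟩ := hroot _ (J₀.neg_mem hκ)
      have hbJ : b ^ p ∈ J := hbκ' ▸ hJ₀ (J₀.neg_mem hκ)
      refine achievable_of_sub_mem hKJ
        (achievable_witt (J := J) (K := K) hM hb hbJ hMJK (hpow b hb) t w hw0 hw) ?_
      have hq : 0 < p ^ t := pow_pos hp.out.pos t
      have hnq : n = p * p ^ t := by rw [hnd, pow_succ']
      have hres : ∑ i ∈ (Finset.Ioo 0 n).filter (fun i => p ^ t ∣ i),
          MvPolynomial.C (g.coeff (e2 i (n - i))) * x₀ ^ i * x₁ ^ (n - i) =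
          ∑ m ∈ Finset.Ico 1 p, MvPolynomial.C (g.coeff (e2 (m * p ^ t) (n - m * p ^ t))) *
            x₀ ^ (m * p ^ t) * x₁ ^ (n - m * p ^ t) := by
        symm
        refine Finset.sum_nbij' (fun m => m * p ^ t) (fun i => i / p ^ t) ?_ ?_ ?_ ?_ ?_
        · intro m hm
          simp only [Finset.mem_Ico] at hm
          simp only [Finset.mem_filter, Finset.mem_Ioo]
          exact ⟨⟨Nat.mul_pos (by omega) hq, hnq ▸ Nat.mul_lt_mul_of_pos_right hm.2 hq⟩,
            dvd_mul_left _ _⟩
        · intro i hi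
          simp only [Finset.mem_filter, Finset.mem_Ioo] at hi
          obtain ⟨⟨hi0, hin⟩, c, rfl⟩ := hi
          simp only [Finset.mem_Ico, Nat.mul_div_cancel_left _ hq]
          refine ⟨Nat.pos_of_mul_pos_left hi0, ?_⟩
          rw [hnq, mul_comm p] at hin
          exact Nat.lt_of_mul_lt_mul_left hin
        · intro m _
          exact Nat.mul_div_cancel m hq
        · intro i hi
          simp only [Finset.mem_filter] at hi
          exact Nat.div_mul_cancel hi.2
        · intro m _; rfl
      rw [← Finset.sum_filter_add_sum_filter_not (Finset.Ioo 0 n) (fun i => p ^ t ∣ i), hres,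
        neg_add, add_sub_right_comm, ← Finset.sum_neg_distrib, ← Finset.sum_sub_distrib]
      refine Ideal.add_mem _ (Ideal.sum_mem _ fun m hm => ?_) (neg_mem (Ideal.sum_mem _ fun i hi => ?_))
      · simp only [Finset.mem_Ico] at hm
        rw [← hnd]
        simp only [← neg_mul, ← map_neg, ← sub_mul, ← map_sub]
        refine Ideal.mul_mem_right _ _ (Ideal.mul_mem_right _ _ (Ideal.mem_map_of_mem _ ?_))
        rw [hbκ']
        have := K.mul_mem_left (w m * w (p - m)) (K.neg_mem (hκm m hm.1 hm.2))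
        convert this using 1
        linear_combination ((g.coeff (e2 (m * p ^ t) (n - m * p ^ t))) *
          ((p - m).factorial : R) * w (p - m)) * hw m hm.2 +
          (g.coeff (e2 (m * p ^ t) (n - m * p ^ t))) * hw (p - m) (by omega)
      · simp only [Finset.mem_filter, Finset.mem_Ioo] at hi
        exact Ideal.mul_mem_right _ _ (Ideal.mul_mem_right _ _
          (Ideal.mem_map_of_mem _ (hndvd i hi.1.1 hi.1.2 hi.2)))
  obtain ⟨-, f, hf0, hf⟩ := achievable_sum hKJ hJK (Finset.range (g.totalDegree + 1))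
    (fun n => -(∑ i ∈ Finset.Ioo 0 n,
      MvPolynomial.C (g.coeff (e2 i (n - i))) * x₀ ^ i * x₁ ^ (n - i))) fun n _ => hpart n
  rw [Finset.sum_neg_distrib, ← decompose g hg0 (fun j => by rw [hgs]; exact hg0 j)] at hf
  refine ⟨f, hf0, ?_⟩
  have e : h * (rho f : P2) - 1 = h * ((rho f : P2) - 1 - -g) - g * g := by
    rw [hg]; ring
  rw [e]
  refine Ideal.sub_mem _ (Ideal.mul_mem_left _ _ hf) (Ideal.map_mono hJK ?_)
  rw [Ideal.map_mul]
  exact Ideal.mul_mem_mul hh hh

end step

omit [CharP R p] in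
theorem exists_le_pow (D : ℕ) : ∃ t, D * p ^ t ≤ (p + 1) ^ t := by
  refine ⟨p * D, ?_⟩
  have key : ∀ t, p ^ t * (p + t) ≤ (p + 1) ^ t * p := by
    intro t
    induction t with
    | zero => simp
    | succ t ih =>
      calc p ^ (t + 1) * (p + (t + 1)) ≤ p ^ t * (p + t) * (p + 1) := by
            rw [pow_succ]
            nlinarith [Nat.zero_le (p ^ t * t)]
        _ ≤ (p + 1) ^ t * p * (p + 1) := Nat.mul_le_mul_right _ ih
        _ = (p + 1) ^ (t + 1) * p := by ring
  have h := key (p * D)
  refine Nat.le_of_mul_le_mul_right ?_ hp.out.pos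
  calc D * p ^ (p * D) * p = p ^ (p * D) * (p * D) := by ring
    _ ≤ p ^ (p * D) * (p + p * D) := Nat.mul_le_mul_left _ (Nat.le_add_left _ _)
    _ ≤ _ := h

/-- The main result. -/
theorem exists_split (hsurj : Function.Surjective (frobenius R p)) (h : P2) (hu : IsUnit h)
    (hc : Cocycle h) :
    ∃ f : Polynomial R, IsUnit f ∧
      Polynomial.aeval (x₀ + x₁) f = Polynomial.aeval x₀ f * Polynomial.aeval x₁ f * h := by
  classical
  set g : P2 := h - 1
  have hgnil : ∀ m, IsNilpotent (g.coeff m) := by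
    intro m
    by_cases hm : m = 0
    · subst hm
      have : g.coeff (e2 0 0) = 0 := by
        rw [← coeff_axis g 0, map_sub, map_one, hc.right, sub_self, MvPolynomial.coeff_zero]
      rw [show (0 : Fin 2 →₀ ℕ) = e2 0 0 by simp [e2], this]
      exact IsNilpotent.zero
    · rw [MvPolynomial.coeff_sub, MvPolynomial.coeff_one, if_neg (Ne.symm hm), sub_zero]
      exact (MvPolynomial.isUnit_iff.1 hu).2 m hm
  choose r hr using hsurj
  let c : ℕ → (Fin 2 →₀ ℕ) → R := fun k m => r^[k] (g.coeff m)
  have hcs : ∀ k m, c (k + 1) m ^ p = c k m := fun k m => by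
    show r^[k + 1] _ ^ p = _
    rw [Function.iterate_succ_apply']
    exact hr _
  let 𝔠 : ℕ → Ideal R := fun k => Ideal.span ((g.support.image (c k) : Finset R) : Set R)
  have hF : ∀ k, (𝔠 (k + 1)).map (frobenius R p) = 𝔠 k := by
    intro k
    rw [Ideal.map_span]
    congr 1
    rw [Finset.coe_image, Finset.coe_image, ← Set.image_comp]
    exact Set.image_congr fun m _ => hcs k m
  choose E hE using hgnil
  set e := g.support.sup E + 1 with he
  have hck : ∀ k m, m ∈ g.support → c k m ^ (e * p ^ k) = 0 := by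
    intro k
    induction k with
    | zero =>
      intro m hm
      show g.coeff m ^ (e * 1) = 0
      rw [mul_one]
      exact pow_eq_zero_of_le (by have := Finset.le_sup (f := E) hm; omega) (hE m)
    | succ k ih =>
      intro m hm
      rw [pow_succ' p k, mul_left_comm, pow_mul, hcs]
      exact ih m hm
  have hnil : ∀ k, 𝔠 k ≤ nilradical R := fun k => by
    rw [Ideal.span_le]
    intro x hx
    simp only [Finset.coe_image, Set.mem_image, Finset.mem_coe] at hx
    obtain ⟨m, hm, rfl⟩ := hx
    exact ⟨_, hck k m hm⟩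
  have hbound : ∀ k, 𝔠 k ^ ((g.support.card + 1) * e * p ^ k) = ⊥ := by
    intro k
    rw [eq_bot_iff]
    show Ideal.span _ ^ _ ≤ _
    rw [Ideal.span, Submodule.span_pow, Submodule.span_le]
    rintro x hx
    rw [Set.mem_pow_iff_prod] at hx
    obtain ⟨v, hv, rfl⟩ := hx
    simp only [Finset.coe_image, Set.mem_image, Finset.mem_coe] at hv
    choose mv hmv hmv' using hv
    -- some generator occurs often
    obtain ⟨m, hm⟩ : ∃ m, e * p ^ k ≤ (Finset.univ.filter fun i => mv i = m).card := by
      by_contra hcon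
      push Not at hcon
      have h1 := Finset.card_eq_sum_card_fiberwise (f := mv) (s := Finset.univ)
        (t := g.support) (fun i _ => hmv i)
      rw [Finset.card_univ, Fintype.card_fin] at h1
      have h2 : ∑ m ∈ g.support, (Finset.univ.filter fun i => mv i = m).card ≤
          g.support.card * (e * p ^ k) := by
        refine (Finset.sum_le_card_nsmul _ _ (e * p ^ k) fun m _ => (hcon m).le).trans ?_
        exact le_of_eq (smul_eq_mul _ _)
      have h3 : 0 < e * p ^ k := Nat.mul_pos (by omega) (pow_pos hp.out.pos k)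
      have h4 : (g.support.card + 1) * e * p ^ k = g.support.card * (e * p ^ k) + e * p ^ k := by
        ring
      omega
    show ∏ i, v i = 0
    rw [← Finset.prod_sdiff (Finset.subset_univ (Finset.univ.filter fun i => mv i = m))]
    refine mul_eq_zero_of_right _ ?_
    rw [Finset.prod_congr rfl (g := fun _ => c k m) fun i hi => by
      simp only [Finset.mem_filter] at hi
      rw [← hmv' i, hi.2]]
    rw [Finset.prod_const]
    rcases Finset.eq_empty_or_nonempty (Finset.univ.filter fun i => mv i = m) with h0 | ⟨i, hi⟩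
    · rw [h0, Finset.card_empty] at hm
      have : 0 < e * p ^ k := Nat.mul_pos (by omega) (pow_pos hp.out.pos k)
      omega
    · simp only [Finset.mem_filter] at hi
      exact pow_eq_zero_of_le hm (hck k m (hi.2 ▸ hmv i))
  -- the iteration
  have hiter : ∀ k, ∃ f : (Polynomial R)ˣ, (f : Polynomial R).coeff 0 = 1 ∧
      h * (rho f : P2) - 1 ∈ (𝔠 k ^ ((p + 1) ^ k)).map MvPolynomial.C := by
    intro k
    induction k with
    | zero =>
      refine ⟨1, by simp, ?_⟩
      rw [map_one, Units.val_one, mul_one, pow_zero, pow_one, MvPolynomial.mem_map_C_iff]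
      intro m
      by_cases hm : g.coeff m = 0
      · rw [hm]; exact Submodule.zero_mem _
      · exact Ideal.subset_span (Finset.mem_image.2 ⟨m, MvPolynomial.mem_support_iff.2 hm, rfl⟩)
    | succ k ih =>
      obtain ⟨f, hf0, hf⟩ := ih
      set n := (p + 1) ^ k
      have hn : 0 < n := pow_pos (by omega) k
      set M := 𝔠 (k + 1) ^ n with hMdef
      set J₀ := 𝔠 k ^ n with hJ₀def
      set J := 𝔠 (k + 1) ^ (p * n) with hJdef
      set K := 𝔠 (k + 1) ^ (n * (p + 1)) with hKdef
      have hroot : ∀ κ ∈ J₀, ∃ b ∈ M, b ^ p = κ := by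
        intro κ hκ
        have : κ ∈ M.map (frobenius R p) := by rwa [hMdef, Ideal.map_pow, hF]
        exact (Ideal.mem_map_iff_of_surjective _ fun x => ⟨r x, hr x⟩).1 this
      have h1 : 𝔠 k ≤ 𝔠 (k + 1) ^ p := by
        rw [← hF k, Ideal.map_le_iff_le_comap]
        exact fun b hb => Ideal.pow_mem_pow hb p
      have hJle : J₀ ≤ J := by
        rw [hJdef, pow_mul]; exact Ideal.pow_right_mono h1 n
      have hKJ : K ≤ J := Ideal.pow_le_pow_right (by rw [mul_comm p n, mul_add_one]; omega)
      have hJK : J * J ≤ K := by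
        rw [hJdef, hKdef, ← pow_add]
        refine Ideal.pow_le_pow_right ?_
        have := hp.out.two_le
        nlinarith
      have hMJK : M * J ≤ K := by
        rw [hMdef, hJdef, hKdef, ← pow_add]
        exact Ideal.pow_le_pow_right (le_of_eq (by ring))
      have hpow : ∀ b ∈ M, b ^ (p + 1) ∈ K := fun b hb => by
        rw [hKdef, pow_mul]
        exact Ideal.pow_mem_pow hb _
      have hMn : M ≤ nilradical R := (Ideal.pow_le_self hn.ne').trans (hnil (k + 1))
      have hJn : J ≤ nilradical R :=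
        (Ideal.pow_le_self (Nat.mul_pos hp.out.pos hn).ne').trans (hnil (k + 1))
      obtain ⟨f', hf0', hf'⟩ := step M J₀ hMn hJle hJn hroot hKJ hJK hMJK hpow
        (h * (rho f : P2)) (hc.mul (cocycle_rho f hf0)) hf
      refine ⟨f * f', by rw [Units.val_mul, Polynomial.mul_coeff_zero, hf0, hf0', one_mul], ?_⟩
      rw [map_mul, Units.val_mul, ← mul_assoc, pow_succ]
      exact hf'
  obtain ⟨t, ht⟩ := exists_le_pow (p := p) ((g.support.card + 1) * e)
  obtain ⟨f, hf0, hf⟩ := hiter t
  have hbot : 𝔠 t ^ ((p + 1) ^ t) = ⊥ :=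
    le_bot_iff.1 ((Ideal.pow_le_pow_right ht).trans (le_of_eq (hbound t)))
  rw [hbot, Ideal.map_bot, Ideal.mem_bot, sub_eq_zero] at hf
  refine ⟨f, f.isUnit, ?_⟩
  calc Polynomial.aeval (x₀ + x₁) (f : Polynomial R)
      = h * (rho f : P2) * Polynomial.aeval (x₀ + x₁) (f : Polynomial R) := by rw [hf, one_mul]
    _ = _ := by rw [mul_assoc, rho_mul]; ring

end Groth.L25.GaGmSplit
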