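import Groth.Agent.L21.Smooth.SepPoints
import Groth.Agent.L26.AV.SmoothField
import Groth.Agent.L23.SourceRegular
import Groth.Agent.L07.GeomReducedOpen
import Groth.Agent.L13.GeomRedSub.Main
import Groth.Agent.L25.GrpDeriv
import Mathlib.AlgebraicGeometry.AlgClosed.Basic
import Mathlib.AlgebraicGeometry.Morphisms.FlatDescent
import Mathlib.CategoryTheory.Monoidal.Cartesian.Over

/-!
# Rational points over separably or algebraically closed extensions are schematically dense
-/

set_option autoImplicit false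
universe u

open CategoryTheory CategoryTheory.Limits MonoidalCategory CartesianMonoidalCategory AlgebraicGeometry TensorProduct

set_option backward.isDefEq.respectTransparency.types false
set_option linter.style.haveILetI false

noncomputable section

namespace Groth.L25.PointsDense

variable {k : Type u} [Field k] {K : Type u} [Field K] [Algebra k K]

local notation "θ" => Spec.map (CommRingCat.ofHom (algebraMap k K))

/-- a closed immersion through which a dense set of points factors -/
theorem isIso_of_dense {X Z : Scheme.{u}} [IsReduced X] (f : X ⟶ Spec (CommRingCat.of k))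
    (hd : ∀ W : X.Opens, (W : Set X).Nonempty →
      ∃ x : Spec (CommRingCat.of K) ⟶ X, x ≫ f = θ ∧ x (IsLocalRing.closedPoint K) ∈ W)
    (c : Z ⟶ X) [IsClosedImmersion c]
    (h : ∀ x : Spec (CommRingCat.of K) ⟶ X, x ≫ f = θ → ∃ z, z ≫ c = x) : IsIso c := by
  haveI : Surjective c := by
    refine ⟨Set.range_eq_univ.1 (Set.eq_univ_of_forall fun p => ?_)⟩
    by_contra hp
    obtain ⟨x, hx, hxW⟩ := hd ⟨(Set.range c)ᶜ, c.isClosedEmbedding.isClosed_range.isOpen_compl⟩ ⟨p, hp⟩
    obtain ⟨z, rfl⟩ := h x hx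
    exact hxW ⟨z (IsLocalRing.closedPoint K), (Scheme.Hom.comp_apply _ _ _).symm⟩
  exact isIso_of_isClosedImmersion_of_surjective c

theorem dense_of_smooth [IsSepClosed K] {X : Scheme.{u}} (f : X ⟶ Spec (CommRingCat.of k)) [Smooth f]
    (W : X.Opens) (hW : (W : Set X).Nonempty) :
    ∃ x : Spec (CommRingCat.of K) ⟶ X, x ≫ f = θ ∧ x (IsLocalRing.closedPoint K) ∈ W := by
  obtain ⟨p, hp⟩ := hW
  letI : X.Over (Spec (CommRingCat.of k)) := ⟨f⟩
  haveI : Smooth (X ↘ Spec (CommRingCat.of k)) := ‹Smooth f›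
  obtain ⟨V, hV, ψ, hzW, hψ⟩ := Groth.L21.SepPoints.exists_point (k := k) K X (W := W) hp
  refine ⟨Spec.map (CommRingCat.ofHom ψ) ≫ hV.fromSpec, by rw [Category.assoc]; exact hψ, ?_⟩
  have hpt : Spec.map (CommRingCat.ofHom ψ) (IsLocalRing.closedPoint K) =
      (⟨RingHom.ker ψ, RingHom.ker_isPrime ψ⟩ : PrimeSpectrum Γ(X, V)) :=
    PrimeSpectrum.ext (congrArg (Ideal.comap ψ) IsLocalRing.maximalIdeal_eq_bot)
  rw [Scheme.Hom.comp_apply, hpt]
  exact hzW

theorem isIso_of_smooth [IsSepClosed K] {X Z : Scheme.{u}} (f : X ⟶ Spec (CommRingCat.of k)) [Smooth f]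
    (c : Z ⟶ X) [IsClosedImmersion c]
    (h : ∀ x : Spec (CommRingCat.of K) ⟶ X, x ≫ f = θ → ∃ z, z ≫ c = x) : IsIso c :=
  haveI := Groth.Agent.AV.isReduced_of_smooth_field f
  isIso_of_dense f (dense_of_smooth f) c h

theorem dense_of_algClosed [IsAlgClosed K] {X : Scheme.{u}} (f : X ⟶ Spec (CommRingCat.of k))
    [LocallyOfFiniteType f] (W : X.Opens) (hW : (W : Set X).Nonempty) :
    ∃ x : Spec (CommRingCat.of K) ⟶ X, x ≫ f = θ ∧ x (IsLocalRing.closedPoint K) ∈ W := by
  haveI : JacobsonSpace X := LocallyOfFiniteType.jacobsonSpace f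
  obtain ⟨p, hpW, hpc⟩ := nonempty_inter_closedPoints hW W.2.isLocallyClosed
  haveI : IsClosedImmersion (X.fromSpecResidueField p) :=
    IsClosedImmersion.of_isPreimmersion _ (by rw [Scheme.range_fromSpecResidueField]; exact hpc)
  obtain ⟨φ, hφ⟩ := Spec.map_surjective (X.fromSpecResidueField p ≫ f)
  letI : Algebra k (X.residueField p) := φ.hom.toAlgebra
  haveI : Algebra.FiniteType k (X.residueField p) := by
    have h : LocallyOfFiniteType (Spec.map φ) := by rw [hφ]; infer_instance
    rw [HasRingHomProperty.Spec_iff (P := @LocallyOfFiniteType)] at h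
    exact h
  haveI : Module.Finite k (X.residueField p) := finite_of_finite_type_of_isJacobsonRing k (X.residueField p)
  let σ : X.residueField p →ₐ[k] K := IsAlgClosed.lift
  refine ⟨Spec.map (CommRingCat.ofHom σ.toRingHom) ≫ X.fromSpecResidueField p, ?_, ?_⟩
  · rw [Category.assoc, ← hφ, ← Spec.map_comp]
    exact congrArg Spec.map (CommRingCat.hom_ext (RingHom.ext fun r => σ.commutes r))
  · rw [Scheme.Hom.comp_apply, Scheme.fromSpecResidueField_apply]
    exact hpW

theorem isIso_of_algClosed [IsAlgClosed K] {X Z : Scheme.{u}} [IsReduced X]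
    (f : X ⟶ Spec (CommRingCat.of k)) [LocallyOfFiniteType f] (c : Z ⟶ X) [IsClosedImmersion c]
    (h : ∀ x : Spec (CommRingCat.of K) ⟶ X, x ≫ f = θ → ∃ z, z ≫ c = x) : IsIso c :=
  isIso_of_dense f (dense_of_algClosed f) c h

theorem dense_of_geometricallyReduced [IsSepClosed K] {X : Scheme.{u}} (f : X ⟶ Spec (CommRingCat.of k))
    [LocallyOfFiniteType f] [GeometricallyReduced f] (W : X.Opens) (hW : (W : Set X).Nonempty) :
    ∃ x : Spec (CommRingCat.of K) ⟶ X, x ≫ f = θ ∧ x (IsLocalRing.closedPoint K) ∈ W := by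
  obtain ⟨p, hpW⟩ := hW
  obtain ⟨_, ⟨U, hU, rfl⟩, hpU, hUW⟩ := X.isBasis_affineOpens.exists_subset_of_mem_open hpW W.2
  letI : Algebra k Γ(X, U) := (Groth.L13.GeomRedSub.sectMap f hU).hom.toAlgebra
  have hg : Spec.map (CommRingCat.ofHom (algebraMap k Γ(X, U))) = hU.fromSpec ≫ f := Spec.map_preimage _
  haveI : Algebra.FiniteType k Γ(X, U) := by
    have h : LocallyOfFiniteType (Spec.map (CommRingCat.ofHom (algebraMap k Γ(X, U)))) := by
      rw [hg]; infer_instance
    rw [HasRingHomProperty.Spec_iff (P := @LocallyOfFiniteType)] at h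
    exact h
  haveI hgr : Algebra.IsGeometricallyReduced k Γ(X, U) := by
    haveI := Groth.L13.GeomRedSub.good_of_geometricallyReduced f hU (AlgebraicClosure k)
    rw [Algebra.isGeometricallyReduced_field_iff]
    exact isReduced_of_injective (Algebra.TensorProduct.comm k (AlgebraicClosure k) Γ(X, U))
      (AlgEquiv.injective _)
  haveI : _root_.IsReduced Γ(X, U) := Algebra.isReduced_of_isGeometricallyReduced k
  obtain ⟨h, hreg, hsm⟩ := Groth.L07.FlatGeomReduced.exists_regular_smooth (k := k) (E := Γ(X, U))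
  haveI : Algebra.FinitePresentation k Γ(X, U) := Algebra.FinitePresentation.of_finiteType.mp inferInstance
  let L := Localization.Away h
  haveI : Algebra.Smooth k L :=
    Algebra.basicOpen_subset_smoothLocus_iff_smooth.1 fun q hq => hsm q hq
  haveI : Smooth (Spec.map (CommRingCat.ofHom (algebraMap k L))) :=
    (HasRingHomProperty.Spec_iff (P := @Smooth)).2 (RingHom.smooth_algebraMap.2 ‹_›)
  let m : Spec (CommRingCat.of L) ⟶ X := Spec.map (CommRingCat.ofHom (algebraMap Γ(X, U) L)) ≫ hU.fromSpec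
  haveI : Nontrivial Γ(X, U) := by
    haveI : Nonempty U := ⟨⟨p, hpU⟩⟩
    exact Scheme.component_nontrivial X U
  haveI : Nontrivial L := by
    rw [← not_subsingleton_iff_nontrivial, IsLocalization.subsingleton_iff (M := Submonoid.powers h) (S := L)]
    rintro ⟨j, hj⟩
    have hp : ∀ n : ℕ, IsSMulRegular Γ(X, U) (h ^ n) := fun n => hreg.pow n
    exact one_ne_zero (hp j (show h ^ j • (1 : Γ(X, U)) = h ^ j • 0 by simp [show h ^ j = 0 from hj]))
  obtain ⟨x, hx, -⟩ := dense_of_smooth (k := k) (K := K) (Spec.map (CommRingCat.ofHom (algebraMap k L))) ⊤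
    (Set.univ_nonempty (α := PrimeSpectrum L))
  refine ⟨x ≫ m, ?_, hUW ?_⟩
  · rw [← hx]
    simp only [m, Category.assoc, ← hg, ← Spec.map_comp]
    rfl
  · rw [Scheme.Hom.comp_apply, Scheme.Hom.comp_apply]
    exact hU.range_fromSpec ▸ Set.mem_range_self _

theorem isIso_of_geometricallyReduced [IsSepClosed K] {X Z : Scheme.{u}} (f : X ⟶ Spec (CommRingCat.of k))
    [LocallyOfFiniteType f] [GeometricallyReduced f] (c : Z ⟶ X) [IsClosedImmersion c]
    (h : ∀ x : Spec (CommRingCat.of K) ⟶ X, x ≫ f = θ → ∃ z, z ≫ c = x) : IsIso c := by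
  haveI : IsReduced X := GeometricallyReduced.isReduced_of_flat_of_isLocallyNoetherian f
  exact isIso_of_dense f (dense_of_geometricallyReduced f) c h

section OverLemmas

variable {X Y Z : Over (Spec (CommRingCat.of k))}

local notation "SK" => Over.mk (Spec.map (CommRingCat.ofHom (algebraMap k K)))

/-- two maps into a separated scheme agreeing on points are equal -/
theorem eq_of_isIso_agree [IsSeparated Y.hom] (a b : X ⟶ Y)
    (hiso : ∀ {E : Scheme.{u}} (c : E ⟶ X.left) [IsClosedImmersion c],
      (∀ x : Spec (CommRingCat.of K) ⟶ X.left, x ≫ X.hom = θ → ∃ z, z ≫ c = x) → IsIso c)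
    (h : ∀ x : SK ⟶ X, x ≫ a = x ≫ b) : a = b := by
  let d := pullback.lift a.left b.left ((Over.w a).trans (Over.w b).symm)
  let c := pullback.fst d (pullback.diagonal Y.hom)
  haveI : IsClosedImmersion c := inferInstanceAs (IsClosedImmersion (pullback.fst _ _))
  haveI : IsIso c := hiso c fun x hx => by
    have e := congrArg (fun m => m.left) (h (Over.homMk x hx))
    simp only [Over.comp_left, Over.homMk_left] at e
    refine ⟨pullback.lift x (x ≫ a.left) ?_, pullback.lift_fst _ _ _⟩
    apply pullback.hom_ext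
    · simp only [d, Category.assoc, pullback.lift_fst, pullback.diagonal_fst, Category.comp_id]
    · simp only [d, Category.assoc, pullback.lift_snd, pullback.diagonal_snd, Category.comp_id]
      exact e.symm
  ext1
  refine (cancel_epi c).1 ?_
  have hc := pullback.condition (f := d) (g := pullback.diagonal Y.hom)
  have h1 := congrArg (· ≫ pullback.fst Y.hom Y.hom) hc
  have h2 := congrArg (· ≫ pullback.snd Y.hom Y.hom) hc
  simp only [d, Category.assoc, pullback.lift_fst, pullback.lift_snd, pullback.diagonal_fst,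
    pullback.diagonal_snd, Category.comp_id] at h1 h2
  exact h1.trans h2.symm

/-- a map whose points land in a closed subscheme factors through it -/
theorem factors_of_isIso (a : X ⟶ Y) (i : Z ⟶ Y) [IsClosedImmersion i.left]
    (hiso : ∀ {E : Scheme.{u}} (c : E ⟶ X.left) [IsClosedImmersion c],
      (∀ x : Spec (CommRingCat.of K) ⟶ X.left, x ≫ X.hom = θ → ∃ z, z ≫ c = x) → IsIso c)
    (h : ∀ x : SK ⟶ X, ∃ z : SK ⟶ Z, z ≫ i = x ≫ a) : ∃ w : X ⟶ Z, w ≫ i = a := by
  let c := pullback.fst a.left i.left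
  haveI : IsClosedImmersion c := inferInstanceAs (IsClosedImmersion (pullback.fst _ _))
  haveI : IsIso c := hiso c fun x hx => by
    obtain ⟨z, hz⟩ := h (Over.homMk x hx)
    exact ⟨pullback.lift x z.left (congrArg (fun m => m.left) hz).symm, pullback.lift_fst _ _ _⟩
  refine ⟨Over.homMk (inv c ≫ pullback.snd a.left i.left) ?_, Over.OverMorphism.ext ?_⟩
  · rw [Category.assoc, ← Over.w i, ← pullback.condition_assoc, IsIso.inv_hom_id_assoc, Over.w a]
  · simp only [Over.comp_left, Over.homMk_left, Category.assoc, ← pullback.condition]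
    rw [IsIso.inv_hom_id_assoc]

end OverLemmas

end Groth.L25.PointsDense
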