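import Groth.Prelude.Def_RedSub
import Groth.Agent.L24.RootD.Weyl
import Groth.Agent.L24.RootD.Present

/-!
# Inversions of products of reflections
-/

set_option autoImplicit false

open Groth.L24.RootD

namespace Groth.L25.RootWord

variable {ι M N : Type} [AddCommGroup M] [AddCommGroup N] [Finite ι]
  (P : RootPairing ι ℤ M N) [P.IsReduced] (b : P.Base)

theorem pos_eq : RedSub.posRoots P b = _root_.RootD.posOf P (b.support : Set ι) := rfl

theorem wordPerm_apply (l : List ι) (a : ι) : RedSub.wordPerm P l a = wd P l • a := by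
  induction l with
  | nil => simp [RedSub.wordPerm, wd_nil]
  | cons x l ih =>
    rw [wd_cons, mul_smul, reflection_smul_idx, ← ih]
    simp [RedSub.wordPerm]

theorem neg_iff (a : ι) : a ∈ RedSub.negRoots P b ↔ a ∉ RedSub.posRoots P b := by
  have hΔ := IsSimple.of_base b
  have e : a ∈ RedSub.negRoots P b ↔
      P.reflectionPerm a a ∈ _root_.RootD.posOf P (b.support : Set ι) := by
    show -P.root a ∈ AddSubmonoid.closure (P.root '' (b.support : Set ι)) ↔
      P.root (P.reflectionPerm a a) ∈ AddSubmonoid.closure (P.root '' (b.support : Set ι))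
    rw [root_neg]
  rw [e, pos_eq]
  exact ⟨fun h h' => hΔ.disjoint_pos h' h, fun h => (hΔ.cover_pos a).resolve_left h⟩

theorem root_refl (d a : ι) :
    P.root (P.reflectionPerm d a) = P.root a - P.pairing a d • P.root d := by
  rw [P.root_reflectionPerm, RootPairing.reflection_apply, P.root_coroot'_eq_pairing]

/-- a sum of nonnegative multiples of positive roots which is a root is positive -/
theorem pos_of_sub {a d : ι} (ha : a ∈ RedSub.posRoots P b) (hd : d ∈ RedSub.posRoots P b) {n : ℤ}
    (hn : n ≤ 0) {k : ι} (hk : P.root k = P.root a - n • P.root d) : k ∈ RedSub.posRoots P b := by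
  obtain ⟨m, hm⟩ := Int.exists_eq_neg_ofNat hn
  show P.root k ∈ AddSubmonoid.closure (P.root '' (b.support : Set ι))
  rw [hk, hm, neg_smul, sub_neg_eq_add, natCast_zsmul]
  exact AddSubmonoid.add_mem _ ha (AddSubmonoid.nsmul_mem _ hd m)

theorem refl_refl (d a : ι) : P.reflectionPerm d (P.reflectionPerm d a) = a :=
  P.reflectionPerm_self d a

/-- the inversion set -/
def inv (l : List ι) : Set ι :=
  {a | a ∈ RedSub.posRoots P b ∧ RedSub.wordPerm P l a ∈ RedSub.negRoots P b}

theorem refl_mul (c : ι) (l : List ι) :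
    P.reflectionPerm c * RedSub.wordPerm P l = RedSub.wordPerm P (c :: l) := by
  simp [RedSub.wordPerm]

/-- multiplying by the reflection in a root made positive raises the number of inversions -/
theorem ncard_lt (c : ι) (hc : c ∈ RedSub.posRoots P b) (l : List ι) {d : ι}
    (hd : d ∈ RedSub.posRoots P b) (hwd : wd P l • d = c) :
    (inv P b l).ncard < (inv P b (c :: l)).ncard := by
  classical
  have hΔ := IsSimple.of_base b
  have key : ∀ a, RedSub.wordPerm P (c :: l) a = RedSub.wordPerm P l (P.reflectionPerm d a) := fun a => by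
    rw [wordPerm_apply, wordPerm_apply, ← reflection_smul_idx, ← mul_smul, wd_cons, ← hwd,
      ← conj_reflection, mul_assoc, inv_mul_cancel, mul_one]
  have hdn : d ∈ inv P b (c :: l) := by
    refine ⟨hd, ?_⟩
    rw [key, wordPerm_apply, smul_neg_idx, hwd, neg_iff]
    exact fun h => hΔ.disjoint_pos hc h
  let f : ι → ι := fun a => if P.reflectionPerm d a ∈ RedSub.posRoots P b then P.reflectionPerm d a else a
  have hf : ∀ a ∈ inv P b l, f a ∈ inv P b (c :: l) \ {d} := by
    rintro a ⟨ha, hwa⟩
    have had : a ≠ d := by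
      rintro rfl
      rw [wordPerm_apply, hwd, neg_iff] at hwa
      exact hwa hc
    by_cases h : P.reflectionPerm d a ∈ RedSub.posRoots P b
    · simp only [f, if_pos h]
      refine ⟨⟨h, by rw [key, refl_refl]; exact hwa⟩, fun e : P.reflectionPerm d a = d => ?_⟩
      have : a = P.reflectionPerm d d := (refl_refl P d a).symm.trans (congrArg _ e)
      exact hΔ.disjoint_pos hd (this ▸ ha)
    · simp only [f, if_neg h]
      refine ⟨⟨ha, ?_⟩, had⟩
      have hn : 0 ≤ P.pairing a d := by
        by_contra hn
        exact h (pos_of_sub P b ha hd (le_of_lt (lt_of_not_ge hn)) (root_refl P d a))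
      obtain ⟨m, hm⟩ := Int.eq_ofNat_of_zero_le hn
      have e1 : P.root (wd P l • P.reflectionPerm d a) = P.root (wd P l • a) - (m : ℤ) • P.root c := by
        rw [root_smul, root_refl, hm, smul_sub, smul_zsmul_M, ← root_smul, ← root_smul, hwd]
      rw [key]
      rw [wordPerm_apply] at hwa ⊢
      show -P.root (wd P l • P.reflectionPerm d a) ∈ AddSubmonoid.closure (P.root '' (b.support : Set ι))
      rw [e1, neg_sub, sub_eq_add_neg, natCast_zsmul]
      exact AddSubmonoid.add_mem _ (AddSubmonoid.nsmul_mem _ hc m) hwa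
  have hinj : Set.InjOn f (inv P b l) := by
    rintro a ⟨ha, -⟩ a' ⟨ha', -⟩ e
    by_cases h : P.reflectionPerm d a ∈ RedSub.posRoots P b <;>
      by_cases h' : P.reflectionPerm d a' ∈ RedSub.posRoots P b <;>
      simp only [f, h, h', if_true, if_false] at e
    · exact (P.reflectionPerm d).injective e
    · exact absurd (by rw [← e, refl_refl]; exact ha) h'
    · exact absurd (by rw [e, refl_refl]; exact ha') h
    · exact e
  calc (inv P b l).ncard ≤ (inv P b (c :: l) \ {d}).ncard :=
        Set.ncard_le_ncard_of_injOn f hf hinj (Set.toFinite _)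
    _ < (inv P b (c :: l)).ncard := Set.ncard_sdiff_singleton_lt_of_mem hdn (Set.toFinite _)

/-- the length increases under left multiplication by a reflection iff the pulled back root is positive -/
theorem ncard_lt_iff (c : ι) (hc : c ∈ RedSub.posRoots P b) (l : List ι) :
    (inv P b l).ncard < (inv P b (c :: l)).ncard ↔
      (RedSub.wordPerm P l)⁻¹ c ∈ RedSub.posRoots P b := by
  have hΔ := IsSimple.of_base b
  have he : (RedSub.wordPerm P l)⁻¹ c = (wd P l)⁻¹ • c := by
    rw [Equiv.Perm.inv_eq_iff_eq, wordPerm_apply, smul_inv_smul]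
  rw [he]
  refine ⟨fun h => ?_, fun h => ncard_lt P b c hc l h (smul_inv_smul _ _)⟩
  by_contra hd
  have hd' : P.reflectionPerm ((wd P l)⁻¹ • c) ((wd P l)⁻¹ • c) ∈ RedSub.posRoots P b :=
    (hΔ.cover_pos _).resolve_left hd
  have h2 := ncard_lt P b c hc (c :: l) hd' (by
    rw [wd_cons, mul_smul, smul_neg_idx, smul_inv_smul, reflection_smul_idx, refl_refl])
  have e : inv P b (c :: c :: l) = inv P b l := by
    ext a
    simp only [inv, Set.mem_ofPred_eq, wordPerm_apply, wd_cons, ← mul_assoc, reflection_mul_self,
      _root_.one_mul]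
  rw [e] at h2
  omega

/-- the exchange property for an arbitrary reflection -/
theorem exists_exchange (l : List ι) (hl : ∀ a ∈ l, a ∈ b.support) (c : ι)
    (hc : c ∈ RedSub.posRoots P b) (hneg : (RedSub.wordPerm P l).symm c ∈ RedSub.negRoots P b) :
    ∃ i : ℕ, i < l.length ∧
      P.reflectionPerm c * RedSub.wordPerm P (l.take (i + 1)) = RedSub.wordPerm P (l.take i) := by
  have hΔ := IsSimple.of_base b
  have he : (RedSub.wordPerm P l).symm c = (wd P l)⁻¹ • c := by
    rw [Equiv.symm_apply_eq, wordPerm_apply, smul_inv_smul]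
  rw [he, ← wd_reverse, neg_iff] at hneg
  obtain ⟨p, a, q, hsplit, hq⟩ := hΔ.exists_flip hc (indiv_of_reduced c) l.reverse
    (fun x hx => hl x (List.mem_reverse.1 hx)) hneg
  have hl' : l = q.reverse ++ a :: p.reverse := by
    rw [← List.reverse_reverse l, hsplit]; simp
  have hq' : wd P q.reverse • a = c := by rw [wd_reverse, ← hq, inv_smul_smul]
  refine ⟨q.reverse.length, by rw [hl']; simp, Equiv.ext fun x => ?_⟩
  have t1 : l.take (q.reverse.length + 1) = q.reverse ++ [a] := by
    rw [hl', List.take_length_add_append]; rfl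
  have t2 : l.take q.reverse.length = q.reverse := by rw [hl', List.take_left]
  rw [Equiv.Perm.mul_apply, t1, t2, wordPerm_apply, wordPerm_apply, ← reflection_smul_idx,
    ← mul_smul, ← hq', ← conj_reflection, wd_append, wd_singleton]
  congr 1
  rw [mul_assoc, inv_mul_cancel_left, mul_assoc, reflection_mul_self, mul_one]

end Groth.L25.RootWord
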