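import Groth.Prelude.Def_RedSub
import Mathlib.LinearAlgebra.RootSystem.BaseExists

/-!
# Closed sets of roots containing each root or its opposite contain the positive roots of a base
-/

set_option autoImplicit false

open RootPairing

namespace Groth.L25.ParabolicSet

variable {idx M N : Type} [AddCommGroup M] [AddCommGroup N] (P : RootPairing idx ℤ M N)

/-- coefficients of a non-negative combination -/
theorem exists_coeff (s : Finset idx) {m : M} (hm : m ∈ AddSubmonoid.closure (P.root '' (s : Set idx))) :
    ∃ f : idx → ℕ, m = ∑ j ∈ s, (f j : ℤ) • P.root j := by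
  classical
  induction hm using AddSubmonoid.closure_induction with
  | mem x hx =>
    obtain ⟨j, hj, rfl⟩ := hx
    exact ⟨Pi.single j 1, by
      rw [Finset.sum_eq_single_of_mem j hj fun i _ hi => by simp [hi]]
      simp⟩
  | zero => exact ⟨0, by simp⟩
  | add x y _ _ hx hy =>
    obtain ⟨f, rfl⟩ := hx
    obtain ⟨g, rfl⟩ := hy
    exact ⟨f + g, by simp [add_smul, Finset.sum_add_distrib]⟩

theorem isPos_iff_mem [Finite idx] (b : P.Base) (a : idx) : b.IsPos a ↔ a ∈ RedSub.posRoots P b := by
  constructor
  · intro h
    refine (b.root_mem_or_neg_mem a).resolve_right fun hn => ?_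
    obtain ⟨f, hf⟩ := exists_coeff P b.support hn
    have e : P.root a = ∑ j ∈ b.support, (-(f j : ℤ)) • P.root j := by
      simp only [neg_smul, Finset.sum_neg_distrib, ← hf, neg_neg]
    rw [Base.isPos_iff, Base.height_eq_sum e] at h
    have : ∑ j ∈ b.support, (-(f j : ℤ)) ≤ 0 := Finset.sum_nonpos fun j _ => by simp
    omega
  · intro h
    obtain ⟨f, hf⟩ := exists_coeff P b.support h
    rw [Base.isPos_iff', Base.height_eq_sum hf]
    exact Finset.sum_nonneg fun j _ => by simp

open Classical in
/-- the base reflected in one of its roots -/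
noncomputable def reflectBase (b : P.Base) (j : idx) : P.Base where
  support := b.support.image (P.reflectionPerm j)
  linearIndepOn_root := by
    rw [Finset.coe_image, linearIndepOn_iff_image (P.root.injective.injOn), ← Set.image_comp]
    have e : (P.root ∘ P.reflectionPerm j : idx → M) = (P.reflection j) ∘ P.root :=
      funext fun i => P.root_reflectionPerm j i
    rw [e, Set.image_comp]
    exact ((linearIndepOn_iff_image P.root.injective.injOn).1 b.linearIndepOn_root).image
      (f := (P.reflection j).toLinearMap) (by simp)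
  linearIndepOn_coroot := by
    rw [Finset.coe_image, linearIndepOn_iff_image (P.coroot.injective.injOn), ← Set.image_comp]
    have e : (P.coroot ∘ P.reflectionPerm j : idx → N) = (P.coreflection j) ∘ P.coroot :=
      funext fun i => P.coroot_reflectionPerm j i
    rw [e, Set.image_comp]
    exact ((linearIndepOn_iff_image P.coroot.injective.injOn).1 b.linearIndepOn_coroot).image
      (f := (P.coreflection j).toLinearMap) (by simp)
  root_mem_or_neg_mem i := by
    have h := b.root_mem_or_neg_mem (P.reflectionPerm j i)
    have e : P.reflection j (P.root (P.reflectionPerm j i)) = P.root i := by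
      rw [← P.root_reflectionPerm, P.reflectionPerm_self]
    have key : ∀ m ∈ AddSubmonoid.closure (P.root '' (b.support : Set idx)),
        P.reflection j m ∈ AddSubmonoid.closure (P.root '' ((b.support.image (P.reflectionPerm j)) : Set idx)) := by
      intro m hm
      have h1 := AddSubmonoid.mem_map_of_mem (P.reflection j).toAddEquiv.toAddMonoidHom hm
      rw [AddMonoidHom.map_mclosure] at h1
      refine AddSubmonoid.closure_mono ?_ h1
      rintro _ ⟨_, ⟨x, hx, rfl⟩, rfl⟩
      exact ⟨P.reflectionPerm j x, Finset.mem_coe.2 (Finset.mem_image_of_mem _ (Finset.mem_coe.1 hx)), P.root_reflectionPerm j x⟩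
    exact h.imp (fun h => by simpa [e] using key _ h) fun h => by simpa [e] using key _ h
  coroot_mem_or_neg_mem i := by
    have h := b.coroot_mem_or_neg_mem (P.reflectionPerm j i)
    have e : P.coreflection j (P.coroot (P.reflectionPerm j i)) = P.coroot i := by
      rw [← P.coroot_reflectionPerm, P.reflectionPerm_self]
    have key : ∀ m ∈ AddSubmonoid.closure (P.coroot '' (b.support : Set idx)),
        P.coreflection j m ∈
          AddSubmonoid.closure (P.coroot '' ((b.support.image (P.reflectionPerm j)) : Set idx)) := by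
      intro m hm
      have h1 := AddSubmonoid.mem_map_of_mem (P.coreflection j).toAddEquiv.toAddMonoidHom hm
      rw [AddMonoidHom.map_mclosure] at h1
      refine AddSubmonoid.closure_mono ?_ h1
      rintro _ ⟨_, ⟨x, hx, rfl⟩, rfl⟩
      exact ⟨P.reflectionPerm j x, Finset.mem_coe.2 (Finset.mem_image_of_mem _ (Finset.mem_coe.1 hx)), P.coroot_reflectionPerm j x⟩
    exact h.imp (fun h => by simpa [e] using key _ h) fun h => by simpa [e] using key _ h

/-- a parabolic set of roots contains a system of positive roots -/
theorem exists_base [Finite idx] (C : Set idx)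
    (hcl : ∀ a b c : idx, a ∈ C → b ∈ C → P.root a + P.root b = P.root c → c ∈ C)
    (hpar : ∀ a, a ∈ C ∨ P.reflectionPerm a a ∈ C) (b₀ : P.Base) :
    ∃ b : P.Base, RedSub.posRoots P b ⊆ C := by
  classical
  obtain ⟨b, -, hmin⟩ := (InvImage.wf (fun b : P.Base => (RedSub.posRoots P b \ C).ncard) wellFounded_lt).has_min
    Set.univ ⟨b₀, trivial⟩
  refine ⟨b, ?_⟩
  by_cases hsup : (b.support : Set idx) ⊆ C
  · intro a ha
    exact ((isPos_iff_mem P b a).2 ha).induction_on_add (fun i hi => hsup hi)
      fun i j k hk hi hj => hcl i j k hi (hsup hj) hk.symm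
  exfalso
  obtain ⟨j, hj, hjC⟩ := Set.not_subset.1 hsup
  let b' := reflectBase P b j
  refine hmin b' trivial (Set.ncard_lt_ncard ?_ (Set.toFinite _))
  have hpos' : ∀ a, a ∈ RedSub.posRoots P b' → P.reflectionPerm j a ∈ RedSub.posRoots P b := by
    intro a ha
    show P.root (P.reflectionPerm j a) ∈ AddSubmonoid.closure (P.root '' (b.support : Set idx))
    rw [P.root_reflectionPerm]
    have ha' : P.root a ∈ AddSubmonoid.closure (P.root '' (b'.support : Set idx)) := ha
    have h1 := AddSubmonoid.mem_map_of_mem (P.reflection j).toAddEquiv.toAddMonoidHom ha'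
    rw [AddMonoidHom.map_mclosure] at h1
    refine AddSubmonoid.closure_mono ?_ h1
    rintro _ ⟨_, ⟨x, hx, rfl⟩, rfl⟩
    obtain ⟨y, hy, rfl⟩ : ∃ y ∈ b.support, P.reflectionPerm j y = x := by
      exact Finset.mem_image.1 (Finset.mem_coe.1 hx)
    refine ⟨y, hy, ?_⟩
    show P.root y = P.reflection j (P.root (P.reflectionPerm j y))
    rw [← P.root_reflectionPerm, P.reflectionPerm_self]
  have hneg : P.reflectionPerm j j ∈ C := (hpar j).resolve_left hjC
  have hjneg : j ∉ RedSub.posRoots P b' := by
    intro h
    have h2 := hpos' j h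
    obtain ⟨f, hf⟩ := exists_coeff P b.support h2
    rw [show P.root (P.reflectionPerm j j) = -P.root j by
      rw [P.root_reflectionPerm, RootPairing.reflection_apply_self]] at hf
    have hz : ∑ i ∈ b.support, ((f i : ℤ) + if i = j then 1 else 0) • P.root i = 0 := by
      simp only [add_smul, Finset.sum_add_distrib, ← hf, ite_smul, one_smul, zero_smul, Finset.sum_ite_eq',
        Finset.mem_coe.1 hj, if_true, neg_add_cancel]
    have := linearIndepOn_finset_iff.1 b.linearIndepOn_root _ hz j hj
    simp at this
    omega
  refine Set.ssubset_iff_of_subset (fun a ha => ?_) |>.2 ⟨j, ⟨AddSubmonoid.subset_closure ⟨j, hj, rfl⟩, hjC⟩,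
    fun h => hjneg h.1⟩
  refine ⟨?_, ha.2⟩
  by_contra hneg'
  obtain ⟨f, hf⟩ := exists_coeff P b.support ((b.root_mem_or_neg_mem a).resolve_left hneg')
  obtain ⟨g, hg⟩ := exists_coeff P b.support (hpos' a ha.1)
  rw [P.root_reflectionPerm, RootPairing.reflection_apply_root] at hg
  have hz : ∑ i ∈ b.support, ((f i : ℤ) + g i + if i = j then P.pairing a j else 0) • P.root i = 0 := by
    simp only [add_smul, Finset.sum_add_distrib, ← hf, ← hg, ite_smul, zero_smul, Finset.sum_ite_eq',
      Finset.mem_coe.1 hj, if_true]
    abel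
  have hcoef := linearIndepOn_finset_iff.1 b.linearIndepOn_root _ hz
  have hroot : -P.root a = (f j : ℤ) • P.root j := by
    rw [hf]
    refine Finset.sum_eq_single_of_mem j hj fun i hi hij => ?_
    have := hcoef i hi
    rw [if_neg hij] at this
    rw [show (f i : ℤ) = 0 by omega, zero_smul]
  have hpair : -(2 : ℤ) = (f j : ℤ) * P.pairing j a := by
    have h := congrArg (P.coroot' a) hroot
    simpa [map_neg, map_zsmul, P.root_coroot'_eq_pairing, RootPairing.pairing_same] using h
  rcases (Nat.dvd_prime Nat.prime_two).1 (Int.natCast_dvd_natCast.1 (⟨-(P.pairing j a), by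
      push_cast; linarith⟩ : ((f j : ℕ) : ℤ) ∣ ((2 : ℕ) : ℤ))) with h1 | h2
  · rw [h1, Nat.cast_one, one_smul] at hroot
    apply ha.2
    rwa [show a = P.reflectionPerm j j from P.root.injective (by
      rw [P.root_reflectionPerm, RootPairing.reflection_apply_self, ← hroot, neg_neg])]
  · rw [h2, Nat.cast_ofNat, two_smul] at hroot
    refine ha.2 (hcl _ _ a hneg hneg ?_)
    rw [P.root_reflectionPerm, RootPairing.reflection_apply_self, ← neg_add, ← hroot, neg_neg]

end Groth.L25.ParabolicSet
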