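import Mathlib.CategoryTheory.Monoidal.Grp

/-!
# Group structures and equations seen through a product preserving functor
-/

set_option autoImplicit false

universe v v' w w'

open CategoryTheory MonoidalCategory CartesianMonoidalCategory MonObj
open Functor.LaxMonoidal Functor.Monoidal

noncomputable section

namespace Groth.L25.GrpStage

variable {C : Type w} [Category.{v} C] [CartesianMonoidalCategory C] {D : Type w'} [Category.{v'} D]
  [CartesianMonoidalCategory D] (P : C ⥤ D) [P.Monoidal] {X : C} (m : X ⊗ X ⟶ X) (o : 𝟙_ C ⟶ X) (i : X ⟶ X)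

/-- the mapped multiplication -/
abbrev mulP : P.obj X ⊗ P.obj X ⟶ P.obj X := Functor.LaxMonoidal.μ P X X ≫ P.map m

/-- the mapped unit -/
abbrev oneP : 𝟙_ D ⟶ P.obj X := Functor.LaxMonoidal.ε P ≫ P.map o

/-- the group axioms after applying the functor -/
structure Axioms : Prop where
  assoc : P.map ((m ▷ X) ≫ m) = P.map ((α_ X X X).hom ≫ (X ◁ m) ≫ m)
  one_mul : P.map ((o ▷ X) ≫ m) = P.map (λ_ X).hom
  mul_one : P.map ((X ◁ o) ≫ m) = P.map (ρ_ X).hom
  left_inv : P.map (CartesianMonoidalCategory.lift i (𝟙 X) ≫ m) = P.map (toUnit X ≫ o)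
  right_inv : P.map (CartesianMonoidalCategory.lift (𝟙 X) i ≫ m) = P.map (toUnit X ≫ o)

theorem toUnit_ε : toUnit (P.obj X) ≫ Functor.LaxMonoidal.ε P = P.map (toUnit X) := by
  rw [← cancel_mono (Functor.Monoidal.εIso P).inv, Category.assoc]
  exact toUnit_unique _ _

theorem assoc_lhs : (Functor.LaxMonoidal.μ P X X ▷ P.obj X) ≫ Functor.LaxMonoidal.μ P (X ⊗ X) X ≫
    P.map ((m ▷ X) ≫ m) = (mulP P m ▷ P.obj X) ≫ mulP P m := by
  simp

theorem assoc_rhs : (Functor.LaxMonoidal.μ P X X ▷ P.obj X) ≫ Functor.LaxMonoidal.μ P (X ⊗ X) X ≫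
    P.map ((α_ X X X).hom ≫ (X ◁ m) ≫ m) =
    (α_ (P.obj X) (P.obj X) (P.obj X)).hom ≫ (P.obj X ◁ mulP P m) ≫ mulP P m := by
  simp

theorem one_lhs : (Functor.LaxMonoidal.ε P ▷ P.obj X) ≫ Functor.LaxMonoidal.μ P (𝟙_ C) X ≫
    P.map ((o ▷ X) ≫ m) = (oneP P o ▷ P.obj X) ≫ mulP P m := by
  simp

theorem one_rhs : (Functor.LaxMonoidal.ε P ▷ P.obj X) ≫ Functor.LaxMonoidal.μ P (𝟙_ C) X ≫
    P.map (λ_ X).hom = (λ_ (P.obj X)).hom := by
  simp

theorem one_lhs' : (P.obj X ◁ Functor.LaxMonoidal.ε P) ≫ Functor.LaxMonoidal.μ P X (𝟙_ C) ≫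
    P.map ((X ◁ o) ≫ m) = (P.obj X ◁ oneP P o) ≫ mulP P m := by
  simp

theorem one_rhs' : (P.obj X ◁ Functor.LaxMonoidal.ε P) ≫ Functor.LaxMonoidal.μ P X (𝟙_ C) ≫
    P.map (ρ_ X).hom = (ρ_ (P.obj X)).hom := by
  simp

theorem inv_lhs (a b : X ⟶ X) : P.map (CartesianMonoidalCategory.lift a b ≫ m) =
    CartesianMonoidalCategory.lift (P.map a) (P.map b) ≫ mulP P m := by
  rw [P.map_comp, ← Category.assoc, Functor.Monoidal.lift_μ]

theorem inv_rhs : P.map (toUnit X ≫ o) = toUnit (P.obj X) ≫ oneP P o := by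
  rw [P.map_comp, ← toUnit_ε, Category.assoc]

/-- a group structure on the image built from the mapped axioms -/
@[instance_reducible]
def grp (h : Axioms P m o i) : GrpObj (P.obj X) where
  one := oneP P o
  mul := mulP P m
  one_mul := by rw [← one_lhs, h.one_mul, one_rhs]
  mul_one := by rw [← one_lhs', h.mul_one, one_rhs']
  mul_assoc := by rw [← assoc_lhs, h.assoc, assoc_rhs]
  inv := P.map i
  left_inv := by
    have := h.left_inv
    rwa [inv_lhs, inv_rhs, P.map_id] at this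
  right_inv := by
    have := h.right_inv
    rwa [inv_lhs, inv_rhs, P.map_id] at this

/-- mapped axioms hold when the image is a group with the mapped operations -/
theorem axioms_of [GrpObj (P.obj X)] (hm : mulP P m = μ[P.obj X]) (ho : oneP P o = η[P.obj X])
    (hi : P.map i = GrpObj.inv (X := P.obj X)) : Axioms P m o i where
  assoc := by
    rw [← cancel_epi (Functor.LaxMonoidal.μ P (X ⊗ X) X), ← cancel_epi (Functor.LaxMonoidal.μ P X X ▷ P.obj X),
      assoc_lhs, assoc_rhs, hm]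
    exact MonObj.mul_assoc _
  one_mul := by
    rw [← cancel_epi (Functor.LaxMonoidal.μ P (𝟙_ C) X), ← cancel_epi (Functor.LaxMonoidal.ε P ▷ P.obj X),
      one_lhs, one_rhs, hm, ho]
    exact MonObj.one_mul _
  mul_one := by
    rw [← cancel_epi (Functor.LaxMonoidal.μ P X (𝟙_ C)), ← cancel_epi (P.obj X ◁ Functor.LaxMonoidal.ε P),
      one_lhs', one_rhs', hm, ho]
    exact MonObj.mul_one _
  left_inv := by
    rw [inv_lhs, inv_rhs, hm, ho, hi, P.map_id]
    exact GrpObj.left_inv _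
  right_inv := by
    rw [inv_lhs, inv_rhs, hm, ho, hi, P.map_id]
    exact GrpObj.right_inv _

/-- transport of a group structure along an isomorphism -/
@[instance_reducible]
def ofIso {G H : C} [GrpObj G] (e : G ≅ H) : GrpObj H where
  toMonObj := MonObj.ofIso e
  inv := e.inv ≫ GrpObj.inv (X := G) ≫ e.hom
  left_inv := by
    show CartesianMonoidalCategory.lift _ _ ≫ (e.inv ⊗ₘ e.inv) ≫ μ[G] ≫ e.hom = toUnit _ ≫ η[G] ≫ e.hom
    rw [lift_map_assoc, Category.id_comp, Category.assoc, Category.assoc, e.hom_inv_id, Category.comp_id,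
      show CartesianMonoidalCategory.lift (e.inv ≫ GrpObj.inv (X := G)) e.inv =
        e.inv ≫ CartesianMonoidalCategory.lift (GrpObj.inv (X := G)) (𝟙 G) by simp, Category.assoc,
      GrpObj.left_inv_assoc, ← Category.assoc, comp_toUnit]
  right_inv := by
    show CartesianMonoidalCategory.lift _ _ ≫ (e.inv ⊗ₘ e.inv) ≫ μ[G] ≫ e.hom = toUnit _ ≫ η[G] ≫ e.hom
    rw [lift_map_assoc, Category.id_comp, Category.assoc, Category.assoc, e.hom_inv_id, Category.comp_id,
      show CartesianMonoidalCategory.lift e.inv (e.inv ≫ GrpObj.inv (X := G)) =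
        e.inv ≫ CartesianMonoidalCategory.lift (𝟙 G) (GrpObj.inv (X := G)) by simp, Category.assoc,
      GrpObj.right_inv_assoc, ← Category.assoc, comp_toUnit]

end Groth.L25.GrpStage
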