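import Groth.Agent.L25.LimHom
import Groth.Agent.L25.GrpStage

/-!
# Group schemes over a limit of schemes with affine transition maps come from a stage
-/

set_option autoImplicit false
set_option backward.isDefEq.respectTransparency.types false
set_option linter.style.haveILetI false
set_option linter.unusedSectionVars false
set_option backward.isDefEq.respectTransparency false
set_option backward.defeqAttrib.useBackward true

universe u

open CategoryTheory CategoryTheory.Limits MonoidalCategory CartesianMonoidalCategory MonObj AlgebraicGeometry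
open Groth.L25.GrpStage

noncomputable section

namespace Groth.L25.LimHom

section Coherence

variable {A B C : Scheme.{u}} {b : C ⟶ B} {a : B ⟶ A} {h : C ⟶ A}

/-- naturality of the comparison of base changes -/
theorem cmp_naturality (hc : b ≫ a = h) {X Y : Over A} (x : X ⟶ Y) :
    (Over.pullback b).map ((Over.pullback a).map x) ≫ (cmp hc Y).hom = (cmp hc X).hom ≫ (Over.pullback h).map x := by
  rw [(map_eq_iff hc ((Over.pullback a).map x) ((Over.pullback h).map x)).2 ?_]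
  · simp
  · show q hc X ≫ pullback.lift (pullback.fst X.hom a ≫ x.left) (pullback.snd X.hom a) _ ≫ pullback.fst Y.hom a =
      pullback.lift (pullback.fst X.hom h ≫ x.left) (pullback.snd X.hom h) _ ≫ pullback.fst Y.hom h
    rw [pullback.lift_fst, pullback.lift_fst, ← Category.assoc]
    congr 1
    exact (pullback.lift_fst _ _ _).trans (Category.comp_id _)

/-- the comparison respects products -/
theorem cmp_μ (hc : b ≫ a = h) (X Y : Over A) :
    Functor.LaxMonoidal.μ (Over.pullback b) (Red.bc a X) (Red.bc a Y) ≫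
      (Over.pullback b).map (Functor.LaxMonoidal.μ (Over.pullback a) X Y) ≫ (cmp hc (X ⊗ Y)).hom =
      ((cmp hc X).hom ⊗ₘ (cmp hc Y).hom) ≫ Functor.LaxMonoidal.μ (Over.pullback h) X Y := by
  let F := Over.pullback h
  rw [← cancel_mono (Functor.Monoidal.μIso F X Y).inv]
  have h1 : (Functor.Monoidal.μIso F X Y).inv ≫ fst (F.obj X) (F.obj Y) = F.map (fst X Y) :=
    (Iso.inv_comp_eq (Functor.Monoidal.μIso F X Y)).2 (Functor.Monoidal.μ_fst F X Y).symm
  have h2 : (Functor.Monoidal.μIso F X Y).inv ≫ snd (F.obj X) (F.obj Y) = F.map (snd X Y) :=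
    (Iso.inv_comp_eq (Functor.Monoidal.μIso F X Y)).2 (Functor.Monoidal.μ_snd F X Y).symm
  refine CartesianMonoidalCategory.hom_ext _ _ ?_ ?_
  · simp only [Category.assoc, h1]
    rw [show F.map (fst X Y) = (Over.pullback h).map (fst X Y) from rfl, Functor.Monoidal.μ_fst,
      ← cmp_naturality hc (fst X Y), ← Functor.map_comp_assoc, Functor.Monoidal.μ_fst,
      Functor.Monoidal.μ_fst_assoc, tensorHom_fst]
  · simp only [Category.assoc, h2]
    rw [show F.map (snd X Y) = (Over.pullback h).map (snd X Y) from rfl, Functor.Monoidal.μ_snd,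
      ← cmp_naturality hc (snd X Y), ← Functor.map_comp_assoc, Functor.Monoidal.μ_snd,
      Functor.Monoidal.μ_snd_assoc, tensorHom_snd]

/-- the comparison respects units -/
theorem cmp_ε (hc : b ≫ a = h) :
    Functor.LaxMonoidal.ε (Over.pullback b) ≫ (Over.pullback b).map (Functor.LaxMonoidal.ε (Over.pullback a)) ≫
      (cmp hc (𝟙_ (Over A))).hom = Functor.LaxMonoidal.ε (Over.pullback h) := by
  rw [← cancel_mono (Functor.Monoidal.εIso (Over.pullback h)).inv]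
  exact toUnit_unique _ _

end Coherence

variable {I : Type u} [SmallCategory I] [IsCofiltered I] (D : I ⥤ Scheme.{u}) (c : Cone D) (hc : IsLimit c)
  [∀ (i i' : I) (f : i ⟶ i'), IsAffineHom (D.map f)] [∀ i, CompactSpace (D.obj i)]
  [∀ i, QuasiSeparatedSpace (D.obj i)]

/-- the relation to the limit persists at later stages -/
theorem rel_after {j i i' : I} {f : i ⟶ j} (g : i' ⟶ i) {f' : i' ⟶ j} (hgf : g ≫ f = f') {X Y : Over (D.obj j)}
    (v : Red.bc (D.map f) X ⟶ Red.bc (D.map f) Y) (w : Red.bc (c.π.app j) X ⟶ Red.bc (c.π.app j) Y)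
    (hv : (Over.pullback (c.π.app i)).map v = (cmp (c.w f) X).hom ≫ w ≫ (cmp (c.w f) Y).inv) :
    ∃ v' : Red.bc (D.map f') X ⟶ Red.bc (D.map f') Y,
      (Over.pullback (c.π.app i')).map v' = (cmp (c.w f') X).hom ≫ w ≫ (cmp (c.w f') Y).inv := by
  subst hgf
  have e : D.map g ≫ D.map f = D.map (g ≫ f) := (D.map_comp g f).symm
  refine ⟨mk e v, (map_eq_iff _ _ _).2 ?_⟩
  rw [mk_fst, ← Category.assoc, show q (c.w (g ≫ f)) X ≫ q e X = q (c.w f) X from ?_]
  · exact (map_eq_iff (c.w f) v w).1 hv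
  · apply pullback.hom_ext <;> simp [q]

/-- an equation at a stage persists at later stages -/
theorem eq_after {i i' i'' : I} {g : i' ⟶ i} (g' : i'' ⟶ i') {g'' : i'' ⟶ i} (hg : g' ≫ g = g'')
    {X Y : Over (D.obj i)} (x y : X ⟶ Y) (e : (Over.pullback (D.map g)).map x = (Over.pullback (D.map g)).map y) :
    (Over.pullback (D.map g'')).map x = (Over.pullback (D.map g'')).map y := by
  subst hg
  have h : D.map g' ≫ D.map g = D.map (g' ≫ g) := (D.map_comp g' g).symm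
  rw [← cancel_epi (cmp h X).hom, ← cmp_naturality, ← cmp_naturality, e]

include hc in
/-- group axioms holding over the limit hold at a stage -/
theorem exists_axioms (i : I) {X : Over (D.obj i)} [QuasiCompact X.hom] [LocallyOfFiniteType X.hom]
    (m : X ⊗ X ⟶ X) (o : 𝟙_ (Over (D.obj i)) ⟶ X) (n : X ⟶ X)
    (h : Axioms (Over.pullback (c.π.app i)) m o n) :
    ∃ (i' : I) (g : i' ⟶ i), Axioms (Over.pullback (D.map g)) m o n := by
  haveI : QuasiCompact (𝟙_ (Over (D.obj i))).hom := inferInstanceAs (QuasiCompact (𝟙 (D.obj i)))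
  haveI : QuasiCompact (X ⊗ X).hom := by
    show QuasiCompact (pullback.fst _ _ ≫ X.hom)
    infer_instance
  haveI : QuasiCompact ((X ⊗ X) ⊗ X).hom := by
    show QuasiCompact (pullback.fst _ _ ≫ (X ⊗ X).hom)
    infer_instance
  haveI : QuasiCompact ((𝟙_ (Over (D.obj i))) ⊗ X).hom := by
    show QuasiCompact (pullback.fst _ _ ≫ (𝟙_ (Over (D.obj i))).hom)
    infer_instance
  haveI : QuasiCompact (X ⊗ 𝟙_ (Over (D.obj i))).hom := by
    show QuasiCompact (pullback.fst _ _ ≫ X.hom)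
    infer_instance
  obtain ⟨i₁, g₁, e₁⟩ := exists_eq D c hc i _ _ _ h.assoc
  obtain ⟨i₂, g₂, e₂⟩ := exists_eq D c hc i _ _ _ h.one_mul
  obtain ⟨i₃, g₃, e₃⟩ := exists_eq D c hc i _ _ _ h.mul_one
  obtain ⟨i₄, g₄, e₄⟩ := exists_eq D c hc i _ _ _ h.left_inv
  obtain ⟨i₅, g₅, e₅⟩ := exists_eq D c hc i _ _ _ h.right_inv
  obtain ⟨k₁, a₁, b₁, h₁⟩ := IsCofiltered.cospan g₁ g₂
  obtain ⟨k₂, a₂, b₂, h₂⟩ := IsCofiltered.cospan (a₁ ≫ g₁) g₃
  obtain ⟨k₃, a₃, b₃, h₃⟩ := IsCofiltered.cospan (a₂ ≫ a₁ ≫ g₁) g₄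
  obtain ⟨k₄, a₄, b₄, h₄⟩ := IsCofiltered.cospan (a₃ ≫ a₂ ≫ a₁ ≫ g₁) g₅
  refine ⟨k₄, a₄ ≫ a₃ ≫ a₂ ≫ a₁ ≫ g₁,
    eq_after D (a₄ ≫ a₃ ≫ a₂ ≫ a₁) (by simp) _ _ e₁,
    eq_after D (a₄ ≫ a₃ ≫ a₂ ≫ b₁) (by simp only [Category.assoc, h₁]) _ _ e₂,
    eq_after D (a₄ ≫ a₃ ≫ b₂) (by simp only [Category.assoc, ← h₂]) _ _ e₃,
    eq_after D (a₄ ≫ b₃) (by simp only [Category.assoc, ← h₃]) _ _ e₄,
    eq_after D b₄ h₄.symm _ _ e₅⟩

include hc in
/-- a group structure over the limit on the base change of a scheme comes from a stage -/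
theorem exists_grp (j : I) (G₀ : Over (D.obj j)) [QuasiCompact G₀.hom] [QuasiSeparated G₀.hom]
    [LocallyOfFinitePresentation G₀.hom] (G : Over c.pt) [GrpObj G] (e : G ≅ Red.bc (c.π.app j) G₀) :
    ∃ (i : I) (Gi : Over (D.obj i)) (_ : GrpObj Gi) (e' : G ≅ Red.bc (c.π.app i) Gi),
      IsMonHom e'.hom ∧ LocallyOfFinitePresentation Gi.hom ∧ QuasiCompact Gi.hom ∧ QuasiSeparated Gi.hom := by
  letI gG' : GrpObj (Red.bc (c.π.app j) G₀) := GrpStage.ofIso e
  let P := Over.pullback (c.π.app j)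
  haveI : QuasiCompact (𝟙_ (Over (D.obj j))).hom := inferInstanceAs (QuasiCompact (𝟙 (D.obj j)))
  haveI : QuasiSeparated (𝟙_ (Over (D.obj j))).hom := inferInstanceAs (QuasiSeparated (𝟙 (D.obj j)))
  haveI : QuasiCompact (G₀ ⊗ G₀).hom := by
    show QuasiCompact (pullback.fst _ _ ≫ G₀.hom)
    infer_instance
  haveI : QuasiSeparated (G₀ ⊗ G₀).hom := by
    show QuasiSeparated (pullback.fst _ _ ≫ G₀.hom)
    infer_instance
  obtain ⟨i₁, f₁, v₁, hv₁⟩ := exists_hom D c hc j (G₀ ⊗ G₀)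
    ((Functor.Monoidal.μIso P G₀ G₀).inv ≫ μ[Red.bc (c.π.app j) G₀])
  obtain ⟨i₂, f₂, v₂, hv₂⟩ := exists_hom D c hc j (𝟙_ (Over (D.obj j)))
    ((Functor.Monoidal.εIso P).inv ≫ η[Red.bc (c.π.app j) G₀])
  obtain ⟨i₃, f₃, v₃, hv₃⟩ := exists_hom D c hc j G₀ (GrpObj.inv (X := Red.bc (c.π.app j) G₀))
  obtain ⟨k₁, a₁, b₁, h₁⟩ := IsCofiltered.cospan f₁ f₂
  obtain ⟨i, a₂, b₂, h₂⟩ := IsCofiltered.cospan (a₁ ≫ f₁) f₃
  let f : i ⟶ j := a₂ ≫ a₁ ≫ f₁
  obtain ⟨vm, hm⟩ := rel_after D c (a₂ ≫ a₁) (Category.assoc _ _ _ : _ = f) v₁ _ hv₁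
  obtain ⟨vo, ho⟩ := rel_after D c (a₂ ≫ b₁) (by simp only [f, Category.assoc, h₁] : _ = f) v₂ _ hv₂
  obtain ⟨n, hn⟩ := rel_after D c b₂ (by simp only [f, h₂] : _ = f) v₃ _ hv₃
  let X := Red.bc (D.map f) G₀
  let m : X ⊗ X ⟶ X := Functor.LaxMonoidal.μ (Over.pullback (D.map f)) G₀ G₀ ≫ vm
  let o : 𝟙_ (Over (D.obj i)) ⟶ X := Functor.LaxMonoidal.ε (Over.pullback (D.map f)) ≫ vo
  let Q := Over.pullback (c.π.app i)
  letI gZ : GrpObj (Q.obj X) := GrpStage.ofIso (cmp (c.w f) G₀).symm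
  have hμ : mulP Q m = μ[Q.obj X] := by
    show Functor.LaxMonoidal.μ Q X X ≫ Q.map (Functor.LaxMonoidal.μ (Over.pullback (D.map f)) G₀ G₀ ≫ vm) =
      ((cmp (c.w f) G₀).hom ⊗ₘ (cmp (c.w f) G₀).hom) ≫ μ[Red.bc (c.π.app j) G₀] ≫ (cmp (c.w f) G₀).inv
    rw [Q.map_comp, hm, reassoc_of% (cmp_μ (c.w f) G₀ G₀)]
    simp [P]
  have hη : oneP Q o = η[Q.obj X] := by
    show Functor.LaxMonoidal.ε Q ≫ Q.map (Functor.LaxMonoidal.ε (Over.pullback (D.map f)) ≫ vo) =
      η[Red.bc (c.π.app j) G₀] ≫ (cmp (c.w f) G₀).inv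
    rw [Q.map_comp, ho, reassoc_of% (cmp_ε (c.w f))]
    simp [P]
  haveI : LocallyOfFinitePresentation X.hom :=
    inferInstanceAs (LocallyOfFinitePresentation (pullback.snd G₀.hom (D.map f)))
  haveI : QuasiCompact X.hom := inferInstanceAs (QuasiCompact (pullback.snd G₀.hom (D.map f)))
  haveI : QuasiSeparated X.hom := inferInstanceAs (QuasiSeparated (pullback.snd G₀.hom (D.map f)))
  obtain ⟨i', g, hg⟩ := exists_axioms D c hc i m o n (axioms_of Q m o n hμ hη hn)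
  letI gr : GrpObj (Red.bc (D.map g) X) := GrpStage.grp (Over.pullback (D.map g)) m o n hg
  let Q' := Over.pullback (c.π.app i')
  haveI hk : IsMonHom (cmp (c.w g) X).hom :=
    { one_hom := by
        show (Functor.LaxMonoidal.ε Q' ≫ Q'.map (Functor.LaxMonoidal.ε (Over.pullback (D.map g)) ≫
          (Over.pullback (D.map g)).map o)) ≫ (cmp (c.w g) X).hom = η[Q.obj X]
        rw [Category.assoc, Q'.map_comp, Category.assoc, cmp_naturality, reassoc_of% (cmp_ε (c.w g)), ← hη]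
      mul_hom := by
        show (Functor.LaxMonoidal.μ Q' _ _ ≫ Q'.map (Functor.LaxMonoidal.μ (Over.pullback (D.map g)) X X ≫
          (Over.pullback (D.map g)).map m)) ≫ (cmp (c.w g) X).hom = _ ≫ μ[Q.obj X]
        rw [Category.assoc, Q'.map_comp, Category.assoc, cmp_naturality, reassoc_of% (cmp_μ (c.w g) X X), ← hμ] }
  haveI h1 : IsMonHom e.hom := CategoryTheory.isMonHom_ofIso e
  haveI h2 : IsMonHom (cmp (c.w f) G₀).symm.hom := CategoryTheory.isMonHom_ofIso (cmp (c.w f) G₀).symm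
  haveI h3 : IsMonHom (cmp (c.w g) X).inv := inferInstance
  refine ⟨i', Red.bc (D.map g) X, gr, e ≪≫ (cmp (c.w f) G₀).symm ≪≫ (cmp (c.w g) X).symm, ?_,
    inferInstanceAs (LocallyOfFinitePresentation (pullback.snd X.hom (D.map g))),
    inferInstanceAs (QuasiCompact (pullback.snd X.hom (D.map g))),
    inferInstanceAs (QuasiSeparated (pullback.snd X.hom (D.map g)))⟩
  show IsMonHom (e.hom ≫ (cmp (c.w f) G₀).symm.hom ≫ (cmp (c.w g) X).inv)
  infer_instance

end Groth.L25.LimHom
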