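import Groth.Prelude.Def_Red
import Groth.Agent.L25.LimGrp
import Groth.Agent.L05.DescendFP
import Groth.Agent.L05.NbhdLimit.Basic
import Groth.Agent.L19.Limit.Finite
import Mathlib.AlgebraicGeometry.FunctionField
import Mathlib.AlgebraicGeometry.Noetherian

/-!
# Closed subgroups of the generic fibre spread out
-/

set_option autoImplicit false
set_option backward.isDefEq.respectTransparency.types false
set_option backward.isDefEq.respectTransparency false
set_option backward.defeqAttrib.useBackward true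
set_option linter.style.haveILetI false
set_option maxHeartbeats 1000000

universe u

open CategoryTheory CategoryTheory.Limits MonoidalCategory CartesianMonoidalCategory MonObj AlgebraicGeometry
open Groth.L25.LimHom

noncomputable section

namespace Groth.L25.SpreadSub

theorem cmp_inv_fst {A B C : Scheme.{u}} {b : C ⟶ B} {a : B ⟶ A} {h : C ⟶ A} (hc : b ≫ a = h) (X : Over A) :
    (cmp hc X).inv.left ≫ pullback.fst (Red.bc a X).hom b ≫ pullback.fst X.hom a = pullback.fst X.hom h := by
  rw [← cmp_fst hc X, ← Category.assoc, ← Over.comp_left, Iso.inv_hom_id, Over.id_left, Category.id_comp]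

theorem map_fst {A B : Scheme.{u}} (a : B ⟶ A) {X Y : Over A} (x : X ⟶ Y) :
    ((Over.pullback a).map x).left ≫ pullback.fst Y.hom a = pullback.fst X.hom a ≫ x.left :=
  pullback.lift_fst _ _ _

theorem isPullback_map {A B : Scheme.{u}} (a : B ⟶ A) {X Y : Over A} (x : X ⟶ Y) :
    IsPullback (pullback.fst X.hom a) ((Over.pullback a).map x).left x.left (pullback.fst Y.hom a) := by
  refine IsPullback.of_bot ?_ (map_fst a x).symm (IsPullback.of_hasPullback Y.hom a)
  rw [Over.w x, show ((Over.pullback a).map x).left ≫ pullback.snd Y.hom a = pullback.snd X.hom a from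
    Over.w ((Over.pullback a).map x)]
  exact IsPullback.of_hasPullback X.hom a

theorem isMonHom_map {A B : Scheme.{u}} (a : B ⟶ A) {X Y : Over A} [GrpObj X] [GrpObj Y] (f : X ⟶ Y)
    [IsMonHom f] : IsMonHom ((Over.pullback a).map f) :=
  ((Over.pullback a).mapGrp.map (Grp.homMk'' (A := Grp.mk X) (B := Grp.mk Y) f
    (IsMonHom.one_hom f) (IsMonHom.mul_hom f))).hom.isMonHom_hom

theorem isIso_left {S : Scheme.{u}} {X Y : Over S} (e : X ⟶ Y) [IsIso e] : IsIso e.left :=
  inferInstanceAs (IsIso ((Over.forget _).map e))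

variable {I : Type u} [SmallCategory I] [IsCofiltered I] {D : I ⥤ Scheme.{u}} {c : Cone D}
  [∀ (i i' : I) (f : i ⟶ i'), IsAffineHom (D.map f)] [∀ i, CompactSpace (D.obj i)]
  [∀ i, QuasiSeparatedSpace (D.obj i)]

/-- the general form: spreading out a closed subgroup from the limit of a system of opens -/
theorem exists_spread_system (hc : IsLimit c) {X : Scheme.{u}} (ρ : ∀ j, D.obj j ⟶ X) [∀ j, IsOpenImmersion (ρ j)]
    (hρ : ∀ {a b : I} (φ : a ⟶ b), D.map φ ≫ ρ b = ρ a) (σ : c.pt ⟶ X) (hcρ : ∀ j, c.π.app j ≫ ρ j = σ)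
    (G : Over X) [GrpObj G] [QuasiCompact G.hom] [QuasiSeparated G.hom] [LocallyOfFinitePresentation G.hom]
    (Hη : Over c.pt) [GrpObj Hη] [LocallyOfFinitePresentation Hη.hom] [QuasiCompact Hη.hom] [QuasiSeparated Hη.hom]
    (i : Hη ⟶ Red.bc σ G) [IsMonHom i] [IsClosedImmersion i.left] :
    ∃ (U : X.Opens) (ηU : c.pt ⟶ (U : Scheme.{u})) (HU : Over (U : Scheme.{u}))
      (_ : GrpObj HU) (j : HU ⟶ Red.bc U.ι G) (φ : Hη.left ⟶ HU.left),
      ηU ≫ U.ι = σ ∧ IsMonHom j ∧ IsClosedImmersion j.left ∧ LocallyOfFinitePresentation HU.hom ∧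
      IsPullback φ Hη.hom HU.hom ηU ∧
      φ ≫ j.left ≫ pullback.fst G.hom U.ι = i.left ≫ pullback.fst G.hom σ := by
  haveI : ∀ {a b : I} (f : a ⟶ b), IsAffineHom (D.map f) := fun {a b} f => inferInstance
  -- the group comes from a stage
  obtain ⟨i₀, H₀, h₀, g₀, hf1, hf2, hf3, hpb⟩ :=
    Groth.L05.DescendFP.exists_stage (D := D) (c := c) hc (X := Hη.left) Hη.hom
  haveI : LocallyOfFinitePresentation (Over.mk h₀).hom := hf1
  haveI : QuasiCompact (Over.mk h₀).hom := hf2
  haveI : QuasiSeparated (Over.mk h₀).hom := hf3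
  let e₀ : Hη ≅ Red.bc (c.π.app i₀) (Over.mk h₀) := Over.isoMk hpb.isoPullback hpb.isoPullback_hom_snd
  obtain ⟨k, Hk, gk, e, he, hk1, hk2, hk3⟩ := exists_grp D c hc i₀ (Over.mk h₀) Hη e₀
  -- the homomorphism comes from a stage
  let Gk : Over (D.obj k) := Red.bc (ρ k) G
  haveI : LocallyOfFinitePresentation Gk.hom :=
    inferInstanceAs (LocallyOfFinitePresentation (pullback.snd G.hom (ρ k)))
  haveI : IsMonHom e.inv := inferInstance
  haveI := isMonHom_cmp_inv (hcρ k) G
  let w : Red.bc (c.π.app k) Hk ⟶ Red.bc (c.π.app k) Gk := e.inv ≫ i ≫ (cmp (hcρ k) G).inv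
  haveI : IsMonHom w := inferInstanceAs (IsMonHom (e.inv ≫ i ≫ (cmp (hcρ k) G).inv))
  obtain ⟨l, g, v, hvhom, hv⟩ := exists_grpHom D c hc k w
  -- it is a closed immersion at a later stage
  haveI : QuasiCompact (Red.bc (D.map g) Hk).hom := inferInstanceAs (QuasiCompact (pullback.snd Hk.hom (D.map g)))
  haveI : QuasiSeparated (Red.bc (D.map g) Hk).hom :=
    inferInstanceAs (QuasiSeparated (pullback.snd Hk.hom (D.map g)))
  haveI : LocallyOfFiniteType (Red.bc (D.map g) Hk).hom :=
    inferInstanceAs (LocallyOfFiniteType (pullback.snd Hk.hom (D.map g)))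
  haveI : QuasiCompact Gk.hom := MorphismProperty.pullback_snd (P := @QuasiCompact) G.hom (ρ k) ‹_›
  haveI : QuasiSeparated Gk.hom := MorphismProperty.pullback_snd (P := @QuasiSeparated) G.hom (ρ k) ‹_›
  haveI : QuasiCompact (Red.bc (D.map g) Gk).hom := MorphismProperty.pullback_snd (P := @QuasiCompact) Gk.hom (D.map g) ‹_›
  haveI : QuasiSeparated (Red.bc (D.map g) Gk).hom := MorphismProperty.pullback_snd (P := @QuasiSeparated) Gk.hom (D.map g) ‹_›
  haveI : CompactSpace ↥(Red.bc (D.map g) Gk).left :=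
    QuasiCompact.compactSpace_of_compactSpace (Red.bc (D.map g) Gk).hom
  have hwv : v.left ≫ (Red.bc (D.map g) Gk).hom = (Red.bc (D.map g) Hk).hom := Over.w v
  haveI : QuasiCompact v.left := by
    haveI : QuasiCompact (v.left ≫ (Red.bc (D.map g) Gk).hom) := by rw [hwv]; infer_instance
    exact QuasiCompact.of_comp v.left (Red.bc (D.map g) Gk).hom
  haveI : QuasiSeparated v.left := by
    haveI : QuasiSeparated (v.left ≫ (Red.bc (D.map g) Gk).hom) := by rw [hwv]; infer_instance
    exact QuasiSeparated.of_comp v.left (Red.bc (D.map g) Gk).hom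
  haveI : LocallyOfFiniteType v.left := by
    haveI : LocallyOfFiniteType (v.left ≫ (Red.bc (D.map g) Gk).hom) := by rw [hwv]; infer_instance
    exact locallyOfFiniteType_of_comp v.left (Red.bc (D.map g) Gk).hom
  have hcl : IsClosedImmersion ((Over.pullback (c.π.app l)).map v).left := by
    rw [hv]
    haveI := isIso_left (cmp (c.w g) Hk).hom
    haveI := isIso_left (cmp (c.w g) Gk).inv
    haveI := isIso_left e.inv
    haveI := isIso_left (cmp (hcρ k) G).inv
    simp only [w, Over.comp_left]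
    infer_instance
  obtain ⟨n, g', hg'⟩ := Groth.L19.Limit.Descends.exists_pb Groth.L19.Limit.descends_isClosedImmersion hc v.left
    (Red.bc (D.map g) Gk).hom ⟨⟨inferInstance, inferInstance⟩, inferInstance⟩
    (IsPullback.of_hasPullback (Red.bc (D.map g) Gk).hom (c.π.app l))
    ((Groth.L19.Limit.pb_iff_of_isPullback (isPullback_map (c.π.app l) v)).1 hcl)
  -- transport to an open of the scheme
  let W : X.Opens := (ρ n).opensRange
  let a : (W : Scheme.{u}) ⟶ D.obj l := (ρ n).isoOpensRange.inv ≫ D.map g'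
  have ha : a ≫ ρ l = W.ι := by
    rw [Category.assoc, hρ, Scheme.Hom.isoOpensRange_inv_comp]
  let ηU : c.pt ⟶ (W : Scheme.{u}) := c.π.app n ≫ (ρ n).isoOpensRange.hom
  have hη : ηU ≫ W.ι = σ := by
    rw [Category.assoc, Scheme.Hom.isoOpensRange_hom_ι]
    exact hcρ n
  have hηa : ηU ≫ a = c.π.app l := by
    simp only [ηU, a, Category.assoc, Iso.hom_inv_id_assoc]
    exact c.w g'
  have hgl : D.map g ≫ ρ k = ρ l := hρ g
  haveI := isMonHom_cmp hgl G
  haveI := isMonHom_cmp ha G
  haveI : IsMonHom ((Over.pullback a).map v) := Groth.L25.SpreadSub.isMonHom_map a v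
  haveI : IsMonHom ((Over.pullback a).map (cmp hgl G).hom) := Groth.L25.SpreadSub.isMonHom_map a _
  let Hl := Red.bc (D.map g) Hk
  let J : Red.bc a Hl ⟶ Red.bc W.ι G :=
    (Over.pullback a).map v ≫ (Over.pullback a).map (cmp hgl G).hom ≫ (cmp ha G).hom
  let q : Hη ≅ Red.bc (c.π.app l) Hl := e ≪≫ (cmp (c.w g) Hk).symm
  have hq : q.hom.left ≫ pullback.snd Hl.hom (c.π.app l) = Hη.hom := Over.w q.hom
  let φ : Hη.left ⟶ (Red.bc a Hl).left :=
    pullback.lift (q.hom.left ≫ pullback.fst Hl.hom (c.π.app l)) (Hη.hom ≫ ηU) (by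
      rw [Category.assoc, pullback.condition, Category.assoc, hηa, ← Category.assoc, hq])
  refine ⟨W, ηU, Red.bc a Hl, inferInstance, J, φ, hη, inferInstanceAs (IsMonHom (_ ≫ _ ≫ _)), ?_, ?_, ?_, ?_⟩
  · haveI := isIso_left ((Over.pullback a).map (cmp hgl G).hom)
    haveI := isIso_left (cmp ha G).hom
    haveI : IsClosedImmersion ((Over.pullback a).map v).left := by
      refine (Groth.L19.Limit.pb_iff_of_isPullback (isPullback_map a v)).2 ?_
      have := Groth.L19.Limit.pb_comp (pullback.lift (pullback.snd (Red.bc (D.map g) Gk).hom a ≫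
        (ρ n).isoOpensRange.inv) (pullback.fst (Red.bc (D.map g) Gk).hom a)
        (by rw [Category.assoc]; exact pullback.condition.symm) :
          pullback (Red.bc (D.map g) Gk).hom a ⟶ pullback (D.map g') (Red.bc (D.map g) Gk).hom) hg'
      rwa [pullback.lift_snd] at this
    simp only [J, Over.comp_left]
    infer_instance
  · haveI : LocallyOfFinitePresentation Hl.hom := inferInstanceAs (LocallyOfFinitePresentation (pullback.snd Hk.hom (D.map g)))
    exact inferInstanceAs (LocallyOfFinitePresentation (pullback.snd Hl.hom a))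
  · refine IsPullback.of_right (h₁₂ := pullback.fst Hl.hom a) (h₂₂ := a) ?_ (pullback.lift_snd _ _ _)
      (IsPullback.of_hasPullback Hl.hom a)
    rw [show φ ≫ pullback.fst Hl.hom a = q.hom.left ≫ pullback.fst Hl.hom (c.π.app l) from pullback.lift_fst _ _ _,
      hηa]
    haveI := isIso_left q.hom
    exact (IsPullback.of_hasPullback Hl.hom (c.π.app l)).of_iso (asIso q.hom.left).symm (Iso.refl _) (Iso.refl _)
      (Iso.refl _) (by simp) (by simp [← hq]) (by simp) (by simp)
  · have e1 : J.left ≫ pullback.fst G.hom W.ι =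
        pullback.fst Hl.hom a ≫ v.left ≫ pullback.fst Gk.hom (D.map g) ≫ pullback.fst G.hom (ρ k) := by
      simp only [J, Over.comp_left, Category.assoc]
      rw [cmp_fst, ← Category.assoc ((Over.pullback a).map (cmp hgl G).hom).left]
      erw [map_fst]
      rw [Category.assoc, cmp_fst, ← Category.assoc]
      erw [map_fst]
      rw [Category.assoc]
    rw [e1, ← Category.assoc φ, show φ ≫ pullback.fst Hl.hom a = q.hom.left ≫ pullback.fst Hl.hom (c.π.app l) from
      pullback.lift_fst _ _ _, Category.assoc, ← Category.assoc (pullback.fst Hl.hom (c.π.app l)) v.left,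
      ← map_fst, Category.assoc, ← Category.assoc q.hom.left, ← Over.comp_left]
    have e2 : q.hom ≫ (Over.pullback (c.π.app l)).map v = i ≫ (cmp (hcρ k) G).inv ≫ (cmp (c.w g) Gk).inv := by
      simp [q, hv, w]
    rw [e2]
    simp only [Over.comp_left, Category.assoc]
    rw [reassoc_of% (cmp_inv_fst (c.w g) Gk), cmp_inv_fst (hcρ k) G]


theorem exists_spread_fp (X : Scheme.{u}) [IsIntegral X] (G : Over X) [GrpObj G]
    [QuasiCompact G.hom] [QuasiSeparated G.hom] [LocallyOfFinitePresentation G.hom]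
    (Hη : Over (Spec X.functionField)) [GrpObj Hη]
    (i : Hη ⟶ Red.bc (X.fromSpecStalk (genericPoint X)) G) [IsMonHom i] [IsClosedImmersion i.left] :
    ∃ (U : X.Opens) (ηU : Spec X.functionField ⟶ (U : Scheme.{u})) (HU : Over (U : Scheme.{u}))
      (_ : GrpObj HU) (j : HU ⟶ Red.bc U.ι G) (φ : Hη.left ⟶ HU.left),
      ηU ≫ U.ι = X.fromSpecStalk (genericPoint X) ∧ IsMonHom j ∧ IsClosedImmersion j.left ∧
      LocallyOfFinitePresentation HU.hom ∧
      IsPullback φ Hη.hom HU.hom ηU ∧
      φ ≫ j.left ≫ pullback.fst G.hom U.ι = i.left ≫ pullback.fst G.hom (X.fromSpecStalk (genericPoint X)) := by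
  obtain ⟨U, hU, hsU, -⟩ := exists_isAffineOpen_mem_and_subset (X := X) (x := genericPoint X) (U := ⊤) trivial
  let p := (hU.primeIdealOf ⟨genericPoint X, hsU⟩).asIdeal
  letI : Algebra Γ(X, U) (X.presheaf.stalk (genericPoint X)) :=
    (X.presheaf.germ U (genericPoint X) hsU).hom.toAlgebra
  haveI : IsLocalization.AtPrime (X.presheaf.stalk (genericPoint X)) p :=
    hU.isLocalization_stalk ⟨genericPoint X, hsU⟩
  let D := Groth.L05.NbhdLimit.D p
  let c := Groth.L05.NbhdLimit.cone p (X.presheaf.stalk (genericPoint X))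
  have hc := Groth.L05.NbhdLimit.isLimitCone p (X.presheaf.stalk (genericPoint X))
  let ρ : ∀ j, D.obj j ⟶ X := fun j => (Groth.L05.NbhdLimit.toBase p).app j ≫ hU.fromSpec
  have hρ : ∀ {a b} (φ : a ⟶ b), D.map φ ≫ ρ b = ρ a := fun {a b} φ => by
    show D.map φ ≫ _ ≫ hU.fromSpec = _ ≫ hU.fromSpec
    rw [← Category.assoc, (Groth.L05.NbhdLimit.toBase p).naturality φ]
    rfl
  have hcρ : ∀ j, c.π.app j ≫ ρ j = X.fromSpecStalk (genericPoint X) := fun j => by
    show c.π.app j ≫ _ ≫ hU.fromSpec = _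
    rw [← hU.fromSpecStalk_eq_fromSpecStalk hsU]
    exact (Category.assoc _ _ _).symm.trans (congrArg (· ≫ hU.fromSpec)
      (Groth.L05.NbhdLimit.cone_π_toBase p (X.presheaf.stalk (genericPoint X)) j))
  haveI : ∀ j, IsOpenImmersion (ρ j) := fun j =>
    haveI := Groth.L05.NbhdLimit.toBase_isOpenImmersion p j
    inferInstance
  haveI : ∀ j, IsAffine (D.obj j) := fun j => inferInstanceAs (IsAffine (Spec _))
  haveI : ∀ j, CompactSpace (D.obj j) := fun j => inferInstanceAs (CompactSpace (Spec _))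
  haveI : ∀ j, QuasiSeparatedSpace (D.obj j) := fun j => inferInstanceAs (QuasiSeparatedSpace (Spec _))
  haveI hDa : ∀ (a b : Groth.L05.NbhdLimit.Idx p) (f : a ⟶ b), IsAffineHom (D.map f) := fun a b f =>
    inferInstanceAs (IsAffineHom ((Groth.L05.NbhdLimit.D p).map f))
  haveI : ∀ {a b : Groth.L05.NbhdLimit.Idx p} (f : a ⟶ b), IsAffineHom (D.map f) := fun {a b} f => hDa a b f
  let σ := X.fromSpecStalk (genericPoint X)
  haveI : IsNoetherianRing (X.presheaf.stalk (genericPoint X)) :=
    inferInstanceAs (IsNoetherianRing X.functionField)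
  haveI : QuasiCompact Hη.hom := by
    rw [← Over.w i]
    haveI : QuasiCompact (Red.bc σ G).hom := inferInstanceAs (QuasiCompact (pullback.snd G.hom σ))
    infer_instance
  haveI : QuasiSeparated Hη.hom := by
    rw [← Over.w i]
    haveI : QuasiSeparated (Red.bc σ G).hom := inferInstanceAs (QuasiSeparated (pullback.snd G.hom σ))
    infer_instance
  haveI : LocallyOfFiniteType Hη.hom := by
    rw [← Over.w i]
    haveI : LocallyOfFiniteType (Red.bc σ G).hom := inferInstanceAs (LocallyOfFiniteType (pullback.snd G.hom σ))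
    infer_instance
  haveI : LocallyOfFinitePresentation Hη.hom :=
    LocallyOfFinitePresentation.iff_locallyOfFiniteType.2 inferInstance
  haveI : QuasiCompact Hη.hom := inferInstance
  haveI : QuasiSeparated Hη.hom := inferInstance
  exact exists_spread_system (D := D) (c := c) hc ρ hρ (X.fromSpecStalk (genericPoint X)) hcρ G Hη i

theorem exists_spread (X : Scheme.{u}) [IsIntegral X] (G : Over X) [GrpObj G]
    [QuasiCompact G.hom] [QuasiSeparated G.hom] [LocallyOfFinitePresentation G.hom]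
    (Hη : Over (Spec X.functionField)) [GrpObj Hη]
    (i : Hη ⟶ Red.bc (X.fromSpecStalk (genericPoint X)) G) [IsMonHom i] [IsClosedImmersion i.left] :
    ∃ (U : X.Opens) (ηU : Spec X.functionField ⟶ (U : Scheme.{u})) (HU : Over (U : Scheme.{u}))
      (_ : GrpObj HU) (j : HU ⟶ Red.bc U.ι G) (φ : Hη.left ⟶ HU.left),
      ηU ≫ U.ι = X.fromSpecStalk (genericPoint X) ∧ IsMonHom j ∧ IsClosedImmersion j.left ∧
      IsPullback φ Hη.hom HU.hom ηU ∧
      φ ≫ j.left ≫ pullback.fst G.hom U.ι = i.left ≫ pullback.fst G.hom (X.fromSpecStalk (genericPoint X)) := by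
  obtain ⟨U, ηU, HU, inst, j, φ, h1, h2, h3, -, h4, h5⟩ := exists_spread_fp X G Hη i
  exact ⟨U, ηU, HU, inst, j, φ, h1, h2, h3, h4, h5⟩

end Groth.L25.SpreadSub
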