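import Mathlib.RingTheory.Derivation.Basic
import Mathlib.RingTheory.TensorProduct.Maps
import Mathlib.RingTheory.TensorProduct.Finite
import Mathlib.RingTheory.Nilpotent.Basic
import Mathlib.RingTheory.Nilpotent.Lemmas
import Mathlib.RingTheory.Noetherian.Nilpotent
import Mathlib.Algebra.Algebra.Subalgebra.Rank
import Mathlib.Algebra.Algebra.Subalgebra.Lattice
import Mathlib.LinearAlgebra.Matrix.NonsingularInverse
import Mathlib.LinearAlgebra.Basis.VectorSpace
import Mathlib.LinearAlgebra.FiniteDimensional.Lemmas
import Mathlib.LinearAlgebra.Dimension.Constructions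
import Mathlib.Algebra.CharP.Lemmas
import Mathlib.Algebra.CharP.Algebra

/-!
# The dimension of a finite local algebra with a counital comultiplication is a power of the
characteristic exponent

If `R` is a finite dimensional local `k`-algebra with residue field `k` and with an algebra map
`Δ : R → R ⊗ R` which has the augmentation as a two-sided counit, then `dim R = q ^ r` where `q` is
the exponential characteristic of `k`.
-/

set_option autoImplicit false

universe u v

open scoped TensorProduct

namespace Groth.L25.LocalHopfRank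

section step

variable {k : Type u} {B : Type v} [Field k] [CommRing B] [Algebra k B]

/-- The elements killed by a derivation form a subalgebra. -/
def kerDer (D : Derivation k B B) : Subalgebra k B where
  carrier := {b | D b = 0}
  add_mem' {a b} ha hb := by simp_all
  mul_mem' {a b} ha hb := by simp_all
  algebraMap_mem' r := by simp

/-- Adjoining an element with `x ^ p ∈ T` and a derivation killing `T` with `∂ x = 1`. -/
theorem finrank_sup_adjoin [FiniteDimensional k B] (p : ℕ) [hp : Fact p.Prime] [CharP k p]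
    (T : Subalgebra k B) (x : B) (D : Derivation k B B) (hT : ∀ t ∈ T, D t = 0) (hx : D x = 1)
    (hxp : x ^ p ∈ T) :
    Module.finrank k ↥(T ⊔ Algebra.adjoin k {x}) = p * Module.finrank k ↥T := by
  -- the map
  let f : (Fin p → T) →ₗ[k] B :=
    { toFun := fun c => ∑ j, (c j : B) * x ^ (j : ℕ)
      map_add' := fun c c' => by simp [add_mul, Finset.sum_add_distrib]
      map_smul' := fun r c => by simp [Finset.smul_sum] }
  -- independence
  have key : ∀ n, n ≤ p → ∀ c : ℕ → B, (∀ j, c j ∈ T) →
      ∑ j ∈ Finset.range n, c j * x ^ j = 0 → ∀ j, j < n → c j = 0 := by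
    intro n
    induction n with
    | zero => intro _ c _ _ j hj; omega
    | succ n ih =>
      intro hn c hc h
      rw [Finset.sum_range_succ'] at h
      have h' : ∑ i ∈ Finset.range n, (((i + 1 : ℕ) : k) • c (i + 1)) * x ^ i = 0 := by
        have := congrArg D h
        rw [map_add, map_sum, map_zero, D.leibniz, pow_zero, D.map_one_eq_zero, hT _ (hc 0)] at this
        simp only [smul_zero, add_zero] at this
        rw [← this]
        refine Finset.sum_congr rfl fun i _ => ?_
        rw [D.leibniz, hT _ (hc _), D.leibniz_pow, hx, smul_zero, add_zero, Nat.add_sub_cancel]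
        rw [Nat.cast_smul_eq_nsmul, smul_mul_assoc, smul_eq_mul, smul_eq_mul, mul_one]
        simp only [nsmul_eq_mul]
        ring
      have h1 := ih (by omega) _ (fun j => T.smul_mem (hc _) _) h'
      have h2 : ∀ j, j < n → c (j + 1) = 0 := by
        intro j hj
        refine (smul_eq_zero.1 (h1 j hj)).resolve_left ?_
        intro hd
        rw [CharP.cast_eq_zero_iff k p] at hd
        exact absurd (Nat.le_of_dvd (by omega) hd) (by omega)
      intro j hj
      rcases j with _ | j
      · rw [Finset.sum_eq_zero, zero_add, pow_zero, mul_one] at h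
        · exact h
        · intro i hi
          rw [h2 i (Finset.mem_range.1 hi), zero_mul]
      · exact h2 j (by omega)
  have hinj : Function.Injective f := by
    rw [injective_iff_map_eq_zero]
    intro c hc
    have h := key p le_rfl (fun j => if h : j < p then (c ⟨j, h⟩ : B) else 0)
      (fun j => by
        split
        · exact Subtype.property _
        · exact T.zero_mem)
      (by
        rw [← hc, Finset.sum_range]
        exact Finset.sum_congr rfl fun i _ => by rw [dif_pos i.2])
    funext j
    have := h j j.2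
    rw [dif_pos j.2] at this
    exact Subtype.ext this
  have hval : ∀ c, f c = ∑ j, (c j : B) * x ^ (j : ℕ) := fun _ => rfl
  -- range
  have hone : ∀ (t : B) (_ : t ∈ T) (j : Fin p), t * x ^ (j : ℕ) ∈ LinearMap.range f := by
    intro t ht j
    refine ⟨Pi.single j ⟨t, ht⟩, ?_⟩
    rw [hval, Finset.sum_eq_single j]
    · rw [Pi.single_eq_same]
    · intro b _ hb
      rw [Pi.single_eq_of_ne hb]
      simp
    · intro h
      exact absurd (Finset.mem_univ j) h
  let U : Subalgebra k B :=
    { carrier := {u | ∀ r ∈ LinearMap.range f, u * r ∈ LinearMap.range f}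
      add_mem' := fun {a b} ha hb r hr => by
        rw [add_mul]
        exact Submodule.add_mem _ (ha r hr) (hb r hr)
      mul_mem' := fun {a b} ha hb r hr => by
        rw [mul_assoc]
        exact ha _ (hb r hr)
      algebraMap_mem' := fun c r hr => by
        rw [← Algebra.smul_def]
        exact Submodule.smul_mem _ _ hr }
  have hle : T ⊔ Algebra.adjoin k {x} ≤ U := by
    refine sup_le (fun t ht r hr => ?_) (Algebra.adjoin_le ?_)
    · obtain ⟨c, rfl⟩ := hr
      rw [hval, Finset.mul_sum]
      refine Submodule.sum_mem _ fun j _ => ?_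
      rw [← mul_assoc]
      exact hone _ (T.mul_mem ht (c j).2) j
    · rintro _ ⟨rfl⟩ r hr
      obtain ⟨c, rfl⟩ := hr
      rw [hval, Finset.mul_sum]
      refine Submodule.sum_mem _ fun j _ => ?_
      rcases Nat.lt_or_ge ((j : ℕ) + 1) p with h | h
      · have := hone _ (c j).2 ⟨(j : ℕ) + 1, h⟩
        rwa [pow_succ', ← mul_assoc, mul_comm (c j : B), mul_assoc] at this
      · have := hone _ (T.mul_mem (c j).2 hxp) ⟨0, hp.out.pos⟩
        simp only [pow_zero, mul_one] at this
        have hj : (j : ℕ) + 1 = p := by omega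
        rwa [show x ^ p = x ^ ((j : ℕ) + 1) by rw [hj], pow_succ', ← mul_assoc,
          mul_comm (c j : B), mul_assoc] at this
  have hrange : LinearMap.range f = (T ⊔ Algebra.adjoin k {x}).toSubmodule := by
    refine le_antisymm ?_ ?_
    · rintro _ ⟨c, rfl⟩
      rw [hval]
      refine Submodule.sum_mem _ fun j _ => ?_
      refine (T ⊔ Algebra.adjoin k {x}).mul_mem ((le_sup_left : T ≤ _) (c j).2) ?_
      exact (T ⊔ Algebra.adjoin k {x}).pow_mem
        ((le_sup_right : Algebra.adjoin k {x} ≤ _) (Algebra.self_mem_adjoin_singleton k x)) _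
    · intro u hu
      have h1 := hone 1 T.one_mem ⟨0, hp.out.pos⟩
      simp only [pow_zero, mul_one] at h1
      have := hle hu 1 h1
      rwa [mul_one] at this
  calc Module.finrank k ↥(T ⊔ Algebra.adjoin k {x})
      = Module.finrank k (LinearMap.range f) := by rw [hrange]; rfl
    _ = Module.finrank k (Fin p → T) := LinearMap.finrank_range_of_inj hinj
    _ = p * Module.finrank k ↥T := by
        rw [Module.finrank_pi_fintype, Finset.sum_const, Finset.card_univ, Fintype.card_fin,
          smul_eq_mul]

/-- A family of elements with `x i ^ p ∈ T` and a dual family of derivations killing `T`. -/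
theorem finrank_adjoin_family [FiniteDimensional k B] (p : ℕ) [Fact p.Prime] [CharP k p]
    (T : Subalgebra k B) {ι : Type*} [DecidableEq ι] (x : ι → B) (D : ι → Derivation k B B)
    (hT : ∀ i, ∀ t ∈ T, D i t = 0) (hx : ∀ i j, D i (x j) = if i = j then 1 else 0)
    (hxp : ∀ i, x i ^ p ∈ T) (s : Finset ι) :
    Module.finrank k ↥(T ⊔ Algebra.adjoin k (x '' s)) = p ^ s.card * Module.finrank k ↥T := by
  induction s using Finset.induction with
  | empty =>
    rw [Finset.coe_empty, Set.image_empty, Algebra.adjoin_empty, sup_bot_eq]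
    simp
  | insert a s ha ih =>
    have hkill : ∀ t ∈ T ⊔ Algebra.adjoin k (x '' s), D a t = 0 := by
      have : T ⊔ Algebra.adjoin k (x '' s) ≤ kerDer (D a) := by
        refine sup_le (fun t ht => hT a t ht) (Algebra.adjoin_le ?_)
        rintro _ ⟨i, hi, rfl⟩
        show D a (x i) = 0
        rw [hx, if_neg]
        rintro rfl
        exact ha hi
      exact fun t ht => this ht
    rw [Finset.coe_insert, Set.image_insert_eq, ← Set.union_singleton, Algebra.adjoin_union,
      ← sup_assoc, finrank_sup_adjoin p _ (x a) (D a) hkill (by rw [hx, if_pos rfl])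
        ((le_sup_left : T ≤ _) (hxp a)), ih, Finset.card_insert_of_notMem ha]
    ring

end step

section coclosed

variable {k : Type u} {R : Type v} [Field k] [CommRing R] [Algebra k R]

/-- `(id ⊗ φ)`. -/
noncomputable def slice (φ : R →ₗ[k] k) : R ⊗[k] R →ₗ[k] R :=
  (TensorProduct.rid k R).toLinearMap ∘ₗ φ.lTensor R

@[simp] theorem slice_tmul (φ : R →ₗ[k] k) (a b : R) : slice φ (a ⊗ₜ[k] b) = φ b • a := by
  simp [slice]

variable (Δ : R →ₐ[k] R ⊗[k] R)

/-- `Δ B ⊆ B ⊗ B`. -/
def CoClosed (B : Subalgebra k R) : Prop :=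
  ∀ b ∈ B, Δ b ∈ (Algebra.TensorProduct.map B.val B.val).range

theorem slice_mem (B : Subalgebra k R) (φ : R →ₗ[k] k) (t : R ⊗[k] R)
    (ht : t ∈ (Algebra.TensorProduct.map B.val B.val).range) : slice φ t ∈ B := by
  obtain ⟨s, rfl⟩ := ht
  induction s with
  | zero => simp
  | add a b ha hb =>
    rw [map_add, map_add]
    exact B.add_mem ha hb
  | tmul a b =>
    simp only [AlgHom.toRingHom_eq_coe, RingHom.coe_coe, Algebra.TensorProduct.map_tmul,
      Subalgebra.coe_val, slice_tmul]
    exact B.smul_mem a.2 _

theorem slice_mul (ε : R →ₐ[k] k) (B : Subalgebra k R) (ξ : R →ₗ[k] k)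
    (hξ : ∀ a ∈ B, ∀ b ∈ B, ξ (a * b) = ε a * ξ b + ε b * ξ a) (t t' : R ⊗[k] R)
    (ht : t ∈ (Algebra.TensorProduct.map B.val B.val).range)
    (ht' : t' ∈ (Algebra.TensorProduct.map B.val B.val).range) :
    slice ξ (t * t') =
      slice ε.toLinearMap t * slice ξ t' + slice ε.toLinearMap t' * slice ξ t := by
  obtain ⟨s, rfl⟩ := ht
  obtain ⟨s', rfl⟩ := ht'
  induction s with
  | zero => simp
  | add a b ha hb =>
    simp only [map_add, add_mul, ha, hb, mul_add]
    abel
  | tmul a b =>
    induction s' with
    | zero => simp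
    | add c d hc hd =>
      simp only [map_add, mul_add, hc, hd, add_mul]
      abel
    | tmul c d =>
      simp only [AlgHom.toRingHom_eq_coe, RingHom.coe_coe, Algebra.TensorProduct.map_tmul,
        Subalgebra.coe_val, Algebra.TensorProduct.tmul_mul_tmul, slice_tmul,
        AlgHom.toLinearMap_apply, hξ _ b.2 _ d.2, smul_mul_smul_comm]
      rw [mul_comm (c : R) (a : R), add_smul]

variable (ε : R →ₐ[k] k) (hr : ∀ x, slice ε.toLinearMap (Δ x) = x)
  (hl : ∀ (φ : R →ₗ[k] k) (x), ε (slice φ (Δ x)) = φ x)

include hr hl in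
theorem exists_derivation {B : Subalgebra k R} (hB : CoClosed Δ B) (ξ : B →ₗ[k] k)
    (hξ : ∀ a b : B, ξ (a * b) = ε (a : R) * ξ b + ε (b : R) * ξ a) :
    ∃ D : Derivation k B B, ∀ b : B, ε (D b : R) = ξ b := by
  obtain ⟨ξ', hξ'⟩ := LinearMap.exists_extend (p := B.toSubmodule) (ξ : B.toSubmodule →ₗ[k] k)
  have hξ'' : ∀ b : B, ξ' (b : R) = ξ b := fun b => LinearMap.congr_fun hξ' b
  let L : B →ₗ[k] B := LinearMap.codRestrict B.toSubmodule
    (slice ξ' ∘ₗ Δ.toLinearMap ∘ₗ B.val.toLinearMap)
    (fun b => slice_mem B ξ' _ (hB b b.2))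
  have hL : ∀ b : B, (L b : R) = slice ξ' (Δ b) := fun _ => rfl
  refine ⟨Derivation.mk' L ?_, fun b => ?_⟩
  · intro a b
    apply Subtype.ext
    simp only [smul_eq_mul, Subalgebra.coe_add, Subalgebra.coe_mul, hL, map_mul]
    rw [slice_mul ε B ξ' (fun a ha b hb => by
      have := hξ ⟨a, ha⟩ ⟨b, hb⟩
      rw [← hξ'', ← hξ'', ← hξ''] at this
      exact this) _ _ (hB a a.2) (hB b b.2), hr, hr]
  · show ε (L b : R) = ξ b
    rw [hL, hl, hξ'']

variable (hloc : ∀ x, IsNilpotent (x - algebraMap k R (ε x)))

include hr hl hloc in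
theorem exists_parameters [FiniteDimensional k R] {B : Subalgebra k R} (hB : CoClosed Δ B) :
    ∃ (d : ℕ) (x : Fin d → B) (D : Fin d → Derivation k B B),
      (∀ i j, D i (x j) = if i = j then 1 else 0) ∧ (∀ i, IsNilpotent (x i)) ∧
      Algebra.adjoin k (Set.range x) = ⊤ := by
  classical
  haveI : Nontrivial R := RingHom.domain_nontrivial ε.toRingHom
  haveI : FiniteDimensional k B := FiniteDimensional.finiteDimensional_submodule B.toSubmodule
  haveI : IsNoetherianRing B := isNoetherian_of_tower k inferInstance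
  let εB : B →ₐ[k] k := ε.comp B.val
  have hεB : ∀ b : B, εB b = ε (b : R) := fun _ => rfl
  let m : Ideal B := RingHom.ker εB
  have hsub : ∀ b : B, b - algebraMap k B (εB b) ∈ m := fun b => by
    rw [RingHom.mem_ker, map_sub, AlgHom.commutes, Algebra.algebraMap_self, RingHom.id_apply,
      sub_self]
  have hnil : ∀ b : B, IsNilpotent (b - algebraMap k B (εB b)) := fun b =>
    (IsNilpotent.map_iff (f := B.val) Subtype.val_injective).1 (hloc (b : R))
  have hnilm : ∀ b ∈ m, IsNilpotent b := fun b hb => by
    have := hnil b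
    rwa [RingHom.mem_ker.1 hb, map_zero, sub_zero] at this
  have hunit : ∀ b : B, εB b ≠ 0 → IsUnit b := fun b hb => by
    have h1 : IsUnit (algebraMap k B (εB b)) := (isUnit_iff_ne_zero.2 hb).map _
    have := (hnil b).isUnit_add_left_of_commute h1 (Commute.all _ _)
    rwa [add_comm, sub_add_cancel] at this
  obtain ⟨M, hM⟩ : IsNilpotent m := by
    obtain ⟨M, hM⟩ := IsNoetherianRing.isNilpotent_nilradical B
    refine ⟨M, le_bot_iff.1 ?_⟩
    calc m ^ M ≤ nilradical B ^ M :=
          Ideal.pow_right_mono (fun b hb => mem_nilradical.2 (hnilm b hb)) M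
      _ = ⊥ := hM
  let S : Submodule k B := Submodule.span k {(1 : B)} ⊔ (m ^ 2).restrictScalars k
  let bas := Module.finBasis k (B ⧸ S)
  let d := Module.finrank k (B ⧸ S)
  choose y hy using fun i => S.mkQ_surjective (bas i)
  let x : Fin d → B := fun i => y i - algebraMap k B (εB (y i))
  have hxm : ∀ i, x i ∈ m := fun i => hsub _
  have hone : S.mkQ 1 = 0 := (Submodule.Quotient.mk_eq_zero S).2
    (Submodule.mem_sup_left (Submodule.mem_span_singleton_self _))
  have halg : ∀ c : k, S.mkQ (algebraMap k B c) = 0 := fun c => by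
    rw [Algebra.algebraMap_eq_smul_one, map_smul, hone, smul_zero]
  have hxQ : ∀ i, S.mkQ (x i) = bas i := fun i => by
    rw [map_sub, halg, sub_zero, hy]
  let ξ : Fin d → (B →ₗ[k] k) := fun i => bas.coord i ∘ₗ S.mkQ
  have hξalg : ∀ i c, ξ i (algebraMap k B c) = 0 := fun i c => by
    show bas.coord i (S.mkQ _) = 0
    rw [halg, map_zero]
  have hξsq : ∀ i, ∀ b ∈ m ^ 2, ξ i b = 0 := fun i b hb => by
    show bas.coord i (S.mkQ b) = 0
    rw [show S.mkQ b = 0 from (Submodule.Quotient.mk_eq_zero S).2 (Submodule.mem_sup_right hb),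
      map_zero]
  have hξ : ∀ i (a b : B), ξ i (a * b) = ε (a : R) * ξ i b + ε (b : R) * ξ i a := by
    intro i a b
    have e : a * b = (a - algebraMap k B (εB a)) * (b - algebraMap k B (εB b))
        + εB a • b + εB b • a - algebraMap k B (εB a * εB b) := by
      simp only [Algebra.smul_def, map_mul]
      ring
    rw [e, map_sub, map_add, map_add, hξsq i _ (pow_two m ▸ Ideal.mul_mem_mul (hsub a) (hsub b)),
      hξalg, map_smul, map_smul]
    simp [hεB]
  choose D hD using fun i => exists_derivation Δ ε hr hl hB (ξ i) (hξ i)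
  let Mx : Matrix (Fin d) (Fin d) B := Matrix.of fun i j => D i (x j)
  have hMx : IsUnit Mx.det := by
    refine hunit _ ?_
    rw [AlgHom.map_det, show εB.mapMatrix Mx = 1 from ?_, Matrix.det_one]
    · exact one_ne_zero
    ext i j
    show εB (D i (x j)) = (1 : Matrix (Fin d) (Fin d) k) i j
    rw [hεB, hD]
    show bas.coord i (S.mkQ (x j)) = _
    rw [hxQ, Module.Basis.coord_apply, Module.Basis.repr_self, Finsupp.single_apply,
      Matrix.one_apply]
    simp only [eq_comm]
  let D' : Fin d → Derivation k B B := fun i => ∑ j, Mx⁻¹ i j • D j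
  refine ⟨d, x, D', ?_, fun i => hnilm _ (hxm i), ?_⟩
  · intro i l
    have h := congrFun (congrFun (Matrix.nonsing_inv_mul Mx hMx) i) l
    rw [Matrix.mul_apply, Matrix.one_apply] at h
    rw [← h]
    simp only [D']
    rw [← Derivation.coeFnAddMonoidHom_apply, map_sum, Finset.sum_apply]
    rfl
  · set T := Algebra.adjoin k (Set.range x) with hTdef
    have h1 : ∀ b ∈ m, ∃ s ∈ T, s ∈ m ∧ b - s ∈ m ^ 2 := by
      intro b hb
      let s := ∑ i, ξ i b • x i
      have hs : s ∈ m := Submodule.sum_mem _ fun i _ => by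
        rw [Algebra.smul_def]
        exact Ideal.mul_mem_left _ _ (hxm i)
      refine ⟨s, T.sum_mem fun i _ => T.smul_mem (Algebra.subset_adjoin ⟨i, rfl⟩) _, hs, ?_⟩
      have hq : S.mkQ (b - s) = 0 := by
        rw [map_sub, map_sum, sub_eq_zero]
        simp only [map_smul, hxQ]
        exact (bas.sum_repr (S.mkQ b)).symm
      obtain ⟨u, hu, w, hw, huw⟩ := Submodule.mem_sup.1 ((Submodule.Quotient.mk_eq_zero S).1 hq)
      obtain ⟨c, rfl⟩ := Submodule.mem_span_singleton.1 hu
      have hc : c = 0 := by
        have := congrArg εB huw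
        rw [map_add, map_smul, map_one, map_sub, RingHom.mem_ker.1 hb, RingHom.mem_ker.1 hs,
          RingHom.mem_ker.1 (Ideal.pow_le_self two_ne_zero hw)] at this
        simpa using this
      rw [hc, zero_smul, zero_add] at huw
      rw [← huw]
      exact hw
    have hstep : ∀ j, ∀ b ∈ m ^ j, ∃ s ∈ T, b - s ∈ m ^ (j + 1) := by
      intro j
      induction j with
      | zero =>
        intro b _
        exact ⟨_, T.algebraMap_mem (εB b), by simpa using hsub b⟩
      | succ j ih =>
        intro b hb
        rw [pow_succ] at hb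
        refine Submodule.mul_induction_on hb ?_ ?_
        · intro a ha c hc
          obtain ⟨s, hs, hs'⟩ := ih a ha
          obtain ⟨t, ht, htm, ht'⟩ := h1 c hc
          refine ⟨s * t, T.mul_mem hs ht, ?_⟩
          have e : a * c - s * t = a * (c - t) + (a - s) * t := by ring
          rw [e]
          refine Ideal.add_mem _ ?_ ?_
          · have := Ideal.mul_mem_mul ha ht'
            rwa [← pow_add] at this
          · have := Ideal.mul_mem_mul hs' htm
            rwa [← pow_succ] at this
        · rintro a c ⟨s, hs, hs'⟩ ⟨t, ht, ht'⟩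
          exact ⟨s + t, T.add_mem hs ht, by rw [add_sub_add_comm]; exact Ideal.add_mem _ hs' ht'⟩
    have hall : ∀ j (b : B), ∃ s ∈ T, b - s ∈ m ^ j := by
      intro j
      induction j with
      | zero => exact fun b => ⟨0, T.zero_mem, by simp⟩
      | succ j ih =>
        intro b
        obtain ⟨s, hs, hs'⟩ := ih b
        obtain ⟨t, ht, ht'⟩ := hstep j _ hs'
        exact ⟨s + t, T.add_mem hs ht, by rwa [← sub_sub]⟩
    rw [eq_top_iff]
    intro b _
    obtain ⟨s, hs, hs'⟩ := hall M b
    rw [hM, Ideal.zero_eq_bot, Ideal.mem_bot, sub_eq_zero] at hs'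
    exact hs' ▸ hs

include hr hl hloc in
/-- In positive characteristic `dim R` is a power of `p`. -/
theorem exists_pow_eq_finrank_of_charP [FiniteDimensional k R] (p : ℕ) [hp : Fact p.Prime]
    [CharP k p] : ∀ (n : ℕ) (B : Subalgebra k R), CoClosed Δ B → Module.finrank k B = n →
      ∃ r, n = p ^ r := by
  haveI : Nontrivial R := RingHom.domain_nontrivial ε.toRingHom
  haveI : Nontrivial (R ⊗[k] R) :=
    RingHom.domain_nontrivial (Algebra.TensorProduct.lift ε ε fun _ _ => .all ..).toRingHom
  haveI : CharP R p := charP_of_injective_algebraMap (algebraMap k R).injective p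
  haveI : CharP (R ⊗[k] R) p :=
    charP_of_injective_algebraMap (algebraMap k (R ⊗[k] R)).injective p
  intro n
  induction n using Nat.strong_induction_on with
  | _ n ih =>
    intro B hB hn
    haveI : FiniteDimensional k B := FiniteDimensional.finiteDimensional_submodule B.toSubmodule
    haveI : CharP B p := charP_of_injective_algebraMap (algebraMap k B).injective p
    obtain ⟨d, x, D, hxD, -, htop⟩ := exists_parameters Δ ε hr hl hloc hB
    rcases Nat.eq_zero_or_pos d with rfl | hd
    · refine ⟨0, ?_⟩
      rw [Set.range_eq_empty x, Algebra.adjoin_empty] at htop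
      rw [pow_zero, ← hn, ← Subalgebra.finrank_bot (F := k) (E := B), htop]
      exact (Subalgebra.topEquiv (R := k) (A := B)).toLinearEquiv.finrank_eq.symm
    let T : Subalgebra k B := Algebra.adjoin k (Set.range fun b : B => b ^ p)
    have hT : ∀ i, ∀ t ∈ T, D i t = 0 := fun i t ht => by
      have : T ≤ kerDer (D i) := by
        refine Algebra.adjoin_le ?_
        rintro _ ⟨b, rfl⟩
        show D i (b ^ p) = 0
        rw [Derivation.leibniz_pow, nsmul_eq_mul, CharP.cast_eq_zero B p, zero_mul]
      exact this ht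
    have hcount := finrank_adjoin_family p T x D hT hxD
      (fun i => Algebra.subset_adjoin ⟨x i, rfl⟩) Finset.univ
    rw [Finset.coe_univ, Set.image_univ, htop, sup_top_eq, Finset.card_univ, Fintype.card_fin]
      at hcount
    have hn' : n = p ^ d * Module.finrank k T := by
      rw [← hcount, ← hn]
      exact (Subalgebra.topEquiv (R := k) (A := B)).toLinearEquiv.finrank_eq.symm
    let B₁ : Subalgebra k R := T.map B.val
    have hrk : Module.finrank k B₁ = Module.finrank k T :=
      ((Subalgebra.equivMapOfInjective T B.val Subtype.val_injective)).toLinearEquiv.finrank_eq.symm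
    have hB₁ : CoClosed Δ B₁ := by
      have : B₁ ≤ (Algebra.TensorProduct.map B₁.val B₁.val).range.comap Δ := by
        refine (le_of_eq (AlgHom.map_adjoin _ _)).trans (Algebra.adjoin_le ?_)
        rintro _ ⟨_, ⟨b, rfl⟩, rfl⟩
        show Δ ((b ^ p : B) : R) ∈ (Algebra.TensorProduct.map B₁.val B₁.val).range
        rw [Subalgebra.coe_pow, map_pow]
        obtain ⟨s, hs⟩ := hB b b.2
        rw [← hs]
        clear hs
        induction s with
        | zero => simp [zero_pow hp.out.ne_zero]
        | add a c ha hc =>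
          rw [map_add, add_pow_char]
          exact Subalgebra.add_mem _ ha hc
        | tmul a c =>
          have hm : ∀ a : B, ((a : R) ^ p) ∈ B₁ := fun a =>
            ⟨a ^ p, Algebra.subset_adjoin ⟨a, rfl⟩, rfl⟩
          exact ⟨⟨_, hm a⟩ ⊗ₜ ⟨_, hm c⟩, by simp [Algebra.TensorProduct.tmul_pow]⟩
      exact fun b hb => this hb
    have hpos : 0 < Module.finrank k T := Module.finrank_pos
    obtain ⟨r, hr'⟩ := ih (Module.finrank k T)
      (by
        rw [hn']
        exact lt_mul_of_one_lt_left hpos (Nat.one_lt_pow hd.ne' hp.out.one_lt)) B₁ hB₁ hrk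
    exact ⟨d + r, by rw [hn', hr', pow_add]⟩

include hr hl hloc in
/-- In characteristic zero `R = k`. -/
theorem finrank_eq_one_of_charZero [FiniteDimensional k R] [CharZero k] :
    Module.finrank k R = 1 := by
  haveI : Nontrivial R := RingHom.domain_nontrivial ε.toRingHom
  have hB : CoClosed Δ (⊤ : Subalgebra k R) := by
    intro b _
    induction Δ b with
    | zero => exact Subalgebra.zero_mem _
    | add a c ha hc => exact Subalgebra.add_mem _ ha hc
    | tmul a c =>
      exact ⟨⟨a, Algebra.mem_top⟩ ⊗ₜ ⟨c, Algebra.mem_top⟩, by simp⟩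
  obtain ⟨d, x, D, hxD, hxn, htop⟩ := exists_parameters Δ ε hr hl hloc hB
  rcases Nat.eq_zero_or_pos d with rfl | hd
  · rw [Set.range_eq_empty x, Algebra.adjoin_empty] at htop
    rw [← Subalgebra.finrank_bot (F := k) (E := ↥(⊤ : Subalgebra k R)), htop]
    exact ((Subalgebra.topEquiv (R := k) (A := R)).toLinearEquiv.finrank_eq.symm.trans
      (Subalgebra.topEquiv (R := k)
        (A := ↥(⊤ : Subalgebra k R))).toLinearEquiv.finrank_eq.symm)
  exfalso
  let i : Fin d := ⟨0, hd⟩
  have key : ∀ n, (x i) ^ n ≠ 0 := by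
    intro n
    induction n with
    | zero => simp
    | succ n ih =>
      intro h
      have := congrArg (D i) h
      rw [map_zero, Derivation.leibniz_pow, hxD, if_pos rfl, Nat.add_sub_cancel, smul_eq_mul,
        mul_one, ← Nat.cast_smul_eq_nsmul k] at this
      exact ih ((smul_eq_zero.1 this).resolve_left (by exact_mod_cast n.succ_ne_zero))
  obtain ⟨n, hn⟩ := hxn i
  exact key n hn

include hr hl hloc in
theorem exists_pow_eq_finrank [FiniteDimensional k R] (q : ℕ) [hq : ExpChar k q] :
    ∃ r, Module.finrank k R = q ^ r := by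
  cases hq with
  | zero => exact ⟨0, by rw [finrank_eq_one_of_charZero Δ ε hr hl hloc, pow_zero]⟩
  | prime hp =>
    haveI : Fact q.Prime := ⟨hp⟩
    refine exists_pow_eq_finrank_of_charP Δ ε hr hl hloc q _ ⊤ ?_
      (Subalgebra.topEquiv (R := k) (A := R)).toLinearEquiv.finrank_eq
    intro b _
    induction Δ b with
    | zero => exact Subalgebra.zero_mem _
    | add a c ha hc => exact Subalgebra.add_mem _ ha hc
    | tmul a c =>
      exact ⟨⟨a, Algebra.mem_top⟩ ⊗ₜ ⟨c, Algebra.mem_top⟩, by simp⟩

end coclosed

end Groth.L25.LocalHopfRank
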