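import Mathlib.RingTheory.HopfAlgebra.Convolution
import Mathlib.RingTheory.HopfAlgebra.TensorProduct
import Mathlib.RingTheory.HopfAlgebra.Quotient
import Mathlib.RingTheory.Idempotents
import Mathlib.RingTheory.Flat.Basic
import Mathlib.RingTheory.Artinian.Module
import Mathlib.FieldTheory.IsAlgClosed.AlgebraicClosure
import Mathlib.RingTheory.Ideal.Quotient.Operations
import Mathlib.GroupTheory.OrderOfElement
import Groth.Agent.L25.LocalHopfRank

/-!
# A finite group scheme over a field is killed by its order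

For a finite dimensional commutative Hopf algebra `A` over a field, the `finrank A`-th convolution
power of the identity is trivial.
-/

set_option autoImplicit false

universe u v w w'

open scoped TensorProduct
open WithConv Coalgebra Bialgebra

namespace Groth.L25.OrderKills

open Groth.L25.LocalHopfRank

/-- A nilpotent ideal of a finite dimensional nonzero algebra has `I ^ finrank = 0`. -/
theorem pow_finrank_eq_bot {k : Type u} {R : Type v} [Field k] [CommRing R] [Algebra k R] [Nontrivial R]
    [FiniteDimensional k R] (I : Ideal R) (hI : IsNilpotent I) :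
    I ^ Module.finrank k R = ⊥ := by
  obtain ⟨M, hM⟩ := hI
  have key : ∀ j, I ^ j = ⊥ ∨
      Module.finrank k ((I ^ j).restrictScalars k) + j ≤ Module.finrank k R := by
    intro j
    induction j with
    | zero => exact Or.inr (by simpa using Submodule.finrank_le _)
    | succ j ih =>
      rcases ih with h | h
      · exact Or.inl (by rw [pow_succ, h, Ideal.bot_mul])
      by_cases he : I ^ (j + 1) = I ^ j
      · left
        have hst : ∀ t, I ^ (j + t) = I ^ j := by
          intro t
          induction t with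
          | zero => rfl
          | succ t iht => rw [← add_assoc, pow_succ, iht, ← pow_succ, he]
        rw [he, ← hst M, pow_add, hM, mul_zero, Ideal.zero_eq_bot]
      · right
        have hlt : (I ^ (j + 1)).restrictScalars k < (I ^ j).restrictScalars k :=
          lt_of_le_of_ne (Ideal.pow_le_pow_right (Nat.le_succ j))
            fun e => he (Submodule.restrictScalars_injective k R R e)
        have := Submodule.finrank_lt_finrank_of_lt hlt
        omega
  rcases key (Module.finrank k R) with h | h
  · exact h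
  · have h0 : Module.finrank k ((I ^ Module.finrank k R).restrictScalars k) = 0 := by omega
    exact (Submodule.restrictScalars_eq_bot_iff k R R).1 (Submodule.finrank_eq_zero.1 h0)

section general

variable {k : Type u} [Field k] {A : Type v} [CommRing A] [HopfAlgebra k A]

/-- The identity in the convolution monoid. -/
noncomputable abbrev idc : WithConv (A →ₐ[k] A) := toConv (AlgHom.id k A)

/-- Postcomposition with an algebra map is a monoid homomorphism for convolution. -/
noncomputable def postHom {B : Type w} {C : Type w'} [CommRing B] [Algebra k B] [CommRing C] [Algebra k C]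
    (φ : B →ₐ[k] C) : WithConv (A →ₐ[k] B) →* WithConv (A →ₐ[k] C) where
  toFun f := toConv (φ.comp f.ofConv)
  map_one' := by
    apply WithConv.ext
    refine AlgHom.ext fun a => ?_
    exact φ.commutes _
  map_mul' f g := by
    apply WithConv.ext
    exact AlgHom.comp_convMul_distrib φ f g

theorem comp_idc_pow {C : Type w} [CommRing C] [Algebra k C] (φ : A →ₐ[k] C) (n : ℕ) (a : A) :
    φ ((idc ^ n : WithConv (A →ₐ[k] A)).ofConv a) =
      (toConv φ ^ n : WithConv (A →ₐ[k] C)).ofConv a := by
  have := map_pow (postHom φ) idc n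
  rw [show postHom φ idc = toConv φ from rfl] at this
  exact AlgHom.congr_fun (congrArg WithConv.ofConv this) a

end general

section algClosed

variable {k : Type u} [Field k] [IsAlgClosed k] {A : Type v} [CommRing A] [HopfAlgebra k A]
  [Module.Finite k A]

theorem isNilpotent_of_forall_point {a : A} (h : ∀ χ : A →ₐ[k] k, χ a = 0) : IsNilpotent a := by
  haveI : IsArtinianRing A := IsArtinianRing.of_finite k A
  rw [nilpotent_iff_mem_prime]
  intro J hJ
  haveI := hJ
  haveI : J.IsMaximal := IsArtinianRing.isMaximal_of_isPrime J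
  letI := Ideal.Quotient.field J
  have hb : Function.Bijective (algebraMap k (A ⧸ J)) :=
    IsAlgClosed.algebraMap_bijective_of_isIntegral
  let e : k ≃ₐ[k] A ⧸ J := AlgEquiv.ofBijective (Algebra.ofId k (A ⧸ J)) hb
  have := h (e.symm.toAlgHom.comp (Ideal.Quotient.mkₐ k J))
  exact Ideal.Quotient.eq_zero_iff_mem.1 (e.symm.injective (this.trans (map_zero _).symm))

theorem finite_points : Finite (A →ₐ[k] k) := by
  haveI : IsArtinianRing A := IsArtinianRing.of_finite k A
  refine Finite.of_injective (fun χ : A →ₐ[k] k => (⟨RingHom.ker χ.toRingHom,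
    RingHom.ker_isMaximal_of_surjective _ fun c => ⟨algebraMap k A c, χ.commutes c⟩⟩ :
      MaximalSpectrum A)) ?_
  intro χ χ' h
  have h : RingHom.ker χ.toRingHom = RingHom.ker χ'.toRingHom := congrArg (·.asIdeal) h
  refine AlgHom.ext fun a => ?_
  have : a - algebraMap k A (χ a) ∈ RingHom.ker χ.toRingHom := by
    rw [RingHom.mem_ker, AlgHom.toRingHom_eq_coe, RingHom.coe_coe, map_sub, AlgHom.commutes]
    simp
  rw [h, RingHom.mem_ker, AlgHom.toRingHom_eq_coe, RingHom.coe_coe, map_sub,
    AlgHom.commutes] at this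
  exact (sub_eq_zero.1 this).symm

theorem exists_idempotents : ∃ e : WithConv (A →ₐ[k] k) → A,
    (∀ g, IsIdempotentElem (e g)) ∧ (∀ g : WithConv (A →ₐ[k] k), g.ofConv (e g) = 1) ∧
    (∀ g h : WithConv (A →ₐ[k] k), h ≠ g → h.ofConv (e g) = 0) ∧
    (∃ _ : Fintype (WithConv (A →ₐ[k] k)), CompleteOrthogonalIdempotents e) := by
  classical
  haveI : Finite (A →ₐ[k] k) := finite_points
  haveI : Finite (WithConv (A →ₐ[k] k)) := Finite.of_injective _ WithConv.ofConv_injective
  letI := Fintype.ofFinite (WithConv (A →ₐ[k] k))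
  let π : A →+* (WithConv (A →ₐ[k] k) → k) := RingHom.pi fun g => g.ofConv.toRingHom
  have hπ : ∀ a g, π a g = g.ofConv a := fun _ _ => rfl
  have hker : ∀ a ∈ RingHom.ker π, IsNilpotent a := fun a ha =>
    isNilpotent_of_forall_point fun χ => congrFun (RingHom.mem_ker.1 ha) (toConv χ)
  have hsep : ∀ g : WithConv (A →ₐ[k] k), (Pi.single g 1 : _ → k) ∈ π.range := by
    intro g
    have : ∀ h : WithConv (A →ₐ[k] k), ∃ a : A, h ≠ g → h.ofConv a = 0 ∧ g.ofConv a = 1 := by
      intro h
      by_cases hh : h = g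
      · exact ⟨0, fun c => (c hh).elim⟩
      obtain ⟨a, ha⟩ : ∃ a, g.ofConv a ≠ h.ofConv a := by
        by_contra hc
        push Not at hc
        exact hh (WithConv.ext (AlgHom.ext fun a => (hc a).symm))
      refine ⟨(g.ofConv a - h.ofConv a)⁻¹ • (a - algebraMap k A (h.ofConv a)), fun _ => ?_⟩
      simp only [map_smul, map_sub, AlgHom.commutes, smul_eq_mul, Algebra.algebraMap_self,
        RingHom.id_apply, sub_self, mul_zero, true_and]
      exact inv_mul_cancel₀ (sub_ne_zero.2 ha)
    choose a ha using this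
    refine ⟨∏ h ∈ Finset.univ.erase g, a h, funext fun h => ?_⟩
    rw [hπ, map_prod]
    by_cases hh : h = g
    · subst hh
      rw [Pi.single_eq_same]
      exact Finset.prod_eq_one fun x hx => (ha x (Finset.ne_of_mem_erase hx)).2
    · rw [Pi.single_eq_of_ne hh]
      exact Finset.prod_eq_zero (Finset.mem_erase.2 ⟨hh, Finset.mem_univ h⟩) (ha h hh).1
  obtain ⟨e, he, hfe⟩ := CompleteOrthogonalIdempotents.lift_of_isNilpotent_ker π hker
    (CompleteOrthogonalIdempotents.single fun _ : WithConv (A →ₐ[k] k) => k) hsep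
  have hval : ∀ g h : WithConv (A →ₐ[k] k), h.ofConv (e g) = (Pi.single g 1 : _ → k) h := fun g h =>
    congrFun (congrFun hfe g) h
  refine ⟨e, he.idem, fun g => by rw [hval, Pi.single_eq_same],
    fun g h hh => by rw [hval, Pi.single_eq_of_ne hh], ?_⟩
  exact ⟨inferInstance, he⟩

/-- `id * g`, the translation by the point `g`. -/
noncomputable def trans (g : WithConv (A →ₐ[k] k)) : A →ₐ[k] A :=
  (idc * postHom (Algebra.ofId k A) g).ofConv

theorem comp_trans {C : Type w} [CommRing C] [Algebra k C] (φ : A →ₐ[k] C)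
    (g : WithConv (A →ₐ[k] k)) :
    φ.comp (trans g) = (toConv φ * postHom (Algebra.ofId k C) g).ofConv := by
  have h := map_mul (postHom φ) idc (postHom (Algebra.ofId k A) g)
  have e : postHom φ (postHom (Algebra.ofId k A) g) = postHom (Algebra.ofId k C) g := by
    apply WithConv.ext
    refine AlgHom.ext fun a => ?_
    exact φ.commutes _
  rw [e] at h
  exact congrArg WithConv.ofConv h

theorem trans_trans (g h : WithConv (A →ₐ[k] k)) : (trans h).comp (trans g) = trans (h * g) := by
  rw [comp_trans]
  show (idc * postHom (Algebra.ofId k A) h * postHom (Algebra.ofId k A) g).ofConv = _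
  rw [mul_assoc, ← map_mul]
  rfl

theorem trans_one : trans (1 : WithConv (A →ₐ[k] k)) = AlgHom.id k A := by
  rw [trans, map_one, mul_one]

theorem point_trans (χ g : WithConv (A →ₐ[k] k)) :
    χ.ofConv.comp (trans g) = (χ * g).ofConv := by
  rw [comp_trans]
  congr 2

/-- Translation as an automorphism. -/
noncomputable def transEquiv (g : WithConv (A →ₐ[k] k)) : A ≃ₐ[k] A :=
  AlgEquiv.ofAlgHom (trans g) (trans g⁻¹) (by rw [trans_trans, mul_inv_cancel, trans_one])
    (by rw [trans_trans, inv_mul_cancel, trans_one])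

theorem convPow_id_finrank_of_isAlgClosed :
    (idc : WithConv (A →ₐ[k] A)) ^ Module.finrank k A = 1 := by
  classical
  obtain ⟨e, hidem, hone, hzero, hFin, hcompl⟩ := exists_idempotents (k := k) (A := A)
  haveI : Finite (A →ₐ[k] k) := finite_points
  haveI : Finite (WithConv (A →ₐ[k] k)) := Finite.of_injective _ WithConv.ofConv_injective
  let ε : A →ₐ[k] k := Bialgebra.counitAlgHom k A
  have hone1 : (1 : WithConv (A →ₐ[k] k)).ofConv = ε := by
    refine AlgHom.ext fun a => ?_
    rfl
  -- translations permute the idempotents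
  have htr : ∀ g, transEquiv g (e 1) = e g⁻¹ := by
    intro g
    refine eq_of_isNilpotent_sub_of_isIdempotentElem ((hidem 1).map _) (hidem _)
      (isNilpotent_of_forall_point (k := k) fun χ => ?_)
    rw [map_sub, sub_eq_zero]
    show (toConv χ).ofConv.comp (trans g) (e 1) = (toConv χ).ofConv (e g⁻¹)
    rw [point_trans]
    by_cases hc : toConv χ = g⁻¹
    · rw [hc, inv_mul_cancel, hone, hone]
    · rw [hzero _ _ hc, hzero]
      intro h
      exact hc (eq_inv_of_mul_eq_one_left h)
  -- the local ring at the origin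
  let J : Ideal A := Ideal.span {1 - e 1}
  let q : A →ₐ[k] A ⧸ J := Ideal.Quotient.mkₐ k J
  have hqe : q (e 1) = 1 := by
    rw [← map_one q, eq_comm, ← sub_eq_zero, ← map_sub]
    exact Ideal.Quotient.eq_zero_iff_mem.2 (Ideal.mem_span_singleton_self _)
  have hJ : ∀ a ∈ J, ε a = 0 := fun a ha => by
    obtain ⟨c, rfl⟩ := Ideal.mem_span_singleton.1 ha
    rw [map_mul, map_sub, map_one, ← hone1, hone, sub_self, zero_mul]
  let εR : A ⧸ J →ₐ[k] k := Ideal.Quotient.liftₐ J ε hJ
  have hεR : ∀ a, εR (q a) = ε a := fun _ => rfl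
  have hq : Function.Surjective q := Ideal.Quotient.mkₐ_surjective k J
  haveI : Nontrivial (A ⧸ J) := RingHom.domain_nontrivial εR.toRingHom
  have hloc : ∀ x : A ⧸ J, IsNilpotent (x - algebraMap k _ (εR x)) := by
    intro x
    obtain ⟨a, rfl⟩ := hq x
    have h : IsNilpotent ((a - algebraMap k A (ε a)) * e 1) := by
      refine isNilpotent_of_forall_point (k := k) fun χ => ?_
      rw [map_mul, map_sub, AlgHom.commutes]
      by_cases hc : toConv χ = 1
      · rw [show χ = ε from (congrArg WithConv.ofConv hc).trans hone1]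
        simp
      · rw [show χ (e 1) = 0 from hzero 1 _ hc, mul_zero]
    have := h.map q
    rwa [map_mul, hqe, mul_one, map_sub, AlgHom.commutes, ← hεR] at this
  let Φ : A →ₐ[k] (A ⧸ J) ⊗[k] (A ⧸ J) :=
    (Algebra.TensorProduct.map q q).comp (Bialgebra.comulAlgHom k A)
  let ε2 : (A ⧸ J) ⊗[k] (A ⧸ J) →ₐ[k] k := Algebra.TensorProduct.lift εR εR fun _ _ => .all ..
  have hε2 : ∀ a, ε2 (Φ a) = ε a := by
    intro a
    have h1 : ε2 (Φ a) = (1 * 1 : WithConv (A →ₐ[k] k)).ofConv a := by
      show ε2 (Algebra.TensorProduct.map q q (comul a)) = _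
      rw [AlgHom.convMul_apply, hone1, ← AlgHom.comp_apply]
      congr 1
      ext <;> simp [ε2, hεR]
    rw [h1, one_mul, hone1]
  have hΦe : Φ (e 1) = 1 := by
    have hnil : ∀ t : (A ⧸ J) ⊗[k] (A ⧸ J), IsNilpotent (t - algebraMap k _ (ε2 t)) := by
      intro t
      induction t with
      | zero => simp
      | add a b ha hb =>
        rw [map_add, map_add, add_sub_add_comm]
        exact (Commute.all _ _).isNilpotent_add ha hb
      | tmul u v =>
        have h1 := ((hloc u).map (Algebra.TensorProduct.includeLeft : A ⧸ J →ₐ[k] _ ⊗[k] (A ⧸ J)))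
        have h2 := ((hloc v).map (Algebra.TensorProduct.includeRight : A ⧸ J →ₐ[k] (A ⧸ J) ⊗[k] _))
        have e : u ⊗ₜ[k] v - algebraMap k _ (ε2 (u ⊗ₜ[k] v)) =
            ((u - algebraMap k _ (εR u)) ⊗ₜ[k] (1 : A ⧸ J)) * ((1 : A ⧸ J) ⊗ₜ[k] v)
            + algebraMap k _ (εR u) * ((1 : A ⧸ J) ⊗ₜ[k] (v - algebraMap k _ (εR v))) := by
          simp only [ε2, Algebra.TensorProduct.lift_tmul, Algebra.algebraMap_eq_smul_one,
            Algebra.TensorProduct.one_def, TensorProduct.sub_tmul, TensorProduct.tmul_sub,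
            sub_mul, mul_sub, Algebra.TensorProduct.tmul_mul_tmul, one_mul, mul_one,
            smul_mul_assoc, TensorProduct.smul_tmul', TensorProduct.tmul_smul, smul_smul]
          abel
        rw [e]
        exact (Commute.all _ _).isNilpotent_add ((Commute.all _ _).isNilpotent_mul_right h1)
          ((Commute.all _ _).isNilpotent_mul_left h2)
    refine eq_of_isNilpotent_sub_of_isIdempotentElem ((hidem 1).map Φ) IsIdempotentElem.one ?_
    have := hnil (Φ (e 1))
    rwa [hε2, ← hone1, hone, map_one] at this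
  let Δ : A ⧸ J →ₐ[k] (A ⧸ J) ⊗[k] (A ⧸ J) := Ideal.Quotient.liftₐ J Φ (fun a ha => by
    obtain ⟨c, rfl⟩ := Ideal.mem_span_singleton.1 ha
    rw [map_mul, map_sub, map_one, hΦe, sub_self, zero_mul])
  have hΔ : ∀ a, Δ (q a) = Algebra.TensorProduct.map q q (comul a) := fun _ => rfl
  have hr : ∀ x, slice εR.toLinearMap (Δ x) = x := by
    intro x
    obtain ⟨a, rfl⟩ := hq x
    rw [hΔ, ← (ℛ k a).eq, map_sum, map_sum]
    simp only [Algebra.TensorProduct.map_tmul, slice_tmul, AlgHom.toLinearMap_apply, hεR,
      ← map_smul, ← map_sum]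
    congr 1
    have h := congrArg (TensorProduct.rid k A) (sum_tmul_counit_eq (ℛ k a))
    simp only [map_sum, TensorProduct.rid_tmul, one_smul] at h
    exact h
  have hl : ∀ (φ : A ⧸ J →ₗ[k] k) (x), εR (slice φ (Δ x)) = φ x := by
    intro φ x
    obtain ⟨a, rfl⟩ := hq x
    rw [hΔ, ← (ℛ k a).eq, map_sum, map_sum, map_sum]
    simp only [Algebra.TensorProduct.map_tmul, slice_tmul, map_smul, hεR, smul_eq_mul]
    conv_rhs => rw [← sum_counit_smul (ℛ k a), map_sum, map_sum]
    refine Finset.sum_congr rfl fun i _ => ?_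
    rw [map_smul, map_smul, smul_eq_mul, mul_comm]
    rfl
  haveI : FiniteDimensional k (A ⧸ J) := inferInstance
  obtain ⟨qe, hqe'⟩ : ∃ qe, ExpChar k qe := ExpChar.exists k
  obtain ⟨r, hr'⟩ := exists_pow_eq_finrank Δ εR hr hl hloc qe
  -- the order
  have hn : Module.finrank k A =
      Nat.card (WithConv (A →ₐ[k] k)) * Module.finrank k (A ⧸ J) := by
    let ψ : A →ₗ[k] ((g : WithConv (A →ₐ[k] k)) → A ⧸ Ideal.span {1 - e g}) :=
      LinearMap.pi fun g => (Ideal.Quotient.mkₐ k (Ideal.span {1 - e g})).toLinearMap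
    have hψ : Function.Bijective ψ := hcompl.bijective_pi
    rw [(LinearEquiv.ofBijective ψ hψ).finrank_eq, Module.finrank_pi_fintype]
    rw [Finset.sum_eq_card_nsmul (fun g _ => ?_), Finset.card_univ, smul_eq_mul,
      Nat.card_eq_fintype_card]
    refine (Ideal.quotientEquivAlg J _ (transEquiv g⁻¹) ?_).toLinearEquiv.finrank_eq.symm
    rw [Ideal.map_span, Set.image_singleton]
    congr 2
    show 1 - e g = transEquiv g⁻¹ (1 - e 1)
    rw [map_sub, map_one, htr, inv_inv]
  -- the power
  set N := Nat.card (WithConv (A →ₐ[k] k))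
  let ψN : A →ₐ[k] A := (idc ^ N : WithConv (A →ₐ[k] A)).ofConv
  have hψe : ψN (e 1) = 1 := by
    refine eq_of_isNilpotent_sub_of_isIdempotentElem ((hidem 1).map _) IsIdempotentElem.one
      (isNilpotent_of_forall_point (k := k) fun χ => ?_)
    rw [map_sub, map_one, comp_idc_pow, pow_card_eq_one', hone, sub_self]
  have hψJ : ∀ a ∈ J, ψN a = 0 := fun a ha => by
    obtain ⟨c, rfl⟩ := Ideal.mem_span_singleton.1 ha
    rw [map_mul, map_sub, map_one, hψe, sub_self, zero_mul]
  -- powers of `id - 1`
  set n₀ := Module.finrank k (A ⧸ J) with hn₀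
  let I : Ideal A := RingHom.ker ε.toRingHom
  let D : WithConv (A →ₗ[k] A) := toConv LinearMap.id - 1
  have hD : ∀ a, D a ∈ I := fun a => by
    show ε (a - algebraMap k A (ε a)) = 0
    rw [map_sub, AlgHom.commutes]
    simp
  have hDpow : ∀ j a, (D ^ j) a ∈ I ^ j := by
    intro j
    induction j with
    | zero => simp
    | succ j ih =>
      intro a
      rw [pow_succ D, LinearMap.convMul_apply, ← (ℛ k a).eq, map_sum, map_sum, pow_succ]
      exact Submodule.sum_mem _ fun i _ => Ideal.mul_mem_mul (ih _) (hD _)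
  haveI : Nontrivial A := RingHom.domain_nontrivial ε.toRingHom
  haveI : Nontrivial (WithConv (A →ₗ[k] A)) := ⟨⟨0, 1, fun h => by
    have := congrArg (fun f : WithConv (A →ₗ[k] A) => f 1) h
    simp at this⟩⟩
  haveI : ExpChar (WithConv (A →ₗ[k] A)) qe :=
    expChar_of_injective_algebraMap (algebraMap k _).injective qe
  have hexp : (toConv LinearMap.id : WithConv (A →ₗ[k] A)) ^ n₀ = D ^ n₀ + 1 := by
    rw [hr']
    conv_lhs => rw [← sub_add_cancel (toConv LinearMap.id : WithConv (A →ₗ[k] A)) 1]
    rw [add_pow_expChar_pow_of_commute (p := qe) (h := Commute.one_right _), one_pow]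
  have hmain : ∀ a, (idc ^ n₀ : WithConv (A →ₐ[k] A)).ofConv a - algebraMap k A (ε a) ∈
      I ^ n₀ := by
    intro a
    have h := congrArg (fun f : WithConv (A →ₗ[k] A) => f a)
      ((AlgHom.toLinearMap_convPow idc n₀).trans hexp)
    have h' : (idc ^ n₀ : WithConv (A →ₐ[k] A)).ofConv a = (D ^ n₀) a + algebraMap k A (ε a) := h
    rw [h', add_sub_cancel_right]
    exact hDpow n₀ a
  have hIR : I.map q.toRingHom ≤ RingHom.ker εR.toRingHom :=
    Ideal.map_le_iff_le_comap.2 fun a ha => ha
  have hkerR : IsNilpotent (RingHom.ker εR.toRingHom) := by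
    haveI : IsNoetherianRing (A ⧸ J) := isNoetherian_of_tower k inferInstance
    obtain ⟨M, hM⟩ := IsNoetherianRing.isNilpotent_nilradical (A ⧸ J)
    refine ⟨M, le_bot_iff.1 ((Ideal.pow_right_mono (fun b hb => ?_) M).trans (le_of_eq hM))⟩
    have := hloc b
    rw [show εR b = 0 from hb, map_zero, sub_zero] at this
    exact mem_nilradical.2 this
  have hkill : ∀ y ∈ I ^ n₀, ψN y = 0 := by
    intro y hy
    apply hψJ
    have h1 := Ideal.mem_map_of_mem q.toRingHom hy
    rw [Ideal.map_pow] at h1
    have h2 := (Ideal.pow_right_mono hIR n₀) h1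
    rw [hn₀, pow_finrank_eq_bot _ hkerR, Ideal.mem_bot] at h2
    exact Ideal.Quotient.eq_zero_iff_mem.1 h2
  apply WithConv.ext
  refine AlgHom.ext fun a => ?_
  have h1 : ψN ((idc ^ n₀ : WithConv (A →ₐ[k] A)).ofConv a) =
      (idc ^ Module.finrank k A : WithConv (A →ₐ[k] A)).ofConv a := by
    rw [comp_idc_pow, hn, pow_mul]
  rw [← h1, AlgHom.convOne_apply, ← sub_eq_zero]
  have h2 := hkill _ (hmain a)
  rw [map_sub, AlgHom.commutes] at h2
  exact h2

end algClosed

section descent

variable (k : Type u) [Field k] (K : Type u) [Field K] [Algebra k K]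
  (A : Type v) [CommRing A] [HopfAlgebra k A]

theorem idc_pow_baseChange (n : ℕ) (a : A) :
    (idc ^ n : WithConv (K ⊗[k] A →ₐ[K] K ⊗[k] A)).ofConv ((1 : K) ⊗ₜ[k] a) =
      (1 : K) ⊗ₜ[k] (idc ^ n : WithConv (A →ₐ[k] A)).ofConv a := by
  induction n generalizing a with
  | zero =>
    simp only [pow_zero, AlgHom.convOne_apply, TensorProduct.counit_tmul,
      CommSemiring.counit_apply]
    simp [Algebra.algebraMap_eq_smul_one, Algebra.TensorProduct.one_def, TensorProduct.smul_tmul']
  | succ n ih =>
    rw [pow_succ, pow_succ, AlgHom.convMul_apply, AlgHom.convMul_apply,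
      TensorProduct.comul_tmul, CommSemiring.comul_apply, ← (ℛ k a).eq]
    simp only [map_sum, TensorProduct.tmul_sum, TensorProduct.AlgebraTensorModule.tensorTensorTensorComm_tmul,
      Algebra.TensorProduct.lift_tmul, ih, WithConv.ofConv_toConv, AlgHom.id_apply,
      Algebra.TensorProduct.tmul_mul_tmul, one_mul]

end descent

/-- A finite group scheme over a field is killed by its order. -/
theorem convPow_id_finrank (k : Type u) [Field k] (A : Type v) [CommRing A] [HopfAlgebra k A]
    [Module.Finite k A] : (idc : WithConv (A →ₐ[k] A)) ^ Module.finrank k A = 1 := by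
  apply WithConv.ext
  refine AlgHom.ext fun a => ?_
  let K := AlgebraicClosure k
  have h := convPow_id_finrank_of_isAlgClosed (k := K) (A := K ⊗[k] A)
  rw [Module.finrank_baseChange] at h
  have h1 := idc_pow_baseChange k K A (Module.finrank k A) a
  rw [h] at h1
  have h2 := idc_pow_baseChange k K A 0 a
  rw [pow_zero, pow_zero, h1] at h2
  exact Algebra.TensorProduct.includeRight_injective (algebraMap k K).injective h2

end Groth.L25.OrderKills
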