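import Mathlib.Data.Nat.Choose.Lucas
import Mathlib.Data.Nat.Choose.Dvd
import Mathlib.Data.Nat.Factorization.Basic
import Mathlib.Data.Nat.Factorial.BigOperators
import Mathlib.RingTheory.Coprime.Lemmas
import Mathlib.RingTheory.Ideal.Basic
import Mathlib.Tactic.Ring
import Mathlib.Tactic.LinearCombination

/-!
# Lazard's lemma on symmetric additive 2-cocycles, modulo an ideal, in characteristic `p`

A homogeneous cocycle of degree `n` is given by the coefficients `a i` of `X ^ i * Y ^ (n - i)`.
-/

set_option autoImplicit false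

universe u

namespace Groth.L25.CocycleComb

variable {p : ℕ} [hp : Fact p.Prime] {R : Type u} [CommRing R]

theorem exists_inv (hp0 : (p : R) = 0) {C : ℕ} (hC : ¬ p ∣ C) : ∃ y : R, (C : R) * y = 1 := by
  have h : Nat.Coprime C p := (hp.out.coprime_iff_not_dvd.2 hC).symm
  obtain ⟨a, b, hab⟩ := h.isCoprime
  refine ⟨(a : R), ?_⟩
  have := congrArg (Int.cast : ℤ → R) hab
  push_cast at this
  rw [hp0, mul_zero, add_zero] at this
  rw [mul_comm]
  exact this

theorem cancel (hp0 : (p : R) = 0) {I : Ideal R} {C : ℕ} (hC : ¬ p ∣ C) {x : R}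
    (h : (C : R) * x ∈ I) : x ∈ I := by
  obtain ⟨y, hy⟩ := exists_inv hp0 hC
  have := I.mul_mem_left y h
  rwa [← mul_assoc, mul_comm y, hy, one_mul] at this

omit hp in
theorem cast_eq_of_modEq (hp0 : (p : R) = 0) {a b : ℕ} (h : a ≡ b [MOD p]) :
    (a : R) = (b : R) := by
  rw [← Nat.mod_add_div a p, ← Nat.mod_add_div b p, h]
  push_cast
  rw [hp0]
  ring

omit hp in
theorem cast_eq_zero (hp0 : (p : R) = 0) {a : ℕ} (h : p ∣ a) : (a : R) = 0 := by
  obtain ⟨c, rfl⟩ := h
  push_cast
  rw [hp0, zero_mul]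

theorem choose_pow_modEq (n v : ℕ) : n.choose (p ^ v) ≡ n / p ^ v [MOD p] := by
  rw [← Int.natCast_modEq_iff]
  refine (Choose.choose_modEq_choose_mul_prod_range_choose (p := p) v).trans ?_
  rw [Nat.div_self (pow_pos hp.out.pos v), Nat.choose_one_right]
  rw [Finset.prod_eq_one]
  · simp [Int.ModEq.refl]
  · intro i hi
    rw [Finset.mem_range] at hi
    have hz : p ^ (v - i) % p = 0 := Nat.mod_eq_zero_of_dvd (dvd_pow_self p (by omega))
    rw [Nat.pow_div hi.le hp.out.pos, hz, Nat.choose_zero_right]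

theorem not_dvd_choose {n v : ℕ} (h : ¬ p ∣ n / p ^ v) : ¬ p ∣ n.choose (p ^ v) := fun hd =>
  h ((choose_pow_modEq n v).dvd_iff dvd_rfl |>.1 hd)

theorem mem_left_of_sub {I : Ideal R} {x y : R} (h : x - y ∈ I) (hy : y ∈ I) : x ∈ I := by
  simpa using I.add_mem h hy

/-- `a i` are the coefficients of a cocycle of degree `n` modulo `I`. -/
def IsCoc (I : Ideal R) (n : ℕ) (a : ℕ → R) : Prop :=
  ∀ i j l : ℕ, 0 < i → 0 < j → 0 < l → i + j + l = n →
    ((i + j).choose i : R) * a (i + j) - ((j + l).choose j : R) * a i ∈ I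

variable {I : Ideal R} {n : ℕ} {a : ℕ → R}

omit hp in
theorem IsCoc.swap (hc : IsCoc I n a) {u q : ℕ} (hu : 0 < u) (hq : 0 < q) (h : u + q < n) :
    ((n - u).choose q : R) * a u - ((n - q).choose u : R) * a q ∈ I := by
  have h1 := hc u q (n - u - q) hu hq (by omega) (by omega)
  have h2 := hc q u (n - u - q) hq hu (by omega) (by omega)
  rw [show q + (n - u - q) = n - u by omega] at h1
  rw [show u + (n - u - q) = n - q by omega, add_comm q u,
    ← Nat.choose_symm_add (a := u) (b := q)] at h2
  have := I.sub_mem h2 h1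
  convert this using 1
  ring

/-- The reduction to the indices which are powers of `p`. -/
theorem IsCoc.mem_of_pow (hp0 : (p : R) = 0) (hc : IsCoc I n a) {i : ℕ} (hi : 0 < i) (hin : i < n)
    (h : ∀ u, ¬ p ∣ i / p ^ u → p ^ u ∣ i → a (p ^ u) ∈ I) : a i ∈ I := by
  obtain ⟨u, m, hm, rfl⟩ := Nat.exists_eq_pow_mul_and_not_dvd hi.ne' p hp.out.ne_one
  have hdiv : p ^ u * m / p ^ u = m := Nat.mul_div_cancel_left m (pow_pos hp.out.pos u)
  have hau := h u (by rwa [hdiv]) (dvd_mul_right _ _)
  by_cases hm1 : m = 1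
  · rwa [hm1, mul_one]
  have hm2 : 2 ≤ m := by
    rcases m with _ | _ | m
    · simp at hi
    · exact absurd rfl hm1
    · omega
  have hlt : p ^ u < p ^ u * m := lt_mul_of_one_lt_right (pow_pos hp.out.pos u) (by omega)
  have h1 := hc (p ^ u) (p ^ u * m - p ^ u) (n - p ^ u * m) (pow_pos hp.out.pos u) (by omega)
    (by omega) (by omega)
  rw [Nat.add_sub_cancel' hlt.le] at h1
  refine cancel hp0 (not_dvd_choose (v := u) (by rwa [hdiv])) ?_
  have h2 := I.add_mem h1 (I.mul_mem_left
    (((p ^ u * m - p ^ u + (n - p ^ u * m)).choose (p ^ u * m - p ^ u) : ℕ) : R) hau)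
  rwa [sub_add_cancel] at h2

/-- Degree `p ^ v * d`, `p ∤ d`, `1 < d`: the cocycle is a coboundary. -/
theorem exists_coboundary (hp0 : (p : R) = 0) {J : Ideal R} (v d : ℕ) (hd : ¬ p ∣ d) (hd1 : 1 < d)
    (hn : n = p ^ v * d) (hc : IsCoc I n a) (hs : ∀ i, 0 < i → i < n → a i - a (n - i) ∈ I)
    (hJ : ∀ i, a i ∈ J) :
    ∃ f ∈ J, ∀ i, 0 < i → i < n → a i - (n.choose i : R) * f ∈ I := by
  have hq : 0 < p ^ v := pow_pos hp.out.pos v
  have hnd : n / p ^ v = d := by rw [hn, Nat.mul_div_cancel_left d hq]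
  obtain ⟨y, hy⟩ := exists_inv (R := R) hp0 (not_dvd_choose (n := n) (v := v) (by rwa [hnd]))
  refine ⟨y * a (p ^ v), J.mul_mem_left _ (hJ _), ?_⟩
  generalize hf : y * a (p ^ v) = f
  let b : ℕ → R := fun i => a i - (n.choose i : R) * f
  have hbc : IsCoc I n b := by
    intro i j l hi hj hl hijl
    have h := hc i j l hi hj hl hijl
    have e : ((i + j).choose i : R) * (n.choose (i + j) : R)
        = ((j + l).choose j : R) * (n.choose i : R) := by
      rw [← Nat.cast_mul, ← Nat.cast_mul, mul_comm, Nat.choose_mul (Nat.le_add_right i j),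
        show n - i = j + l by omega, show i + j - i = j by omega, mul_comm]
    convert h using 1
    simp only [b]
    linear_combination (-f) * e
  have hbs : ∀ i, 0 < i → i < n → b i - b (n - i) ∈ I := by
    intro i hi hin
    convert hs i hi hin using 1
    simp only [b, Nat.choose_symm hin.le]
    ring
  have hbq : b (p ^ v) ∈ I := by
    have : b (p ^ v) = 0 := by
      simp only [b, ← hf, ← mul_assoc, hy, one_mul, sub_self]
    rw [this]
    exact I.zero_mem
  have hgt : ∀ u, v < u → p ^ u < n → b (p ^ u) ∈ I := by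
    intro u hu hun
    obtain ⟨e, rfl⟩ := Nat.exists_eq_add_of_le hu.le
    rw [pow_add] at hun ⊢
    have hd1' : p ^ e < d := Nat.lt_of_mul_lt_mul_left (hn ▸ hun)
    have hle : p ^ v * p ^ e + p ^ v ≤ n := by
      rw [hn, ← Nat.mul_succ]
      exact Nat.mul_le_mul_left _ hd1'
    rcases hle.lt_or_eq with hlt | heq
    · have h := hbc.swap (Nat.mul_pos hq (pow_pos hp.out.pos e)) hq hlt
      refine cancel hp0 (not_dvd_choose (n := n - p ^ v * p ^ e) (v := v) ?_)
        (mem_left_of_sub h (I.mul_mem_left _ hbq))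
      rw [hn, ← Nat.mul_sub, Nat.mul_div_cancel_left _ hq]
      intro hdvd
      apply hd
      have : p ∣ p ^ e := dvd_pow_self p (by omega)
      have := Nat.dvd_add hdvd this
      rwa [Nat.sub_add_cancel hd1'.le] at this
    · have h := hbs _ (Nat.mul_pos hq (pow_pos hp.out.pos e)) hun
      rw [show n - p ^ v * p ^ e = p ^ v by omega] at h
      simpa using I.add_mem h hbq
  have hall : ∀ u, p ^ u < n → b (p ^ u) ∈ I := by
    intro u hun
    rcases lt_trichotomy u v with hu | hu | hu
    · have hpu : p ^ u < p ^ v := Nat.pow_lt_pow_right hp.out.one_lt hu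
      have hsplit : n - p ^ u = p ^ v * (d - 1) + (p ^ v - p ^ u) := by
        rw [Nat.mul_sub, mul_one, hn]
        have : p ^ v ≤ p ^ v * d := Nat.le_mul_of_pos_right _ (by omega)
        omega
      have h2 : p ^ v * 2 ≤ n := by rw [hn]; exact Nat.mul_le_mul_left _ hd1
      by_cases hd1p : p ∣ d - 1
      · obtain ⟨e, m, hm, hem⟩ := Nat.exists_eq_pow_mul_and_not_dvd (show d - 1 ≠ 0 by omega) p
          hp.out.ne_one
        have he : 0 < e := by
          rcases Nat.eq_zero_or_pos e with rfl | he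
          · simp only [pow_zero, one_mul] at hem
            exact absurd (hem ▸ hd1p) hm
          · exact he
        have hm0 : 0 < m := by
          rcases Nat.eq_zero_or_pos m with rfl | h
          · exact absurd (dvd_zero p) hm
          · exact h
        have hn' : n = p ^ (v + e) * m + p ^ v := by
          rw [hn, pow_add, mul_assoc, ← hem, Nat.mul_sub, mul_one]
          have : p ^ v ≤ p ^ v * d := Nat.le_mul_of_pos_right _ (by omega)
          omega
        have hle : p ^ (v + e) ≤ p ^ (v + e) * m := Nat.le_mul_of_pos_right _ hm0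
        have hq2 : b (p ^ (v + e)) ∈ I := hgt _ (by omega) (by omega)
        have h := hbc.swap (pow_pos hp.out.pos u) (pow_pos hp.out.pos (v + e)) (by omega)
        refine cancel hp0 (not_dvd_choose (n := n - p ^ u) (v := v + e) ?_)
          (mem_left_of_sub h (I.mul_mem_left _ hq2))
        rw [hsplit, hem, ← mul_assoc, ← pow_add, Nat.mul_add_div (pow_pos hp.out.pos _),
          Nat.div_eq_of_lt, add_zero]
        · exact hm
        · have : p ^ v ≤ p ^ (v + e) := Nat.pow_le_pow_right hp.out.pos (by omega)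
          have := pow_pos hp.out.pos u
          omega
      · have h := hbc.swap (pow_pos hp.out.pos u) hq (by omega)
        refine cancel hp0 (not_dvd_choose (n := n - p ^ u) (v := v) ?_)
          (mem_left_of_sub h (I.mul_mem_left _ hbq))
        rw [hsplit, Nat.mul_add_div hq, Nat.div_eq_of_lt, add_zero]
        · exact hd1p
        · have := pow_pos hp.out.pos u
          omega
    · exact hu ▸ hbq
    · exact hgt u hu hun
  intro i hi hin
  exact hbc.mem_of_pow hp0 hi hin fun u _ hdvd =>
    hall u (lt_of_le_of_lt (Nat.le_of_dvd hi hdvd) hin)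

/-- Degree `p ^ (t + 1)`: the cocycle is a multiple of Witt's. -/
theorem exists_witt (hp0 : (p : R) = 0) {J : Ideal R} (t : ℕ) (hn : n = p ^ (t + 1))
    (hc : IsCoc I n a) (hJ : ∀ i, a i ∈ J) :
    ∃ κ ∈ J, (∀ i, 0 < i → i < n → ¬ p ^ t ∣ i → a i ∈ I) ∧
      ∀ m, 0 < m → m < p →
        (m.factorial : R) * ((p - m).factorial : R) * a (m * p ^ t) - κ ∈ I := by
  have hq : 0 < p ^ t := pow_pos hp.out.pos t
  have hn' : n = p ^ t * p := by rw [hn, pow_succ]
  refine ⟨((p - 1).factorial : R) * a (p ^ t), J.mul_mem_left _ (hJ _), ?_, ?_⟩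
  · have hlow : ∀ u, u < t → a (p ^ u) ∈ I := by
      intro u hu
      have hpu : p ^ u < p ^ t := Nat.pow_lt_pow_right hp.out.one_lt hu
      have hpp : 2 ≤ p := hp.out.two_le
      have h2 : p ^ t * 2 ≤ n := by rw [hn']; exact Nat.mul_le_mul_left _ hpp
      have h := hc.swap (pow_pos hp.out.pos u) hq (by omega)
      have hsplit : n - p ^ u = p ^ t * (p - 1) + (p ^ t - p ^ u) := by
        rw [Nat.mul_sub, mul_one, ← hn']
        omega
      refine cancel hp0 (not_dvd_choose (n := n - p ^ u) (v := t) ?_) ?_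
      · rw [hsplit, Nat.mul_add_div hq, Nat.div_eq_of_lt, add_zero]
        · exact fun hd => absurd (Nat.le_of_dvd (by omega) hd) (by omega)
        · have := pow_pos hp.out.pos u
          omega
      · have hzero : ((n - p ^ t).choose (p ^ u) : R) = 0 := by
          rw [cast_eq_of_modEq hp0 (choose_pow_modEq (n - p ^ t) u)]
          refine cast_eq_zero hp0 ?_
          obtain ⟨e, rfl⟩ := Nat.exists_eq_add_of_lt hu
          rw [hn', ← Nat.mul_sub_one, show u + e + 1 = u + (e + 1) from rfl, pow_add, mul_assoc,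
            Nat.mul_div_cancel_left _ (pow_pos hp.out.pos u)]
          exact dvd_mul_of_dvd_left (dvd_pow_self p (by omega)) _
        rw [hzero, zero_mul, sub_zero] at h
        exact h
    intro i hi hin hndvd
    refine hc.mem_of_pow hp0 hi hin fun u _ hdvd => hlow u ?_
    by_contra hcon
    exact hndvd ((pow_dvd_pow p (by omega : t ≤ u)).trans hdvd)
  · intro m hm hmp
    rcases Nat.lt_or_ge 1 m with hm1 | hm1
    swap
    · obtain rfl : m = 1 := by omega
      simp
    obtain ⟨m, rfl⟩ : ∃ m', m = m' + 1 := ⟨m - 1, by omega⟩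
    have hlt : (m + 1) * p ^ t < n := by
      rw [hn', mul_comm]; exact Nat.mul_lt_mul_of_pos_left hmp hq
    have h := hc (p ^ t) (m * p ^ t) (n - (m + 1) * p ^ t) hq (Nat.mul_pos (by omega) hq)
      (by omega) (by rw [add_mul, one_mul] at hlt ⊢; omega)
    have e1 : p ^ t + m * p ^ t = p ^ t * (m + 1) := by ring
    have e2 : m * p ^ t + (n - (m + 1) * p ^ t) = p ^ t * (p - 1) := by
      rw [Nat.mul_sub, mul_one, add_mul, one_mul, ← hn']
      rw [add_mul, one_mul] at hlt
      omega
    have c1 : ((p ^ t + m * p ^ t).choose (p ^ t) : R) = ((m + 1 : ℕ) : R) := by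
      rw [e1]
      conv_lhs => arg 1; arg 2; rw [← mul_one (p ^ t)]
      rw [cast_eq_of_modEq hp0 Choose.choose_pow_mul_pow_mul_modEq_choose_nat,
        Nat.choose_one_right]
    have c2 : ((m * p ^ t + (n - (m + 1) * p ^ t)).choose (m * p ^ t) : R)
        = ((p - 1).choose m : R) := by
      rw [e2, mul_comm m, cast_eq_of_modEq hp0 Choose.choose_pow_mul_pow_mul_modEq_choose_nat]
    rw [c1, c2] at h
    have e3 : ((p - 1).choose m : R) * (m.factorial : R) * ((p - (m + 1)).factorial : R)
        = ((p - 1).factorial : R) := by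
      rw [show p - (m + 1) = p - 1 - m by omega, ← Nat.cast_mul, ← Nat.cast_mul,
        Nat.choose_mul_factorial_mul_factorial (by omega)]
    have e4 : p ^ t + m * p ^ t = (m + 1) * p ^ t := by ring
    rw [e4] at h
    have := I.mul_mem_left ((m.factorial : R) * ((p - (m + 1)).factorial : R)) h
    convert this using 1
    rw [Nat.factorial_succ]
    push_cast
    linear_combination (-(a (p ^ t))) * e3 * (-1)

end Groth.L25.CocycleComb
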