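import Groth.Agent.L25.ActCoeff
import Mathlib.RingTheory.Nakayama
import Mathlib.RingTheory.FiniteType
import Mathlib.RingTheory.LocalRing.ResidueField.Ideal
import Mathlib.RingTheory.Localization.Basic

/-!
# An action of a diagonalisable group trivial on all fibres is trivial

Functor-of-points form on an affine scheme of finite type over the base ring.
-/

set_option autoImplicit false
universe u

namespace Groth.L25.ActFibre

open Groth.L25.ActCoeff

variable {R B : Type u} [CommRing R] [CommRing B] [Algebra R B] {M : Type} [CommMonoid M]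
  (A : Act R B M)
  (htriv : ∀ (q : Ideal R) (_ : q.IsPrime) (C : Type u) [CommRing C] [Algebra R C],
      (∃ θ : q.ResidueField →+* C, θ.comp (algebraMap R q.ResidueField) = algebraMap R C) →
      ∀ (χ : M →* C) (β : B →ₐ[R] C), A.sm C χ β = β)

/-- reduction of coefficients along an algebra map -/
noncomputable def red {B' : Type u} [CommRing B'] [Algebra R B'] (π : B →ₐ[R] B') :
    MonoidAlgebra B M →ₐ[R] MonoidAlgebra B' M :=
  ev (MonoidAlgebra.of B' M) ((IsScalarTower.toAlgHom R B' (MonoidAlgebra B' M)).comp π)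

theorem coeff_red {B' : Type u} [CommRing B'] [Algebra R B'] (π : B →ₐ[R] B') (y : MonoidAlgebra B M)
    (m : M) : (red π y).coeff m = π (y.coeff m) := by
  classical
  induction y using MonoidAlgebra.induction_linear with
  | zero => simp
  | add p q hp hq => simp [hp, hq]
  | single a c =>
    simp [red, ev_single, MonoidAlgebra.coe_algebraMap, MonoidAlgebra.single_mul_single,
      MonoidAlgebra.coeff_single, Finsupp.single_apply, apply_ite π]

include htriv in
/-- non-trivial components die in algebras over a residue field -/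
theorem map_coeff_eq_zero (q : Ideal R) [hq : q.IsPrime] {B' : Type u} [CommRing B'] [Algebra R B']
    (π : B →ₐ[R] B') (θ : q.ResidueField →+* B') (hθ : θ.comp (algebraMap R q.ResidueField) = algebraMap R B')
    (b : B) (m : M) (hm : m ≠ 1) : π ((φ A b).coeff m) = 0 := by
  have hθ' : ((algebraMap B' (MonoidAlgebra B' M)).comp θ).comp (algebraMap R q.ResidueField) =
      algebraMap R (MonoidAlgebra B' M) := by
    rw [RingHom.comp_assoc, hθ, ← IsScalarTower.algebraMap_eq]
  have h1 := AlgHom.congr_fun (htriv q hq _ ⟨_, hθ'⟩ (MonoidAlgebra.of B' M)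
    ((IsScalarTower.toAlgHom R B' (MonoidAlgebra B' M)).comp π)) b
  rw [sm_eq, AlgHom.comp_apply] at h1
  rw [← coeff_red π]
  refine (congrArg (fun y => MonoidAlgebra.coeff y m) h1).trans ?_
  simp [MonoidAlgebra.coe_algebraMap, Ne.symm hm]

include htriv in
/-- non-trivial components die in the fibres -/
theorem exists_mul_mem (q : Ideal R) [hq : q.IsPrime] (b : B) (m : M) (hm : m ≠ 1) :
    ∃ s ∉ q, s • (φ A b).coeff m ∈ (q • ⊤ : Submodule R B) := by
  let I := q.map (algebraMap R B)
  let Sq := Algebra.algebraMapSubmonoid (B ⧸ I) q.primeCompl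
  let B' := Localization Sq
  let π : B →ₐ[R] B' := (IsScalarTower.toAlgHom R (B ⧸ I) B').comp (Ideal.Quotient.mkₐ R I)
  have hker : q ≤ RingHom.ker (algebraMap R B') := fun r hr => by
    rw [RingHom.mem_ker, IsScalarTower.algebraMap_apply R (B ⧸ I) B',
      show algebraMap R (B ⧸ I) r = Ideal.Quotient.mk I (algebraMap R B r) from rfl,
      Ideal.Quotient.eq_zero_iff_mem.2 (Ideal.mem_map_of_mem _ hr), map_zero]
  have hunit : q.primeCompl ≤ (IsUnit.submonoid _).comap (algebraMap R B') := fun r hr => by
    show IsUnit (algebraMap R B' r)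
    rw [IsScalarTower.algebraMap_apply R (B ⧸ I) B']
    exact IsLocalization.map_units B' (⟨_, Algebra.mem_algebraMapSubmonoid_of_mem (S := B ⧸ I) ⟨r, hr⟩⟩ : Sq)
  have h2 := map_coeff_eq_zero A htriv q π (Ideal.ResidueField.lift q _ hker hunit)
    (RingHom.ext fun r => Ideal.ResidueField.lift_algebraMap q _ hker hunit r) b m hm
  obtain ⟨⟨s', hs'⟩, hs⟩ := (IsLocalization.map_eq_zero_iff Sq B' _).1 h2
  obtain ⟨s, hsq, rfl⟩ := hs'
  refine ⟨s, hsq, ?_⟩
  rw [Ideal.smul_top_eq_map]
  have h3 : Ideal.Quotient.mk I (algebraMap R B s * (φ A b).coeff m) = 0 := by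
    rw [map_mul]; exact hs
  rw [Algebra.smul_def]
  exact Ideal.Quotient.eq_zero_iff_mem.1 h3

include htriv in
theorem φ_eq [Algebra.FiniteType R B] (b : B) : φ A b = MonoidAlgebra.single 1 b := by
  classical
  obtain ⟨t, ht⟩ := Algebra.FiniteType.out (R := R) (A := B)
  let cs : Finset B := t.biUnion fun x => ((φ A x).coeff.support.erase 1).image (φ A x).coeff
  let J : Ideal B := Ideal.span (cs : Set B)
  have hgen : ∀ x ∈ t, ∀ m : M, m ≠ 1 → (φ A x).coeff m ∈ J := by
    intro x hx m hm
    by_cases h : (φ A x).coeff m = 0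
    · rw [h]; exact zero_mem J
    · exact Ideal.subset_span (Finset.mem_biUnion.2 ⟨x, hx, Finset.mem_image_of_mem _
        (Finset.mem_erase.2 ⟨hm, Finsupp.mem_support_iff.2 h⟩)⟩)
  let πJ : B →ₐ[R] B ⧸ J := Ideal.Quotient.mkₐ R J
  have hone : ∀ x, ((φ A x).coeff.sum fun _ y => y) = x := by
    intro x
    have h1 := AlgHom.congr_fun (A.one B (AlgHom.id R B)) x
    rw [sm_eq, AlgHom.comp_apply, eq_sum A x, map_finsuppSum] at h1
    refine Eq.trans ?_ h1
    refine Finsupp.sum_congr fun n _ => ?_
    simp [ev_single]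
  have hall : ∀ (x : B) (m : M), m ≠ 1 → (φ A x).coeff m ∈ J := by
    have key : (red πJ).comp (φ A) = (IsScalarTower.toAlgHom R (B ⧸ J) (MonoidAlgebra (B ⧸ J) M)).comp πJ := by
      refine AlgHom.ext_of_adjoin_eq_top ht fun x hx => ?_
      refine MonoidAlgebra.ext (Finsupp.ext fun m => ?_)
      rw [AlgHom.comp_apply, coeff_red]
      have hR : ((IsScalarTower.toAlgHom R (B ⧸ J) (MonoidAlgebra (B ⧸ J) M)).comp πJ x).coeff m =
          if 1 = m then πJ x else 0 := by
        simp [MonoidAlgebra.coe_algebraMap, MonoidAlgebra.coeff_single, Finsupp.single_apply]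
      rw [hR]
      split_ifs with h
      · subst h
        conv_rhs => rw [← hone x, Finsupp.sum, map_sum]
        rw [Finset.sum_eq_single (1 : M)]
        · exact fun n hn hn1 => Ideal.Quotient.eq_zero_iff_mem.2 (hgen x hx n hn1)
        · exact fun hn => by rw [Finsupp.notMem_support_iff.1 hn, map_zero]
      · exact Ideal.Quotient.eq_zero_iff_mem.2 (hgen x hx m (Ne.symm h))
    intro x m hm
    have h1 := congrArg (fun y => MonoidAlgebra.coeff y m) (AlgHom.congr_fun key x)
    simp only [AlgHom.comp_apply, coeff_red] at h1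
    refine Ideal.Quotient.eq_zero_iff_mem.1 (h1.trans ?_)
    simp [MonoidAlgebra.coe_algebraMap, MonoidAlgebra.coeff_single, Finsupp.single_apply, Ne.symm hm]
  have hJP : ∀ P : Ideal B, P.IsMaximal → J ≤ P * J := by
    intro P hP
    refine Ideal.span_le.2 fun y hy => ?_
    obtain ⟨x, hx, hyx⟩ := Finset.mem_biUnion.1 hy
    obtain ⟨m, hm, rfl⟩ := Finset.mem_image.1 hyx
    have hm1 : m ≠ 1 := (Finset.mem_erase.1 hm).1
    have := Ideal.IsPrime.comap (algebraMap R B) (K := P)
    obtain ⟨s, hs, hsy⟩ := exists_mul_mem A htriv (P.comap (algebraMap R B)) x m hm1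
    let p : B →ₗ[R] B :=
      { toFun := fun z => (φ A z).coeff m
        map_add' := fun z z' => by simp
        map_smul' := fun r z => by simp }
    have hsy2 : s • (φ A x).coeff m ∈ P * J := by
      have h1 : p (s • (φ A x).coeff m) ∈ Submodule.map p ((P.comap (algebraMap R B)) • ⊤ : Submodule R B) :=
        ⟨_, hsy, rfl⟩
      rw [map_smul, show p ((φ A x).coeff m) = (φ A x).coeff m by
        change (φ A ((φ A x).coeff m)).coeff m = _
        rw [coeff_coeff, if_pos rfl], Submodule.map_smul'', Submodule.map_top] at h1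
      refine Submodule.smul_induction_on h1 (fun r hr z hz => ?_) (fun _ _ h h' => add_mem h h')
      obtain ⟨w, rfl⟩ := hz
      rw [Algebra.smul_def]
      exact Ideal.mul_mem_mul (show algebraMap R B r ∈ P from hr) (hall w m hm1)
    rw [Algebra.smul_def] at hsy2
    obtain ⟨a, q', hq', he⟩ := hP.exists_inv (show algebraMap R B s ∉ P from hs)
    have : (φ A x).coeff m = a * (algebraMap R B s * (φ A x).coeff m) + q' * (φ A x).coeff m := by
      rw [← mul_assoc, ← add_mul, he, one_mul]
    rw [SetLike.mem_coe, this]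
    exact add_mem ((P * J).mul_mem_left a hsy2) (Ideal.mul_mem_mul hq' (hall x m hm1))
  have hJ : J = ⊥ := by
    have htop : Submodule.annihilator (J : Submodule B B) = ⊤ := by
      by_contra h
      obtain ⟨P, hP, hle⟩ := Ideal.exists_le_maximal _ h
      obtain ⟨r, hr1, hr0⟩ := Submodule.exists_sub_one_mem_and_smul_eq_zero_of_fg_of_le_smul P J
        ⟨cs, rfl⟩ (by rw [smul_eq_mul]; exact hJP P hP)
      have hrP : r ∈ P := hle (Submodule.mem_annihilator.2 hr0)
      exact hP.ne_top ((Ideal.eq_top_iff_one P).2 (by simpa using sub_mem hrP hr1))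
    exact Submodule.annihilator_eq_top_iff.1 htop
  have hne : ∀ m : M, m ≠ 1 → (φ A b).coeff m = 0 := fun m hm => by
    have := hall b m hm
    rwa [hJ, Ideal.mem_bot] at this
  have hsupp : φ A b = MonoidAlgebra.single 1 ((φ A b).coeff 1) := by
    refine MonoidAlgebra.ext (Finsupp.ext fun m => ?_)
    rw [MonoidAlgebra.coeff_single, Finsupp.single_apply]
    split_ifs with h
    · rw [h]
    · exact hne m (Ne.symm h)
  have h1 := AlgHom.congr_fun (A.one B (AlgHom.id R B)) b
  rw [sm_eq, AlgHom.comp_apply, hsupp, ev_single] at h1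
  rw [hsupp]
  congr 1
  simpa using h1

include htriv in
theorem sm_eq_self [Algebra.FiniteType R B] (C : Type u) [CommRing C] [Algebra R C] (χ : M →* C)
    (β : B →ₐ[R] C) : A.sm C χ β = β := by
  refine AlgHom.ext fun b => ?_
  rw [sm_eq, AlgHom.comp_apply, φ_eq A htriv b, ev_single]
  simp

end Groth.L25.ActFibre
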