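import Groth.Agent.L25.CompleteFinite
import Groth.Agent.L25.HomSmooth.Main
import Groth.Agent.L25.NilAction
import Mathlib.AlgebraicGeometry.Morphisms.Finite

/-!
# Morphisms out of a finite scheme over a complete local ring, level by level
-/

set_option autoImplicit false
universe u

open CategoryTheory CategoryTheory.Limits MonoidalCategory CartesianMonoidalCategory MonObj GrpObj
open AlgebraicGeometry

set_option backward.isDefEq.respectTransparency.types false
set_option linter.style.haveILetI false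

noncomputable section

namespace Groth.L25.CompleteLevels

open Groth.L25.Cocycle Groth.L25.HomSmooth

variable {R : Type u} [CommRing R]

/-- a homomorphism between the fibres over `Spec (R ⧸ I)` as a multiplicative family -/
theorem exists_mulOn_of_bc (I : Ideal R) {H X : Over (Spec (CommRingCat.of R))} [GrpObj H] [GrpObj X]
    (f₀ : Red.bc (Spec.map (CommRingCat.ofHom (Ideal.Quotient.mk I))) H ⟶
      Red.bc (Spec.map (CommRingCat.ofHom (Ideal.Quotient.mk I))) X) [IsMonHom f₀] :
    ∃ g₀ : H ⊗ Z I ⟶ X, MulOn g₀ ∧ ∀ φ : H ⟶ X, fst H (Z I) ≫ φ = g₀ →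
      (Over.pullback (Spec.map (CommRingCat.ofHom (Ideal.Quotient.mk I)))).map φ = f₀ := by
  let T := Spec (CommRingCat.of R)
  let i := Spec.map (CommRingCat.ofHom (Ideal.Quotient.mk I))
  let ZI := Groth.L25.Cocycle.Z I
  have w0 : (fst H ZI).left ≫ H.hom = (snd H ZI).left ≫ i := (Over.w (fst H ZI)).trans (Over.w (snd H ZI)).symm
  let l : (H ⊗ ZI).left ⟶ (Red.bc i H).left := pullback.lift (fst H ZI).left (snd H ZI).left w0
  let g₀ : H ⊗ ZI ⟶ X := Over.homMk (l ≫ f₀.left ≫ pullback.fst X.hom i) (by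
    rw [Category.assoc, Category.assoc, pullback.condition]
    show l ≫ f₀.left ≫ (Red.bc i X).hom ≫ i = _
    rw [← Category.assoc f₀.left, Over.w f₀]
    show l ≫ pullback.snd H.hom i ≫ i = _
    rw [← Category.assoc, pullback.lift_snd]
    exact Over.w (snd H ZI))
  have hval : ∀ (Y : Over T) (p : Y ⟶ ZI) (a : Y ⟶ H) (c : Over.mk ((Over.mk p.left).hom ≫ i) ⟶ Y),
      c.left = 𝟙 _ → c ≫ lift a p ≫ g₀ = NilAction.toBase i (NilAction.ofBase i (c ≫ a) ≫ f₀) := by
    intro Y p a c hc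
    refine Over.OverMorphism.ext ?_
    simp only [NilAction.toBase, Over.comp_left, Over.homMk_left, Category.assoc]
    show c.left ≫ (lift a p).left ≫ l ≫ f₀.left ≫ pullback.fst X.hom i = _
    rw [← Category.assoc (lift a p).left, ← Category.assoc c.left]
    congr 1
    refine pullback.hom_ext ?_ ?_
    · rw [Category.assoc, Category.assoc, pullback.lift_fst, ← Over.comp_left, lift_fst]
      simp [NilAction.ofBase]
      exact (pullback.lift_fst _ _ _).symm
    · rw [Category.assoc, Category.assoc, pullback.lift_snd, ← Over.comp_left, lift_snd, hc]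
      simp [NilAction.ofBase]
      exact (pullback.lift_snd _ _ _).symm
  have hc : ∀ (Y : Over T) (p : Y ⟶ ZI), ∃ c : Over.mk ((Over.mk p.left).hom ≫ i) ⟶ Y, c.left = 𝟙 _ ∧ Epi c := by
    intro Y p
    let c : Over.mk ((Over.mk p.left).hom ≫ i) ⟶ Y := Over.homMk (𝟙 _) (by
      show 𝟙 _ ≫ Y.hom = p.left ≫ i
      rw [Category.id_comp]; exact (Over.w p).symm)
    haveI : Epi c.left := inferInstanceAs (Epi (𝟙 Y.left))
    exact ⟨c, rfl, Over.epi_of_epi_left c⟩
  have ofBase_mul : ∀ {W : Over (Spec (CommRingCat.of (R ⧸ I)))} (x y : Over.mk (W.hom ≫ i) ⟶ H),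
      NilAction.ofBase i (x * y) = NilAction.ofBase i x * NilAction.ofBase i y := fun x y => by
    have e : NilAction.toBase i (NilAction.ofBase i x * NilAction.ofBase i y) = x * y :=
      (NilAction.toBase_mul i _ _).trans (congrArg₂ (· * ·) (NilAction.toBase_ofBase i x) (NilAction.toBase_ofBase i y))
    rw [← e, NilAction.ofBase_toBase]
  have hmul : HomSmooth.MulOn g₀ := by
    intro Y p a b
    obtain ⟨c, hc1, _⟩ := hc Y p
    rw [← cancel_epi c, MonObj.comp_mul, hval Y p _ c hc1, hval Y p _ c hc1, hval Y p _ c hc1,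
      MonObj.comp_mul, ofBase_mul, MonObj.mul_comp, NilAction.toBase_mul]
  refine ⟨g₀, hmul, fun φ hφ => ?_⟩
  let W := Red.bc i H
  let Y : Over T := Over.mk (W.hom ≫ i)
  let p : Y ⟶ ZI := Over.homMk W.hom rfl
  let a : Y ⟶ H := NilAction.toBase i (𝟙 W)
  let c : Over.mk ((Over.mk p.left).hom ≫ i) ⟶ Y := Over.homMk (𝟙 _) (Category.id_comp _)
  have h1 := hval Y p a c rfl
  rw [← hφ, lift_fst_assoc] at h1
  have h2 : a ≫ φ = NilAction.toBase i f₀ := by
    have hca : c ≫ a = a := Over.OverMorphism.ext (Category.id_comp a.left)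
    rw [← Category.assoc, hca] at h1
    refine h1.trans ?_
    show NilAction.toBase i (NilAction.ofBase i (NilAction.toBase i (𝟙 W)) ≫ f₀) = _
    rw [NilAction.ofBase_toBase, Category.id_comp]
  have h3 := NilAction.ofBase_comp i a φ
  rw [h2, NilAction.ofBase_toBase, NilAction.ofBase_toBase, Category.id_comp] at h3
  exact h3

/-- morphisms with the same base change agree on the points over `Spec (R ⧸ I)` -/
theorem agreeMod_of_map_eq {I : Ideal R} {H X : Over (Spec (CommRingCat.of R))} (u v : H ⟶ X)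
    (h : (Over.pullback (Spec.map (CommRingCat.ofHom (Ideal.Quotient.mk I)))).map u =
      (Over.pullback (Spec.map (CommRingCat.ofHom (Ideal.Quotient.mk I)))).map v) : AgreeMod I u v := by
  intro Y p a
  let i := Spec.map (CommRingCat.ofHom (Ideal.Quotient.mk I))
  let c : Over.mk ((Over.mk p.left).hom ≫ i) ⟶ Y := Over.homMk (𝟙 _) (by
    show 𝟙 _ ≫ Y.hom = p.left ≫ i
    rw [Category.id_comp]; exact (Over.w p).symm)
  haveI : Epi c.left := inferInstanceAs (Epi (𝟙 Y.left))
  haveI := Over.epi_of_epi_left c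
  rw [← cancel_epi c, ← Category.assoc, ← Category.assoc, ← NilAction.toBase_ofBase i ((c ≫ a) ≫ u),
    ← NilAction.toBase_ofBase i ((c ≫ a) ≫ v)]
  congr 1
  rw [← NilAction.ofBase_comp i (c ≫ a) u, ← NilAction.ofBase_comp i (c ≫ a) v]
  exact congrArg (fun k => NilAction.ofBase i (c ≫ a) ≫ k) h

/-- a section that is trivial on `Spec (R ⧸ I)` has trivial base change -/
theorem map_eq_of_section {I : Ideal R} {X : Over (Spec (CommRingCat.of R))} [GrpObj X]
    (g : 𝟙_ (Over (Spec (CommRingCat.of R))) ⟶ X) (hg : toUnit (Z I) ≫ g = 1) :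
    (Over.pullback (Spec.map (CommRingCat.ofHom (Ideal.Quotient.mk I)))).map g =
      toUnit _ ≫ η[Red.bc (Spec.map (CommRingCat.ofHom (Ideal.Quotient.mk I))) X] := by
  let i := Spec.map (CommRingCat.ofHom (Ideal.Quotient.mk I))
  let W := (Over.pullback i).obj (𝟙_ (Over (Spec (CommRingCat.of R))))
  let p : Over.mk (W.hom ≫ i) ⟶ Z I := Over.homMk W.hom rfl
  have h2 : NilAction.toBase i (𝟙 W) ≫ g = 1 := by
    rw [toUnit_unique (NilAction.toBase i (𝟙 W)) (p ≫ toUnit (Z I)), Category.assoc, hg, MonObj.comp_one]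
  have h3 := NilAction.ofBase_comp i (NilAction.toBase i (𝟙 W)) g
  rw [h2, NilAction.ofBase_toBase, Category.id_comp, ← NilAction.toBase_one i, NilAction.ofBase_toBase] at h3
  exact h3

section Ext

variable {A : Type u} [CommRing A] [IsLocalRing A] [IsNoetherianRing A]
  [IsAdicComplete (IsLocalRing.maximalIdeal A) A] {X G : Over (Spec (CommRingCat.of A))} [IsFinite X.hom]

local notation "m" => IsLocalRing.maximalIdeal A

instance isAffine_left : IsAffine X.left := isAffine_of_isAffineHom X.hom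

theorem finite_θH : (θH X).Finite :=
  (IsFinite.finite_app X.hom ⊤ (isAffineOpen_top _)).comp
    (RingHom.Finite.of_surjective _ (Scheme.ΓSpecIso (CommRingCat.of A)).commRingCatIsoToRingEquiv.symm.surjective)

theorem pow_le (n : ℕ) : m ^ (n + 1) ≤ m ^ n := Ideal.pow_le_pow_right (Nat.le_succ n)

theorem lim_X {Y : Scheme.{u}} :
    (∀ f g : Spec Γ(X.left, ⊤) ⟶ Y,
      (∀ n, Spec.map (CommRingCat.ofHom (Ideal.Quotient.mk ((m ^ n).map (θH X)))) ≫ f =
        Spec.map (CommRingCat.ofHom (Ideal.Quotient.mk ((m ^ n).map (θH X)))) ≫ g) → f = g) ∧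
    (∀ w : (n : ℕ) → (Spec (CommRingCat.of (Γ(X.left, ⊤) ⧸ (m ^ n).map (θH X))) ⟶ Y),
      (∀ n, Spec.map (CommRingCat.ofHom (Ideal.Quotient.factor
        (Ideal.map_mono (f := θH X) (pow_le n)))) ≫ w (n + 1) = w n) →
      ∃ f : Spec Γ(X.left, ⊤) ⟶ Y,
        ∀ n, Spec.map (CommRingCat.ofHom (Ideal.Quotient.mk ((m ^ n).map (θH X)))) ≫ f = w n) := by
  letI := (θH X).toAlgebra
  haveI : Module.Finite A Γ(X.left, ⊤) := finite_θH
  exact CompleteFinite.existsUnique_lim (A := A) (fun n => (m ^ n).map (θH X))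
    (fun n => Ideal.map_pow _ _ n) (fun n => Ideal.map_mono (pow_le n))

/-- morphisms agreeing on all levels are equal -/
theorem ext_levels (f g : X ⟶ G) (h : ∀ n, AgreeMod (m ^ n) f g) : f = g := by
  apply Over.OverMorphism.ext
  rw [← cancel_epi X.left.isoSpec.inv]
  refine lim_X.1 _ _ fun n => ?_
  rw [← Category.assoc, ← Category.assoc]
  exact congrArg (fun k => k.left) (h n (W X (m ^ n)) (wSnd _) (wFst _))

/-- morphisms are algebraized -/
theorem exists_levels (f : ∀ n, X ⊗ Z (m ^ n) ⟶ G) (hf : ∀ n, X ◁ zMap (pow_le n) ≫ f (n + 1) = f n) :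
    ∃ φ : X ⟶ G, ∀ n, fst X (Z (m ^ n)) ≫ φ = f n := by
  let w : ∀ n, W X (m ^ n) ⟶ G := fun n => lift (wFst _) (wSnd _) ≫ f n
  let wMap : ∀ n, W X (m ^ n) ⟶ W X (m ^ (n + 1)) := fun n =>
    Over.homMk (Spec.map (CommRingCat.ofHom (Ideal.Quotient.factor (Ideal.map_mono (pow_le n))))) (by
      show Spec.map _ ≫ Spec.map _ ≫ _ = Spec.map _ ≫ _
      rw [← Spec.map_comp_assoc]; rfl)
  have hwf : ∀ n, wMap n ≫ wFst (H := X) (m ^ (n + 1)) = wFst (m ^ n) := by
    intro n
    apply Over.OverMorphism.ext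
    show Spec.map _ ≫ Spec.map _ ≫ _ = Spec.map _ ≫ _
    rw [← Spec.map_comp_assoc]; rfl
  have hw : ∀ n, wMap n ≫ w (n + 1) = w n := fun n => by
    show wMap n ≫ lift _ _ ≫ f (n + 1) = lift _ _ ≫ f n
    rw [← hf n, lift_whiskerLeft_assoc, ← Category.assoc, comp_lift, hwf]
    congr 2
    exact hom_Z_subsingleton _ _
  obtain ⟨F, hF⟩ := (lim_X (X := X) (Y := G.left)).2 (fun n => (w n).left) fun n =>
    congrArg (fun k => k.left) (hw n)
  have hF' : F ≫ G.hom = X.left.isoSpec.inv ≫ X.hom := by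
    refine lim_X.1 _ _ fun n => ?_
    rw [← Category.assoc, hF n]
    exact Over.w (w n)
  let φ : X ⟶ G := Over.homMk (X.left.isoSpec.hom ≫ F) (by
    rw [Category.assoc, hF', Iso.hom_inv_id_assoc])
  have hφ : ∀ n, wFst (m ^ n) ≫ φ = w n := fun n => by
    apply Over.OverMorphism.ext
    show (Spec.map _ ≫ X.left.isoSpec.inv) ≫ X.left.isoSpec.hom ≫ F = _
    rw [Category.assoc, Iso.inv_hom_id_assoc, hF n]
  refine ⟨φ, fun n => ?_⟩
  obtain ⟨v, hv⟩ := exists_toW (H := X) (m ^ n)
  have e2 : v ≫ lift (wFst (m ^ n)) (wSnd (m ^ n)) = 𝟙 _ := by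
    refine CartesianMonoidalCategory.hom_ext _ _ ?_ (hom_Z_subsingleton _ _)
    rw [Category.assoc, lift_fst, hv, Category.id_comp]
  rw [← hv, Category.assoc, hφ]
  exact (Category.assoc _ _ _).symm.trans (by rw [e2, Category.id_comp])

end Ext

section Sections

variable {A : Type u} [CommRing A] [IsLocalRing A] [IsNoetherianRing A]
  [IsAdicComplete (IsLocalRing.maximalIdeal A) A] {G : Over (Spec (CommRingCat.of A))}

local notation "m" => IsLocalRing.maximalIdeal A

instance isFinite_unit : IsFinite (𝟙_ (Over (Spec (CommRingCat.of A)))).hom :=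
  inferInstanceAs (IsFinite (𝟙 (Spec (CommRingCat.of A))))

/-- compatible sections on the levels give a section -/
theorem exists_section_levels (a : ∀ n, Z (m ^ n) ⟶ G) (ha : ∀ n, zMap (pow_le n) ≫ a (n + 1) = a n) :
    ∃ g : 𝟙_ (Over (Spec (CommRingCat.of A))) ⟶ G, ∀ n, toUnit (Z (m ^ n)) ≫ g = a n := by
  obtain ⟨g, hg⟩ := exists_levels (X := 𝟙_ (Over (Spec (CommRingCat.of A))))
    (fun n => snd _ (Z (m ^ n)) ≫ a n) (fun n => by
      rw [← Category.assoc, whiskerLeft_snd, Category.assoc, ha n])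
  refine ⟨g, fun n => ?_⟩
  have := congrArg (fun k => lift (toUnit (Z (m ^ n))) (𝟙 (Z (m ^ n))) ≫ k) (hg n)
  simpa only [lift_fst_assoc, lift_snd_assoc, Category.id_comp] using this

/-- the smooth scheme has sections lifting any point of a level -/
theorem exists_section_lift [Smooth G.hom] {k : ℕ} (a : Z (m ^ (k + 1)) ⟶ G) :
    ∃ g : 𝟙_ (Over (Spec (CommRingCat.of A))) ⟶ G, toUnit (Z (m ^ (k + 1))) ≫ g = a := by
  have step : ∀ j : ℕ, ∀ b : Z (m ^ (k + 1 + j)) ⟶ G, ∃ c : Z (m ^ (k + 1 + j + 1)) ⟶ G,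
      zMap (pow_le (k + 1 + j)) ≫ c = b := fun j b =>
    exists_lift_step (pow_le _) (by rw [← pow_add]; exact Ideal.pow_le_pow_right (by omega)) b
  choose c hc using step
  let b : ∀ j, Z (m ^ (k + 1 + j)) ⟶ G := fun j => Nat.rec a (fun j b => c j b) j
  obtain ⟨g, hg⟩ := exists_section_levels
    (fun n => zMap (Ideal.pow_le_pow_right (I := m) (show n ≤ k + 1 + n by omega)) ≫ b n) (fun n => by
      rw [← hc n (b n), ← Category.assoc, ← Category.assoc]
      congr 1
      exact hom_Z_subsingleton _ _)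
  refine ⟨g, ?_⟩
  have hb : ∀ j, zMap (Ideal.pow_le_pow_right (I := m) (show k + 1 ≤ k + 1 + j by omega)) ≫ b j = a := by
    intro j
    induction j with
    | zero => rw [hom_Z_subsingleton (zMap _) (𝟙 _), Category.id_comp]; rfl
    | succ j ih =>
      rw [← ih, ← hc j (b j), ← Category.assoc]
      congr 1
      exact hom_Z_subsingleton _ _
  rw [hg (k + 1), ← hb (k + 1)]

end Sections

end Groth.L25.CompleteLevels
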