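import Mathlib.RingTheory.PowerSeries.Substitution
import Mathlib.RingTheory.PowerSeries.Exp
import Mathlib.RingTheory.PowerSeries.Trunc
import Mathlib.Algebra.MvPolynomial.Coeff
import Mathlib.RingTheory.MvPolynomial.Basic
import Mathlib.Algebra.CharP.Basic
import Mathlib.Algebra.CharP.Lemmas
import Mathlib.Algebra.Field.ZMod
import Mathlib.Data.ZMod.Basic
import Mathlib.Data.Nat.Choose.Lucas
import Mathlib.RingTheory.Ideal.Span
import Mathlib.Data.Nat.Choose.Cast
import Mathlib.Data.Nat.Prime.Factorial

/-! Characters of the additive group: coefficient criterion and exponential products. -/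

namespace Groth.L25.Chars

variable {A : Type*} [CommRing A]

/-- The coefficient form of `f (X + Y) = f X * f Y`. -/
def Mult (c : ℕ → A) (B : ℕ) : Prop :=
  ∀ i j, i < B → j < B → c i * c j = ((i + j).choose i : A) * c (i + j)

lemma powerSeries_mult_iff (χ : PowerSeries A) :
    PowerSeries.subst (MvPowerSeries.X 0 + MvPowerSeries.X 1 : MvPowerSeries (Fin 2) A) χ =
        PowerSeries.subst (MvPowerSeries.X 0 : MvPowerSeries (Fin 2) A) χ *
          PowerSeries.subst (MvPowerSeries.X 1 : MvPowerSeries (Fin 2) A) χ ↔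
      ∀ B, Mult (fun n => PowerSeries.coeff n χ) B := by
  constructor
  · intro h B i j _ _
    have := congrArg (MvPowerSeries.coeff (Finsupp.single 0 i + Finsupp.single 1 j)) h
    rw [PowerSeries.coeff_subst_X_zero_add_X_one, PowerSeries.coeff_subst_X_zero_subst_mul_X_one] at this
    simpa using this.symm
  · intro h
    ext e
    rw [PowerSeries.coeff_subst_X_zero_add_X_one, PowerSeries.coeff_subst_X_zero_subst_mul_X_one]
    exact (h (e 0 + e 1 + 1) (e 0) (e 1) (by omega) (by omega)).symm

lemma coe_aeval (f : Polynomial A) (u : MvPolynomial (Fin 2) A) (hu : PowerSeries.HasSubst (u : MvPowerSeries (Fin 2) A)) :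
    ((Polynomial.aeval u f : MvPolynomial (Fin 2) A) : MvPowerSeries (Fin 2) A) =
      PowerSeries.subst (u : MvPowerSeries (Fin 2) A) (f : PowerSeries A) := by
  rw [PowerSeries.subst_coe hu]
  exact (Polynomial.aeval_algHom_apply (MvPolynomial.coeToMvPowerSeries.algHom A) u f).symm.trans
    (by simp [MvPolynomial.coeToMvPowerSeries.algHom_apply])

lemma coe_left (f : Polynomial A) :
    ((Polynomial.aeval (MvPolynomial.X 0 + MvPolynomial.X 1 : MvPolynomial (Fin 2) A) f : MvPolynomial (Fin 2) A) :
      MvPowerSeries (Fin 2) A) = PowerSeries.subst (MvPowerSeries.X 0 + MvPowerSeries.X 1 : MvPowerSeries (Fin 2) A) (f : PowerSeries A) := by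
  rw [coe_aeval, MvPolynomial.coe_add, MvPolynomial.coe_X, MvPolynomial.coe_X]
  rw [MvPolynomial.coe_add, MvPolynomial.coe_X, MvPolynomial.coe_X]
  exact (PowerSeries.HasSubst.X _).add (PowerSeries.HasSubst.X _)

lemma coe_right (f : Polynomial A) :
    ((Polynomial.aeval (MvPolynomial.X 0 : MvPolynomial (Fin 2) A) f * Polynomial.aeval (MvPolynomial.X 1 : MvPolynomial (Fin 2) A) f :
        MvPolynomial (Fin 2) A) : MvPowerSeries (Fin 2) A) =
      PowerSeries.subst (MvPowerSeries.X 0 : MvPowerSeries (Fin 2) A) (f : PowerSeries A) *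
        PowerSeries.subst (MvPowerSeries.X 1 : MvPowerSeries (Fin 2) A) (f : PowerSeries A) := by
  rw [MvPolynomial.coe_mul, coe_aeval, coe_aeval, MvPolynomial.coe_X, MvPolynomial.coe_X] <;>
    · rw [MvPolynomial.coe_X]; exact PowerSeries.HasSubst.X _

lemma polynomial_mult_iff (f : Polynomial A) :
    Polynomial.aeval (MvPolynomial.X 0 + MvPolynomial.X 1 : MvPolynomial (Fin 2) A) f =
        Polynomial.aeval (MvPolynomial.X 0 : MvPolynomial (Fin 2) A) f *
          Polynomial.aeval (MvPolynomial.X 1 : MvPolynomial (Fin 2) A) f ↔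
      ∀ B, Mult f.coeff B := by
  rw [← (MvPolynomial.coe_injective (σ := Fin 2) (R := A)).eq_iff, coe_left, coe_right, powerSeries_mult_iff]
  simp only [Polynomial.coeff_coe]

lemma mult_of_mk_eq (f : Polynomial A) (P : ℕ)
    (h : Ideal.Quotient.mk (Ideal.span {(MvPolynomial.X 0 ^ P : MvPolynomial (Fin 2) A), MvPolynomial.X 1 ^ P})
        (Polynomial.aeval (MvPolynomial.X 0 + MvPolynomial.X 1 : MvPolynomial (Fin 2) A) f) =
      Ideal.Quotient.mk (Ideal.span {(MvPolynomial.X 0 ^ P : MvPolynomial (Fin 2) A), MvPolynomial.X 1 ^ P})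
        (Polynomial.aeval (MvPolynomial.X 0 : MvPolynomial (Fin 2) A) f *
          Polynomial.aeval (MvPolynomial.X 1 : MvPolynomial (Fin 2) A) f)) :
    Mult f.coeff P := by
  intro i j hi hj
  obtain ⟨u, v, huv⟩ := Ideal.mem_span_pair.1 (Ideal.Quotient.eq.1 h)
  have := congrArg (MvPolynomial.coeff (Finsupp.single 0 i + Finsupp.single 1 j)) huv
  rw [MvPolynomial.coeff_sub, MvPolynomial.coeff_add, MvPolynomial.X_pow_eq_monomial,
    MvPolynomial.X_pow_eq_monomial, MvPolynomial.coeff_mul_monomial', MvPolynomial.coeff_mul_monomial',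
    if_neg (fun hle => by have := hle 0; simp at this; omega),
    if_neg (fun hle => by have := hle 1; simp at this; omega), add_zero] at this
  rw [← MvPolynomial.coeff_coe, ← MvPolynomial.coeff_coe, coe_left, coe_right,
    PowerSeries.coeff_subst_X_zero_add_X_one, PowerSeries.coeff_subst_X_zero_subst_mul_X_one] at this
  have h2 := sub_eq_zero.1 this.symm
  simp at h2
  exact h2.symm

section Rat

variable [Algebra ℚ A]

lemma coeff_rescale_exp (a : A) (n : ℕ) :
    PowerSeries.coeff n (PowerSeries.rescale a (PowerSeries.exp A)) = algebraMap ℚ A (1 / n.factorial) * a ^ n := by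
  rw [PowerSeries.coeff_rescale, PowerSeries.coeff_exp, mul_comm]

lemma mult_exp (a : A) (B : ℕ) : Mult (fun n => algebraMap ℚ A (1 / n.factorial) * a ^ n) B := by
  intro i j _ _
  have e : algebraMap ℚ A (1 / i.factorial) * algebraMap ℚ A (1 / j.factorial) =
      ((i + j).choose i : A) * algebraMap ℚ A (1 / (i + j).factorial) := by
    rw [← map_mul, ← map_natCast (algebraMap ℚ A), ← map_mul, Nat.cast_choose ℚ (Nat.le_add_right i j),
      Nat.add_sub_cancel_left]
    congr 1
    field_simp
  linear_combination a ^ (i + j) * e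

lemma eq_exp_of_mult (c : ℕ → A) (h0 : c 0 = 1) (h : ∀ B, Mult c B) (n : ℕ) :
    c n = algebraMap ℚ A (1 / n.factorial) * c 1 ^ n := by
  induction n with
  | zero => simp [h0]
  | succ n ih =>
    have h1 := h (n + 2) n 1 (by omega) (by omega)
    rw [ih, Nat.choose_succ_self_right, mul_assoc, ← pow_succ] at h1
    have e : algebraMap ℚ A (1 / (n.factorial : ℚ)) = algebraMap ℚ A (1 / (n + 1).factorial) * ((n + 1 : ℕ) : A) := by
      rw [← map_natCast (algebraMap ℚ A), ← map_mul]
      congr 1
      rw [Nat.factorial_succ]; push_cast; field_simp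
    have hu : IsUnit ((n + 1 : ℕ) : A) := by
      rw [← map_natCast (algebraMap ℚ A)]
      exact (isUnit_iff_ne_zero.2 (by positivity)).map _
    rw [e] at h1
    exact hu.mul_left_cancel (by linear_combination -h1)

end Rat

section CharP

variable {p : ℕ} [hp : Fact p.Prime] [CharP A p]

lemma unit_cast {n : ℕ} (h : ¬ p ∣ n) : IsUnit (n : A) := by
  rw [← map_natCast (ZMod.castHom dvd_rfl A : ZMod p →+* A)]
  exact (isUnit_iff_ne_zero.2 (fun h0 => h ((CharP.cast_eq_zero_iff (ZMod p) p n).1 h0))).map _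

lemma unit_factorial {n : ℕ} (h : n < p) : IsUnit ((n.factorial : ℕ) : A) :=
  unit_cast (fun hd => absurd (hp.out.dvd_factorial.1 hd) (by omega))

lemma choose_mul_pow_add {k j r : ℕ} (hr : r < p ^ k) :
    ((j * p ^ k + r).choose r : A) = 1 := by
  rw [← Nat.cast_one, CharP.natCast_eq_natCast A p]
  induction k generalizing r with
  | zero => obtain rfl : r = 0 := by simpa using hr
            simp [Nat.ModEq]
  | succ k ih =>
    refine (Choose.choose_modEq_choose_mod_mul_choose_div_nat (p := p)).trans ?_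
    rw [pow_succ, ← mul_assoc, Nat.add_comm (j * p ^ k * p) r, Nat.add_mul_mod_self_right,
      Nat.add_mul_div_right _ _ hp.out.pos, Nat.choose_self, one_mul, Nat.add_comm]
    exact ih ((Nat.div_lt_iff_lt_mul hp.out.pos).2 (by rwa [← pow_succ]))

lemma choose_succ_mul_pow {k j : ℕ} : (((j + 1) * p ^ k).choose (p ^ k) : A) = ((j + 1 : ℕ) : A) := by
  rw [CharP.natCast_eq_natCast A p]
  induction k with
  | zero => simp [Nat.ModEq]
  | succ k ih =>
    have e1 : (j + 1) * p ^ (k + 1) = p * ((j + 1) * p ^ k) := by ring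
    rw [e1, show p ^ (k + 1) = p * p ^ k by ring]
    exact (Choose.choose_mul_mul_modEq_choose_nat (p := p)).trans ih

variable {c : ℕ → A} {B : ℕ}

lemma pow_eq (h0 : c 0 = 1) (h : Mult c B) {k : ℕ} (hB : p ^ (k + 1) ≤ B) :
    ∀ j < p, c (p ^ k) ^ j = (j.factorial : A) * c (j * p ^ k) := by
  intro j
  induction j with
  | zero => simp [h0]
  | succ j ih =>
    intro hj
    have hq : p ^ k < B := lt_of_lt_of_le (Nat.pow_lt_pow_right hp.out.one_lt (Nat.lt_succ_self k)) hB
    have hjq : j * p ^ k < B := lt_of_lt_of_le (by rw [pow_succ']; exact Nat.mul_lt_mul_of_pos_right (by omega) (pow_pos hp.out.pos k)) hB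
    rw [pow_succ, ih (by omega), mul_assoc, mul_comm (c _) (c (p ^ k)), h _ _ hq hjq,
      show p ^ k + j * p ^ k = (j + 1) * p ^ k by ring, choose_succ_mul_pow, Nat.factorial_succ]
    push_cast; ring

lemma apply_mul_add (h0 : c 0 = 1) (h : Mult c B) {k j r : ℕ} (hB : p ^ (k + 1) ≤ B)
    (hj : j < p) (hr : r < p ^ k) :
    c (j * p ^ k + r) = Ring.inverse (j.factorial : A) * c (p ^ k) ^ j * c r := by
  have hjq : j * p ^ k < B := lt_of_lt_of_le (by rw [pow_succ']; exact Nat.mul_lt_mul_of_pos_right hj (pow_pos hp.out.pos k)) hB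
  have hrB : r < B := lt_of_lt_of_le (hr.trans (Nat.pow_lt_pow_right hp.out.one_lt (Nat.lt_succ_self k))) hB
  rw [pow_eq h0 h hB j hj, Ring.inverse_mul_cancel_left _ _ (unit_factorial hj), mul_comm (c (j * p ^ k)) (c r), h _ _ hrB hjq,
    add_comm r, choose_mul_pow_add hr, one_mul]

lemma pow_p_eq_zero (h0 : c 0 = 1) (h : Mult c B) {k : ℕ} (hB : p ^ (k + 1) ≤ B) :
    c (p ^ k) ^ p = 0 := by
  have hq : p ^ k < B := lt_of_lt_of_le (Nat.pow_lt_pow_right hp.out.one_lt (Nat.lt_succ_self k)) hB
  have h1 := hp.out.one_lt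
  have hjq : (p - 1) * p ^ k < B := lt_of_lt_of_le
    (by rw [pow_succ']; exact Nat.mul_lt_mul_of_pos_right (by omega) (pow_pos hp.out.pos k)) hB
  have e : c (p ^ k) * c ((p - 1) * p ^ k) = 0 := by
    rw [h _ _ hq hjq, show p ^ k + (p - 1) * p ^ k = ((p - 1) + 1) * p ^ k by ring, choose_succ_mul_pow,
      show p - 1 + 1 = p by omega, CharP.cast_eq_zero, zero_mul]
  have := pow_eq h0 h hB (p - 1) (by omega)
  have e2 : c (p ^ k) ^ p = c (p ^ k) ^ (p - 1) * c (p ^ k) := by rw [← pow_succ, Nat.sub_add_cancel h1.le]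
  rw [e2]
  linear_combination c (p ^ k) * this + ((p - 1).factorial : A) * e

variable (p) in
/-- `exp_p (a X^(p^k))`. -/
noncomputable def expFactor (a : A) (k : ℕ) : Polynomial A :=
  ∑ j ∈ Finset.range p, Polynomial.C (Ring.inverse (j.factorial : A) * a ^ j) * Polynomial.X ^ (j * p ^ k)

lemma coeff_prod (h0 : c 0 = 1) (h : Mult c B) (m : ℕ) (hB : p ^ m ≤ B) (n : ℕ) :
    (∏ k ∈ Finset.range m, expFactor p (c (p ^ k)) k).coeff n = if n < p ^ m then c n else 0 := by
  induction m generalizing n with
  | zero => rcases n with _ | n <;> simp [h0, Polynomial.coeff_one]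
  | succ m ih =>
    have hB' : p ^ m ≤ B := le_trans (Nat.pow_le_pow_right hp.out.pos (Nat.le_succ m)) hB
    rw [Finset.prod_range_succ]
    simp only [expFactor, Finset.mul_sum, Polynomial.finsetSum_coeff]
    have hq : 0 < p ^ m := pow_pos hp.out.pos m
    have e : ∀ j, ((∏ k ∈ Finset.range m, expFactor p (c (p ^ k)) k) *
        (Polynomial.C (Ring.inverse (j.factorial : A) * c (p ^ m) ^ j) * Polynomial.X ^ (j * p ^ m))).coeff n =
        if n / p ^ m = j then Ring.inverse (j.factorial : A) * c (p ^ m) ^ j * c (n % p ^ m) else 0 := by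
      intro j
      rw [← mul_assoc, Polynomial.coeff_mul_X_pow']
      split_ifs with h1 h2 h2
      · rw [Polynomial.coeff_mul_C, ih hB', if_pos]
        · subst h2
          rw [← Nat.mod_eq_sub_div_mul]; ring
        · subst h2
          rw [← Nat.mod_eq_sub_div_mul]; exact Nat.mod_lt _ hq
      · rw [Polynomial.coeff_mul_C, ih hB', if_neg, zero_mul]
        intro h3
        refine h2 (Nat.div_eq_of_lt_le h1 ?_)
        rw [Nat.succ_mul]; omega
      · exact absurd (h2 ▸ Nat.div_mul_le_self n (p ^ m)) h1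
      · rfl
    simp only [expFactor] at e
    simp only [e, Finset.sum_ite_eq, Finset.mem_range]
    have hiff : n / p ^ m < p ↔ n < p ^ (m + 1) := by rw [Nat.div_lt_iff_lt_mul hq, pow_succ']
    split_ifs with h1 h2 h2
    · conv_rhs => rw [← Nat.div_add_mod' n (p ^ m)]
      exact (apply_mul_add h0 h hB h1 (Nat.mod_lt _ hq)).symm
    · exact absurd (hiff.1 h1) h2
    · exact absurd (hiff.2 h2) h1
    · rfl

lemma mult_truncExp {a : A} (ha : a ^ p = 0) (B : ℕ) :
    Mult (fun n => if n < p then Ring.inverse (n.factorial : A) * a ^ n else 0) B := by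
  intro i j _ _
  by_cases hij : i + j < p
  · simp only [show i < p by omega, show j < p by omega, hij, if_true]
    have e : ((i + j).factorial : A) = ((i + j).choose i : A) * (i.factorial : A) * (j.factorial : A) := by
      rw [← Nat.choose_mul_factorial_mul_factorial (Nat.le_add_right i j), Nat.add_sub_cancel_left]
      push_cast; ring
    have u1 := Ring.mul_inverse_cancel _ (unit_factorial (A := A) (show i < p by omega))
    have u2 := Ring.mul_inverse_cancel _ (unit_factorial (A := A) (show j < p by omega))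
    have u3 := Ring.inverse_mul_cancel _ (unit_factorial (A := A) hij)
    linear_combination (-(Ring.inverse (i.factorial : A) * Ring.inverse (j.factorial : A) * a ^ (i + j))) * u3 +
      Ring.inverse (i.factorial : A) * Ring.inverse (j.factorial : A) * Ring.inverse ((i + j).factorial : A) * a ^ (i + j) * e +
      Ring.inverse ((i + j).factorial : A) * a ^ (i + j) * ((i + j).choose i : A) *
        ((j.factorial : A) * Ring.inverse (j.factorial : A)) * u1 +
      Ring.inverse ((i + j).factorial : A) * a ^ (i + j) * ((i + j).choose i : A) * u2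
  · simp only [if_neg hij, mul_zero]
    split_ifs with h1 h2
    · have : a ^ (i + j) = 0 := by
        rw [show i + j = p + (i + j - p) by omega, pow_add, ha, zero_mul]
      linear_combination Ring.inverse (i.factorial : A) * Ring.inverse (j.factorial : A) * this
    all_goals simp

lemma expFactor_mult {a : A} (ha : a ^ p = 0) (k : ℕ) :
    Polynomial.aeval (MvPolynomial.X 0 + MvPolynomial.X 1 : MvPolynomial (Fin 2) A) (expFactor p a k) =
        Polynomial.aeval (MvPolynomial.X 0 : MvPolynomial (Fin 2) A) (expFactor p a k) *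
          Polynomial.aeval (MvPolynomial.X 1 : MvPolynomial (Fin 2) A) (expFactor p a k) := by
  set G : Polynomial A := ∑ j ∈ Finset.range p, Polynomial.C (Ring.inverse (j.factorial : A) * a ^ j) * Polynomial.X ^ j with hG
  have hc : G.coeff = fun n => if n < p then Ring.inverse (n.factorial : A) * a ^ n else 0 := by
    funext n
    simp only [hG, Polynomial.finsetSum_coeff, Polynomial.coeff_C_mul_X_pow, Finset.sum_ite_eq, Finset.mem_range]
  have hE : ∀ u : MvPolynomial (Fin 2) A, Polynomial.aeval u (expFactor p a k) = Polynomial.aeval (u ^ p ^ k) G := by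
    intro u
    simp only [expFactor, hG, map_sum, map_mul, map_pow, Polynomial.aeval_C, Polynomial.aeval_X, ← pow_mul]
    simp only [mul_comm (p ^ k)]
  have h := (polynomial_mult_iff G).2 (fun B => hc ▸ mult_truncExp ha B)
  have h2 := congrArg (MvPolynomial.aeval ![(MvPolynomial.X 0 : MvPolynomial (Fin 2) A) ^ p ^ k, MvPolynomial.X 1 ^ p ^ k]) h
  simp only [map_mul, ← Polynomial.aeval_algHom_apply, map_add, MvPolynomial.aeval_X, Matrix.cons_val_zero, Matrix.cons_val_one] at h2
  rw [hE, hE, hE, add_pow_char_pow]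
  exact h2

lemma prod_mult {a : ℕ → A} (ha : ∀ n, a n ^ p = 0) (m : ℕ) :
    ∀ B, Mult (∏ k ∈ Finset.range m, expFactor p (a k) k).coeff B := by
  rw [← polynomial_mult_iff]
  simp only [map_prod]
  rw [← Finset.prod_mul_distrib]
  exact Finset.prod_congr rfl fun k _ => expFactor_mult (ha k) k

lemma expFactor_coeff_zero (a : A) (k : ℕ) : (expFactor p a k).coeff 0 = 1 := by
  have : ∀ j, (0 = j * p ^ k) ↔ j = 0 := fun j => by
    rw [eq_comm, Nat.mul_eq_zero, or_iff_left (pow_ne_zero k hp.out.ne_zero)]
  simp only [expFactor, Polynomial.finsetSum_coeff, Polynomial.coeff_C_mul_X_pow, this, Finset.sum_ite_eq',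
    Finset.mem_range, hp.out.pos, if_true]
  simp

lemma prod_coeff_zero (a : ℕ → A) (m : ℕ) :
    (∏ k ∈ Finset.range m, expFactor p (a k) k).coeff 0 = 1 := by
  simp [Polynomial.coeff_zero_prod, expFactor_coeff_zero]

end CharP

end Groth.L25.Chars
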