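import Groth.Agent.S9405
import Groth.Agent.L05.Hensel.Criteria
import Mathlib.AlgebraicGeometry.OpenImmersion
import Mathlib.AlgebraicGeometry.AffineScheme
import Mathlib.AlgebraicGeometry.Limits
import Mathlib.AlgebraicGeometry.Cover.Open
import Mathlib.AlgebraicGeometry.Gluing
import Mathlib.RingTheory.AdicCompletion.RingHom
import Mathlib.RingTheory.Localization.Away.Lemmas

/-!
# Morphisms out of the spectrum of a finite algebra over a complete local ring
-/

set_option autoImplicit false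
universe u

open CategoryTheory CategoryTheory.Limits AlgebraicGeometry

set_option backward.isDefEq.respectTransparency.types false
set_option linter.style.haveILetI false

noncomputable section

namespace Groth.L25.CompleteFinite

/-- `Spec` of a ring hom -/
abbrev sp {A B : Type u} [CommRing A] [CommRing B] (f : A →+* B) :
    Spec (CommRingCat.of B) ⟶ Spec (CommRingCat.of A) := Spec.map (CommRingCat.ofHom f)

theorem sp_comp {A B C : Type u} [CommRing A] [CommRing B] [CommRing C] (f : A →+* B) (g : B →+* C) :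
    sp (g.comp f) = sp g ≫ sp f := by
  rw [sp, CommRingCat.ofHom_comp, Spec.map_comp]

section Local

variable {C : Type u} [CommRing C] (K : Ideal C) [IsAdicComplete K C] {Y : Scheme.{u}}
  [Subsingleton (PrimeSpectrum (C ⧸ K))]

theorem eq_top_of_le {W : (Spec (CommRingCat.of C)).Opens}
    (h : ∀ q : PrimeSpectrum (C ⧸ K), sp (Ideal.Quotient.mk K) q ∈ W) : W = ⊤ := by
  refine top_le_iff.1 fun (P : PrimeSpectrum C) _ => ?_
  obtain ⟨M, hM, hPM⟩ := Ideal.exists_le_maximal P.asIdeal P.isPrime.ne_top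
  let M' : PrimeSpectrum C := ⟨M, hM.isPrime⟩
  have hK : K ≤ M := (IsAdicComplete.le_jacobson_bot K).trans (sInf_le ⟨bot_le, hM⟩)
  obtain ⟨q, hq⟩ : M' ∈ Set.range (PrimeSpectrum.comap (Ideal.Quotient.mk K)) := by
    rw [range_comap_of_surjective _ _ Ideal.Quotient.mk_surjective]
    intro a ha
    rw [SetLike.mem_coe, Ideal.mk_ker] at ha
    exact hK ha
  have hMW : M' ∈ W := hq ▸ h q
  exact ((PrimeSpectrum.le_iff_specializes P M').1 hPM).mem_open W.2 hMW

theorem exists_mem_range (n : ℕ) (x : PrimeSpectrum (C ⧸ K ^ n)) :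
    ∃ q : PrimeSpectrum (C ⧸ K), sp (Ideal.Quotient.mk (K ^ n)) x = sp (Ideal.Quotient.mk K) q := by
  let P : PrimeSpectrum C := PrimeSpectrum.comap (Ideal.Quotient.mk (K ^ n)) x
  have hP : K ^ n ≤ P.asIdeal := fun a ha => by
    show Ideal.Quotient.mk (K ^ n) a ∈ x.asIdeal
    rw [Ideal.Quotient.eq_zero_iff_mem.2 ha]
    exact zero_mem _
  obtain ⟨q, hq⟩ : P ∈ Set.range (PrimeSpectrum.comap (Ideal.Quotient.mk K)) := by
    rw [range_comap_of_surjective _ _ Ideal.Quotient.mk_surjective]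
    intro a ha
    rw [SetLike.mem_coe, Ideal.mk_ker] at ha
    exact P.isPrime.mem_of_pow_mem n (hP (Ideal.pow_mem_pow ha n))
  exact ⟨q, hq.symm⟩

/-- the compatible families of morphisms have a unique limit: uniqueness -/
theorem piece_unique (q₀ : PrimeSpectrum (C ⧸ K)) (f g : Spec (CommRingCat.of C) ⟶ Y)
    (h : ∀ n, sp (Ideal.Quotient.mk (K ^ n)) ≫ f = sp (Ideal.Quotient.mk (K ^ n)) ≫ g) : f = g := by
  obtain ⟨_, ⟨(V : Y.Opens), hV, rfl⟩, hyV, -⟩ := Y.isBasis_affineOpens.exists_subset_of_mem_open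
    (Set.mem_univ (f (sp (Ideal.Quotient.mk K) q₀))) isOpen_univ
  have hfg : ∀ q : PrimeSpectrum (C ⧸ K), f (sp (Ideal.Quotient.mk K) q) = g (sp (Ideal.Quotient.mk K) q) := by
    intro q
    let e : C ⧸ K ^ 1 →+* C ⧸ K := Ideal.Quotient.factor (by rw [pow_one])
    have e1 : sp (Ideal.Quotient.mk K) = sp e ≫ sp (Ideal.Quotient.mk (K ^ 1)) := by
      rw [← sp_comp]
      exact congrArg sp (RingHom.ext fun c => rfl)
    have h1 := congrArg (fun m => (sp e ≫ m) q) (h 1)
    simp only [← Category.assoc, ← e1, Scheme.Hom.comp_apply] at h1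
    exact h1
  have hf : f ⁻¹ᵁ V = ⊤ := eq_top_of_le K fun q => by
    show f _ ∈ V
    rw [Subsingleton.elim q q₀]; exact hyV
  have hg : g ⁻¹ᵁ V = ⊤ := eq_top_of_le K fun q => by
    show g _ ∈ V
    rw [← hfg, Subsingleton.elim q q₀]; exact hyV
  have hr : ∀ m : Spec (CommRingCat.of C) ⟶ Y, m ⁻¹ᵁ V = ⊤ → Set.range m ⊆ Set.range hV.fromSpec := by
    intro m hm
    rintro _ ⟨z, rfl⟩
    rw [hV.range_fromSpec]
    exact (show z ∈ m ⁻¹ᵁ V by rw [hm]; trivial)
  obtain ⟨φ, hφ⟩ := Spec.map_surjective (IsOpenImmersion.lift hV.fromSpec f (hr f hf))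
  obtain ⟨ψ, hψ⟩ := Spec.map_surjective (IsOpenImmersion.lift hV.fromSpec g (hr g hg))
  have hφ' : Spec.map φ ≫ hV.fromSpec = f := by rw [hφ, IsOpenImmersion.lift_fac]
  have hψ' : Spec.map ψ ≫ hV.fromSpec = g := by rw [hψ, IsOpenImmersion.lift_fac]
  rw [← hφ', ← hψ']
  congr 2
  refine CommRingCat.hom_ext (DFunLike.coe_injective (IsHausdorff.funext' K fun n x => ?_))
  have h2 : Spec.map (φ ≫ CommRingCat.ofHom (Ideal.Quotient.mk (K ^ n))) =
      Spec.map (ψ ≫ CommRingCat.ofHom (Ideal.Quotient.mk (K ^ n))) := by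
    rw [← cancel_mono hV.fromSpec, Spec.map_comp, Spec.map_comp, Category.assoc, Category.assoc, hφ', hψ']
    exact h n
  exact congr($(Spec.map_injective h2) x)

/-- the compatible families of morphisms have a unique limit: existence -/
theorem piece_exists (q₀ : PrimeSpectrum (C ⧸ K)) (w : ∀ n, Spec (CommRingCat.of (C ⧸ K ^ n)) ⟶ Y)
    (hw : ∀ n, sp (Ideal.Quotient.factor (Ideal.pow_le_pow_right (I := K) (Nat.le_succ n))) ≫ w (n + 1) = w n) :
    ∃ f : Spec (CommRingCat.of C) ⟶ Y, ∀ n, sp (Ideal.Quotient.mk (K ^ n)) ≫ f = w n := by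
  let e : C ⧸ K ^ 1 →+* C ⧸ K := Ideal.Quotient.factor (by rw [pow_one])
  let p₁ : Spec (CommRingCat.of (C ⧸ K)) ⟶ Y := sp e ≫ w 1
  obtain ⟨_, ⟨(V : Y.Opens), hV, rfl⟩, hyV, -⟩ := Y.isBasis_affineOpens.exists_subset_of_mem_open
    (Set.mem_univ (p₁ q₀)) isOpen_univ
  have hK : ∀ n, K ^ (n + 1) ≤ K := fun n => Ideal.pow_le_self n.succ_ne_zero
  have hw1 : ∀ n, sp (Ideal.Quotient.factor (hK n)) ≫ w (n + 1) = p₁ := by
    intro n
    induction n with
    | zero => rfl
    | succ n ih =>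
      rw [← ih, ← hw (n + 1), ← Category.assoc, ← sp_comp]
      congr 2
      exact (Ideal.Quotient.factor_comp _ _).symm
  have hr : ∀ n, Set.range (w n) ⊆ Set.range hV.fromSpec := by
    intro n
    rintro _ ⟨(x : PrimeSpectrum (C ⧸ K ^ n)), rfl⟩
    rw [hV.range_fromSpec]
    rcases n with - | n
    · haveI : Subsingleton (C ⧸ K ^ 0) := Ideal.Quotient.subsingleton_iff.2 (by rw [pow_zero, Ideal.one_eq_top])
      exact (IsEmpty.false (α := PrimeSpectrum (C ⧸ K ^ 0)) x).elim
    obtain ⟨q, hq⟩ := exists_mem_range K (n + 1) x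
    have hx : x = sp (Ideal.Quotient.factor (hK n)) q := by
      apply PrimeSpectrum.comap_injective_of_surjective _ (Ideal.Quotient.mk_surjective (I := K ^ (n + 1)))
      refine hq.trans ?_
      show sp (Ideal.Quotient.mk K) q = (sp (Ideal.Quotient.factor (hK n)) ≫ sp (Ideal.Quotient.mk (K ^ (n + 1)))) q
      rw [← sp_comp, Ideal.Quotient.factor_comp_mk]
    have h2 := congrArg (fun m => m q) (hw1 n)
    simp only [Scheme.Hom.comp_apply] at h2
    rw [hx, h2, Subsingleton.elim q q₀]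
    exact hyV
  choose φ hφ using fun n => Spec.map_surjective (IsOpenImmersion.lift hV.fromSpec (w n) (hr n))
  have hφ' : ∀ n, Spec.map (φ n) ≫ hV.fromSpec = w n := fun n => by rw [hφ, IsOpenImmersion.lift_fac]
  have hcompat : ∀ {m : ℕ},
      (Ideal.Quotient.factor (Ideal.pow_le_pow_right (I := K) m.le_succ)).comp (φ (m + 1)).hom = (φ m).hom := by
    intro m
    have h : Spec.map (φ (m + 1) ≫ CommRingCat.ofHom (Ideal.Quotient.factor
        (Ideal.pow_le_pow_right (I := K) m.le_succ))) = Spec.map (φ m) := by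
      rw [← cancel_mono hV.fromSpec, Spec.map_comp, Category.assoc, hφ', hφ']
      exact hw m
    exact congrArg CommRingCat.Hom.hom (Spec.map_injective h)
  let F := IsAdicComplete.StrictMono.liftRingHom K strictMono_id (fun n => (φ n).hom) hcompat
  refine ⟨sp F ≫ hV.fromSpec, fun n => ?_⟩
  rw [← Category.assoc, ← sp_comp, ← hφ' n]
  congr 2
  refine RingHom.ext fun x => ?_
  exact IsAdicComplete.StrictMono.mk_liftRingHom K strictMono_id (fun n => (φ n).hom) hcompat x

end Local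

section Idem

variable {R : Type u} [CommRing R]

theorem isOpenImmersion_idem {e : R} (he : IsIdempotentElem e) :
    IsOpenImmersion (sp (Ideal.Quotient.mk (Ideal.span {1 - e}))) := by
  haveI : IsLocalization.Away e (R ⧸ Ideal.span {1 - e}) :=
    IsLocalization.away_of_isIdempotentElem he Ideal.mk_ker Ideal.Quotient.mk_surjective
  exact IsOpenImmersion.of_isLocalization e

theorem mem_range_idem {e : R} (he : IsIdempotentElem e) (P : PrimeSpectrum R) :
    P ∈ Set.range (sp (Ideal.Quotient.mk (Ideal.span {1 - e}))) ↔ e ∉ P.asIdeal := by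
  change P ∈ Set.range (PrimeSpectrum.comap (Ideal.Quotient.mk (Ideal.span {1 - e}))) ↔ _
  rw [range_comap_of_surjective _ _ Ideal.Quotient.mk_surjective, PrimeSpectrum.mem_zeroLocus,
    SetLike.coe_subset_coe, Ideal.mk_ker, Ideal.span_singleton_le_iff_mem]
  refine ⟨fun h1 h2 => ?_, fun h => ?_⟩
  · exact P.isPrime.ne_top ((Ideal.eq_top_iff_one _).2 (by simpa using add_mem h1 h2))
  · have : e * (1 - e) ∈ P.asIdeal := by rw [mul_sub, mul_one, he.eq, sub_self]; exact zero_mem _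
    exact (P.isPrime.mem_or_mem this).resolve_left h

/-- the cover by the loci of idempotents -/
def idemCover {ι : Type u} (e : ι → R) (he : ∀ i, IsIdempotentElem (e i))
    (hcov : ∀ P : PrimeSpectrum R, ∃ i, e i ∉ P.asIdeal) : (Spec (CommRingCat.of R)).OpenCover where
  I₀ := ι
  X i := Spec (CommRingCat.of (R ⧸ Ideal.span {1 - e i}))
  f i := sp (Ideal.Quotient.mk (Ideal.span {1 - e i}))
  mem₀ := by
    rw [Scheme.presieve₀_mem_precoverage_iff]
    exact ⟨fun P => (hcov P).imp fun i hi => (mem_range_idem (he i) P).2 hi,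
      fun i => isOpenImmersion_idem (he i)⟩

end Idem

variable {A : Type u} [CommRing A] [IsLocalRing A] [IsNoetherianRing A]
  [IsAdicComplete (IsLocalRing.maximalIdeal A) A] {B : Type u} [CommRing B] [Algebra A B] [Module.Finite A B]

local notation "m" => IsLocalRing.maximalIdeal A
local notation "KB" => Ideal.map (algebraMap A B) (IsLocalRing.maximalIdeal A)

theorem isAdicComplete_quot (I : Ideal B) :
    IsAdicComplete (Ideal.map (Ideal.Quotient.mk I) KB) (B ⧸ I) := by
  haveI : Module.Finite A (B ⧸ I) :=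
    Module.Finite.of_surjective (Ideal.Quotient.mkₐ A I).toLinearMap Ideal.Quotient.mk_surjective
  have h := Groth.Agent.S9405.isAdicComplete_of_finite m (B ⧸ I)
  rw [Ideal.map_map]
  exact (IsAdicComplete.map_algebraMap_iff _ _).2 h

theorem discrete : DiscreteTopology (PrimeSpectrum (B ⧸ KB)) := by
  haveI : Module.Finite A (B ⧸ KB) :=
    Module.Finite.of_surjective (Ideal.Quotient.mkₐ A KB).toLinearMap Ideal.Quotient.mk_surjective
  letI : Algebra (A ⧸ m) (B ⧸ KB) := Ideal.Quotient.algebraQuotientMapQuotient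
  haveI : IsScalarTower A (A ⧸ m) (B ⧸ KB) := IsScalarTower.of_algebraMap_eq fun _ => rfl
  haveI : Module.Finite (A ⧸ m) (B ⧸ KB) := Module.Finite.of_restrictScalars_finite A _ _
  letI : Field (A ⧸ m) := Ideal.Quotient.field m
  haveI : IsArtinianRing (A ⧸ m) := inferInstance
  haveI : IsArtinianRing (B ⧸ KB) := IsArtinianRing.of_finite (A ⧸ m) (B ⧸ KB)
  infer_instance

theorem exists_idem (q : PrimeSpectrum (B ⧸ KB)) :
    ∃ e : B, IsIdempotentElem e ∧ ∀ p : PrimeSpectrum (B ⧸ KB), e ∉ (sp (Ideal.Quotient.mk KB) p).asIdeal ↔ p = q := by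
  haveI := discrete (A := A) (B := B)
  obtain ⟨z, hz, hzq⟩ := PrimeSpectrum.exists_idempotent_basicOpen_eq_of_isClopen (isClopen_discrete {q})
  haveI : HenselianRing A m := IsAdicComplete.henselianRing A m
  obtain ⟨e, he, hez⟩ := (Groth.L05.idem_bijOn m B).surjOn hz
  refine ⟨e, he, fun p => ?_⟩
  show Ideal.Quotient.mk KB e ∉ p.asIdeal ↔ p = q
  rw [hez]
  exact (Set.ext_iff.1 hzq p).symm.trans Set.mem_singleton_iff

theorem exists_closed (P : PrimeSpectrum B) :
    ∃ p : PrimeSpectrum (B ⧸ KB), P ⤳ sp (Ideal.Quotient.mk KB) p := by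
  haveI : IsAdicComplete KB B :=
    (IsAdicComplete.map_algebraMap_iff _ _).2 (Groth.Agent.S9405.isAdicComplete_of_finite m B)
  obtain ⟨M, hM, hPM⟩ := Ideal.exists_le_maximal P.asIdeal P.isPrime.ne_top
  obtain ⟨p, hp⟩ : (⟨M, hM.isPrime⟩ : PrimeSpectrum B) ∈ Set.range (PrimeSpectrum.comap (Ideal.Quotient.mk KB)) := by
    rw [range_comap_of_surjective _ _ Ideal.Quotient.mk_surjective]
    intro a ha
    rw [SetLike.mem_coe, Ideal.mk_ker] at ha
    exact ((IsAdicComplete.le_jacobson_bot KB).trans (sInf_le ⟨bot_le, hM⟩)) ha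
  refine ⟨p, ?_⟩
  show P ⤳ PrimeSpectrum.comap (Ideal.Quotient.mk KB) p
  rw [hp]
  exact (PrimeSpectrum.le_iff_specializes P ⟨M, hM.isPrime⟩).1 hPM

/-- compatible families of morphisms on the truncations have a unique limit -/
theorem existsUnique_lim {Y : Scheme.{u}} (J : ℕ → Ideal B) (hJ : ∀ n, J n = KB ^ n)
    (hle : ∀ n, J (n + 1) ≤ J n) :
    (∀ f g : Spec (CommRingCat.of B) ⟶ Y,
      (∀ n, sp (Ideal.Quotient.mk (J n)) ≫ f = sp (Ideal.Quotient.mk (J n)) ≫ g) → f = g) ∧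
    (∀ u : (n : ℕ) → (Spec (CommRingCat.of (B ⧸ J n)) ⟶ Y),
      (∀ n, sp (Ideal.Quotient.factor (hle n)) ≫ u (n + 1) = u n) →
      ∃ f : Spec (CommRingCat.of B) ⟶ Y, ∀ n, sp (Ideal.Quotient.mk (J n)) ≫ f = u n) := by
  classical
  choose e he hq using exists_idem (A := A) (B := B)
  have hin : ∀ (P : PrimeSpectrum B) (p : PrimeSpectrum (B ⧸ KB)), P ⤳ sp (Ideal.Quotient.mk KB) p →
      ∀ q, e q ∉ P.asIdeal → q = p := by
    intro P p hP q hq'
    refine ((hq q p).1 fun h => ?_).symm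
    have h2 : (1 - e q) ∈ P.asIdeal := by
      have : e q * (1 - e q) ∈ P.asIdeal := by rw [mul_sub, mul_one, (he q).eq, sub_self]; exact zero_mem _
      exact (P.isPrime.mem_or_mem this).resolve_left hq'
    have h3 : (1 - e q) ∈ (sp (Ideal.Quotient.mk KB) p).asIdeal := (PrimeSpectrum.le_iff_specializes P _).2 hP h2
    exact (sp (Ideal.Quotient.mk KB) p).isPrime.ne_top ((Ideal.eq_top_iff_one _).2 (by simpa using add_mem h3 h))
  have hcov : ∀ P : PrimeSpectrum B, ∃ q, e q ∉ P.asIdeal := by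
    intro P
    obtain ⟨p, hP⟩ := exists_closed (A := A) P
    exact ⟨p, fun h => (hq p p).2 rfl ((PrimeSpectrum.le_iff_specializes P _).2 hP h)⟩
  let I : PrimeSpectrum (B ⧸ KB) → Ideal B := fun q => Ideal.span {1 - e q}
  let K : ∀ q, Ideal (B ⧸ I q) := fun q => Ideal.map (Ideal.Quotient.mk (I q)) KB
  have hKJ : ∀ q n, J n ≤ (K q ^ n).comap (Ideal.Quotient.mk (I q)) := fun q n => by
    rw [← Ideal.map_le_iff_le_comap, hJ, Ideal.map_pow]
  let τ : ∀ q n, B ⧸ J n →+* (B ⧸ I q) ⧸ K q ^ n := fun q n =>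
    Ideal.quotientMap (K q ^ n) (Ideal.Quotient.mk (I q)) (hKJ q n)
  haveI : ∀ q, IsAdicComplete (K q) (B ⧸ I q) := fun q => isAdicComplete_quot (I q)
  have hτmk : ∀ q n, sp (τ q n) ≫ sp (Ideal.Quotient.mk (J n)) =
      sp (Ideal.Quotient.mk (K q ^ n)) ≫ sp (Ideal.Quotient.mk (I q)) := fun q n => by
    rw [← sp_comp, ← sp_comp, Ideal.quotientMap_comp_mk]
  have hsub : ∀ q, ∀ p : PrimeSpectrum ((B ⧸ I q) ⧸ K q), ∃ r : PrimeSpectrum (B ⧸ KB),
      sp (Ideal.Quotient.mk (I q)) (sp (Ideal.Quotient.mk (K q)) p) = sp (Ideal.Quotient.mk KB) r ∧ r = q := by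
    intro q p
    let r := sp (Ideal.quotientMap (K q) (Ideal.Quotient.mk (I q)) Ideal.le_comap_map) p
    have h1 : sp (Ideal.Quotient.mk (I q)) (sp (Ideal.Quotient.mk (K q)) p) = sp (Ideal.Quotient.mk KB) r := by
      show (sp (Ideal.Quotient.mk (K q)) ≫ sp (Ideal.Quotient.mk (I q))) p =
        (sp (Ideal.quotientMap (K q) (Ideal.Quotient.mk (I q)) Ideal.le_comap_map) ≫ sp (Ideal.Quotient.mk KB)) p
      rw [← sp_comp, ← sp_comp, Ideal.quotientMap_comp_mk]
    refine ⟨r, h1, (hq q r).1 ?_⟩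
    rw [← h1]
    exact (mem_range_idem (he q) _).1 ⟨_, rfl⟩
  haveI : ∀ q, Subsingleton (PrimeSpectrum ((B ⧸ I q) ⧸ K q)) := fun q => ⟨fun p p' => by
    obtain ⟨r, hr, rfl⟩ := hsub q p
    obtain ⟨r', hr', e'⟩ := hsub r p'
    refine PrimeSpectrum.comap_injective_of_surjective ((Ideal.Quotient.mk (K r)).comp (Ideal.Quotient.mk (I r)))
      (Ideal.Quotient.mk_surjective.comp Ideal.Quotient.mk_surjective) ?_
    rw [e'] at hr'
    exact hr.trans hr'.symm⟩
  have hpt : ∀ q, Nonempty (PrimeSpectrum ((B ⧸ I q) ⧸ K q)) := fun q => by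
    obtain ⟨(x : PrimeSpectrum (B ⧸ I q)), hx⟩ := (mem_range_idem (he q) _).2 ((hq q q).2 rfl)
    obtain ⟨y, -⟩ : x ∈ Set.range (PrimeSpectrum.comap (Ideal.Quotient.mk (K q))) := by
      rw [range_comap_of_surjective _ _ Ideal.Quotient.mk_surjective]
      intro a ha
      rw [SetLike.mem_coe, Ideal.mk_ker] at ha
      revert ha a
      show K q ≤ x.asIdeal
      rw [Ideal.map_le_iff_le_comap]
      intro b hb
      have h0 : b ∈ (sp (Ideal.Quotient.mk KB) q).asIdeal := by
        show Ideal.Quotient.mk KB b ∈ q.asIdeal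
        rw [Ideal.Quotient.eq_zero_iff_mem.2 hb]; exact zero_mem _
      rw [← hx] at h0
      exact h0
    exact ⟨y⟩
  let 𝒰 := idemCover e he hcov
  constructor
  · intro f g h
    refine 𝒰.hom_ext f g fun q => ?_
    refine piece_unique (K q) (hpt q).some _ _ fun n => ?_
    show sp _ ≫ sp (Ideal.Quotient.mk (I q)) ≫ f = sp _ ≫ sp (Ideal.Quotient.mk (I q)) ≫ g
    rw [← reassoc_of% (hτmk q n), ← reassoc_of% (hτmk q n), h n]
  · intro u hu
    have hw : ∀ q n, sp (Ideal.Quotient.factor (Ideal.pow_le_pow_right (I := K q) (Nat.le_succ n))) ≫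
        sp (τ q (n + 1)) ≫ u (n + 1) = sp (τ q n) ≫ u n := fun q n => by
      rw [← hu n, ← Category.assoc, ← Category.assoc, ← sp_comp, ← sp_comp]
      congr 2
      refine Ideal.Quotient.ringHom_ext (RingHom.ext fun x => rfl)
    choose g hg using fun q => piece_exists (K q) (hpt q).some (fun n => sp (τ q n) ≫ u n) (hw q)
    let f : Spec (CommRingCat.of B) ⟶ Y := 𝒰.glueMorphisms g fun q q' => by
      by_cases hqq : q = q'
      · subst hqq
        haveI : Mono (𝒰.f q) := inferInstance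
        rw [(cancel_mono (𝒰.f q)).1 (pullback.condition (f := 𝒰.f q) (g := 𝒰.f q))]
      · haveI : IsEmpty ↥(pullback (𝒰.f q) (𝒰.f q')) := ⟨fun z => hqq (by
          let P : PrimeSpectrum B := 𝒰.f q (pullback.fst (𝒰.f q) (𝒰.f q') z)
          have h1 : e q ∉ P.asIdeal := (mem_range_idem (he q) P).1 ⟨_, rfl⟩
          have h2 : e q' ∉ P.asIdeal := (mem_range_idem (he q') P).1
            ⟨pullback.snd (𝒰.f q) (𝒰.f q') z, by
              show 𝒰.f q' _ = 𝒰.f q _
              rw [← Scheme.Hom.comp_apply, ← Scheme.Hom.comp_apply, pullback.condition]⟩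
          obtain ⟨p, hP⟩ := exists_closed (A := A) P
          rw [hin P p hP q h1, hin P p hP q' h2])⟩
        exact (isInitialOfIsEmpty (X := pullback (𝒰.f q) (𝒰.f q'))).hom_ext _ _
    have hfg : ∀ q, sp (Ideal.Quotient.mk (I q)) ≫ f = g q := fun q => 𝒰.ι_glueMorphisms _ _ q
    refine ⟨f, fun n => ?_⟩
    let e' : PrimeSpectrum (B ⧸ KB) → B ⧸ J n := fun q => Ideal.Quotient.mk (J n) (e q)
    have he' : ∀ q, IsIdempotentElem (e' q) := fun q => (he q).map _
    have hcov' : ∀ P : PrimeSpectrum (B ⧸ J n), ∃ q, e' q ∉ P.asIdeal := fun P =>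
      hcov (sp (Ideal.Quotient.mk (J n)) P)
    refine (idemCover e' he' hcov').hom_ext _ _ fun q => ?_
    let β : B ⧸ I q →+* (B ⧸ J n) ⧸ Ideal.span {1 - e' q} :=
      Ideal.quotientMap _ (Ideal.Quotient.mk (J n)) (by
        rw [Ideal.span_le, Set.singleton_subset_iff, SetLike.mem_coe, Ideal.mem_comap]
        exact Ideal.subset_span (by simp [e']))
    let δ : (B ⧸ I q) ⧸ K q ^ n →+* (B ⧸ J n) ⧸ Ideal.span {1 - e' q} :=
      Ideal.Quotient.lift (K q ^ n) β fun a ha => by
        have hle' : K q ^ n ≤ RingHom.ker β := by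
          rw [← Ideal.map_pow, Ideal.map_le_iff_le_comap, ← hJ]
          intro b hb
          rw [Ideal.mem_comap, RingHom.mem_ker, Ideal.quotientMap_mk, Ideal.Quotient.eq_zero_iff_mem.2 hb, map_zero]
        exact hle' ha
    have e1 : sp (Ideal.Quotient.mk (Ideal.span {1 - e' q})) ≫ sp (Ideal.Quotient.mk (J n)) =
        sp δ ≫ sp (Ideal.Quotient.mk (K q ^ n)) ≫ sp (Ideal.Quotient.mk (I q)) := by
      rw [← sp_comp, ← sp_comp, ← sp_comp]
      exact congrArg sp (RingHom.ext fun x => rfl)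
    have e2 : sp (Ideal.Quotient.mk (Ideal.span {1 - e' q})) = sp δ ≫ sp (τ q n) := by
      rw [← sp_comp]
      exact congrArg sp (Ideal.Quotient.ringHom_ext (RingHom.ext fun x => rfl))
    show sp (Ideal.Quotient.mk (Ideal.span {1 - e' q})) ≫ sp (Ideal.Quotient.mk (J n)) ≫ f =
      sp (Ideal.Quotient.mk (Ideal.span {1 - e' q})) ≫ u n
    rw [reassoc_of% e1, hfg q, hg q n, e2, Category.assoc]

end Groth.L25.CompleteFinite
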