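import Groth.Agent.L08.Deriv
import Groth.Agent.L25.OrderKills
import Mathlib.RingTheory.Kaehler.Basic
import Mathlib.RingTheory.Unramified.Basic
import Mathlib.Algebra.DualNumber

/-!
# A Hopf algebra killed by an invertible integer is formally unramified

The `n`-th convolution power of the identity induces multiplication by `n` on the cotangent space
at the identity, and derivations of a Hopf algebra come from the cotangent space.
-/

set_option autoImplicit false

universe u

open TensorProduct WithConv

namespace Groth.L25.CotangentKill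

open Groth.L25.OrderKills

variable {k : Type u} [Field k] {A : Type u} [CommRing A] [HopfAlgebra k A]

/-- A point of `A` in the dual numbers over the identity, given by a functional. -/
noncomputable def dualPoint (l : A →ₗ[k] k) (h1 : l 1 = 0)
    (hl : ∀ a b, l (a * b) =
      Coalgebra.counit (R := k) a • l b + Coalgebra.counit (R := k) b • l a) :
    A →ₐ[k] TrivSqZeroExt k k :=
  AlgHom.ofLinearMap
    ((TrivSqZeroExt.inlAlgHom k k k).toLinearMap ∘ₗ Coalgebra.counit +
      ((TrivSqZeroExt.inrHom k k).restrictScalars k) ∘ₗ l)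
    (by simp [h1])
    (fun a b => by
      refine TrivSqZeroExt.ext ?_ ?_
      · simp
      · simp [hl, mul_comm])

theorem dualPoint_fst (l : A →ₗ[k] k) (h1 hl) (a : A) :
    (dualPoint l h1 hl a).fst = Coalgebra.counit a := by
  simp [dualPoint]

theorem dualPoint_snd (l : A →ₗ[k] k) (h1 hl) (a : A) : (dualPoint l h1 hl a).snd = l a := by
  simp [dualPoint]

theorem snd_convMul (f g : WithConv (A →ₐ[k] TrivSqZeroExt k k))
    (hf : ∀ a, (f a).fst = Coalgebra.counit a) (hg : ∀ a, (g a).fst = Coalgebra.counit a)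
    (lf lg : A →ₗ[k] k) (hlf : ∀ a, (f a).snd = lf a) (hlg : ∀ a, (g a).snd = lg a) (a : A) :
    ((f * g) a).fst = Coalgebra.counit a ∧ ((f * g) a).snd = lf a + lg a := by
  obtain ⟨r⟩ : Nonempty (Coalgebra.Repr k a (A × A)) := ⟨Coalgebra.Repr.arbitrary k a⟩
  have h : (f * g) a = ∑ i ∈ r.index, f (r.left i) * g (r.right i) := by
    rw [AlgHom.convMul_apply, ← r.eq]
    simp [map_sum]
  have h1 : ∑ i ∈ r.index, Coalgebra.counit (R := k) (r.left i) • r.right i = a :=
    Coalgebra.sum_counit_smul r
  have h2 : ∑ i ∈ r.index, Coalgebra.counit (R := k) (r.right i) • r.left i = a := by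
    have := congrArg (TensorProduct.rid k A) (Coalgebra.sum_tmul_counit_eq r)
    rw [map_sum] at this
    simp only [TensorProduct.rid_tmul, one_smul] at this
    exact this
  constructor
  · rw [h, TrivSqZeroExt.fst_sum]
    simp only [TrivSqZeroExt.fst_mul, hf, hg]
    conv_rhs => rw [← h1]
    simp [map_sum]
  · rw [h, TrivSqZeroExt.snd_sum]
    simp only [TrivSqZeroExt.snd_mul, hf, hg, hlf, hlg]
    rw [Finset.sum_add_distrib, add_comm]
    congr 1
    · conv_rhs => rw [← h2]
      simp [map_sum, mul_comm]
    · conv_rhs => rw [← h1]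
      simp [map_sum]

theorem eq_zero_of_pow_eq_one {n : ℕ} (hn : (n : k) ≠ 0)
    (h : (idc (k := k) (A := A)) ^ n = 1) (l : A →ₗ[k] k) (h1 : l 1 = 0)
    (hl : ∀ a b, l (a * b) =
      Coalgebra.counit (R := k) a • l b + Coalgebra.counit (R := k) b • l a) : l = 0 := by
  let φ : WithConv (A →ₐ[k] TrivSqZeroExt k k) := toConv (dualPoint l h1 hl)
  have hpow : ∀ m : ℕ, ∀ a, ((φ ^ m) a).fst = Coalgebra.counit a ∧
      ((φ ^ m) a).snd = (m • l) a := by
    intro m
    induction m with
    | zero =>
      intro a
      rw [show φ ^ 0 = 1 from pow_zero φ, zero_smul]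
      simp [AlgHom.convOne_apply, TrivSqZeroExt.algebraMap_eq_inl]
    | succ m ih =>
      intro a
      rw [show φ ^ (m + 1) = φ ^ m * φ from pow_succ φ m]
      obtain ⟨h1', h2'⟩ := snd_convMul (φ ^ m) φ (fun b => (ih b).1)
        (fun b => dualPoint_fst l h1 hl b) (m • l) l (fun b => (ih b).2)
        (fun b => dualPoint_snd l h1 hl b) a
      exact ⟨h1', by rw [h2', succ_nsmul, LinearMap.add_apply]⟩
  refine LinearMap.ext fun a => ?_
  have := comp_idc_pow (dualPoint l h1 hl) n a
  rw [h] at this
  have h2 := congrArg TrivSqZeroExt.snd this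
  rw [show (ofConv (1 : WithConv (A →ₐ[k] A))) a = algebraMap k A (Coalgebra.counit a) from rfl,
    AlgHom.commutes, TrivSqZeroExt.algebraMap_eq_inl, TrivSqZeroExt.snd_inl] at h2
  have h3 := (hpow n a).2
  rw [LinearMap.smul_apply, nsmul_eq_mul] at h3
  exact (mul_eq_zero.1 (h3.symm.trans h2.symm)).resolve_left hn

theorem formallyUnramified {n : ℕ} (hn : (n : k) ≠ 0) (h : (idc (k := k) (A := A)) ^ n = 1) :
    Algebra.FormallyUnramified k A := by
  classical
  let I := RingHom.ker (Bialgebra.counitAlgHom k A)
  let π₀ : A →ₗ[k] I :=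
    (LinearMap.id - (Algebra.linearMap k A) ∘ₗ Coalgebra.counit).codRestrict (I.restrictScalars k)
      (fun a => Groth.L08.Deriv.sub_counit_mem a)
  let π : A →ₗ[k] I.Cotangent := (I.toCotangent.restrictScalars k) ∘ₗ π₀
  have hπI : ∀ x : I, π (x : A) = I.toCotangent x := fun x => by
    refine congrArg I.toCotangent (Subtype.ext ?_)
    have hx : Coalgebra.counit (R := k) (x : A) = 0 := x.2
    change (x : A) - algebraMap k A (Coalgebra.counit (x : A)) = x
    simp [hx]
  have hπ1 : π 1 = 0 := by
    have : π₀ 1 = 0 := Subtype.ext (by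
      change (1 : A) - algebraMap k A (Coalgebra.counit (1 : A)) = 0
      simp)
    simp [π, this]
  have hπl := Groth.L08.Deriv.pi_leibniz π hπI hπ1
  have hπ : π = 0 := by
    refine LinearMap.ext fun a => ?_
    rw [LinearMap.zero_apply, ← Module.forall_dual_apply_eq_zero_iff k]
    intro L
    have := eq_zero_of_pow_eq_one hn h (L ∘ₗ π) (by simp [hπ1]) (fun a b => by simp [hπl a b])
    exact LinearMap.congr_fun this a
  refine ⟨?_⟩
  have hD : ∀ a : A, KaehlerDifferential.D k A a = 0 := by
    intro a
    obtain ⟨L, hL, -⟩ := Groth.L08.Deriv.existsUnique_linearMap π hπI hπ1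
      ((KaehlerDifferential.D k A).toLinearMap) (fun a b => (KaehlerDifferential.D k A).leibniz a b)
    simp only [hπ, LinearMap.comp_zero] at hL
    have := LinearMap.congr_fun hL a
    simpa [Groth.L08.Deriv.cv] using this.symm
  have htop : (⊤ : Submodule A (KaehlerDifferential k A)) = ⊥ := by
    rw [← KaehlerDifferential.span_range_derivation, Submodule.span_eq_bot]
    rintro _ ⟨a, rfl⟩
    exact hD a
  exact Submodule.subsingleton_iff A |>.1 (subsingleton_of_bot_eq_top htop.symm)

end Groth.L25.CotangentKill
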