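import Groth.Agent.L25.NilAction
import Groth.Agent.L25.ActFibre
import Mathlib.AlgebraicGeometry.Morphisms.FiniteType

/-!
# Actions of groups of multiplicative type trivial on every fibre are trivial
-/

set_option autoImplicit false
universe u

open CategoryTheory CategoryTheory.Limits MonoidalCategory CartesianMonoidalCategory MonObj GrpObj
open AlgebraicGeometry

set_option backward.isDefEq.respectTransparency.types false

namespace Groth.L25.FibAction

open Groth.L25.NilAction (toBase ofBase toBase_ofBase ofBase_toBase gC gC_mul gC_one xC xC_w eq_of_xC_eq YC YS toΓ homS homS_gC homS_xC)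

variable {S : Scheme.{u}} {G X : Over S} [GrpObj G] [LocallyOfFiniteType X.hom] (a : AlgGrp.Action G X)
  (h0 : ∀ (s : S) (Y : Over S) (_ : Y ⟶ Over.mk (S.fromSpecResidueField s)) (g : Y ⟶ G) (x : Y ⟶ X),
    lift g x ≫ a.act = x)

include h0 in
/-- on field-valued points the action is trivial -/
theorem field_eq {Y : Over S} (g : Y ⟶ G) (x : Y ⟶ X) (y : Y.left) :
    Y.left.fromSpecResidueField y ≫ (lift g x ≫ a.act).left = Y.left.fromSpecResidueField y ≫ x.left := by
  have hd := Scheme.descResidueField_stalkClosedPointTo_fromSpecResidueField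
    (Y.left.residueField y) S (Y.left.fromSpecResidueField y ≫ Y.hom)
  let Y₁ : Over S := Over.mk (Y.left.fromSpecResidueField y ≫ Y.hom)
  let ζ : Y₁ ⟶ Y := Over.homMk (Y.left.fromSpecResidueField y) rfl
  have h := h0 _ Y₁ (Over.homMk _ hd) (ζ ≫ g) (ζ ≫ x)
  rw [← comp_lift_assoc] at h
  exact congrArg (fun m : Y₁ ⟶ X => m.left) h

section Local

variable {U : Scheme.{u}} (jU : U ⟶ S) {M : Type} [AddCommGroup M]
  (e : Grp.mk (Red.bc jU G) ≅ Grp.mk (Red.DS U M))
  {R : Type u} [CommRing R] (k : Spec (CommRingCat.of R) ⟶ U)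
  {B : Type u} [CommRing B] [Algebra R B] (ι' : Spec (CommRingCat.of B) ⟶ pullback X.hom (k ≫ jU))
  [IsOpenImmersion ι'] (hι : ι' ≫ pullback.snd X.hom (k ≫ jU) = Spec.map (CommRingCat.ofHom (algebraMap R B)))

include h0 hι in
theorem exists_sm {C : Type u} [CommRing C] [Algebra R C] (χ : Multiplicative M →* C) (β : B →ₐ[R] C) :
    ∃ β' : B →ₐ[R] C, xC jU k ι' hι β' = lift (gC jU e k χ) (xC jU k ι' hι β) ≫ a.act := by
  let r := lift (gC jU e k χ) (xC jU k ι' hι β) ≫ a.act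
  let str := Spec.map (CommRingCat.ofHom (algebraMap R C))
  let r' : Spec (CommRingCat.of C) ⟶ pullback X.hom (k ≫ jU) :=
    pullback.lift r.left str ((Over.w r).trans (Category.assoc _ _ _))
  have hrange : Set.range r' ⊆ Set.range ι' := by
    rintro _ ⟨q, rfl⟩
    refine ⟨Spec.map (CommRingCat.ofHom β.toRingHom) q, ?_⟩
    have h := field_eq a h0 (gC jU e k χ) (xC jU k ι' hι β) q
    have h1 : (Spec (CommRingCat.of C)).fromSpecResidueField q ≫ r' =
        (Spec (CommRingCat.of C)).fromSpecResidueField q ≫ Spec.map (CommRingCat.ofHom β.toRingHom) ≫ ι' := by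
      apply pullback.hom_ext
      · simp only [Category.assoc, r', pullback.lift_fst]
        exact h
      · simp only [Category.assoc, r', pullback.lift_snd, hι, ← Spec.map_comp, ← CommRingCat.ofHom_comp,
          AlgHom.toRingHom_eq_coe, AlgHom.comp_algebraMap, str]
    have h2 := congrArg (fun m => m (IsLocalRing.closedPoint ((Spec (CommRingCat.of C)).residueField q))) h1
    simp only [Scheme.Hom.comp_apply, Scheme.fromSpecResidueField_apply] at h2
    exact h2.symm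
  obtain ⟨φ, hφ⟩ := Spec.map_surjective (IsOpenImmersion.lift ι' r' hrange)
  have hfac : Spec.map φ ≫ ι' = r' := by rw [hφ, IsOpenImmersion.lift_fac]
  have hstr : CommRingCat.ofHom (algebraMap R B) ≫ φ = CommRingCat.ofHom (algebraMap R C) := by
    apply Spec.map_injective
    rw [Spec.map_comp, ← hι, reassoc_of% hfac, pullback.lift_snd]
  refine ⟨{ φ.hom with commutes' := fun x => congrArg (fun m => m.hom x) hstr },
    Over.OverMorphism.ext ?_⟩
  show Spec.map φ ≫ ι' ≫ pullback.fst X.hom (k ≫ jU) = r.left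
  rw [reassoc_of% hfac, pullback.lift_fst]

variable {C C' : Type u} [CommRing C] [CommRing C'] [Algebra R C] [Algebra R C']

/-- the rule of action -/
noncomputable def theAct : ActCoeff.Act R B (Multiplicative M) where
  sm C _ _ χ β := (exists_sm a h0 jU e k ι' hι χ β).choose
  nat C C' _ _ _ _ h χ β := by
    apply eq_of_xC_eq jU k ι' hι
    rw [(exists_sm a h0 jU e k ι' hι _ _).choose_spec, ← homS_xC jU k ι' hι h (β := (exists_sm a h0 jU e k ι' hι χ β).choose),
      (exists_sm a h0 jU e k ι' hι χ β).choose_spec, comp_lift_assoc, homS_gC, homS_xC]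
  mul C _ _ χ ψ β := by
    apply eq_of_xC_eq jU k ι' hι
    rw [(exists_sm a h0 jU e k ι' hι _ _).choose_spec,
      (exists_sm a h0 jU e k ι' hι _ _).choose_spec,
      (exists_sm a h0 jU e k ι' hι _ _).choose_spec, gC_mul, FixedEtale.mul_smul]
  one C _ _ β := by
    apply eq_of_xC_eq jU k ι' hι
    rw [(exists_sm a h0 jU e k ι' hι _ _).choose_spec, gC_one, FixedEtale.one_smul]

include h0 hι e in
theorem smul_xC [Algebra.FiniteType R B] {C : Type u} [CommRing C] [Algebra R C] (g : YS jU k C ⟶ G) (β : B →ₐ[R] C) :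
    lift g (xC jU k ι' hι β) ≫ a.act = xC jU k ι' hι β := by
  have hg : ∃ χ : Multiplicative M →* C, gC jU e k χ = g := by
    let t := ofBase jU g ≫ e.hom.hom.hom
    refine ⟨((Scheme.ΓSpecIso (CommRingCat.of C)).hom.hom.toMonoidHom).comp (DSPts.char t), ?_⟩
    have h1 : (toΓ C).comp
        (((Scheme.ΓSpecIso (CommRingCat.of C)).hom.hom.toMonoidHom).comp (DSPts.char t)) = DSPts.char t :=
      MonoidHom.ext fun m => Iso.hom_inv_id_apply (Scheme.ΓSpecIso (CommRingCat.of C)) _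
    have h2 : e.hom.hom.hom ≫ e.inv.hom.hom = 𝟙 _ := congr($(e.hom_inv_id).hom.hom)
    rw [gC, h1, DSPts.pt_char, Category.assoc, h2, Category.comp_id, toBase_ofBase]
  obtain ⟨χ, rfl⟩ := hg
  have h := ActFibre.sm_eq_self (theAct a h0 jU e k ι' hι) (fun q hq C _ _ hC χ β => by
    apply eq_of_xC_eq jU k ι' hι
    show xC jU k ι' hι (exists_sm a h0 jU e k ι' hι χ β).choose = _
    rw [(exists_sm a h0 jU e k ι' hι χ β).choose_spec]
    obtain ⟨θ, hθ⟩ := hC
    have hd := Scheme.descResidueField_stalkClosedPointTo_fromSpecResidueField q.ResidueField S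
      (Spec.map (CommRingCat.ofHom (algebraMap R q.ResidueField)) ≫ k ≫ jU)
    let ξ := Spec.map (CommRingCat.ofHom (algebraMap R q.ResidueField)) ≫ k ≫ jU
    refine h0 (ξ (IsLocalRing.closedPoint q.ResidueField)) _ (Over.homMk (Spec.map (CommRingCat.ofHom θ) ≫
      Spec.map (S.descResidueField (Scheme.stalkClosedPointTo ξ))) ?_) _ _
    show (Spec.map (CommRingCat.ofHom θ) ≫ _) ≫ _ = (Spec.map _ ≫ k) ≫ jU
    erw [Category.assoc, hd, ← Spec.map_comp_assoc, ← CommRingCat.ofHom_comp, hθ, Category.assoc]) C χ β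
  rw [← (exists_sm a h0 jU e k ι' hι χ β).choose_spec]
  exact congrArg (xC jU k ι' hι) h

end Local

section Global

variable {U : Scheme.{u}} (jU : U ⟶ S) {M : Type} [AddCommGroup M]
  (e : Grp.mk (Red.bc jU G) ≅ Grp.mk (Red.DS U M))

include h0 e in
/-- trivial over a member of the cover -/
theorem smul_eq_of_split {Y : Over U} (g : Over.mk (Y.hom ≫ jU) ⟶ G) (x : Over.mk (Y.hom ≫ jU) ⟶ X) :
    lift g x ≫ a.act = x := by
  apply Over.OverMorphism.ext
  let r := lift g x ≫ a.act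
  suffices hloc : ∀ y : Y.left, ∃ D : Y.left.Opens, y ∈ D ∧ D.ι ≫ r.left = D.ι ≫ x.left by
    choose D hyD hD using hloc
    exact (Y.left.openCoverOfIsOpenCover D (TopologicalSpace.IsOpenCover.mk (top_le_iff.1 fun z _ =>
      TopologicalSpace.Opens.mem_iSup.2 ⟨z, hyD z⟩))).hom_ext _ _ fun z => hD z
  intro y
  obtain ⟨_, ⟨W, hW, rfl⟩, hyW, -⟩ := U.isBasis_affineOpens.exists_subset_of_mem_open
    (Set.mem_univ (Y.hom y)) isOpen_univ
  let k : Spec (CommRingCat.of Γ(U, W)) ⟶ U := hW.fromSpec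
  let W' : Y.left.Opens := Y.hom ⁻¹ᵁ W
  have hrk : Set.range (W'.ι ≫ Y.hom) ⊆ Set.range k := by
    rintro _ ⟨q, rfl⟩
    rw [hW.range_fromSpec]
    exact q.2
  let δ : W'.toScheme ⟶ Spec (CommRingCat.of Γ(U, W)) := IsOpenImmersion.lift k (W'.ι ≫ Y.hom) hrk
  have hδ : δ ≫ k = W'.ι ≫ Y.hom := IsOpenImmersion.lift_fac _ _ _
  let xT : W'.toScheme ⟶ pullback X.hom (k ≫ jU) := pullback.lift (W'.ι ≫ x.left) δ (by
    rw [Category.assoc, Over.w x, reassoc_of% hδ]
    rfl)
  obtain ⟨_, ⟨V, hV, rfl⟩, hyV, -⟩ := (pullback X.hom (k ≫ jU)).isBasis_affineOpens.exists_subset_of_mem_open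
    (Set.mem_univ (xT ⟨y, hyW⟩)) isOpen_univ
  obtain ⟨_, ⟨D, hD, rfl⟩, hyD, hDV⟩ := Y.left.isBasis_affineOpens.exists_subset_of_mem_open
    (show y ∈ W'.ι ''ᵁ (xT ⁻¹ᵁ V) from ⟨⟨y, hyW⟩, hyV, rfl⟩) (W'.ι ''ᵁ (xT ⁻¹ᵁ V)).2
  have hDW : D ≤ W' := fun z hz => by
    obtain ⟨q, -, rfl⟩ := hDV hz
    exact q.2
  refine ⟨D, hyD, ?_⟩
  have hrD : Set.range hD.fromSpec ⊆ Set.range W'.ι := by
    rw [hD.range_fromSpec, Scheme.Opens.range_ι]; exact hDW
  let d : Spec Γ(Y.left, D) ⟶ W'.toScheme := IsOpenImmersion.lift W'.ι hD.fromSpec hrD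
  have hd : d ≫ W'.ι = hD.fromSpec := IsOpenImmersion.lift_fac _ _ _
  obtain ⟨rC, hrC⟩ := Spec.map_surjective (d ≫ δ)
  obtain ⟨rB, hrB⟩ := Spec.map_surjective (hV.fromSpec ≫ pullback.snd X.hom (k ≫ jU))
  letI : Algebra Γ(U, W) Γ(Y.left, D) := rC.hom.toAlgebra
  letI : Algebra Γ(U, W) Γ(pullback X.hom (k ≫ jU), V) := rB.hom.toAlgebra
  have hι : hV.fromSpec ≫ pullback.snd X.hom (k ≫ jU) = Spec.map (CommRingCat.ofHom
      (algebraMap Γ(U, W) Γ(pullback X.hom (k ≫ jU), V))) := hrB.symm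
  have hrV : Set.range (d ≫ xT) ⊆ Set.range hV.fromSpec := by
    rintro _ ⟨q, rfl⟩
    have hq : hD.fromSpec q ∈ (D : Set Y.left) := by rw [← hD.range_fromSpec]; exact ⟨q, rfl⟩
    obtain ⟨q', hq', hqq⟩ := hDV hq
    have e1 : d q = q' := W'.ι.isEmbedding.injective (by
      rw [← Scheme.Hom.comp_apply, hd]; exact hqq.symm)
    rw [hV.range_fromSpec, Scheme.Hom.comp_apply, e1]
    exact hq'
  obtain ⟨β, hβ⟩ := Spec.map_surjective (IsOpenImmersion.lift hV.fromSpec (d ≫ xT) hrV)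
  have hβ' : Spec.map β ≫ hV.fromSpec = d ≫ xT := by rw [hβ, IsOpenImmersion.lift_fac]
  have hβR : rB ≫ β = rC := by
    apply Spec.map_injective
    rw [Spec.map_comp, hrB, reassoc_of% hβ', pullback.lift_snd, hrC]
  let β' : Γ(pullback X.hom (k ≫ jU), V) →ₐ[Γ(U, W)] Γ(Y.left, D) :=
    { β.hom with commutes' := fun r => congrArg (fun m => m.hom r) hβR }
  have hw : hD.fromSpec ≫ Y.hom = Spec.map rC ≫ k := by
    rw [hrC, Category.assoc, hδ, reassoc_of% hd]
  let ζ : YS jU k Γ(Y.left, D) ⟶ Over.mk (Y.hom ≫ jU) := Over.homMk hD.fromSpec (by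
    show hD.fromSpec ≫ Y.hom ≫ jU = (Spec.map rC ≫ k) ≫ jU
    rw [reassoc_of% hw, Category.assoc])
  have hx : ζ ≫ x = xC jU k hV.fromSpec hι β' := by
    apply Over.OverMorphism.ext
    show hD.fromSpec ≫ x.left = Spec.map β ≫ hV.fromSpec ≫ pullback.fst X.hom (k ≫ jU)
    rw [reassoc_of% hβ', pullback.lift_fst, reassoc_of% hd]
  have : Algebra.FiniteType Γ(U, W) Γ(pullback X.hom (k ≫ jU), V) := by
    have h1 : LocallyOfFiniteType (hV.fromSpec ≫ pullback.snd X.hom (k ≫ jU)) := inferInstance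
    rw [hι, HasRingHomProperty.Spec_iff (P := @LocallyOfFiniteType)] at h1
    exact RingHom.finiteType_algebraMap.1 h1
  have h := smul_xC a h0 jU e k hV.fromSpec hι (ζ ≫ g) β'
  rw [← hx, ← comp_lift_assoc] at h
  have h1 : hD.fromSpec ≫ r.left = hD.fromSpec ≫ x.left := congrArg (fun m => m.left) h
  rw [← cancel_epi hD.isoSpec.inv]
  simpa [IsAffineOpen.isoSpec_inv_ι_assoc] using h1

include h0 in
/-- an action of a group of multiplicative type trivial over the thickened subscheme is trivial -/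
theorem smul_eq (hG : TwC.Locally S TwC.Topology.fpqc (fun S' f => ∃ (M : Type) (_ : AddCommGroup M),
      Nonempty (Grp.mk (Red.bc f G) ≅ Grp.mk (Red.DS S' M))))
    {Y : Over S} (g : Y ⟶ G) (x : Y ⟶ X) : lift g x ≫ a.act = x := by
  obtain ⟨S', f, hflat, hsurj, -, hloc⟩ := hG
  apply Over.OverMorphism.ext
  have : Epi (pullback.fst Y.hom f) := Flat.epi_of_flat_of_surjective _
  rw [← cancel_epi (pullback.fst Y.hom f)]
  choose W hsW M inst e using hloc
  let c := pullback.snd Y.hom f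
  refine ((pullback Y.hom f).openCoverOfIsOpenCover (fun s => c ⁻¹ᵁ W s) (TopologicalSpace.IsOpenCover.mk
    (top_le_iff.1 fun z _ => TopologicalSpace.Opens.mem_iSup.2 ⟨c z, hsW (c z)⟩))).hom_ext _ _ fun s => ?_
  obtain ⟨es⟩ := e s
  letI := inst s
  let Y₁ : Over (W s).toScheme := Over.mk (c ∣_ W s)
  let p : Over.mk (Y₁.hom ≫ (W s).ι ≫ f) ⟶ Y := Over.homMk ((c ⁻¹ᵁ W s).ι ≫ pullback.fst Y.hom f) (by
    show ((c ⁻¹ᵁ W s).ι ≫ pullback.fst Y.hom f) ≫ Y.hom = (c ∣_ W s) ≫ (W s).ι ≫ f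
    rw [morphismRestrict_ι_assoc, Category.assoc, pullback.condition])
  have h := smul_eq_of_split a h0 ((W s).ι ≫ f) es (Y := Y₁) (p ≫ g) (p ≫ x)
  rw [← comp_lift_assoc] at h
  have h1 := congrArg (fun m => m.left) h
  simp [p] at h1 ⊢
  exact h1

end Global

end Groth.L25.FibAction
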