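import Groth.Agent.L06.PureLocus
import Groth.Agent.S5356

/-!
# Affine morphisms with free coordinate rings are essentially free
-/

set_option autoImplicit false
set_option backward.isDefEq.respectTransparency.types false
set_option linter.style.haveILetI false

universe u

open CategoryTheory CategoryTheory.Limits AlgebraicGeometry TopologicalSpace

noncomputable section

namespace Groth.L25.FixedClosed

set_option maxHeartbeats 1000000 in
theorem isEssentiallyFree_of_free {S X : Scheme.{u}} (f : X ⟶ S) [IsAffineHom f]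
    (hfree : ∀ s : S, ∃ U : S.affineOpens, s ∈ (U : S.Opens) ∧
      @Module.Free Γ(S, U) Γ(X, f ⁻¹ᵁ U) _ _ (f.app U).hom.toAlgebra.toModule) :
    SGA3x.IsEssentiallyFree f := by
  intro s
  obtain ⟨⟨U, hU⟩, hs, hF⟩ := hfree s
  haveI : IsAffine (U : Scheme.{u}) := hU
  refine ⟨U, hs, hU, (U : Scheme.{u}), inferInstance, 𝟙 _, inferInstance, inferInstance, fun x => ?_⟩
  let e : (f ⁻¹ᵁ U).toScheme ≅ pullback f (𝟙 _ ≫ U.ι) :=
    (isPullback_morphismRestrict f U).flip.isoPullback ≪≫ pullback.congrHom rfl (Category.id_comp U.ι).symm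
  have he : e.hom ≫ pullback.snd f (𝟙 _ ≫ U.ι) = f ∣_ U := by
    simp only [e, Iso.trans_hom, pullback.congrHom_hom, Category.assoc, pullback.lift_snd, pullback.map,
      Category.comp_id, IsPullback.isoPullback_hom_snd]
  haveI : IsAffine (f ⁻¹ᵁ U).toScheme := IsAffineHom.isAffine_preimage U hU
  haveI : IsAffine (pullback f (𝟙 _ ≫ U.ι)) := IsAffine.of_isIso e.inv
  refine ⟨⊤, Opens.mem_top _, isAffineOpen_top _, ?_⟩
  haveI : IsIso (⊤ : (pullback f (𝟙 _ ≫ U.ι)).Opens).ι := inferInstanceAs (IsIso (Scheme.topIso _).hom)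
  let w := (⊤ : (pullback f (𝟙 _ ≫ U.ι)).Opens).ι ≫ e.inv
  haveI : IsIso w := inferInstance
  haveI : IsIso w.appTop := inferInstanceAs (IsIso (Scheme.Γ.map w.op))
  let eM := ((f ⁻¹ᵁ U).topIso.symm ≪≫ asIso w.appTop).commRingCatIsoToRingEquiv
  let eR := U.topIso.symm.commRingCatIsoToRingEquiv
  refine Groth.L06.PureLocus.projective_transfer (f.app U).hom _ eR eM (fun r => ?_)
    (by letI := (f.app U).hom.toAlgebra; haveI := hF; infer_instance)
  show ((f.app U ≫ (f ⁻¹ᵁ U).topIso.inv) ≫ w.appTop) r = (U.topIso.inv ≫ ((_ : _ ⟶ pullback f (𝟙 _ ≫ U.ι)) ≫ _).appTop) r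
  have h1 : f.app U ≫ (f ⁻¹ᵁ U).topIso.inv = U.topIso.inv ≫ (f ∣_ U).appTop := by
    simp only [Scheme.Opens.topIso_inv, Scheme.Hom.app_eq_appLE, morphismRestrict_appLE,
      Scheme.Hom.map_appLE, Scheme.Hom.appLE_map, Scheme.Hom.appTop, Scheme.Hom.map_appLE_assoc,
      Scheme.Hom.appLE_map']
    erw [Scheme.Hom.appLE_map, Scheme.Hom.map_appLE]
    rfl
  rw [h1, Category.assoc, ← Scheme.Hom.comp_appTop, ← he, Category.assoc, Iso.inv_hom_id_assoc]

end Groth.L25.FixedClosed
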