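import Groth.Prelude.Def_AlgGrp
import Mathlib.AlgebraicGeometry.AlgClosed.Basic

/-!
# Rational points under words
-/

set_option autoImplicit false
set_option backward.isDefEq.respectTransparency.types false
set_option linter.style.haveILetI false

universe u

open CategoryTheory CategoryTheory.Limits MonoidalCategory CartesianMonoidalCategory MonObj AlgebraicGeometry

noncomputable section

namespace Groth.L25.WordPoints

variable {k : Type u} [Field k]


theorem subsingleton_unit (p q : (𝟙_ (Over (Spec (CommRingCat.of k)))).left) : p = q :=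
  @Subsingleton.elim (PrimeSpectrum k) _ p q

instance : Subsingleton (𝟙_ (Over (Spec (CommRingCat.of k)))).left := ⟨subsingleton_unit⟩

theorem isClosed_point (X : Over (Spec (CommRingCat.of k))) (g : 𝟙_ (Over (Spec (CommRingCat.of k))) ⟶ X) (p₀ : (𝟙_ (Over (Spec (CommRingCat.of k)))).left) :
    IsClosed ({g.left p₀} : Set X.left) := by
  have e : g.left ≫ X.hom = 𝟙 (Spec (CommRingCat.of k)) := Over.w g
  have := isClosedImmersion_of_comp_eq_id _ _ e
  have h := g.left.isClosedEmbedding.isClosed_range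
  rwa [show Set.range g.left = {g.left p₀} from Set.ext fun z =>
    ⟨fun ⟨q, hq⟩ => hq ▸ congrArg g.left (subsingleton_unit q p₀), fun hz => ⟨p₀, hz.symm⟩⟩] at h

theorem point_ext [IsAlgClosed k] {X : Over (Spec (CommRingCat.of k))} [LocallyOfFiniteType X.hom] {g g' : 𝟙_ (Over (Spec (CommRingCat.of k))) ⟶ X}
    (p₀ p₁ : (𝟙_ (Over (Spec (CommRingCat.of k)))).left) (h : g.left p₀ = g'.left p₁) : g = g' := by
  refine Over.OverMorphism.ext (ext_of_apply_closedPoint_eq X.hom (Over.w g) (Over.w g') ?_)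
  refine (congrArg g.left (subsingleton_unit _ p₀)).trans (h.trans (congrArg g'.left (subsingleton_unit _ _)))

/-- a non-empty closed fibre over a rational point has a rational point -/
theorem exists_point_over [IsAlgClosed k] {W G : Over (Spec (CommRingCat.of k))} [LocallyOfFiniteType W.hom] [LocallyOfFiniteType G.hom]
    (φ : W ⟶ G) (g : 𝟙_ (Over (Spec (CommRingCat.of k))) ⟶ G) (p₀ : (𝟙_ (Over (Spec (CommRingCat.of k)))).left) (w : W.left) (hw : φ.left w = g.left p₀) :
    ∃ z : 𝟙_ (Over (Spec (CommRingCat.of k))) ⟶ W, z ≫ φ = g := by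
  haveI : JacobsonSpace W.left := LocallyOfFiniteType.jacobsonSpace W.hom
  obtain ⟨y, hy, hyc⟩ := nonempty_inter_closedPoints (Z := φ.left ⁻¹' {g.left p₀}) ⟨w, hw⟩
    ((isClosed_point G g p₀).preimage φ.left.continuous).isLocallyClosed
  obtain ⟨⟨z, hz⟩, hzy⟩ := (pointEquivClosedPoint W.hom).surjective ⟨y, hyc⟩
  refine ⟨Over.homMk z hz, point_ext (IsLocalRing.closedPoint k) p₀ ?_⟩
  show φ.left (z (IsLocalRing.closedPoint k)) = _
  rw [show z (IsLocalRing.closedPoint k) = y from congrArg Subtype.val hzy]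
  exact hy

variable {G X : Over (Spec (CommRingCat.of k))} [GrpObj G] (f : X ⟶ G)

/-- a letter of a word -/
abbrev letter {T : Over (Spec (CommRingCat.of k))} (e : Bool) (x : T ⟶ X) : T ⟶ G := if e then x ≫ f else (x ≫ f)⁻¹

/-- the source of the universal word -/
def P (X : Over (Spec (CommRingCat.of k))) : ℕ → Over (Spec (CommRingCat.of k))
  | 0 => 𝟙_ _
  | n + 1 => X ⊗ P X n

/-- the coordinates of the universal word -/
def coord (X : Over (Spec (CommRingCat.of k))) : (n : ℕ) → Fin n → (P X n ⟶ X)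
  | 0 => Fin.elim0
  | n + 1 => Fin.cons (show P X (n + 1) ⟶ X from fst X (P X n)) fun i => show P X (n + 1) ⟶ X from snd X (P X n) ≫ coord X n i

theorem exists_tuple {T : Over (Spec (CommRingCat.of k))} : ∀ (n : ℕ) (x : Fin n → (T ⟶ X)), ∃ t : T ⟶ P X n, ∀ i, t ≫ coord X n i = x i
  | 0, _ => ⟨toUnit T, fun i => i.elim0⟩
  | n + 1, x => by
    obtain ⟨t, ht⟩ := exists_tuple n (fun i => x i.succ)
    refine ⟨CartesianMonoidalCategory.lift (x 0) t, fun i => ?_⟩
    induction i using Fin.cases with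
    | zero => exact lift_fst _ _
    | succ i =>
      show CartesianMonoidalCategory.lift (x 0) t ≫ snd X (P X n) ≫ coord X n i = x i.succ
      rw [lift_snd_assoc, ht]

theorem lft_P [LocallyOfFiniteType X.hom] : ∀ n, LocallyOfFiniteType (P X n).hom
  | 0 => inferInstanceAs (LocallyOfFiniteType (𝟙 (Spec (CommRingCat.of k))))
  | n + 1 => by
    haveI := lft_P n
    exact inferInstanceAs (LocallyOfFiniteType (pullback.fst X.hom (P X n).hom ≫ X.hom))

theorem comp_word {T U : Over (Spec (CommRingCat.of k))} (t : T ⟶ U) {n : ℕ} (x : Fin n → (U ⟶ X)) (ε : Fin n → Bool) :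
    t ≫ ((List.ofFn fun j : Fin n => letter f (ε j) (x j)).prod : U ⟶ G) =
      (List.ofFn fun j : Fin n => letter f (ε j) (t ≫ x j)).prod := by
  induction n with
  | zero => simp
  | succ n ih =>
    rw [List.ofFn_succ, List.ofFn_succ, List.prod_cons, List.prod_cons, MonObj.comp_mul, ih]
    congr 1
    cases ε 0 <;> simp [letter, GrpObj.comp_inv]

theorem closure_eq [IsAlgClosed k] [LocallyOfFiniteType G.hom] [LocallyOfFiniteType X.hom] :
    {g : 𝟙_ (Over (Spec (CommRingCat.of k))) ⟶ G | ∃ (n : ℕ) (T : Over (Spec (CommRingCat.of k))) (p : T.left) (p₀ : (𝟙_ (Over (Spec (CommRingCat.of k)))).left)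
        (x : Fin n → (T ⟶ X)) (ε : Fin n → Bool), ((List.ofFn fun j : Fin n => letter f (ε j) (x j)).prod : T ⟶ G).left p = g.left p₀} =
      ((Subgroup.closure {g : 𝟙_ (Over (Spec (CommRingCat.of k))) ⟶ G | ∃ p₀ : (𝟙_ (Over (Spec (CommRingCat.of k)))).left, g.left p₀ ∈ Set.range f.left} :
        Subgroup (𝟙_ (Over (Spec (CommRingCat.of k))) ⟶ G)) : Set (𝟙_ (Over (Spec (CommRingCat.of k))) ⟶ G)) := by
  have hgen : {g : 𝟙_ (Over (Spec (CommRingCat.of k))) ⟶ G | ∃ p₀ : (𝟙_ (Over (Spec (CommRingCat.of k)))).left, g.left p₀ ∈ Set.range f.left} =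
      Set.range (fun x : 𝟙_ (Over (Spec (CommRingCat.of k))) ⟶ X => x ≫ f) := by
    ext g
    constructor
    · rintro ⟨p₀, y, hy⟩
      exact exists_point_over f g p₀ y hy
    · rintro ⟨x, rfl⟩
      exact ⟨IsLocalRing.closedPoint k, x.left (IsLocalRing.closedPoint k), rfl⟩
  rw [hgen]
  ext g
  constructor
  · rintro ⟨n, T, p, p₀, x, ε, hp⟩
    haveI := lft_P (k := k) (X := X) n
    obtain ⟨t, ht⟩ := exists_tuple n x
    obtain ⟨z, hz⟩ := exists_point_over ((List.ofFn fun j : Fin n => letter f (ε j) (coord X n j)).prod : P X n ⟶ G) g p₀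
      (t.left p) (by
        refine Eq.trans ?_ hp
        rw [← Scheme.Hom.comp_apply, ← Over.comp_left, comp_word]
        simp only [ht])
    rw [SetLike.mem_coe, ← hz, comp_word]
    refine Subgroup.list_prod_mem _ fun a ha => ?_
    obtain ⟨j, rfl⟩ := List.mem_ofFn.1 ha
    cases ε j <;> simp only [letter, Bool.false_eq_true, if_false, if_true]
    · exact inv_mem (Subgroup.subset_closure ⟨_, rfl⟩)
    · exact Subgroup.subset_closure ⟨_, rfl⟩
  · intro hg
    rw [SetLike.mem_coe, ← Subgroup.mem_toSubmonoid, Subgroup.closure_toSubmonoid] at hg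
    obtain ⟨l, hl, rfl⟩ := Submonoid.exists_list_of_mem_closure hg
    have hl' : ∀ j : Fin l.length, ∃ (e : Bool) (x : 𝟙_ (Over (Spec (CommRingCat.of k))) ⟶ X), letter f e x = l[j] := fun j => by
      rcases hl _ (List.getElem_mem j.2) with ⟨x, hx⟩ | ⟨x, hx⟩
      · exact ⟨true, x, hx⟩
      · exact ⟨false, x, inv_eq_iff_eq_inv.2 hx⟩
    choose e x hx using hl'
    refine ⟨l.length, 𝟙_ _, IsLocalRing.closedPoint k, IsLocalRing.closedPoint k, x, e, ?_⟩
    simp only [hx]
    congr 2
    simp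

end Groth.L25.WordPoints
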