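import Groth.Agent.L25.LocalHopfRank
import Mathlib.RingTheory.HopfAlgebra.TensorProduct
import Mathlib.RingTheory.Coalgebra.Convolution
import Mathlib.RingTheory.FinitePresentation
import Mathlib.RingTheory.Finiteness.ModuleFinitePresentation
import Mathlib.RingTheory.IntegralClosure.IsIntegral.Basic
import Mathlib.RingTheory.IntegralClosure.Algebra.Basic
import Mathlib.RingTheory.IsAdjoinRoot
import Mathlib.RingTheory.LocalRing.Module
import Mathlib.RingTheory.LocalRing.ResidueField.Basic
import Mathlib.RingTheory.OrzechProperty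
import Mathlib.RingTheory.Nakayama
import Mathlib.RingTheory.Flat.Basic
import Mathlib.RingTheory.MvPolynomial.Ideal

/-!
# Group schemes of height one over a local ring
-/

set_option autoImplicit false

universe u

open scoped TensorProduct
open Coalgebra

namespace Groth.L25.HeightOne

open Groth.L25.LocalHopfRank

variable (p : ℕ) [hp : Fact p.Prime]

/-- Over a field: parameters and the dimension. -/
theorem exists_generators_of_field (k : Type u) [Field k] [CharP k p] (H : Type u) [CommRing H]
    [Bialgebra k H] [FiniteDimensional k H]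
    (h1 : ∀ y : H, y ^ p = algebraMap k H (counit (R := k) y ^ p)) :
    ∃ (d : ℕ) (x : Fin d → H), (∀ i, counit (R := k) (x i) = 0) ∧
      Algebra.adjoin k (Set.range x) = ⊤ ∧ Module.finrank k H = p ^ d := by
  classical
  let ε : H →ₐ[k] k := Bialgebra.counitAlgHom k H
  haveI : Nontrivial H := RingHom.domain_nontrivial ε.toRingHom
  haveI : CharP H p := charP_of_injective_algebraMap (algebraMap k H).injective p
  have hloc : ∀ y, IsNilpotent (y - algebraMap k H (ε y)) := fun y => by
    refine ⟨p, ?_⟩
    rw [sub_pow_char, h1, sub_eq_zero, map_pow]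
    rfl
  have hr : ∀ a, slice ε.toLinearMap (Bialgebra.comulAlgHom k H a) = a := fun a => by
    rw [Bialgebra.comulAlgHom_apply, ← (ℛ k a).eq, map_sum]
    simp only [slice_tmul, AlgHom.toLinearMap_apply]
    have h := congrArg (TensorProduct.rid k H) (sum_tmul_counit_eq (ℛ k a))
    simp only [map_sum, TensorProduct.rid_tmul, one_smul] at h
    exact h
  have hl : ∀ (φ : H →ₗ[k] k) (a), ε (slice φ (Bialgebra.comulAlgHom k H a)) = φ a := by
    intro φ a
    rw [Bialgebra.comulAlgHom_apply, ← (ℛ k a).eq, map_sum, map_sum]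
    simp only [slice_tmul, map_smul, smul_eq_mul]
    conv_rhs => rw [← sum_counit_smul (ℛ k a), map_sum]
    refine Finset.sum_congr rfl fun i _ => ?_
    rw [map_smul, smul_eq_mul, mul_comm]
    rfl
  have hB : CoClosed (Bialgebra.comulAlgHom k H) (⊤ : Subalgebra k H) := by
    intro b _
    induction (Bialgebra.comulAlgHom k H b) with
    | zero => exact Subalgebra.zero_mem _
    | add a c ha hc => exact Subalgebra.add_mem _ ha hc
    | tmul a c =>
      exact ⟨⟨a, Algebra.mem_top⟩ ⊗ₜ ⟨c, Algebra.mem_top⟩, by simp⟩
  obtain ⟨d, x, D, hxD, hxn, htop⟩ :=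
    exists_parameters (Bialgebra.comulAlgHom k H) ε hr hl hloc hB
  have hε0 : ∀ i, ε (x i : H) = 0 := fun i =>
    (((hxn i).map (⊤ : Subalgebra k H).val).map ε).eq_zero
  refine ⟨d, fun i => (x i : H), hε0, ?_, ?_⟩
  · have h := congrArg (Subalgebra.map (⊤ : Subalgebra k H).val) htop
    rw [AlgHom.map_adjoin, Algebra.map_top, Subalgebra.range_val, ← Set.range_comp] at h
    exact h
  · have hxp : ∀ i, x i ^ p ∈ (⊥ : Subalgebra k (⊤ : Subalgebra k H)) := fun i => by
      have : x i ^ p = 0 := Subtype.ext <| by
        rw [Subalgebra.coe_pow, h1, show counit (R := k) (x i : H) = 0 from hε0 i,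
          zero_pow hp.out.ne_zero, map_zero]
        rfl
      rw [this]
      exact Subalgebra.zero_mem _
    have hcount := finrank_adjoin_family p (⊥ : Subalgebra k (⊤ : Subalgebra k H)) x D
      (fun i t ht => by
        obtain ⟨c, rfl⟩ := Algebra.mem_bot.1 ht
        exact (D i).map_algebraMap c) hxD hxp Finset.univ
    rw [Finset.coe_univ, Set.image_univ, bot_sup_eq, htop, Subalgebra.finrank_bot,
      Finset.card_univ, Fintype.card_fin, mul_one] at hcount
    rw [← hcount]
    exact ((Subalgebra.topEquiv (R := k) (A := H)).toLinearEquiv.finrank_eq.symm.trans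
      (Subalgebra.topEquiv (R := k)
        (A := ↥(⊤ : Subalgebra k H))).toLinearEquiv.finrank_eq.symm)

/-- The truncated polynomial algebra has rank `p ^ d`. -/
theorem free_truncated (R : Type u) [CommRing R] [Nontrivial R] (d : ℕ) :
    Submodule.restrictScalars R (Ideal.span (Set.range fun i : Fin d =>
        (MvPolynomial.X i : MvPolynomial (Fin d) R) ^ p)) ⊔
      Submodule.span R (Set.range fun e : Fin d → Fin p =>
        MvPolynomial.monomial (Finsupp.equivFunOnFinite.symm fun i => (e i : ℕ)) (1 : R)) = ⊤ := by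
  rw [eq_top_iff]
  rintro f -
  induction f using MvPolynomial.induction_on' with
  | add a b ha hb => exact Submodule.add_mem _ ha hb
  | monomial s c =>
    have e : MvPolynomial.monomial s c = c • MvPolynomial.monomial s (1 : R) := by
      rw [MvPolynomial.smul_monomial, smul_eq_mul, mul_one]
    rw [e]
    refine Submodule.smul_mem _ _ ?_
    by_cases h : ∀ i, s i < p
    · refine Submodule.mem_sup_right (Submodule.subset_span ⟨fun i => ⟨s i, h i⟩, ?_⟩)
      refine congrArg (fun t => MvPolynomial.monomial t (1 : R)) ?_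
      ext i
      rfl
    · push Not at h
      obtain ⟨i, hi⟩ := h
      refine Submodule.mem_sup_left ?_
      show MvPolynomial.monomial s (1 : R) ∈ Ideal.span _
      have hs : s = (s - Finsupp.single i p) + Finsupp.single i p :=
        (tsub_add_cancel_of_le (Finsupp.single_le_iff.2 hi)).symm
      rw [hs, MvPolynomial.monomial_add_single]
      exact Ideal.mul_mem_left _ _ (Ideal.subset_span ⟨i, rfl⟩)

theorem nonempty_algEquiv (R : Type u) [CommRing R] [IsLocalRing R] [CharP R p]
    (A : Type u) [CommRing A] [HopfAlgebra R A] [Algebra.FinitePresentation R A] [Module.Flat R A]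
    (h1 : ∀ a : A, Bialgebra.counitAlgHom R A a = 0 → a ^ p = 0) :
    ∃ n : ℕ, Nonempty (A ≃ₐ[R] (MvPolynomial (Fin n) R ⧸
      Ideal.span (Set.range fun i : Fin n => (MvPolynomial.X i : MvPolynomial (Fin n) R) ^ p))) := by
  classical
  let ε : A →ₐ[R] R := Bialgebra.counitAlgHom R A
  have hinj : Function.Injective (algebraMap R A) := fun a b h => by
    have := congrArg ε h
    rwa [AlgHom.commutes, AlgHom.commutes] at this
  haveI : CharP A p := charP_of_injective_algebraMap hinj p
  have hpow : ∀ a : A, a ^ p = algebraMap R A (ε a ^ p) := fun a => by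
    have h := h1 (a - algebraMap R A (ε a)) (by
      rw [map_sub, AlgHom.commutes]
      exact sub_self _)
    rw [sub_pow_char, sub_eq_zero] at h
    rw [h, map_pow]
  -- finiteness
  haveI : Algebra.IsIntegral R A := by
    refine ⟨fun a => ?_⟩
    refine IsIntegral.of_pow hp.out.pos ?_
    rw [hpow]
    exact isIntegral_algebraMap
  haveI : Algebra.FiniteType R A := inferInstance
  haveI : Module.Finite R A := Algebra.IsIntegral.finite
  haveI : Module.FinitePresentation R A :=
    Module.FinitePresentation.of_finite_of_finitePresentation R A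
  haveI : Module.Free R A := Module.free_of_flat_of_isLocalRing
  -- the closed fibre
  let κ := IsLocalRing.ResidueField R
  haveI : CharP κ p := by
    have h0 : (p : κ) = 0 := by
      rw [← map_natCast (IsLocalRing.residue R), CharP.cast_eq_zero R p, map_zero]
    exact (CharP.charP_iff_prime_eq_zero hp.out).2 h0
  let H := κ ⊗[R] A
  haveI : Nontrivial H := RingHom.domain_nontrivial (Bialgebra.counitAlgHom κ H).toRingHom
  haveI : CharP H p := charP_of_injective_algebraMap (algebraMap κ H).injective p
  have hH : ∀ y : H, y ^ p = algebraMap κ H (counit (R := κ) y ^ p) := by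
    intro (y : κ ⊗[R] A)
    induction y with
    | zero => simp [zero_pow hp.out.ne_zero]
    | add a b ha hb => rw [add_pow_char, ha, hb, map_add, add_pow_char, map_add]
    | tmul c a =>
      rw [Algebra.TensorProduct.tmul_pow, hpow, TensorProduct.counit_tmul, CommSemiring.counit_apply,
        Algebra.TensorProduct.algebraMap_apply, Algebra.algebraMap_self, RingHom.id_apply,
        Algebra.algebraMap_eq_smul_one, TensorProduct.tmul_smul, TensorProduct.smul_tmul',
        smul_pow]
      rfl
  obtain ⟨d, x, hx0, hxtop, hxdim⟩ := exists_generators_of_field p κ H hH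
  have hsurj : Function.Surjective (fun a : A => (1 : κ) ⊗ₜ[R] a) := by
    intro (y : κ ⊗[R] A)
    induction y with
    | zero => exact ⟨0, TensorProduct.tmul_zero _ _⟩
    | add a b ha hb =>
      obtain ⟨a', rfl⟩ := ha
      obtain ⟨b', rfl⟩ := hb
      exact ⟨a' + b', TensorProduct.tmul_add _ _ _⟩
    | tmul c a =>
      obtain ⟨r, rfl⟩ := IsLocalRing.residue_surjective c
      refine ⟨r • a, ?_⟩
      show (1 : κ) ⊗ₜ[R] (r • a) = _
      rw [← TensorProduct.smul_tmul, Algebra.smul_def, mul_one]
      rfl
  choose z hz using fun i => hsurj (x i)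
  let w : Fin d → A := fun i => z i - algebraMap R A (ε (z i))
  have hw : ∀ i, (1 : κ) ⊗ₜ[R] w i = x i := by
    intro i
    have h := hx0 i
    rw [← hz i, TensorProduct.counit_tmul, CommSemiring.counit_apply] at h
    show (1 : κ) ⊗ₜ[R] (z i - _) = _
    rw [TensorProduct.tmul_sub, ← hz i, sub_eq_self, Algebra.algebraMap_eq_smul_one,
      TensorProduct.tmul_smul, TensorProduct.smul_tmul']
    rw [show (ε (z i) • (1 : κ)) = 0 from h, TensorProduct.zero_tmul]
  let P := MvPolynomial (Fin d) R
  let J : Ideal P := Ideal.span (Set.range fun i : Fin d => (MvPolynomial.X i : P) ^ p)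
  have hJ : ∀ f ∈ J, MvPolynomial.aeval w f = 0 := by
    intro f hf
    have : J ≤ RingHom.ker (MvPolynomial.aeval (R := R) w) := by
      refine Ideal.span_le.2 ?_
      rintro _ ⟨i, rfl⟩
      show MvPolynomial.aeval w _ = 0
      rw [map_pow, MvPolynomial.aeval_X]
      refine h1 _ ?_
      rw [map_sub, AlgHom.commutes]
      exact sub_self _
    exact this hf
  let φ : (P ⧸ J) →ₐ[R] A := Ideal.Quotient.liftₐ J (MvPolynomial.aeval w) hJ
  -- surjectivity, by Nakayama
  have hφsurj : Function.Surjective φ := by
    have hrange : Algebra.adjoin R (Set.range w) ≤ φ.range := by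
      refine Algebra.adjoin_le ?_
      rintro _ ⟨i, rfl⟩
      exact ⟨Ideal.Quotient.mk J (MvPolynomial.X i), MvPolynomial.aeval_X w i⟩
    have htop : (Algebra.adjoin R (Set.range w)).toSubmodule = ⊤ := by
      rw [← IsLocalRing.map_tensorProduct_mk_eq_top]
      rw [eq_top_iff]
      rintro y -
      have hy : y ∈ Algebra.adjoin κ (Set.range x) := hxtop ▸ Algebra.mem_top
      induction hy using Algebra.adjoin_induction with
      | mem y hy =>
        obtain ⟨i, rfl⟩ := hy
        exact ⟨w i, Algebra.subset_adjoin ⟨i, rfl⟩, hw i⟩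
      | algebraMap c =>
        obtain ⟨r, rfl⟩ := IsLocalRing.residue_surjective c
        refine ⟨algebraMap R A r, Subalgebra.algebraMap_mem _ r, ?_⟩
        show (1 : κ) ⊗ₜ[R] algebraMap R A r = IsLocalRing.residue R r ⊗ₜ[R] (1 : A)
        rw [Algebra.algebraMap_eq_smul_one, ← TensorProduct.smul_tmul, Algebra.smul_def, mul_one]
        rfl
      | add a b _ _ ha hb => exact Submodule.add_mem _ ha hb
      | mul a b _ _ ha hb =>
        obtain ⟨a', ha', rfl⟩ := ha
        obtain ⟨b', hb', rfl⟩ := hb
        refine ⟨a' * b', Subalgebra.mul_mem _ ha' hb', ?_⟩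
        show (1 : κ) ⊗ₜ[R] (a' * b') = ((1 : κ) ⊗ₜ[R] a') * ((1 : κ) ⊗ₜ[R] b')
        rw [Algebra.TensorProduct.tmul_mul_tmul, one_mul]
    intro a
    exact hrange (show a ∈ (Algebra.adjoin R (Set.range w)).toSubmodule by
      rw [htop]; exact Submodule.mem_top)
  -- a spanning family of the source of size `p ^ d`
  let v : (Fin d → Fin p) → P ⧸ J := fun e =>
    Ideal.Quotient.mk J (MvPolynomial.monomial (Finsupp.equivFunOnFinite.symm fun i => (e i : ℕ)) 1)
  let f : ((Fin d → Fin p) → R) →ₗ[R] P ⧸ J := Fintype.linearCombination R v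
  have hf : Function.Surjective f := by
    intro y
    obtain ⟨y, rfl⟩ := Ideal.Quotient.mk_surjective y
    have hy : y ∈ Submodule.restrictScalars R J ⊔ Submodule.span R (Set.range fun e : Fin d → Fin p =>
        MvPolynomial.monomial (Finsupp.equivFunOnFinite.symm fun i => (e i : ℕ)) (1 : R)) := by
      rw [free_truncated]
      exact Submodule.mem_top
    obtain ⟨a, ha, b, hb, rfl⟩ := Submodule.mem_sup.1 hy
    obtain ⟨c, rfl⟩ := (Submodule.mem_span_range_iff_exists_fun R).1 hb
    refine ⟨c, ?_⟩
    rw [map_add, Ideal.Quotient.eq_zero_iff_mem.2 ha, zero_add, map_sum,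
      Fintype.linearCombination_apply]
    rfl
  -- both sides have rank `p ^ d`
  have hrank : Module.finrank R A = p ^ d := by
    rw [← hxdim]
    exact (Module.finrank_baseChange (R := κ) (S := R) (M' := A)).symm
  let e : ((Fin d → Fin p) → R) ≃ₗ[R] A :=
    LinearEquiv.ofFinrankEq _ _ (by
      rw [Module.finrank_fintype_fun_eq_card, hrank, Fintype.card_fun, Fintype.card_fin,
        Fintype.card_fin])
  have hg : Function.Surjective ((e.symm.toLinearMap ∘ₗ φ.toLinearMap) ∘ₗ f) :=
    (e.symm.surjective.comp hφsurj).comp hf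
  have hginj := OrzechProperty.injective_of_surjective_endomorphism _ hg
  have hφinj : Function.Injective φ := by
    intro a b hab
    obtain ⟨a', rfl⟩ := hf a
    obtain ⟨b', rfl⟩ := hf b
    refine congrArg f (hginj ?_)
    show e.symm (φ (f a')) = e.symm (φ (f b'))
    rw [hab]
  exact ⟨d, ⟨(AlgEquiv.ofBijective φ ⟨hφinj, hφsurj⟩).symm⟩⟩

end Groth.L25.HeightOne
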