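import Mathlib.Algebra.Lie.Basic
import Mathlib.LinearAlgebra.Basis.Basic
import Mathlib.LinearAlgebra.StdBasis
import Mathlib.Algebra.BigOperators.Fin
import Mathlib.Tactic.Module
import Mathlib.Tactic.Ring

/-! Coordinates of the bracket on a three dimensional Lie algebra with abelian derived part. -/

namespace Groth.L25.Lie3

variable {R : Type*} [CommRing R] {L : Type*} [LieRing L] [LieAlgebra R L]

lemma eq_combination (b : Module.Basis (Fin 3) R L) (w : L) :
    w = b.repr w 0 • b 0 + b.repr w 1 • b 1 + b.repr w 2 • b 2 := by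
  conv_lhs => rw [← b.sum_repr w]
  rw [Fin.sum_univ_three]

lemma repr_combination (b : Module.Basis (Fin 3) R L) (x y z : R) :
    b.repr (x • b 0 + y • b 1 + z • b 2) 0 = x ∧ b.repr (x • b 0 + y • b 1 + z • b 2) 1 = y ∧
      b.repr (x • b 0 + y • b 1 + z • b 2) 2 = z := by
  simp [Module.Basis.repr_self]

lemma repr_bracket (b : Module.Basis (Fin 3) R L) (p q r s : R)
    (h01 : ⁅b 0, b 1⁆ = p • b 1 + q • b 2) (h02 : ⁅b 0, b 2⁆ = r • b 1 + s • b 2)
    (h12 : ⁅b 1, b 2⁆ = 0) (u v : L) :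
    b.repr ⁅u, v⁆ 0 = 0 ∧
    b.repr ⁅u, v⁆ 1 = (b.repr u 0 * b.repr v 1 - b.repr u 1 * b.repr v 0) * p +
      (b.repr u 0 * b.repr v 2 - b.repr u 2 * b.repr v 0) * r ∧
    b.repr ⁅u, v⁆ 2 = (b.repr u 0 * b.repr v 1 - b.repr u 1 * b.repr v 0) * q +
      (b.repr u 0 * b.repr v 2 - b.repr u 2 * b.repr v 0) * s := by
  set a0 := b.repr u 0; set a1 := b.repr u 1; set a2 := b.repr u 2
  set c0 := b.repr v 0; set c1 := b.repr v 1; set c2 := b.repr v 2
  have h10 : ⁅b 1, b 0⁆ = -(p • b 1 + q • b 2) := by rw [← lie_skew, h01]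
  have h20 : ⁅b 2, b 0⁆ = -(r • b 1 + s • b 2) := by rw [← lie_skew, h02]
  have h21 : ⁅b 2, b 1⁆ = 0 := by rw [← lie_skew, h12, neg_zero]
  have key : ⁅u, v⁆ = (0 : R) • b 0 + ((a0 * c1 - a1 * c0) * p + (a0 * c2 - a2 * c0) * r) • b 1
      + ((a0 * c1 - a1 * c0) * q + (a0 * c2 - a2 * c0) * s) • b 2 := by
    rw [eq_combination b u, eq_combination b v]
    simp only [add_lie, lie_add, smul_lie, lie_smul, lie_self, h01, h02, h12, h10, h20, h21]
    module
  rw [key]
  exact repr_combination b _ _ _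

/-- Applying a linear map, in coordinates. -/
lemma repr_map {L' : Type*} [AddCommGroup L'] [Module R L'] (b : Module.Basis (Fin 3) R L)
    (b' : Module.Basis (Fin 3) R L') (f : L →ₗ[R] L') (v : L) (j : Fin 3) :
    b'.repr (f v) j = b.repr v 0 * b'.repr (f (b 0)) j + b.repr v 1 * b'.repr (f (b 1)) j
      + b.repr v 2 * b'.repr (f (b 2)) j := by
  conv_lhs => rw [eq_combination b v]
  simp

end Groth.L25.Lie3
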