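import Groth.Agent.L25.LimTorsor
import Groth.Agent.L24.Alg.SourceFppf
import Groth.Agent.L20.ThickeningTopology

/-!
# Effectivity of flat equivalence relations over a limit
-/

set_option autoImplicit false
set_option backward.isDefEq.respectTransparency.types false
set_option linter.style.haveILetI false
set_option backward.isDefEq.respectTransparency false
set_option backward.defeqAttrib.useBackward true
set_option linter.unusedSectionVars false

universe u

open CategoryTheory CategoryTheory.Limits MonoidalCategory CartesianMonoidalCategory MonObj AlgebraicGeometry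
open Groth.L25.LimHom

noncomputable section

namespace Groth.L25.LimQuot

/-- quasi-compactness descends along surjective open maps -/
theorem quasiCompact_of_isPullback {P X Y Z : Scheme.{u}} {q : P ⟶ X} {f' : P ⟶ Z} {f : X ⟶ Y} {g : Z ⟶ Y}
    (h : IsPullback q f' f g) [Surjective g] [UniversallyOpen g] [QuasiCompact f'] : QuasiCompact f := by
  refine (quasiCompact_iff f).2 fun V hV hVc => ?_
  let W : {z : Z // g z ∈ V} → Z.Opens := fun z =>
    (Z.isBasis_affineOpens.exists_subset_of_mem_open z.2 (hV.preimage g.continuous)).choose_spec.1.choose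
  have hW : ∀ z, IsAffineOpen (W z) ∧ z.1 ∈ W z ∧ (W z : Set Z) ⊆ g ⁻¹' V := by
    intro z
    have h0 := (Z.isBasis_affineOpens.exists_subset_of_mem_open z.2 (hV.preimage g.continuous)).choose_spec
    have hc := h0.1.choose_spec
    refine ⟨hc.1, ?_, ?_⟩
    · rw [← SetLike.mem_coe, hc.2]; exact h0.2.1
    · rw [hc.2]; exact h0.2.2
  obtain ⟨F, hF⟩ := hVc.elim_finite_subcover (fun z => g '' (W z : Set Z))
    (fun z => g.isOpenMap _ (W z).isOpen) (fun y hy => by
      obtain ⟨z, rfl⟩ := g.surjective y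
      exact Set.mem_iUnion.2 ⟨⟨z, hy⟩, z, (hW ⟨z, hy⟩).2.1, rfl⟩)
  let K : Set Z := ⋃ z ∈ F, (W z : Set Z)
  have hKo : IsOpen K := isOpen_biUnion fun z _ => (W z).isOpen
  have hKc : IsCompact K := F.finite_toSet.isCompact_biUnion fun z _ => (hW z).1.isCompact
  have hKV : f ⁻¹' V = q '' (f' ⁻¹' K) := by
    ext x
    constructor
    · intro hx
      obtain ⟨z, hzF, w, hw, hwx⟩ : ∃ z ∈ F, ∃ w ∈ (W z : Set Z), g w = f x := by
        obtain ⟨z, hz⟩ := Set.mem_iUnion₂.1 (hF hx)
        obtain ⟨hzF, w, hw, hwx⟩ := hz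
        exact ⟨z, hzF, w, hw, hwx⟩
      obtain ⟨a, ha₁, ha₂⟩ := Scheme.Pullback.exists_preimage_pullback x w hwx.symm
      refine ⟨h.isoPullback.inv a, ?_, ?_⟩
      · show f' (h.isoPullback.inv a) ∈ K
        rw [← Scheme.Hom.comp_apply, h.isoPullback_inv_snd, ha₂]
        exact Set.mem_iUnion₂.2 ⟨z, hzF, hw⟩
      · rw [← Scheme.Hom.comp_apply, h.isoPullback_inv_fst, ha₁]
    · rintro ⟨p, hp, rfl⟩
      obtain ⟨z, hzF, hw⟩ := Set.mem_iUnion₂.1 hp
      show f (q p) ∈ V
      rw [← Scheme.Hom.comp_apply, h.w, Scheme.Hom.comp_apply]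
      exact (hW z).2.2 hw
  rw [hKV]
  exact (((quasiCompact_iff f').1 inferInstance) K hKo hKc).image q.continuous

/-- the target of an effective quotient of a qcqs finitely presented scheme is so -/
theorem qcqsfp_of_quotient {S : Scheme.{u}} {X Y R : Over S} {p : X ⟶ Y} {s t : R ⟶ X}
    (h : IsPullback s t p p) [Flat p.left] [Surjective p.left] [LocallyOfFinitePresentation p.left]
    [QuasiCompact R.hom] [LocallyOfFinitePresentation X.hom] [QuasiCompact X.hom] [QuasiSeparated X.hom] :
    LocallyOfFinitePresentation Y.hom ∧ QuasiCompact Y.hom ∧ QuasiSeparated Y.hom := by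
  have hw : p.left ≫ Y.hom = X.hom := Over.w p
  have hl : IsPullback s.left t.left p.left p.left := h.map (Over.forget S)
  have h1 : LocallyOfFinitePresentation Y.hom :=
    Groth.L24.Alg.locallyOfFinitePresentation_of_fppf_comp p.left Y.hom (by rw [hw]; infer_instance)
  have h2 : QuasiCompact Y.hom := by
    haveI : QuasiCompact (p.left ≫ Y.hom) := by rw [hw]; infer_instance
    exact Groth.L20.Thick.quasiCompact_of_comp_surjective p.left Y.hom
  refine ⟨h1, h2, ⟨?_⟩⟩
  haveI : QuasiSeparated (p.left ≫ Y.hom) := by rw [hw]; infer_instance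
  haveI : QuasiCompact (pullback.fst p.left p.left ≫ p.left ≫ Y.hom) := by
    have e : hl.isoPullback.hom ≫ pullback.fst p.left p.left ≫ p.left ≫ Y.hom = R.hom := by
      rw [hl.isoPullback_hom_fst_assoc, hw, Over.w s]
    exact (MorphismProperty.cancel_left_of_respectsIso @QuasiCompact hl.isoPullback.hom _).1 (by rw [e]; infer_instance)
  haveI : QuasiCompact (pullback.map p.left p.left (p.left ≫ Y.hom) (p.left ≫ Y.hom) (𝟙 _) (𝟙 _) Y.hom
      (by simp) (by simp)) := by
    haveI : QuasiSeparated (pullback.fst (p.left ≫ Y.hom) (p.left ≫ Y.hom) ≫ p.left ≫ Y.hom) := inferInstance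
    refine @QuasiCompact.of_comp _ _ _ _ (pullback.fst (p.left ≫ Y.hom) (p.left ≫ Y.hom) ≫ p.left ≫ Y.hom) ?_ _
    simpa using ‹QuasiCompact (pullback.fst p.left p.left ≫ p.left ≫ Y.hom)›
  haveI : UniversallyOpen p.left := inferInstance
  haveI : UniversallyOpen (pullback.map (p.left ≫ Y.hom) (p.left ≫ Y.hom) Y.hom Y.hom p.left p.left (𝟙 S)
      (by simp) (by simp)) := MorphismProperty.pullbackMap (P := @UniversallyOpen) ‹_› ‹_› (by simp) (by simp)
  haveI : Surjective (pullback.map (p.left ≫ Y.hom) (p.left ≫ Y.hom) Y.hom Y.hom p.left p.left (𝟙 S)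
      (by simp) (by simp)) := MorphismProperty.pullbackMap (P := @Surjective) ‹_› ‹_› (by simp) (by simp)
  exact quasiCompact_of_isPullback (pullback_map_diagonal_isPullback p.left p.left Y.hom)

/-- the quotient of the base change is representable -/
def Rep {S T : Scheme.{u}} (a : T ⟶ S) {X R : Over S} (s t : R ⟶ X) : Prop :=
  ∃ (Y : Over T) (p : Red.bc a X ⟶ Y), Flat p.left ∧ Surjective p.left ∧ LocallyOfFinitePresentation p.left ∧
    IsPullback ((Over.pullback a).map s) ((Over.pullback a).map t) p p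

section Transfer

variable {A B C : Scheme.{u}} {b : C ⟶ B} {a : B ⟶ A} {h : C ⟶ A}

theorem isPullback_left_map {X Y : Over A} (a : B ⟶ A) (x : X ⟶ Y) :
    IsPullback (pullback.fst X.hom a) ((Over.pullback a).map x).left x.left (pullback.fst Y.hom a) := by
  refine IsPullback.of_bot ?_ (by simp) (IsPullback.of_hasPullback Y.hom a)
  rw [Over.w x, show ((Over.pullback a).map x).left ≫ pullback.snd Y.hom a = pullback.snd X.hom a from
    Over.w ((Over.pullback a).map x)]
  exact IsPullback.of_hasPullback X.hom a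

theorem rep_of (hc : b ≫ a = h) {X R : Over A} (s t : R ⟶ X)
    (hr : Rep b ((Over.pullback a).map s) ((Over.pullback a).map t)) : Rep h s t := by
  obtain ⟨Y, p, h1, h2, h3, hp⟩ := hr
  haveI : IsIso (cmp hc X).inv.left := inferInstanceAs (IsIso ((Over.forget _).map (cmp hc X).inv))
  refine ⟨Y, (cmp hc X).inv ≫ p, by rw [Over.comp_left]; infer_instance, by rw [Over.comp_left]; infer_instance,
    by rw [Over.comp_left]; infer_instance, ?_⟩
  exact hp.of_iso (cmp hc R) (cmp hc X) (cmp hc X) (Iso.refl Y) (cmp_naturality hc s) (cmp_naturality hc t)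
    (by simp) (by simp)

theorem rep_comp (hc : b ≫ a = h) {X R : Over A} (s t : R ⟶ X) (hr : Rep a s t) : Rep h s t := by
  obtain ⟨Y, p, h1, h2, h3, hp⟩ := hr
  refine rep_of hc s t ⟨Red.bc b Y, (Over.pullback b).map p, ?_, ?_, ?_, hp.map (Over.pullback b)⟩
  · exact MorphismProperty.of_isPullback (isPullback_left_map b p) h1
  · exact MorphismProperty.of_isPullback (isPullback_left_map b p) h2
  · exact MorphismProperty.of_isPullback (isPullback_left_map b p) h3

end Transfer

variable {I : Type u} [SmallCategory I] [IsCofiltered I] (D : I ⥤ Scheme.{u}) (c : Cone D) (hc : IsLimit c)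
  [∀ (i i' : I) (f : i ⟶ i'), IsAffineHom (D.map f)] [∀ i, CompactSpace (D.obj i)]
  [∀ i, QuasiSeparatedSpace (D.obj i)]

include hc in
/-- the case where the quotient map already lives at the stage -/
theorem exists_rep_of_map (j : I) {X Y R : Over (D.obj j)}
    [LocallyOfFinitePresentation X.hom] [QuasiCompact X.hom] [QuasiSeparated X.hom]
    [LocallyOfFinitePresentation Y.hom] [QuasiCompact Y.hom] [QuasiSeparated Y.hom]
    [LocallyOfFinitePresentation R.hom] [QuasiCompact R.hom] [QuasiSeparated R.hom]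
    (s t : R ⟶ X) (v : X ⟶ Y)
    (h1 : Flat ((Over.pullback (c.π.app j)).map v).left) (h2 : Surjective ((Over.pullback (c.π.app j)).map v).left)
    (hp : IsPullback ((Over.pullback (c.π.app j)).map s) ((Over.pullback (c.π.app j)).map t)
      ((Over.pullback (c.π.app j)).map v) ((Over.pullback (c.π.app j)).map v)) :
    ∃ (i : I) (f : i ⟶ j), Rep (D.map f) s t := by
  haveI : ∀ {i i' : I} (f : i ⟶ i'), IsAffineHom (D.map f) := fun {i i'} f => inferInstance
  haveI : CompactSpace Y.left := QuasiCompact.compactSpace_of_compactSpace Y.hom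
  haveI : QuasiCompact v.left := by
    haveI : QuasiCompact (v.left ≫ Y.hom) := by rw [Over.w v]; infer_instance
    exact QuasiCompact.of_comp v.left Y.hom
  haveI : QuasiSeparated v.left := by
    haveI : QuasiSeparated (v.left ≫ Y.hom) := by rw [Over.w v]; infer_instance
    exact QuasiSeparated.of_comp v.left Y.hom
  haveI : LocallyOfFinitePresentation v.left := by
    haveI : LocallyOfFinitePresentation (v.left ≫ Y.hom) := by rw [Over.w v]; infer_instance
    exact Groth.Agent.S12442.result v.left Y.hom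
  have hq : Groth.L19.Limit.qcqsfp v.left := ⟨⟨inferInstance, inferInstance⟩, inferInstance⟩
  have hY : IsPullback (pullback.fst Y.hom (c.π.app j)) (pullback.snd Y.hom (c.π.app j)) Y.hom (c.π.app j) :=
    IsPullback.of_hasPullback _ _
  have hX := isPullback_left_map (c.π.app j) v
  obtain ⟨i₁, f₁, k₁⟩ := Groth.L19.Limit.Descends.exists_pb Groth.L19.Limit.descends_flat hc v.left Y.hom hq hY
    ((Groth.L19.Limit.pb_iff_of_isPullback hX).1 h1)
  obtain ⟨i₂, f₂, k₂⟩ := Groth.L19.Limit.Descends.exists_pb Groth.L00.LimSurj.descends_surjective hc v.left Y.hom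
    hq hY ((Groth.L19.Limit.pb_iff_of_isPullback hX).1 h2)
  obtain ⟨i₃, f₃, k₃⟩ := Groth.L25.LimHom.exists_eq D c hc j _ (s ≫ v) (t ≫ v) (by
    rw [Functor.map_comp, Functor.map_comp, hp.w])
  obtain ⟨k, a₁, a₂, ha⟩ := IsCofiltered.cospan f₁ f₂
  obtain ⟨i, b₁, b₃, hb⟩ := IsCofiltered.cospan (a₁ ≫ f₁) f₃
  let f : i ⟶ j := b₁ ≫ a₁ ≫ f₁
  let P := Over.pullback (D.map f)
  have key : ∀ (Q : MorphismProperty Scheme.{u}) [Q.IsStableUnderBaseChange] [Q.RespectsIso] {i' : I} (a : i ⟶ i')
      (f' : i' ⟶ j), a ≫ f' = f → Groth.L19.Limit.Pb Q v.left (pullback.snd (D.map f') Y.hom) → Q (P.map v).left := by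
    intro Q _ _ i' a f' e hQ
    refine (Groth.L19.Limit.pb_iff_of_isPullback (isPullback_left_map (D.map f) v)).2 ?_
    have := Groth.L19.Limit.pb_comp (pullback.lift (pullback.snd Y.hom (D.map f) ≫ D.map a)
      (pullback.fst Y.hom (D.map f)) (by rw [Category.assoc, ← D.map_comp, e]; exact pullback.condition.symm) :
        pullback Y.hom (D.map f) ⟶ pullback (D.map f') Y.hom) hQ
    rwa [pullback.lift_snd] at this
  haveI hf1 : Flat (P.map v).left := key @Flat (b₁ ≫ a₁) f₁ (Category.assoc _ _ _) k₁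
  haveI hf2 : Surjective (P.map v).left := key @Surjective (b₁ ≫ a₂) f₂ (by simp only [f, Category.assoc, ha]) k₂
  haveI : LocallyOfFinitePresentation (P.map v).left :=
    MorphismProperty.of_isPullback (isPullback_left_map (D.map f) v) inferInstance
  have he : P.map s ≫ P.map v = P.map t ≫ P.map v := by
    rw [← Functor.map_comp, ← Functor.map_comp]
    exact eq_after D b₃ hb.symm _ _ k₃
  let κ : P.obj R ⟶ pullback (P.map v) (P.map v) := pullback.lift (P.map s) (P.map t) he
  let K := pullback (P.map v) (P.map v)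
  have hK : IsPullback (pullback.fst (P.map v) (P.map v)).left (pullback.snd (P.map v) (P.map v)).left
      (P.map v).left (P.map v).left := (IsPullback.of_hasPullback _ _).map (Over.forget _)
  haveI : QuasiCompact (P.map v).left := MorphismProperty.of_isPullback (isPullback_left_map (D.map f) v) inferInstance
  haveI : QuasiSeparated (P.map v).left := MorphismProperty.of_isPullback (isPullback_left_map (D.map f) v) inferInstance
  haveI : QuasiCompact (pullback.fst (P.map v) (P.map v)).left := MorphismProperty.of_isPullback hK.flip inferInstance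
  haveI : QuasiSeparated (pullback.fst (P.map v) (P.map v)).left := MorphismProperty.of_isPullback hK.flip inferInstance
  haveI : LocallyOfFinitePresentation (pullback.fst (P.map v) (P.map v)).left :=
    MorphismProperty.of_isPullback hK.flip inferInstance
  haveI : QuasiCompact (Red.bc (D.map f) X).hom := inferInstanceAs (QuasiCompact (pullback.snd X.hom (D.map f)))
  haveI : QuasiSeparated (Red.bc (D.map f) X).hom := inferInstanceAs (QuasiSeparated (pullback.snd X.hom (D.map f)))
  haveI : LocallyOfFinitePresentation (Red.bc (D.map f) X).hom :=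
    inferInstanceAs (LocallyOfFinitePresentation (pullback.snd X.hom (D.map f)))
  haveI : QuasiCompact K.hom := by rw [← Over.w (pullback.fst (P.map v) (P.map v))]; infer_instance
  haveI : QuasiSeparated K.hom := by rw [← Over.w (pullback.fst (P.map v) (P.map v))]; infer_instance
  haveI : LocallyOfFinitePresentation K.hom := by rw [← Over.w (pullback.fst (P.map v) (P.map v))]; infer_instance
  haveI : QuasiCompact (P.obj R).hom := inferInstanceAs (QuasiCompact (pullback.snd R.hom (D.map f)))
  haveI : QuasiSeparated (P.obj R).hom := inferInstanceAs (QuasiSeparated (pullback.snd R.hom (D.map f)))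
  haveI : LocallyOfFinitePresentation (P.obj R).hom :=
    inferInstanceAs (LocallyOfFinitePresentation (pullback.snd R.hom (D.map f)))
  let Q := Over.pullback (c.π.app i)
  have hpi : IsPullback (Q.map (P.map s)) (Q.map (P.map t)) (Q.map (P.map v)) (Q.map (P.map v)) :=
    hp.of_iso (cmp (c.w f) R).symm (cmp (c.w f) X).symm (cmp (c.w f) X).symm (cmp (c.w f) Y).symm
      (by simp only [Iso.symm_hom]; rw [Iso.eq_inv_comp, ← Category.assoc, Iso.comp_inv_eq]; exact (cmp_naturality _ s).symm)
      (by simp only [Iso.symm_hom]; rw [Iso.eq_inv_comp, ← Category.assoc, Iso.comp_inv_eq]; exact (cmp_naturality _ t).symm)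
      (by simp only [Iso.symm_hom]; rw [Iso.eq_inv_comp, ← Category.assoc, Iso.comp_inv_eq]; exact (cmp_naturality _ v).symm)
      (by simp only [Iso.symm_hom]; rw [Iso.eq_inv_comp, ← Category.assoc, Iso.comp_inv_eq]; exact (cmp_naturality _ v).symm)
  have hκ : IsIso (Q.map κ) := by
    have hQ := (IsPullback.of_hasPullback (P.map v) (P.map v)).map Q
    have e : Q.map κ = (hpi.isoIsPullback _ _ hQ).hom := by
      refine hQ.hom_ext ?_ ?_ <;> simp [κ, ← Functor.map_comp]
    rw [e]
    infer_instance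
  obtain ⟨i', g, hg⟩ := Groth.L25.LimTorsor.exists_isIso D c hc i κ hκ
  have hgf : D.map g ≫ D.map f = D.map (g ≫ f) := (D.map_comp g f).symm
  refine ⟨i', g ≫ f, rep_of hgf s t ⟨_, (Over.pullback (D.map g)).map (P.map v), ?_, ?_, ?_, ?_⟩⟩
  · exact MorphismProperty.of_isPullback (isPullback_left_map _ _) hf1
  · exact MorphismProperty.of_isPullback (isPullback_left_map _ _) hf2
  · exact MorphismProperty.of_isPullback (isPullback_left_map _ _) inferInstance
  · refine ((IsPullback.of_hasPullback (P.map v) (P.map v)).map (Over.pullback (D.map g))).of_iso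
      (asIso ((Over.pullback (D.map g)).map κ)).symm (Iso.refl _) (Iso.refl _) (Iso.refl _) ?_ ?_ (by simp) (by simp)
    · simp only [Iso.refl_hom, Category.comp_id, Iso.symm_hom, asIso_inv]
      rw [IsIso.eq_inv_comp, ← Functor.map_comp, pullback.lift_fst]
    · simp only [Iso.refl_hom, Category.comp_id, Iso.symm_hom, asIso_inv]
      rw [IsIso.eq_inv_comp, ← Functor.map_comp, pullback.lift_snd]

include hc in
/-- effectivity descends to a stage -/
theorem rep_iff (j : I) {X R : Over (D.obj j)}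
    [LocallyOfFinitePresentation X.hom] [QuasiCompact X.hom] [QuasiSeparated X.hom]
    [LocallyOfFinitePresentation R.hom] [QuasiCompact R.hom] [QuasiSeparated R.hom] (s t : R ⟶ X) :
    Rep (c.π.app j) s t ↔ ∃ (i : I) (f : i ⟶ j), Rep (D.map f) s t := by
  refine ⟨fun ⟨Y, p, h1, h2, h3, hp⟩ => ?_, fun ⟨i, f, h⟩ => rep_comp (c.w f) s t h⟩
  haveI : ∀ {i i' : I} (f : i ⟶ i'), IsAffineHom (D.map f) := fun {i i'} f => inferInstance
  haveI : ∀ {B : Scheme.{u}} (a : B ⟶ D.obj j) (W : Over (D.obj j)) [QuasiCompact W.hom],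
      QuasiCompact (Red.bc a W).hom := fun a W _ => inferInstanceAs (QuasiCompact (pullback.snd W.hom a))
  haveI : ∀ {B : Scheme.{u}} (a : B ⟶ D.obj j) (W : Over (D.obj j)) [QuasiSeparated W.hom],
      QuasiSeparated (Red.bc a W).hom := fun a W _ => inferInstanceAs (QuasiSeparated (pullback.snd W.hom a))
  haveI : ∀ {B : Scheme.{u}} (a : B ⟶ D.obj j) (W : Over (D.obj j)) [LocallyOfFinitePresentation W.hom],
      LocallyOfFinitePresentation (Red.bc a W).hom :=
    fun a W _ => inferInstanceAs (LocallyOfFinitePresentation (pullback.snd W.hom a))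
  obtain ⟨y1, y2, y3⟩ := qcqsfp_of_quotient hp
  obtain ⟨i₀, Y₀, v₀, g, hf1, hf2, hf3, hpb⟩ := Groth.L05.DescendFP.exists_stage hc Y.hom
  obtain ⟨m, a₀, b₀⟩ : ∃ (m : I) (_ : m ⟶ i₀), Nonempty (m ⟶ j) :=
    ⟨IsCofiltered.min i₀ j, IsCofiltered.minToLeft _ _, ⟨IsCofiltered.minToRight _ _⟩⟩
  obtain ⟨b₀⟩ := b₀
  let Ym : Over (D.obj m) := Red.bc (D.map a₀) (Over.mk v₀)
  haveI : LocallyOfFinitePresentation Ym.hom := inferInstanceAs (LocallyOfFinitePresentation (pullback.snd v₀ (D.map a₀)))
  haveI : QuasiCompact Ym.hom := inferInstanceAs (QuasiCompact (pullback.snd v₀ (D.map a₀)))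
  haveI : QuasiSeparated Ym.hom := inferInstanceAs (QuasiSeparated (pullback.snd v₀ (D.map a₀)))
  let eY : Y ≅ Red.bc (c.π.app m) Ym :=
    (Over.isoMk hpb.isoPullback hpb.isoPullback_hom_snd : Y ≅ Red.bc (c.π.app i₀) (Over.mk v₀)) ≪≫
      (cmp (c.w a₀) (Over.mk v₀)).symm
  obtain ⟨i, g₁, v, hv⟩ := exists_hom D c hc m (Red.bc (D.map b₀) X)
    ((cmp (c.w b₀) X).hom ≫ p ≫ eY.hom : Red.bc (c.π.app m) (Red.bc (D.map b₀) X) ⟶ Red.bc (c.π.app m) Ym)
  let P₁ := Over.pullback (D.map g₁)
  let P₀ := Over.pullback (D.map b₀)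
  let Q := Over.pullback (c.π.app i)
  haveI : ∀ {B : Scheme.{u}} (a : B ⟶ D.obj m) (W : Over (D.obj m)) [QuasiCompact W.hom],
      QuasiCompact (Red.bc a W).hom := fun a W _ => inferInstanceAs (QuasiCompact (pullback.snd W.hom a))
  haveI : ∀ {B : Scheme.{u}} (a : B ⟶ D.obj m) (W : Over (D.obj m)) [QuasiSeparated W.hom],
      QuasiSeparated (Red.bc a W).hom := fun a W _ => inferInstanceAs (QuasiSeparated (pullback.snd W.hom a))
  haveI : ∀ {B : Scheme.{u}} (a : B ⟶ D.obj m) (W : Over (D.obj m)) [LocallyOfFinitePresentation W.hom],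
      LocallyOfFinitePresentation (Red.bc a W).hom :=
    fun a W _ => inferInstanceAs (LocallyOfFinitePresentation (pullback.snd W.hom a))
  haveI : ∀ {U V : Over c.pt} (e : U ≅ V), IsIso e.hom.left := fun e =>
    inferInstanceAs (IsIso ((Over.forget _).map e.hom))
  haveI : ∀ {U V : Over c.pt} (e : U ≅ V), IsIso e.inv.left := fun e =>
    inferInstanceAs (IsIso ((Over.forget _).map e.inv))
  have hmap : IsPullback (Q.map (P₁.map (P₀.map s))) (Q.map (P₁.map (P₀.map t))) (Q.map v) (Q.map v) := by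
    rw [hv]
    refine hp.of_iso ((cmp (c.w b₀) R).symm ≪≫ (cmp (c.w g₁) (Red.bc (D.map b₀) R)).symm)
      ((cmp (c.w b₀) X).symm ≪≫ (cmp (c.w g₁) (Red.bc (D.map b₀) X)).symm)
      ((cmp (c.w b₀) X).symm ≪≫ (cmp (c.w g₁) (Red.bc (D.map b₀) X)).symm)
      (eY ≪≫ (cmp (c.w g₁) Ym).symm) ?_ ?_ ?_ ?_
    · rw [← cancel_mono (cmp (c.w g₁) (Red.bc (D.map b₀) X)).hom, ← cancel_mono (cmp (c.w b₀) X).hom]
      simp only [Iso.trans_hom, Iso.symm_hom, Category.assoc, Iso.inv_hom_id, Iso.inv_hom_id_assoc,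
        Category.comp_id, P₁, P₀, Q]
      rw [reassoc_of% (cmp_naturality (c.w g₁)), cmp_naturality, Iso.inv_hom_id_assoc, Iso.inv_hom_id_assoc]
    · rw [← cancel_mono (cmp (c.w g₁) (Red.bc (D.map b₀) X)).hom, ← cancel_mono (cmp (c.w b₀) X).hom]
      simp only [Iso.trans_hom, Iso.symm_hom, Category.assoc, Iso.inv_hom_id, Iso.inv_hom_id_assoc,
        Category.comp_id, P₁, P₀, Q]
      rw [reassoc_of% (cmp_naturality (c.w g₁)), cmp_naturality, Iso.inv_hom_id_assoc, Iso.inv_hom_id_assoc]
    · simp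
    · simp
  obtain ⟨i', f', hf'⟩ := exists_rep_of_map D c hc i (P₁.map (P₀.map s)) (P₁.map (P₀.map t)) v
    (by rw [hv]; simp only [Over.comp_left]; infer_instance)
    (by rw [hv]; simp only [Over.comp_left]; infer_instance) hmap
  exact ⟨i', (f' ≫ g₁) ≫ b₀, rep_of (D.map_comp _ _).symm s t (rep_of (D.map_comp f' g₁).symm _ _ hf')⟩

end Groth.L25.LimQuot
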