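import Groth.Agent.L25.LimQuot

/-!
# Representability of quotients of group schemes over a limit
-/

set_option autoImplicit false
set_option backward.isDefEq.respectTransparency.types false

universe u

open CategoryTheory CategoryTheory.Limits MonoidalCategory CartesianMonoidalCategory MonObj AlgebraicGeometry
open Groth.L25.LimHom Groth.L25.LimQuot

noncomputable section

namespace Groth.L25.LimQuot

theorem rep_iff_grp {S T : Scheme.{u}} (a : T ⟶ S) {G H : Over S} [GrpObj G] (u : H ⟶ G) :
    Rep a ((G ◁ u) ≫ μ[G]) (fst G H) ↔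
      ∃ (Q : Over T) (p : Red.bc a G ⟶ Q), Flat p.left ∧ Surjective p.left ∧ LocallyOfFinitePresentation p.left ∧
        IsPullback ((Red.bc a G ◁ (Over.pullback a).map u) ≫ μ[Red.bc a G]) (fst (Red.bc a G) (Red.bc a H)) p p := by
  let P := Over.pullback a
  have e₁ : Functor.LaxMonoidal.μ P G H ≫ P.map ((G ◁ u) ≫ μ[G]) = (P.obj G ◁ P.map u) ≫ μ[P.obj G] := by
    show _ = (P.obj G ◁ P.map u) ≫ Functor.LaxMonoidal.μ P G G ≫ P.map μ[G]
    rw [Functor.LaxMonoidal.μ_natural_right_assoc, P.map_comp]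
  have e₂ : Functor.LaxMonoidal.μ P G H ≫ P.map (fst G H) = fst (P.obj G) (P.obj H) :=
    Functor.Monoidal.μ_fst P G H
  refine exists_congr fun Q => exists_congr fun p => and_congr Iff.rfl (and_congr Iff.rfl (and_congr Iff.rfl ?_))
  refine ⟨fun h => h.of_iso (Functor.Monoidal.μIso P G H).symm (Iso.refl _) (Iso.refl _) (Iso.refl _) ?_ ?_
    (by simp) (by simp), fun h => h.of_iso (Functor.Monoidal.μIso P G H) (Iso.refl _) (Iso.refl _) (Iso.refl _) ?_ ?_
    (by simp) (by simp)⟩
  · simp only [Iso.refl_hom, Category.comp_id, Iso.symm_hom]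
    rw [Iso.eq_inv_comp]
    exact e₁
  · simp only [Iso.refl_hom, Category.comp_id, Iso.symm_hom]
    rw [Iso.eq_inv_comp]
    exact e₂
  · simp only [Iso.refl_hom, Category.comp_id]
    exact e₁.symm
  · simp only [Iso.refl_hom, Category.comp_id]
    exact e₂.symm

end Groth.L25.LimQuot
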