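import Groth.Prelude.Def_AlgGrp
import Groth.Agent.L25.LimGrp

/-!
# Normal and central monomorphisms of group schemes over a limit
-/

set_option autoImplicit false
set_option backward.isDefEq.respectTransparency.types false
set_option linter.style.haveILetI false
set_option linter.unusedSectionVars false

universe u v v' w w'

open CategoryTheory CategoryTheory.Limits MonoidalCategory CartesianMonoidalCategory MonObj AlgebraicGeometry

noncomputable section

namespace Groth.L25.LimSub

section General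

variable {C : Type w} [Category.{v} C] [CartesianMonoidalCategory C] {D : Type w'} [Category.{v'} D]
  [CartesianMonoidalCategory D] (P : C ⥤ D) [P.Monoidal] {G H : C} [GrpObj G] (u : H ⟶ G)

/-- universal conjugate -/
def conj : G ⊗ H ⟶ G := fst G H * (snd G H ≫ u) * (fst G H)⁻¹

/-- universal product -/
def prodL : G ⊗ H ⟶ G := fst G H * (snd G H ≫ u)

/-- universal product in the other order -/
def prodR : G ⊗ H ⟶ G := (snd G H ≫ u) * fst G H

theorem μ_map_conj : letI := Functor.grpObjObj (F := P) (G := G)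
    Functor.LaxMonoidal.μ P G H ≫ P.map (conj u) = conj (P.map u) := by
  letI := Functor.grpObjObj (F := P) (G := G)
  have hi : P.map (fst G H)⁻¹ = (P.map (fst G H))⁻¹ := map_inv (Functor.homMonoidHom P) (fst G H)
  rw [conj, conj, Functor.map_mul, Functor.map_mul, hi, MonObj.comp_mul, MonObj.comp_mul, GrpObj.comp_inv,
    Functor.Monoidal.μ_fst, P.map_comp, Functor.Monoidal.μ_snd_assoc]

theorem μ_map_prodL : letI := Functor.grpObjObj (F := P) (G := G)
    Functor.LaxMonoidal.μ P G H ≫ P.map (prodL u) = prodL (P.map u) := by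
  letI := Functor.grpObjObj (F := P) (G := G)
  rw [prodL, prodL, Functor.map_mul, MonObj.comp_mul, Functor.Monoidal.μ_fst, P.map_comp,
    Functor.Monoidal.μ_snd_assoc]

theorem μ_map_prodR : letI := Functor.grpObjObj (F := P) (G := G)
    Functor.LaxMonoidal.μ P G H ≫ P.map (prodR u) = prodR (P.map u) := by
  letI := Functor.grpObjObj (F := P) (G := G)
  rw [prodR, prodR, Functor.map_mul, MonObj.comp_mul, Functor.Monoidal.μ_fst, P.map_comp,
    Functor.Monoidal.μ_snd_assoc]

/-- centrality after applying the functor is an equation of mapped morphisms -/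
theorem central_iff : letI := Functor.grpObjObj (F := P) (G := G)
    (∀ (T : D) (g : T ⟶ P.obj G) (n : T ⟶ P.obj H), g * (n ≫ P.map u) = (n ≫ P.map u) * g) ↔
      P.map (prodL u) = P.map (prodR u) := by
  letI := Functor.grpObjObj (F := P) (G := G)
  rw [← cancel_epi (Functor.LaxMonoidal.μ P G H), μ_map_prodL, μ_map_prodR]
  refine ⟨fun h => h _ (fst _ _) (snd _ _), fun h T g n => ?_⟩
  have := congrArg (fun z => CartesianMonoidalCategory.lift g n ≫ z) h
  simpa only [prodL, prodR, MonObj.comp_mul, lift_fst, lift_snd_assoc] using this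

omit [GrpObj G] [P.Monoidal] in
/-- a monomorphism after applying a pullback preserving functor is an equation of mapped morphisms -/
theorem mono_map_iff {K : C} (p q : K ⟶ H) (hpq : IsPullback p q u u) [PreservesLimit (cospan u u) P] :
    Mono (P.map u) ↔ P.map p = P.map q := by
  refine ⟨fun _ => ?_, fun h => ⟨fun {T} a b e => ?_⟩⟩
  · rw [← cancel_mono (P.map u), ← P.map_comp, ← P.map_comp, hpq.w]
  · have hP := hpq.map P
    exact (hP.lift_fst a b e).symm.trans ((congrArg (hP.lift a b e ≫ ·) h).trans (hP.lift_snd a b e))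

end General

variable {S T : Scheme.{u}} (a : T ⟶ S) {G H : Over S} [GrpObj G] [GrpObj H] (u : H ⟶ G)

/-- normality after base change is a factorization of mapped morphisms -/
theorem isNormalHom_iff :
    AlgGrp.IsNormalHom ((Over.pullback a).map u) ↔
      ∃ w : Red.bc a (G ⊗ H) ⟶ Red.bc a H, w ≫ (Over.pullback a).map u = (Over.pullback a).map (conj u) := by
  let P := Over.pullback a
  have key : Functor.LaxMonoidal.μ P G H ≫ P.map (conj u) = conj (P.map u) := μ_map_conj P u
  constructor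
  · intro h
    obtain ⟨n', hn⟩ := h _ (fst (Red.bc a G) (Red.bc a H)) (snd (Red.bc a G) (Red.bc a H))
    refine ⟨(Functor.Monoidal.μIso P G H).inv ≫ n', ?_⟩
    rw [Category.assoc, Iso.inv_comp_eq]
    exact hn.symm.trans key.symm
  · rintro ⟨w, hw⟩ X g n
    refine ⟨CartesianMonoidalCategory.lift g n ≫ Functor.LaxMonoidal.μ P G H ≫ w, ?_⟩
    have hw' : Functor.LaxMonoidal.μ P G H ≫ w ≫ P.map u = conj (P.map u) :=
      (congrArg (fun z => Functor.LaxMonoidal.μ P G H ≫ z) hw).trans key
    show g * (n ≫ P.map u) * g⁻¹ = _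
    simp only [Category.assoc]
    rw [hw', conj, MonObj.comp_mul, MonObj.comp_mul, GrpObj.comp_inv, lift_fst, lift_snd_assoc]

variable {A B C : Scheme.{u}} {b : C ⟶ B} {a' : B ⟶ A} {h : C ⟶ A}

open Groth.L25.LimHom in
theorem eq_comp (hc : b ≫ a' = h) {X Y : Over A} (x y : X ⟶ Y)
    (e : (Over.pullback a').map x = (Over.pullback a').map y) : (Over.pullback h).map x = (Over.pullback h).map y := by
  rw [← cancel_epi (cmp hc X).hom, ← cmp_naturality, ← cmp_naturality, e]

open Groth.L25.LimHom in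
theorem exists_comp (hc : b ≫ a' = h) {W X Y : Over A} (k : W ⟶ Y) (l : X ⟶ Y)
    (w : Red.bc a' W ⟶ Red.bc a' X) (e : w ≫ (Over.pullback a').map l = (Over.pullback a').map k) :
    ∃ w' : Red.bc h W ⟶ Red.bc h X, w' ≫ (Over.pullback h).map l = (Over.pullback h).map k := by
  refine ⟨(cmp hc W).inv ≫ (Over.pullback b).map w ≫ (cmp hc X).hom, ?_⟩
  rw [Category.assoc, Category.assoc, ← cmp_naturality hc l, ← Functor.map_comp_assoc, e, cmp_naturality,
    Iso.inv_hom_id_assoc]

variable {I : Type u} [SmallCategory I] [IsCofiltered I] (D : I ⥤ Scheme.{u}) (c : Cone D) (hc : IsLimit c)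
  [∀ (i i' : I) (f : i ⟶ i'), IsAffineHom (D.map f)] [∀ i, CompactSpace (D.obj i)]
  [∀ i, QuasiSeparatedSpace (D.obj i)]

open Groth.L25.LimHom

include hc in
/-- a factorization over the limit exists at a stage -/
theorem exists_factor (j : I) {W X Y : Over (D.obj j)} [QuasiCompact W.hom] [QuasiSeparated W.hom]
    [LocallyOfFinitePresentation X.hom] [LocallyOfFiniteType Y.hom] (k : W ⟶ Y) (l : X ⟶ Y)
    (w : Red.bc (c.π.app j) W ⟶ Red.bc (c.π.app j) X)
    (e : w ≫ (Over.pullback (c.π.app j)).map l = (Over.pullback (c.π.app j)).map k) :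
    ∃ (i : I) (f : i ⟶ j) (v : Red.bc (D.map f) W ⟶ Red.bc (D.map f) X),
      v ≫ (Over.pullback (D.map f)).map l = (Over.pullback (D.map f)).map k := by
  obtain ⟨i, f, v, hv⟩ := exists_hom D c hc j W w
  haveI : QuasiCompact (Red.bc (D.map f) W).hom := inferInstanceAs (QuasiCompact (pullback.snd W.hom (D.map f)))
  haveI : LocallyOfFiniteType (Red.bc (D.map f) Y).hom :=
    inferInstanceAs (LocallyOfFiniteType (pullback.snd Y.hom (D.map f)))
  obtain ⟨i', g, hg⟩ := Groth.L25.LimHom.exists_eq D c hc i _ (v ≫ (Over.pullback (D.map f)).map l) ((Over.pullback (D.map f)).map k) (by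
    rw [Functor.map_comp, hv, ← cancel_mono (cmp (c.w f) Y).hom]
    simp only [Category.assoc]
    rw [cmp_naturality, cmp_naturality, Iso.inv_hom_id_assoc, e])
  have hgf : D.map g ≫ D.map f = D.map (g ≫ f) := (D.map_comp g f).symm
  refine ⟨i', g ≫ f, (cmp hgf W).inv ≫ (Over.pullback (D.map g)).map v ≫ (cmp hgf X).hom, ?_⟩
  rw [Category.assoc, Category.assoc, ← cmp_naturality hgf l, ← Functor.map_comp_assoc, hg, cmp_naturality,
    Iso.inv_hom_id_assoc]

include hc in
/-- monomorphisms descend -/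
theorem exists_mono (j : I) {G H : Over (D.obj j)} [QuasiCompact H.hom] [QuasiSeparated G.hom]
    [LocallyOfFiniteType H.hom] (u : H ⟶ G) (h : Mono ((Over.pullback (c.π.app j)).map u)) :
    ∃ (i : I) (f : i ⟶ j), Mono ((Over.pullback (D.map f)).map u) := by
  have hpb : IsPullback (pullback.fst u u) (pullback.snd u u) u u := IsPullback.of_hasPullback u u
  haveI : QuasiCompact u.left := by
    haveI : QuasiCompact (u.left ≫ G.hom) := by rw [Over.w u]; infer_instance
    exact QuasiCompact.of_comp u.left G.hom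
  haveI : QuasiCompact (pullback u u).hom := by
    have hl : IsPullback (pullback.fst u u).left (pullback.snd u u).left u.left u.left := hpb.map (Over.forget _)
    haveI : QuasiCompact (pullback.fst u u).left := MorphismProperty.of_isPullback hl.flip ‹QuasiCompact u.left›
    rw [← Over.w (pullback.fst u u)]
    infer_instance
  obtain ⟨i, f, e⟩ := Groth.L25.LimHom.exists_eq D c hc j _ _ _ ((mono_map_iff (Over.pullback (c.π.app j)) u _ _ hpb).1 h)
  exact ⟨i, f, (mono_map_iff (Over.pullback (D.map f)) u _ _ hpb).2 e⟩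

include hc in
/-- the criterion for normal and central monomorphisms -/
theorem mono_normal_central_iff (j : I) {G H : Over (D.obj j)} [GrpObj G] [GrpObj H]
    [LocallyOfFinitePresentation G.hom] [QuasiCompact G.hom] [QuasiSeparated G.hom]
    [LocallyOfFinitePresentation H.hom] [QuasiCompact H.hom] [QuasiSeparated H.hom] (u : H ⟶ G) :
    ((Mono ((Over.pullback (c.π.app j)).map u) ∧ AlgGrp.IsNormalHom ((Over.pullback (c.π.app j)).map u)) ↔
      ∃ (i : I) (f : i ⟶ j), Mono ((Over.pullback (D.map f)).map u) ∧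
        AlgGrp.IsNormalHom ((Over.pullback (D.map f)).map u)) ∧
    ((Mono ((Over.pullback (c.π.app j)).map u) ∧ ∀ (T : Over c.pt) (g : T ⟶ Red.bc (c.π.app j) G)
        (n : T ⟶ Red.bc (c.π.app j) H), g * (n ≫ (Over.pullback (c.π.app j)).map u) =
          (n ≫ (Over.pullback (c.π.app j)).map u) * g) ↔
      ∃ (i : I) (f : i ⟶ j), Mono ((Over.pullback (D.map f)).map u) ∧ ∀ (T : Over (D.obj i))
        (g : T ⟶ Red.bc (D.map f) G) (n : T ⟶ Red.bc (D.map f) H), g * (n ≫ (Over.pullback (D.map f)).map u) =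
          (n ≫ (Over.pullback (D.map f)).map u) * g) := by
  have hpb : IsPullback (pullback.fst u u) (pullback.snd u u) u u := IsPullback.of_hasPullback u u
  haveI : QuasiCompact (G ⊗ H).hom := by
    show QuasiCompact (pullback.fst _ _ ≫ G.hom)
    infer_instance
  haveI : QuasiSeparated (G ⊗ H).hom := by
    show QuasiSeparated (pullback.fst _ _ ≫ G.hom)
    infer_instance
  have up : ∀ {i : I} (f : i ⟶ j), Mono ((Over.pullback (D.map f)).map u) →
      Mono ((Over.pullback (c.π.app j)).map u) := fun {i} f hf =>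
    (mono_map_iff _ u _ _ hpb).2 (eq_comp (c.w f) _ _ ((mono_map_iff _ u _ _ hpb).1 hf))
  refine ⟨⟨fun ⟨hm, hn⟩ => ?_, fun ⟨i, f, hm, hn⟩ => ⟨up f hm, ?_⟩⟩,
    ⟨fun ⟨hm, hn⟩ => ?_, fun ⟨i, f, hm, hn⟩ => ⟨up f hm, ?_⟩⟩⟩
  · obtain ⟨i₁, f₁, h₁⟩ := exists_mono D c hc j u hm
    obtain ⟨w, hw⟩ := (isNormalHom_iff _ u).1 hn
    obtain ⟨i₂, f₂, v, hv⟩ := exists_factor D c hc j (conj u) u w hw
    obtain ⟨i, a₁, a₂, h⟩ := IsCofiltered.cospan f₁ f₂
    refine ⟨i, a₁ ≫ f₁, (mono_map_iff _ u _ _ hpb).2 (eq_after D a₁ rfl _ _ ((mono_map_iff _ u _ _ hpb).1 h₁)),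
      (isNormalHom_iff _ u).2 ?_⟩
    exact exists_comp (show D.map a₂ ≫ D.map f₂ = D.map (a₁ ≫ f₁) by rw [← D.map_comp, h]) (conj u) u v hv
  · obtain ⟨w, hw⟩ := (isNormalHom_iff _ u).1 hn
    exact (isNormalHom_iff _ u).2 (exists_comp (c.w f) (conj u) u w hw)
  · obtain ⟨i₁, f₁, h₁⟩ := exists_mono D c hc j u hm
    obtain ⟨i₂, f₂, h₂⟩ := Groth.L25.LimHom.exists_eq D c hc j _ _ _ ((central_iff (Over.pullback (c.π.app j)) u).1 hn)
    obtain ⟨i, a₁, a₂, h⟩ := IsCofiltered.cospan f₁ f₂
    exact ⟨i, a₁ ≫ f₁, (mono_map_iff _ u _ _ hpb).2 (eq_after D a₁ rfl _ _ ((mono_map_iff _ u _ _ hpb).1 h₁)),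
      (central_iff (Over.pullback (D.map (a₁ ≫ f₁))) u).2 (eq_after D a₂ h.symm _ _ h₂)⟩
  · exact (central_iff (Over.pullback (c.π.app j)) u).2
      (eq_comp (c.w f) _ _ ((central_iff (Over.pullback (D.map f)) u).1 hn))

end Groth.L25.LimSub
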