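import Groth.Agent.L25.Bridge.FlatIso
import Mathlib.AlgebraicGeometry.Morphisms.Affine
import Mathlib.AlgebraicGeometry.Morphisms.ClosedImmersion

/-!
# A morphism from a flat scheme which is an isomorphism modulo a nilpotent ideal is an isomorphism
-/

set_option autoImplicit false
universe u

open CategoryTheory CategoryTheory.Limits MonoidalCategory CartesianMonoidalCategory
open AlgebraicGeometry

set_option backward.isDefEq.respectTransparency.types false
set_option linter.style.haveILetI false

noncomputable section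

namespace Groth.L25.NilIso

open Cocycle

variable {R : Type u} [CommRing R] {J : Ideal R}

theorem surjective_Z (hJ : IsNilpotent J) : Surjective (Z J).hom := by
  refine ⟨fun (q : PrimeSpectrum R) => ?_⟩
  have h : q ∈ Set.range (PrimeSpectrum.comap (Ideal.Quotient.mk J)) := by
    rw [range_comap_of_surjective _ _ Ideal.Quotient.mk_surjective]
    intro a ha
    rw [SetLike.mem_coe, Ideal.mk_ker] at ha
    obtain ⟨n, hn⟩ := hJ
    have h1 : a ^ n ∈ J ^ n := Ideal.pow_mem_pow ha n
    rw [hn] at h1
    exact q.isPrime.mem_of_pow_mem n (by rw [Ideal.mem_bot.1 h1]; exact zero_mem _)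
  exact h

/-- a morphism from a flat scheme which is bijective on points over a nilpotent thickening is an
isomorphism -/
theorem isIso_of_points {H T : Over (Spec (CommRingCat.of R))} [Flat H.hom] (hJ : IsNilpotent J)
    (ψ : H ⟶ T) (hex : ∀ (Y : Over (Spec (CommRingCat.of R))) (_ : Y ⟶ Z J) (b : Y ⟶ T), ∃ a, a ≫ ψ = b)
    (huniq : ∀ (Y : Over (Spec (CommRingCat.of R))) (_ : Y ⟶ Z J) (a a' : Y ⟶ H),
      a ≫ ψ = a' ≫ ψ → a = a') : IsIso ψ := by
  haveI := surjective_Z hJ
  haveI : IsClosedImmersion (Z J).hom := IsClosedImmersion.spec_of_surjective _ Ideal.Quotient.mk_surjective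
  haveI : IsClosedImmersion (fst H (Z J)).left := inferInstanceAs (IsClosedImmersion (pullback.fst H.hom (Z J).hom))
  haveI : IsClosedImmersion (fst T (Z J)).left := inferInstanceAs (IsClosedImmersion (pullback.fst T.hom (Z J).hom))
  haveI : Surjective (fst H (Z J)).left := inferInstanceAs (Surjective (pullback.fst H.hom (Z J).hom))
  haveI : Surjective (fst T (Z J)).left := inferInstanceAs (Surjective (pullback.fst T.hom (Z J).hom))
  obtain ⟨a, ha⟩ := hex _ (snd T (Z J)) (fst T (Z J))
  let b : H ⊗ Z J ⟶ T ⊗ Z J := lift (fst H (Z J) ≫ ψ) (snd H (Z J))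
  have hba : b ≫ a = fst H (Z J) := huniq _ (snd H (Z J)) _ _ (by rw [Category.assoc, ha, lift_fst])
  let eT : ↥(T ⊗ Z J).left ≃ₜ ↥T.left := (fst T (Z J)).left.isClosedEmbedding.isEmbedding.toHomeomorphOfSurjective
    (fst T (Z J)).left.surjective
  have heT : ∀ x, eT x = (fst T (Z J)).left x := fun x => rfl
  let g : ↥T.left → ↥H.left := fun t => a.left (eT.symm t)
  have hg : Continuous g := a.left.continuous.comp eT.symm.continuous
  have h1 : ∀ t, ψ.left (g t) = t := fun t => by
    show (a.left ≫ ψ.left) (eT.symm t) = t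
    rw [← Over.comp_left, ha, ← heT, Homeomorph.apply_symm_apply]
  have h2 : ∀ x, g (ψ.left x) = x := fun x => by
    obtain ⟨q, rfl⟩ := (fst H (Z J)).left.surjective x
    have e : eT.symm (ψ.left ((fst H (Z J)).left q)) = b.left q := by
      rw [Homeomorph.symm_apply_eq, heT]
      show _ = (b.left ≫ (fst T (Z J)).left) q
      rw [← Over.comp_left, lift_fst]
      rfl
    show a.left (eT.symm _) = _
    rw [e]
    show (b.left ≫ a.left) q = _
    rw [← Over.comp_left, hba]
  let eψ : ↥H.left ≃ₜ ↥T.left :=
    { toFun := ψ.left, invFun := g, left_inv := h2, right_inv := h1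
      continuous_toFun := ψ.left.continuous, continuous_invFun := hg }
  haveI : IsAffineHom ψ.left := isAffineHom_of_isInducing ψ.left
    (show Topology.IsInducing eψ from eψ.isInducing) (show IsClosed (Set.range eψ) from by simp)
  haveI : IsIso ψ.left := by
    refine (IsZariskiLocalAtTarget.iff_of_openCover (P := MorphismProperty.isomorphisms Scheme.{u}) T.left.affineCover).2
      fun i => ?_
    let j := T.left.affineCover.f i
    let T' : Over (Spec (CommRingCat.of R)) := Over.mk (j ≫ T.hom)
    let H' : Over (Spec (CommRingCat.of R)) := Over.mk (pullback.fst ψ.left j ≫ H.hom)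
    let ψ' : H' ⟶ T' := Over.homMk (pullback.snd ψ.left j) (by
      show pullback.snd ψ.left j ≫ j ≫ T.hom = pullback.fst ψ.left j ≫ H.hom
      rw [← pullback.condition_assoc, Over.w ψ])
    let ιH : H' ⟶ H := Over.homMk (pullback.fst ψ.left j) rfl
    let ιT : T' ⟶ T := Over.homMk j rfl
    have hsq : ψ' ≫ ιT = ιH ≫ ψ := Over.OverMorphism.ext pullback.condition.symm
    haveI : IsAffine T'.left := inferInstanceAs (IsAffine (T.left.affineCover.X i))
    haveI : IsAffineHom (pullback.snd ψ.left j) := MorphismProperty.pullback_snd _ _ ‹IsAffineHom ψ.left›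
    haveI : IsAffine H'.left := isAffine_of_isAffineHom (pullback.snd ψ.left j)
    haveI : Flat H'.hom := inferInstanceAs (Flat (pullback.fst ψ.left j ≫ H.hom))
    haveI := Bridge.isIso_of_points (H := H') (T := T') hJ ψ' (fun Y q y => by
      obtain ⟨x, hx⟩ := hex Y q (y ≫ ιT)
      refine ⟨Over.homMk (pullback.lift x.left y.left (congrArg (fun m => m.left) hx)) ?_, ?_⟩
      · show pullback.lift _ _ _ ≫ pullback.fst ψ.left j ≫ H.hom = Y.hom
        rw [pullback.lift_fst_assoc, Over.w]
      · exact Over.OverMorphism.ext (pullback.lift_snd _ _ _))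
      (fun Y q x x' hx => by
        refine Over.OverMorphism.ext (pullback.hom_ext ?_ (congrArg (fun m => m.left) hx))
        have := huniq Y q (x ≫ ιH) (x' ≫ ιH) (by
          rw [Category.assoc, Category.assoc, ← hsq, reassoc_of% hx])
        exact congrArg (fun m => m.left) this)
    exact ((Over.forget _).mapIso (asIso ψ')).isIso_hom
  haveI : IsIso ((Over.forget _).map ψ) := ‹IsIso ψ.left›
  exact isIso_of_reflects_iso ψ (Over.forget _)

end Groth.L25.NilIso
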