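import Groth.Prelude.Def_Red
import Groth.Agent.L24.Alg.SourceFppf
import Mathlib.RingTheory.Jacobson.Artinian
import Mathlib.AlgebraicGeometry.ResidueField

/-!
# The quotient of a group by its reduced subgroup is a local finite scheme
-/

set_option autoImplicit false
set_option backward.isDefEq.respectTransparency.types false
set_option linter.style.haveILetI false

universe u

open CategoryTheory CategoryTheory.Limits MonoidalCategory CartesianMonoidalCategory MonObj AlgebraicGeometry

noncomputable section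

namespace Groth.L25.RedQuot

variable {k : Type u} [Field k]

/-- the residue field at a rational point is the base field -/
theorem isIso_residueFieldMap {X : Scheme.{u}} (f : X ⟶ Spec (CommRingCat.of k)) (s : Spec (CommRingCat.of k) ⟶ X)
    (hs : s ≫ f = 𝟙 _) (y : Spec (CommRingCat.of k)) : IsIso (f.residueFieldMap (s y)) := by
  have h := Scheme.residueFieldMap_comp s f y
  haveI hiso : IsIso ((s ≫ f).residueFieldMap y) := by
    rw [hs, Scheme.residueFieldMap_id]; exact IsIso.id _
  rw [h] at hiso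
  rw [ConcreteCategory.isIso_iff_bijective] at hiso ⊢
  refine ⟨RingHom.injective _, fun z => ?_⟩
  obtain ⟨a, ha⟩ := hiso.2 ((s.residueFieldMap y).hom z)
  exact ⟨a, (s.residueFieldMap y).hom.injective ha⟩

theorem result {F G : Over (Spec (CommRingCat.of k))} [GrpObj G] [LocallyOfFiniteType G.hom]
    (u : F ⟶ G) [Surjective u.left]
    {X : Over (Spec (CommRingCat.of k))} (p : G ⟶ X) [Flat p.left] [Surjective p.left] [LocallyOfFinitePresentation p.left]
    (hp : IsPullback ((u ▷ G) ≫ μ[G]) (snd F G) p p) :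
    IsAffine X.left ∧ (∃ x : X.left, (Set.univ : Set X.left) = {x} ∧ IsIso (X.hom.residueFieldMap x)) ∧
      ((Scheme.ΓSpecIso (CommRingCat.of k)).inv ≫ X.hom.appTop).hom.Finite := by
  let s : Spec (CommRingCat.of k) ⟶ X.left := (η[G] ≫ p).left
  have hs : s ≫ X.hom = 𝟙 _ := Over.w (η[G] ≫ p)
  have hu : u ≫ p = toUnit F ≫ η[G] ≫ p := by
    have h := CartesianMonoidalCategory.lift (𝟙 F) (toUnit F ≫ η[G]) ≫= hp.w
    rw [lift_snd_assoc, ← Category.assoc _ (_ ≫ μ[G]) p, ← Category.assoc _ (u ▷ G) μ[G], lift_whiskerRight,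
      Category.id_comp, ← Hom.mul_def, ← Hom.one_def, _root_.mul_one] at h
    rw [h, Hom.one_def, Category.assoc]
  let y : Spec (CommRingCat.of k) := IsLocalRing.closedPoint k
  haveI : Subsingleton (Spec (CommRingCat.of k)) := inferInstanceAs (Subsingleton (PrimeSpectrum k))
  have hx : ∀ x : X.left, x = s y := fun x => by
    obtain ⟨g, rfl⟩ := p.left.surjective x
    obtain ⟨f, rfl⟩ := u.left.surjective g
    rw [← Scheme.Hom.comp_apply, ← Over.comp_left, hu, Over.comp_left, Scheme.Hom.comp_apply]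
    exact congrArg s (Subsingleton.elim (α := Spec (CommRingCat.of k)) _ _)
  haveI : Subsingleton X.left := ⟨fun a b => (hx a).trans (hx b).symm⟩
  haveI haff : IsAffine X.left := by
    obtain ⟨U, hU, hsU, -⟩ := exists_isAffineOpen_mem_and_subset (X := X.left) (x := s y) (U := ⊤) trivial
    have hUt : U = ⊤ := eq_top_iff.2 fun z _ => hx z ▸ hsU
    subst hUt
    haveI : IsAffine ((⊤ : X.left.Opens) : Scheme.{u}) := hU
    exact IsAffine.of_isIso X.left.topIso.inv
  refine ⟨haff, ⟨s y, Set.eq_singleton_iff_unique_mem.2 ⟨trivial, fun z _ => hx z⟩, isIso_residueFieldMap X.hom s hs y⟩, ?_⟩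
  haveI : LocallyOfFiniteType X.hom :=
    Groth.L24.Alg.locallyOfFiniteType_of_fppf_comp p.left X.hom (by rw [Over.w p]; infer_instance)
  let φ := (Scheme.ΓSpecIso (CommRingCat.of k)).inv ≫ X.hom.appTop
  have hft : φ.hom.FiniteType := by
    have h1 : X.hom.appTop.hom.FiniteType :=
      (HasRingHomProperty.iff_of_isAffine (P := @LocallyOfFiniteType)).1 inferInstance
    exact h1.comp (RingHom.FiniteType.of_surjective _
      (ConcreteCategory.bijective_of_isIso (Scheme.ΓSpecIso (CommRingCat.of k)).inv).surjective)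
  letI := φ.hom.toAlgebra
  haveI : Algebra.FiniteType k Γ(X.left, ⊤) := hft
  haveI : IsNoetherianRing Γ(X.left, ⊤) := Algebra.FiniteType.isNoetherianRing k _
  haveI : Subsingleton (PrimeSpectrum Γ(X.left, ⊤)) :=
    X.left.isoSpec.inv.homeomorph.injective.subsingleton
  haveI : Ring.KrullDimLE 0 Γ(X.left, ⊤) :=
    (Ring.krullDimLE_zero_iff).2 fun I hI => by
      obtain ⟨M, hM, hIM⟩ := I.exists_le_maximal hI.ne_top
      have e := congrArg PrimeSpectrum.asIdeal (Subsingleton.elim (⟨I, hI⟩ : PrimeSpectrum Γ(X.left, ⊤)) ⟨M, hM.isPrime⟩)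
      exact (show I = M from e) ▸ hM
  haveI : IsArtinianRing Γ(X.left, ⊤) := isArtinianRing_iff_isNoetherianRing_krullDimLE_zero.2 ⟨inferInstance, inferInstance⟩
  haveI : Module.Finite k Γ(X.left, ⊤) := Module.finite_of_isArtinianRing k _
  exact ‹Module.Finite k Γ(X.left, ⊤)›

end Groth.L25.RedQuot
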