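import Groth.Prelude.Def_WittGrp
import Groth.Agent.L25.Component
import Groth.Agent.L25.Translate
import Groth.Agent.L21.Smooth.Scheme
import Mathlib.AlgebraicGeometry.AlgClosed.Basic
import Mathlib.AlgebraicGeometry.Morphisms.ClosedImmersion
import Mathlib.AlgebraicGeometry.AffineSpace
import Mathlib.Algebra.MvPolynomial.Funext
import Mathlib.FieldTheory.IsAlgClosed.Basic
import Mathlib.RingTheory.WittVector.Truncated
import Mathlib.RingTheory.WittVector.Identities

/-!
# Smooth connected subgroups of the truncated Witt group over an algebraically closed field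
-/

set_option autoImplicit false

universe u

open CategoryTheory CategoryTheory.Limits MonoidalCategory CartesianMonoidalCategory MonObj
  AlgebraicGeometry

namespace Groth.L25.WittSub

variable {p : ℕ} [hp : Fact p.Prime]

section algebra

variable {k : Type u} [Field k] {n : ℕ}

omit hp in
/-- The last `i` components. -/
def dropFun {R : Type*} {i n : ℕ} (h : i ≤ n) (x : TruncatedWittVector p n R) :
    TruncatedWittVector p i R :=
  TruncatedWittVector.mk p fun l => x.coeff ⟨l + (n - i), by omega⟩

theorem dropFun_shift {i n : ℕ} (h : i ≤ n) (x : TruncatedWittVector p i k) :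
    dropFun h (WittGrp.shift p h x) = x :=
  TruncatedWittVector.ext fun l => by
    rw [dropFun, TruncatedWittVector.coeff_mk, WittGrp.coeff_shift, dif_pos (by simp)]
    congr 1
    exact Fin.ext (by simp)

theorem shift_dropFun {i n : ℕ} (h : i ≤ n) (x : TruncatedWittVector p n k)
    (hx : ∀ l : Fin n, (l : ℕ) < n - i → x.coeff l = 0) :
    WittGrp.shift p h (dropFun h x) = x :=
  TruncatedWittVector.ext fun l => by
    rw [WittGrp.coeff_shift]
    split_ifs with hl
    · rw [dropFun, TruncatedWittVector.coeff_mk]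
      congr 1
      exact Fin.ext (by simp; omega)
    · exact (hx l (by omega)).symm

theorem coeff_zero_sub (x y : TruncatedWittVector p (n + 1) k) :
    (x - y).coeff 0 = x.coeff 0 - y.coeff 0 := by
  obtain ⟨X, rfl⟩ := WittVector.truncate_surjective p (n + 1) k x
  obtain ⟨Y, rfl⟩ := WittVector.truncate_surjective p (n + 1) k y
  rw [← map_sub, WittVector.coeff_truncate, WittVector.coeff_truncate, WittVector.coeff_truncate]
  exact map_sub WittVector.constantCoeff X Y

variable [IsAlgClosed k] [CharP k p]

/-- A subgroup of `W_n(k)` whose elements have every possible leading component is everything. -/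
theorem eq_top_of_surjective (G : AddSubgroup (TruncatedWittVector p (n + 1) k))
    (h : ∀ a : k, ∃ g ∈ G, g.coeff 0 = a) : G = ⊤ := by
  rw [eq_top_iff]
  suffices H : ∀ j, j ≤ n + 1 → ∀ x : TruncatedWittVector p (n + 1) k,
      (∀ l : Fin (n + 1), (l : ℕ) < (n + 1) - j → x.coeff l = 0) → x ∈ G by
    intro x _
    exact H (n + 1) le_rfl x fun l hl => absurd hl (by simp)
  intro j
  induction j with
  | zero =>
    intro _ x hx
    have : x = 0 := TruncatedWittVector.ext fun l => by
      rw [hx l (by have := l.2; omega), TruncatedWittVector.coeff_zero]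
    exact this ▸ G.zero_mem
  | succ j ih =>
    intro hj x hx
    set m := n + 1 - (j + 1) with hm
    obtain ⟨a, ha⟩ := IsAlgClosed.exists_pow_nat_eq (x.coeff ⟨m, by omega⟩)
      (pow_pos hp.out.pos m)
    obtain ⟨g, hgG, hg⟩ := h a
    set z := p ^ m • g with hz
    have hzG : z ∈ G := G.nsmul_mem hgG _
    have hzc : (∀ l : Fin (n + 1), (l : ℕ) < m → z.coeff l = 0) ∧
        z.coeff ⟨m, by omega⟩ = x.coeff ⟨m, by omega⟩ := by
      obtain ⟨Y, hY⟩ := WittVector.truncate_surjective p (n + 1) k g
      have e : z = WittVector.truncate (n + 1) (Y * (p : WittVector p k) ^ m) := by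
        rw [hz, ← hY, map_mul, map_pow, map_natCast, nsmul_eq_mul, mul_comm, Nat.cast_pow]
      constructor
      · intro l hl
        rw [e, WittVector.coeff_truncate]
        exact WittVector.mul_pow_charP_coeff_zero Y hl
      · rw [e, WittVector.coeff_truncate, ← ha, ← hg, ← hY, WittVector.coeff_truncate]
        have := WittVector.mul_pow_charP_coeff_succ Y (m := 0) (n := m)
        rw [zero_add] at this
        exact this
    have hle : j + 1 ≤ n + 1 := hj
    have hxs : WittGrp.shift p hle (dropFun hle x) = x := shift_dropFun hle x fun l hl => hx l hl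
    have hzs : WittGrp.shift p hle (dropFun hle z) = z := shift_dropFun hle z fun l hl => hzc.1 l hl
    have hmem : x - z ∈ G := by
      refine ih (by omega) _ fun l hl => ?_
      rw [← hxs, ← hzs, ← map_sub, WittGrp.coeff_shift]
      split_ifs with hl'
      · have hl0 : (⟨(l : ℕ) - (n + 1 - (j + 1)), by omega⟩ : Fin (j + 1)) = 0 := Fin.ext (by simp; omega)
        rw [hl0, coeff_zero_sub, dropFun, TruncatedWittVector.coeff_mk, dropFun,
          TruncatedWittVector.coeff_mk, sub_eq_zero]
        have hlm : (⟨((0 : Fin (j + 1)) : ℕ) + (n + 1 - (j + 1)), by simp⟩ : Fin (n + 1)) =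
            ⟨m, by omega⟩ := Fin.ext (by simp [hm])
        rw [hlm]
        exact hzc.2.symm
      · rfl
    have := G.add_mem hmem hzG
    rwa [sub_add_cancel] at this

end algebra

section schemes

variable {k : Type u} [Field k] [IsAlgClosed k]

local notation "S" => Spec (CommRingCat.of k)

/-- Rational points. -/
abbrev Pt (G : Over S) := 𝟙_ (Over S) ⟶ G

/-- The identification of global functions on the point with `k`. -/
noncomputable def gam : Γ((𝟙_ (Over S)).left, ⊤) →+* k :=
  (Scheme.ΓSpecIso (CommRingCat.of k)).hom.hom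

omit [IsAlgClosed k] in
theorem gam_inv (a : Γ((𝟙_ (Over S)).left, ⊤)) :
    (Scheme.ΓSpecIso (CommRingCat.of k)).inv (gam a) = a :=
  Iso.hom_inv_id_apply (Scheme.ΓSpecIso (CommRingCat.of k)) a

variable (p) in
/-- The Witt vector of a rational point. -/
noncomputable def wp {n : ℕ} (x : Pt (WittGrp.W p n S)) : TruncatedWittVector p n k :=
  WittGrp.truncMap p n gam (WittGrp.pts p _ (Additive.ofMul x))

omit [IsAlgClosed k] in
theorem wp_injective {n : ℕ} :
    Function.Injective (wp p : Pt (WittGrp.W p n S) → TruncatedWittVector p n k) := fun x y h => by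
  refine WittGrp.pts_injective p _ (TruncatedWittVector.ext fun i => ?_)
  have h := congrArg (fun v => TruncatedWittVector.coeff i v) h
  simp only [wp, WittGrp.coeff_truncMap] at h
  have h' := congrArg (Scheme.ΓSpecIso (CommRingCat.of k)).inv h
  rwa [gam_inv, gam_inv] at h'

omit [IsAlgClosed k] in
theorem wp_mul {n : ℕ} (x y : Pt (WittGrp.W p n S)) : wp p (x * y) = wp p x + wp p y := by
  rw [wp, WittGrp.pts_mul, map_add]
  rfl

omit [IsAlgClosed k] in
theorem wp_one {n : ℕ} : wp p (1 : Pt (WittGrp.W p n S)) = 0 := by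
  rw [wp, WittGrp.pts_one, map_zero]

omit [IsAlgClosed k] in
theorem wp_V {i n : ℕ} (h : i ≤ n) (x : Pt (WittGrp.W p i S)) :
    wp p (x ≫ WittGrp.V p S h) = WittGrp.shift p h (wp p x) := by
  rw [wp, WittGrp.pts_V, WittGrp.truncMap_shift]
  rfl

omit [IsAlgClosed k] in
theorem wp_R {i n : ℕ} (h : i ≤ n) (x : Pt (WittGrp.W p n S)) :
    wp p (x ≫ WittGrp.R p S h) = TruncatedWittVector.truncate h (wp p x) := by
  rw [wp, WittGrp.pts_R, WittGrp.truncMap_truncateLE]
  rfl

variable (k) in
/-- The retraction `W_n → W_i` of the shift: the last `i` components. -/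
noncomputable def drop {i n : ℕ} (h : i ≤ n) : WittGrp.W p n S ⟶ WittGrp.W p i S :=
  (WittGrp.ptsMul p (WittGrp.W p n S)).symm
    (Multiplicative.ofAdd (dropFun h (WittGrp.pts p (WittGrp.W p n S) (Additive.ofMul (𝟙 _)))))

omit [IsAlgClosed k] in
theorem pts_drop {i n : ℕ} (h : i ≤ n) {T : Over S} (x : T ⟶ WittGrp.W p n S) :
    WittGrp.pts p T (Additive.ofMul (x ≫ drop k h)) =
      dropFun h (WittGrp.pts p T (Additive.ofMul x)) := by
  rw [WittGrp.pts_comp, drop]
  change WittGrp.truncMap p i _ (Multiplicative.toAdd ((WittGrp.ptsMul p (WittGrp.W p n S))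
    ((WittGrp.ptsMul p (WittGrp.W p n S)).symm _))) = _
  rw [MulEquiv.apply_symm_apply, toAdd_ofAdd]
  refine TruncatedWittVector.ext fun l => ?_
  conv_rhs => rw [← Category.comp_id x, WittGrp.pts_comp]
  rw [WittGrp.coeff_truncMap, dropFun, TruncatedWittVector.coeff_mk, dropFun,
    TruncatedWittVector.coeff_mk, WittGrp.coeff_truncMap]

omit [IsAlgClosed k] in
theorem V_drop {i n : ℕ} (h : i ≤ n) : WittGrp.V p S h ≫ drop k h = 𝟙 _ := by
  refine WittGrp.pts_injective p _ ?_
  show WittGrp.pts p _ (Additive.ofMul (WittGrp.V p S h ≫ drop k h)) = _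
  rw [pts_drop, show WittGrp.V p S h = 𝟙 _ ≫ WittGrp.V p S h from (Category.id_comp _).symm,
    WittGrp.pts_V]
  refine TruncatedWittVector.ext fun l => ?_
  rw [dropFun, TruncatedWittVector.coeff_mk, WittGrp.coeff_shift, dif_pos (by simp)]
  congr 1
  exact Fin.ext (by simp)

omit [IsAlgClosed k] in
theorem V_comp {a b c : ℕ} (h : a ≤ b) (h' : b ≤ c) :
    WittGrp.V p S h ≫ WittGrp.V p S h' = WittGrp.V p S (h.trans h') := by
  refine WittGrp.pts_injective p _ ?_
  show WittGrp.pts p _ (Additive.ofMul (WittGrp.V p S h ≫ WittGrp.V p S h')) =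
    WittGrp.pts p _ (Additive.ofMul (WittGrp.V p S (h.trans h')))
  rw [WittGrp.pts_V, show WittGrp.V p S h = 𝟙 _ ≫ WittGrp.V p S h from (Category.id_comp _).symm,
    WittGrp.pts_V, show WittGrp.V p S (h.trans h') = 𝟙 _ ≫ WittGrp.V p S (h.trans h') from
      (Category.id_comp _).symm, WittGrp.pts_V]
  refine TruncatedWittVector.ext fun l => ?_
  rw [WittGrp.coeff_shift, WittGrp.coeff_shift]
  split_ifs with h1 h2
  · rw [WittGrp.coeff_shift, dif_pos (by simp; omega)]
    congr 1
    exact Fin.ext (by simp; omega)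
  · rw [WittGrp.coeff_shift, dif_neg (by simp; omega)]
  · omega
  · rfl

omit [IsAlgClosed k] in
theorem V_refl {n : ℕ} : WittGrp.V p S (le_refl n) = 𝟙 (WittGrp.W p n S) := by
  refine WittGrp.pts_injective p _ ?_
  show WittGrp.pts p _ (Additive.ofMul (WittGrp.V p S (le_refl n))) = _
  rw [show WittGrp.V p S (le_refl n) = 𝟙 _ ≫ WittGrp.V p S (le_refl n) from
    (Category.id_comp _).symm, WittGrp.pts_V]
  refine TruncatedWittVector.ext fun l => ?_
  rw [WittGrp.coeff_shift, dif_pos (by simp)]
  congr 1
  exact Fin.ext (by simp)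

omit [IsAlgClosed k] in
theorem isAffine_left (n : ℕ) : IsAffine (WittGrp.W p n S).left := by
  change IsAffine 𝔸(ULift.{u} (Fin n); S)
  infer_instance

omit [IsAlgClosed k] in
theorem isReduced_left (n : ℕ) : IsReduced (WittGrp.W p n S).left := by
  change IsReduced 𝔸(ULift.{u} (Fin n); S)
  infer_instance

omit [IsAlgClosed k] in
theorem lft_hom (n : ℕ) : LocallyOfFiniteType (WittGrp.W p n S).hom := by
  change LocallyOfFiniteType (𝔸(ULift.{u} (Fin n); S) ↘ S)
  infer_instance

omit [IsAlgClosed k] in
theorem isClosedImmersion_V {i n : ℕ} (h : i ≤ n) :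
    IsClosedImmersion (WittGrp.V p S h).left := by
  haveI := isAffine_left (p := p) (k := k) n
  haveI := isAffine_left (p := p) (k := k) i
  haveI : IsClosedImmersion ((WittGrp.V p S h).left ≫ (drop k h).left) := by
    rw [← Over.comp_left, V_drop, Over.id_left]
    infer_instance
  exact IsClosedImmersion.of_comp _ (drop k h).left

/-- The rational point at a closed point. -/
noncomputable def ptOf (G : Over S) [LocallyOfFiniteType G.hom] (x : G.left) (hx : IsClosed {x}) :
    Pt G :=
  Over.homMk (pointOfClosedPoint G.hom x hx) (pointOfClosedPoint_comp G.hom x hx)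

theorem ptOf_apply (G : Over S) [LocallyOfFiniteType G.hom] (x : G.left) (hx : IsClosed {x})
    (c : (𝟙_ (Over S)).left) : (ptOf G x hx).left c = x :=
  pointOfClosedPoint_apply G.hom x hx c

theorem pt_ext {G : Over S} [LocallyOfFiniteType G.hom] {g g' : Pt G}
    (h : g.left (IsLocalRing.closedPoint k) = g'.left (IsLocalRing.closedPoint k)) : g = g' :=
  Over.OverMorphism.ext (ext_of_apply_closedPoint_eq G.hom (Over.w g) (Over.w g') h)

theorem isClosed_pt {G : Over S} [LocallyOfFiniteType G.hom] (g : Pt G) :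
    IsClosed {g.left (IsLocalRing.closedPoint k)} :=
  (pointEquivClosedPoint G.hom ⟨g.left, Over.w g⟩).2

omit [IsAlgClosed k] in
/-- An open subset of `W_1` missing infinitely many rational points is empty. -/
theorem denseRange_of_infinite {H : Over S} (q : H ⟶ WittGrp.W p 1 S)
    (hinf : (Set.range fun g : Pt H => (wp p (g ≫ q)).coeff 0).Infinite) : DenseRange q.left := by
  classical
  let Idx := ULift.{u} (Fin 1)
  let e : 𝔸(Idx; S) ≅ Spec (CommRingCat.of (MvPolynomial Idx k)) :=
    AffineSpace.SpecIso Idx (CommRingCat.of k)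
  -- a rational point is the evaluation at its coordinate
  have hev : ∀ x : Pt (WittGrp.W p 1 S), x.left =
      Spec.map (CommRingCat.ofHom (MvPolynomial.eval fun _ : Idx => (wp p x).coeff 0)) ≫ e.inv := by
    intro x
    refine AffineSpace.hom_ext ?_ fun i => ?_
    · rw [Category.assoc, AffineSpace.SpecIso_inv_over, ← Spec.map_comp]
      refine (Over.w x).trans ?_
      rw [show CommRingCat.ofHom MvPolynomial.C ≫
          CommRingCat.ofHom (MvPolynomial.eval fun _ : Idx => (wp p x).coeff 0) =
          𝟙 (CommRingCat.of k) from CommRingCat.hom_ext (RingHom.ext fun c => MvPolynomial.eval_C c),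
        Spec.map_id]
      rfl
    · rw [Scheme.Hom.comp_appTop, CommRingCat.comp_apply, AffineSpace.SpecIso_inv_appTop_coord,
        ← CommRingCat.comp_apply, ← Scheme.ΓSpecIso_inv_naturality, CommRingCat.comp_apply]
      have h1 : (CommRingCat.ofHom (MvPolynomial.eval fun _ : Idx => (wp p x).coeff 0))
          (MvPolynomial.X i) = (wp p x).coeff 0 := MvPolynomial.eval_X i
      rw [h1, wp, WittGrp.coeff_truncMap, WittGrp.coeff_pts, gam_inv]
      obtain ⟨i⟩ := i
      rw [Subsingleton.elim i 0]
      rfl
  have hpt : ∀ (g : Pt H) (f : MvPolynomial Idx k),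
      MvPolynomial.eval (fun _ => (wp p (g ≫ q)).coeff 0) f ≠ 0 →
      e.hom (q.left (g.left (IsLocalRing.closedPoint k))) ∈ PrimeSpectrum.basicOpen f := by
    intro g f hf
    have h1 : e.hom (q.left (g.left (IsLocalRing.closedPoint k))) =
        (Spec.map (CommRingCat.ofHom (MvPolynomial.eval fun _ : Idx => (wp p (g ≫ q)).coeff 0)))
          (IsLocalRing.closedPoint k) := by
      have := congr($(hev (g ≫ q)) (IsLocalRing.closedPoint k))
      exact (congrArg (fun z => e.hom z) this).trans (Scheme.inv_hom_apply e _)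
    rw [h1]
    show f ∉ (IsLocalRing.maximalIdeal k).comap (MvPolynomial.eval _)
    rw [Ideal.mem_comap, IsLocalRing.mem_maximalIdeal, mem_nonunits_iff, not_not, isUnit_iff_ne_zero]
    exact hf
  intro y
  rw [mem_closure_iff]
  intro U hU hy
  have hV : IsOpen ((fun z => e.inv z) ⁻¹' U) := hU.preimage e.inv.continuous
  have hyV : e.hom y ∈ ((fun z => e.inv z) ⁻¹' U) := by
    show e.inv (e.hom y) ∈ U
    rw [Scheme.hom_inv_apply e y]
    exact hy
  obtain ⟨_, ⟨f, rfl⟩, hfy, hfV⟩ :=
    PrimeSpectrum.isTopologicalBasis_basic_opens.exists_subset_of_mem_open hyV hV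
  have hf0 : f ≠ 0 := by
    rintro rfl
    replace hfy : e.hom y ∈ (PrimeSpectrum.basicOpen (0 : MvPolynomial Idx k) :
      Set (PrimeSpectrum (MvPolynomial Idx k))) := hfy
    rw [PrimeSpectrum.basicOpen_zero] at hfy
    exact hfy
  obtain ⟨g, hg⟩ : ∃ g : Pt H, MvPolynomial.eval (fun _ => (wp p (g ≫ q)).coeff 0) f ≠ 0 := by
    by_contra hcon
    push Not at hcon
    refine hf0 (MvPolynomial.funext_set (fun _ : Idx => _) (fun _ => hinf) fun x hx => ?_)
    obtain ⟨g, hg⟩ := hx ⟨0⟩ trivial
    rw [map_zero, show x = fun _ => (wp p (g ≫ q)).coeff 0 from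
      funext fun i => by rw [Subsingleton.elim i ⟨0⟩]; exact hg.symm]
    exact hcon g
  refine ⟨q.left (g.left (IsLocalRing.closedPoint k)), ?_, ⟨_, rfl⟩⟩
  have := hfV (hpt g f hg)
  exact Set.mem_of_eq_of_mem (Scheme.hom_inv_apply e _).symm this

variable [CharP k p]

/-- Either the leading component vanishes on the subgroup or it is surjective. -/
theorem coeff_zero_dichotomy {n : ℕ} (H : Over S) [GrpObj H] [LocallyOfFiniteType H.hom]
    [QuasiCompact H.hom] [ConnectedSpace ↥H.left] (j : H ⟶ WittGrp.W p (n + 1) S) [IsMonHom j] :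
    (∀ g : Pt H, (wp p (g ≫ j)).coeff 0 = 0) ∨
      ∀ a : k, ∃ g : Pt H, (wp p (g ≫ j)).coeff 0 = a := by
  haveI : IsLocallyNoetherian H.left := LocallyOfFiniteType.isLocallyNoetherian H.hom
  haveI := Component.irreducibleSpace H
  haveI : JacobsonSpace H.left := LocallyOfFiniteType.jacobsonSpace H.hom
  haveI := lft_hom (p := p) (k := k) 1
  haveI := isAffine_left (p := p) (k := k) 1
  have h1n : 1 ≤ n + 1 := by omega
  let q : H ⟶ WittGrp.W p 1 S := j ≫ WittGrp.R p S h1n
  have hq : ∀ g : Pt H, (wp p (g ≫ q)).coeff 0 = (wp p (g ≫ j)).coeff 0 := fun g => by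
    rw [← Category.assoc, wp_R, TruncatedWittVector.coeff_truncate]
    rfl
  have hqinj : ∀ g g' : Pt H, q.left (g.left (IsLocalRing.closedPoint k)) =
      q.left (g'.left (IsLocalRing.closedPoint k)) →
      (wp p (g ≫ j)).coeff 0 = (wp p (g' ≫ j)).coeff 0 := fun g g' h => by
    rw [← hq, ← hq, pt_ext (g := g ≫ q) (g' := g' ≫ q) h]
  by_cases hinf : (Set.range fun g : Pt H => (wp p (g ≫ q)).coeff 0).Infinite
  · right
    have : IsMonHom q := inferInstance
    haveI : QuasiCompact q.left := by
      have : QuasiCompact (q.left ≫ (WittGrp.W p 1 S).hom) := by rwa [Over.w]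
      exact QuasiCompact.of_comp q.left (WittGrp.W p 1 S).hom
    have hsurj := Translate.surjective_of_denseRange q (denseRange_of_infinite q hinf)
    intro a
    let v : TruncatedWittVector p 1 Γ((𝟙_ (Over S)).left, ⊤) :=
      TruncatedWittVector.mk p fun _ => (Scheme.ΓSpecIso (CommRingCat.of k)).inv a
    let x : Pt (WittGrp.W p 1 S) :=
      (WittGrp.ptsMul p (𝟙_ (Over S))).symm (Multiplicative.ofAdd v)
    have hx : (wp p x).coeff 0 = a := by
      have : WittGrp.pts p _ (Additive.ofMul x) = v := by
        change Multiplicative.toAdd ((WittGrp.ptsMul p (𝟙_ (Over S))) x) = v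
        rw [MulEquiv.apply_symm_apply, toAdd_ofAdd]
      rw [wp, this, WittGrp.coeff_truncMap, TruncatedWittVector.coeff_mk]
      exact Iso.inv_hom_id_apply (Scheme.ΓSpecIso (CommRingCat.of k)) a
    obtain ⟨y, hy⟩ := hsurj.surj (x.left (IsLocalRing.closedPoint k))
    obtain ⟨y', hy', hy''⟩ := nonempty_inter_closedPoints
      (Z := q.left ⁻¹' {x.left (IsLocalRing.closedPoint k)}) ⟨y, hy⟩
      ((isClosed_pt x).preimage q.left.continuous).isLocallyClosed
    refine ⟨ptOf H y' hy'', ?_⟩
    rw [← hq, ← hx]
    congr 2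
    refine pt_ext ?_
    exact (congrArg q.left (ptOf_apply H y' hy'' _)).trans hy'
  · left
    rw [Set.not_infinite] at hinf
    -- finitely many closed fibres cover `H`
    classical
    choose! rep hrep using fun a (ha : a ∈ Set.range fun g : Pt H => (wp p (g ≫ q)).coeff 0) => ha
    let F : k → Set H.left := fun a => q.left ⁻¹' {q.left ((rep a).left (IsLocalRing.closedPoint k))}
    have hFc : ∀ a, IsClosed (F a) := fun a => (isClosed_pt (rep a ≫ q)).preimage q.left.continuous
    have hcov : (⋃ a ∈ hinf.toFinset, F a) = Set.univ := by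
      refine Set.eq_univ_of_univ_subset ?_
      rw [← closure_closedPoints (X := H.left)]
      refine (isClosed_biUnion_finset fun a _ => hFc a).closure_subset_iff.2 fun y hy => ?_
      simp only [Set.mem_iUnion, Set.Finite.mem_toFinset]
      refine ⟨(wp p (ptOf H y hy ≫ q)).coeff 0, ⟨_, rfl⟩, ?_⟩
      have h1 := hrep _ ⟨ptOf H y hy, rfl⟩
      simp only at h1
      have h2 : rep ((wp p (ptOf H y hy ≫ q)).coeff 0) ≫ q = ptOf H y hy ≫ q :=
        wp_injective (TruncatedWittVector.ext fun i => by rw [Subsingleton.elim i 0]; exact h1)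
      show q.left y = q.left _
      conv_lhs => rw [← ptOf_apply H y hy (IsLocalRing.closedPoint k)]
      exact congr(($h2).left (IsLocalRing.closedPoint k)).symm
    obtain ⟨a, -, ha⟩ : ∃ a ∈ hinf.toFinset, F a = Set.univ := by
      have hirr := (IrreducibleSpace.isIrreducible_univ H.left)
      rw [← hcov] at hirr
      obtain ⟨a, ha, ha'⟩ := isIrreducible_iff_sUnion_isClosed.1 hirr
        (hinf.toFinset.image F) (by
          intro z hz
          obtain ⟨a, -, rfl⟩ := Finset.mem_image.1 hz
          exact hFc a) (by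
          intro z hz
          simp only [Set.mem_iUnion] at hz
          obtain ⟨b, hb, hzb⟩ := hz
          exact ⟨F b, Finset.mem_image_of_mem F hb, hzb⟩)
      obtain ⟨b, hb, rfl⟩ := Finset.mem_image.1 ha
      exact ⟨b, hb, Set.eq_univ_of_univ_subset (hcov ▸ ha')⟩
    intro g
    have hmem : ∀ g : Pt H, q.left (g.left (IsLocalRing.closedPoint k)) =
        q.left ((rep a).left (IsLocalRing.closedPoint k)) := fun g => by
      have : g.left (IsLocalRing.closedPoint k) ∈ F a := ha ▸ Set.mem_univ _
      exact this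
    rw [hqinj g 1 ((hmem g).trans (hmem 1).symm), MonObj.one_comp, wp_one,
      TruncatedWittVector.coeff_zero]

/-- The classification. -/
theorem exists_iso (n : ℕ) : ∀ (H : Over S) [GrpObj H] [Smooth H.hom] [ConnectedSpace ↥H.left]
    (j : H ⟶ WittGrp.W p n S) [IsMonHom j] [IsClosedImmersion j.left],
    ∃ (i : ℕ) (hi : i ≤ n) (e : H ≅ WittGrp.W p i S), e.hom ≫ WittGrp.V p S hi = j := by
  induction n using Nat.strong_induction_on with
  | _ n ih =>
  intro H _ _ _ j _ _
  haveI := isAffine_left (p := p) (k := k) n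
  haveI := isReduced_left (p := p) (k := k) n
  haveI := lft_hom (p := p) (k := k) n
  haveI : LocallyOfFiniteType H.hom := inferInstance
  haveI : IsAffine H.left := isAffine_of_isAffineHom j.left
  haveI : QuasiCompact H.hom := inferInstance
  haveI : IsReduced H.left := by
    haveI : ∀ x : H.left, _root_.IsReduced (H.left.presheaf.stalk x) := fun x => by
      haveI := Groth.L21.Smooth.isDomain_stalk H.hom x
      infer_instance
    exact isReduced_of_isReduced_stalk _
  haveI : JacobsonSpace H.left := LocallyOfFiniteType.jacobsonSpace H.hom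
  haveI : JacobsonSpace (WittGrp.W p n S).left :=
    LocallyOfFiniteType.jacobsonSpace (WittGrp.W p n S).hom
  have hiso : (∀ v : TruncatedWittVector p n k, ∃ g : Pt H, wp p (g ≫ j) = v) →
      ∃ (i : ℕ) (hi : i ≤ n) (e : H ≅ WittGrp.W p i S), e.hom ≫ WittGrp.V p S hi = j := by
    intro hall
    haveI : Surjective j.left := by
      refine ⟨fun y => ?_⟩
      have : Set.univ ⊆ Set.range j.left := by
        rw [← closure_closedPoints (X := (WittGrp.W p n S).left)]
        refine j.left.isClosedEmbedding.isClosed_range.closure_subset_iff.2 fun y hy => ?_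
        obtain ⟨g, hg⟩ := hall (wp p (ptOf _ y hy))
        refine ⟨g.left (IsLocalRing.closedPoint k), ?_⟩
        have h := wp_injective hg
        exact (congr(($h).left (IsLocalRing.closedPoint k))).trans (ptOf_apply _ y hy _)
      exact this (Set.mem_univ y)
    haveI := isIso_of_isClosedImmersion_of_surjective j.left
    refine ⟨n, le_rfl, Over.isoMk (asIso j.left) (Over.w j), ?_⟩
    rw [V_refl, Category.comp_id]
    exact Over.OverMorphism.ext rfl
  rcases n with _ | n
  · exact hiso fun v => ⟨1, TruncatedWittVector.ext fun i => i.elim0⟩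
  rcases coeff_zero_dichotomy H j with h0 | hsurj
  · have hle : n ≤ n + 1 := n.le_succ
    haveI := isAffine_left (p := p) (k := k) n
    haveI := lft_hom (p := p) (k := k) n
    let j' : H ⟶ WittGrp.W p n S := j ≫ drop k hle
    have hj' : j' ≫ WittGrp.V p S hle = j := by
      refine Over.OverMorphism.ext ?_
      haveI : LocallyOfFiniteType ((j' ≫ WittGrp.V p S hle).left ≫ (WittGrp.W p (n + 1) S).hom) := by
        rw [Over.w]; infer_instance
      refine ext_of_apply_eq (WittGrp.W p (n + 1) S).hom Set.univ isOpen_univ.isLocallyClosed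
        dense_univ (fun x _ hx => ?_) (by rw [Over.w, Over.w])
      have hg : ptOf H x hx ≫ j' ≫ WittGrp.V p S hle = ptOf H x hx ≫ j := by
        refine wp_injective ?_
        have hd : wp p (ptOf H x hx ≫ j') = dropFun hle (wp p (ptOf H x hx ≫ j)) := by
          rw [wp, ← Category.assoc, pts_drop]
          refine TruncatedWittVector.ext fun l => ?_
          rw [WittGrp.coeff_truncMap, dropFun, TruncatedWittVector.coeff_mk, dropFun,
            TruncatedWittVector.coeff_mk, wp, WittGrp.coeff_truncMap]
        rw [← Category.assoc, wp_V, hd]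
        refine shift_dropFun hle _ fun l hl => ?_
        rw [show l = 0 from Fin.ext (by simp at hl ⊢; omega)]
        exact h0 _
      have := congr(($hg).left (IsLocalRing.closedPoint k))
      exact (congrArg (j' ≫ WittGrp.V p S hle).left (ptOf_apply H x hx _)).symm.trans
        (this.trans (congrArg j.left (ptOf_apply H x hx _)))
    haveI := isClosedImmersion_V (p := p) (k := k) hle
    haveI : Mono (WittGrp.V p S hle) :=
      (SplitMono.mono ⟨drop k hle, V_drop hle⟩)
    haveI : IsMonHom j' := by
      refine ⟨?_, ?_⟩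
      · rw [← cancel_mono (WittGrp.V p S hle), Category.assoc, hj', IsMonHom.one_hom,
          IsMonHom.one_hom]
      · rw [← cancel_mono (WittGrp.V p S hle), Category.assoc, hj', IsMonHom.mul_hom,
          Category.assoc, IsMonHom.mul_hom, ← Category.assoc, MonoidalCategory.tensorHom_comp_tensorHom, hj']
    haveI : IsClosedImmersion j'.left := by
      haveI : IsClosedImmersion (j'.left ≫ (WittGrp.V p S hle).left) := by
        rw [← Over.comp_left, hj']; infer_instance
      exact IsClosedImmersion.of_comp _ (WittGrp.V p S hle).left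
    obtain ⟨i, hi, e, he⟩ := ih n (Nat.lt_succ_self n) H j'
    exact ⟨i, hi.trans hle, e, by rw [← V_comp hi hle, reassoc_of% he, hj']⟩
  · refine hiso fun v => ?_
    let G : AddSubgroup (TruncatedWittVector p (n + 1) k) :=
      { carrier := Set.range fun g : Pt H => wp p (g ≫ j)
        add_mem' := by
          rintro _ _ ⟨g, rfl⟩ ⟨g', rfl⟩
          exact ⟨g * g', by simp only [MonObj.mul_comp, wp_mul]⟩
        zero_mem' := ⟨1, by simp only [MonObj.one_comp, wp_one]⟩
        neg_mem' := by
          rintro _ ⟨g, rfl⟩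
          refine ⟨g⁻¹, ?_⟩
          simp only [GrpObj.inv_comp]
          rw [eq_neg_iff_add_eq_zero, ← wp_mul, inv_mul_cancel, wp_one] }
    have : v ∈ G := by
      rw [eq_top_of_surjective G fun a => by
        obtain ⟨g, hg⟩ := hsurj a
        exact ⟨_, ⟨g, rfl⟩, hg⟩]
      trivial
    exact this

end schemes

end Groth.L25.WittSub
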