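import Groth.Prelude.Def_AlgGrp
import Groth.Agent.S12442
import Groth.Agent.L06.Spectral
import Mathlib.AlgebraicGeometry.Morphisms.FinitePresentation
import Mathlib.AlgebraicGeometry.Morphisms.Affine
import Mathlib.AlgebraicGeometry.Morphisms.QuasiSeparated

/-!
# A bound on the length of words covering a quasi-compact group scheme
-/

set_option autoImplicit false
set_option backward.isDefEq.respectTransparency.types false
set_option linter.style.haveILetI false

universe u

open CategoryTheory CategoryTheory.Limits MonoidalCategory CartesianMonoidalCategory MonObj AlgebraicGeometry Topology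

noncomputable section

namespace Groth.L25.WordBound

variable {S : Scheme.{u}} {X H : Over S} [GrpObj H] (f : X ⟶ H)

/-- a letter of a word -/
abbrev letter {T : Over S} (e : Bool) (x : T ⟶ X) : T ⟶ H := if e then x ≫ f else (x ≫ f)⁻¹

/-- the source of the universal word -/
def P (X : Over S) : ℕ → Over S
  | 0 => 𝟙_ _
  | n + 1 => X ⊗ P X n

/-- the coordinates of the universal word -/
def coord (X : Over S) : (n : ℕ) → Fin n → (P X n ⟶ X)
  | 0 => Fin.elim0
  | n + 1 => Fin.cons (show P X (n + 1) ⟶ X from fst X (P X n)) fun i => show P X (n + 1) ⟶ X from snd X (P X n) ≫ coord X n i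

theorem exists_tuple {T : Over S} : ∀ (n : ℕ) (x : Fin n → (T ⟶ X)), ∃ t : T ⟶ P X n, ∀ i, t ≫ coord X n i = x i
  | 0, _ => ⟨toUnit T, fun i => i.elim0⟩
  | n + 1, x => by
    obtain ⟨t, ht⟩ := exists_tuple n (fun i => x i.succ)
    refine ⟨CartesianMonoidalCategory.lift (x 0) t, fun i => ?_⟩
    induction i using Fin.cases with
    | zero => exact lift_fst _ _
    | succ i =>
      show CartesianMonoidalCategory.lift (x 0) t ≫ snd X (P X n) ≫ coord X n i = x i.succ
      rw [lift_snd_assoc, ht]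

theorem lfp_P [LocallyOfFinitePresentation X.hom] : ∀ n, LocallyOfFinitePresentation (P X n).hom
  | 0 => inferInstanceAs (LocallyOfFinitePresentation (𝟙 S))
  | n + 1 => by
    haveI := lfp_P n
    exact inferInstanceAs (LocallyOfFinitePresentation (pullback.fst X.hom (P X n).hom ≫ X.hom))

theorem comp_word {T U : Over S} (t : T ⟶ U) {n : ℕ} (x : Fin n → (U ⟶ X)) (ε : Fin n → Bool) :
    t ≫ ((List.ofFn fun j : Fin n => letter f (ε j) (x j)).prod : U ⟶ H) =
      (List.ofFn fun j : Fin n => letter f (ε j) (t ≫ x j)).prod := by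
  induction n with
  | zero => simp
  | succ n ih =>
    rw [List.ofFn_succ, List.ofFn_succ, List.prod_cons, List.prod_cons, MonObj.comp_mul, ih]
    congr 1
    cases ε 0 <;> simp [letter, GrpObj.comp_inv]

theorem apply_resLE {A B : Scheme.{u}} (g : A ⟶ B) {V : B.Opens} {W : A.Opens} (e : W ≤ g ⁻¹ᵁ V) (w : W) :
    ((g.resLE V W e) w).1 = g w.1 := by
  have := congr($(Scheme.Hom.resLE_comp_ι g e) w)
  rw [Scheme.Hom.comp_apply, Scheme.Hom.comp_apply] at this
  exact this

theorem exists_bound [LocallyOfFinitePresentation X.hom] [LocallyOfFinitePresentation H.hom] [CompactSpace H.left]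
    (hsurj : ∀ h : H.left, ∃ (n : ℕ) (T : Over S) (p : T.left) (x : Fin n → (T ⟶ X)) (ε : Fin n → Bool),
      ((List.ofFn fun j : Fin n => letter f (ε j) (x j)).prod : T ⟶ H).left p = h) :
    ∃ n : ℕ, ∀ h : H.left, ∃ (m : ℕ) (_ : m ≤ n) (T : Over S) (p : T.left) (x : Fin m → (T ⟶ X)) (ε : Fin m → Bool),
      ((List.ofFn fun j : Fin m => letter f (ε j) (x j)).prod : T ⟶ H).left p = h := by
  let φ : ∀ (n : ℕ) (_ : Fin n → Bool), P X n ⟶ H := fun n ε =>
    (List.ofFn fun j : Fin n => letter f (ε j) (coord X n j)).prod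
  have key : ∀ V : H.left.Opens, IsAffineOpen V →
      ∃ N : ℕ, ∀ h ∈ V, ∃ (m : ℕ) (_ : m ≤ N) (ε : Fin m → Bool), h ∈ Set.range (φ m ε).left := by
    intro V hV
    haveI : IsAffine (V : Scheme.{u}) := hV
    haveI : QuasiSeparatedSpace (V : Scheme.{u}) := inferInstance
    haveI : SpectralSpace (V : Scheme.{u}) := { }
    let A : (Σ (n : ℕ) (ε : Fin n → Bool), {W : (P X n).left.Opens // IsAffineOpen W ∧ W ≤ (φ n ε).left ⁻¹ᵁ V}) →
        Set (V : Scheme.{u}) := fun i => Set.range ((φ i.1 i.2.1).left.resLE V i.2.2.1 i.2.2.2.2)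
    have hA : ∀ i, IsOpen[constructibleTopology (V : Scheme.{u})] (A i) := by
      rintro ⟨n, ε, W, hW, hWV⟩
      haveI : IsAffine (W : Scheme.{u}) := hW
      haveI := lfp_P (X := X) n
      haveI : LocallyOfFinitePresentation (φ n ε).left := by
        haveI : LocallyOfFinitePresentation ((φ n ε).left ≫ H.hom) := by rw [Over.w]; infer_instance
        exact Groth.Agent.S12442.result (φ n ε).left H.hom
      refine (Groth.L06.Spectral.isClopen_cons_of_isConstructible ?_).2
      have := ((φ n ε).left.resLE V W hWV).isConstructible_image (s := Set.univ) IsConstructible.univ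
      rwa [Set.image_univ] at this
    have hcov : Set.univ ⊆ ⋃ i, A i := by
      rintro ⟨h, hh⟩ -
      obtain ⟨n, T, p, x, ε, hp⟩ := hsurj h
      obtain ⟨t, ht⟩ := exists_tuple n x
      have hu : (φ n ε).left (t.left p) = h := by
        rw [← Scheme.Hom.comp_apply, ← Over.comp_left, comp_word]
        simp only [ht]
        exact hp
      obtain ⟨_, ⟨W, hW, rfl⟩, huW, hWV⟩ := (P X n).left.isBasis_affineOpens.exists_subset_of_mem_open
        (show (φ n ε).left (t.left p) ∈ V by rw [hu]; exact hh) ((φ n ε).left ⁻¹ᵁ V).isOpen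
      refine Set.mem_iUnion.2 ⟨⟨n, ε, W, hW, hWV⟩, ⟨⟨t.left p, huW⟩, Subtype.ext ?_⟩⟩
      refine Eq.trans ?_ hu
      exact apply_resLE (φ n ε).left hWV ⟨t.left p, huW⟩
    obtain ⟨F, hF⟩ := @IsCompact.elim_finite_subcover _ (constructibleTopology (V : Scheme.{u})) _ _
      (@CompactSpace.isCompact_univ _ (constructibleTopology (V : Scheme.{u})) Groth.L06.Spectral.compactSpace_cons) A hA hcov
    refine ⟨F.sup fun i => i.1, fun h hh => ?_⟩
    obtain ⟨i, hiF, w, hw⟩ := Set.mem_iUnion₂.1 (hF (Set.mem_univ (⟨h, hh⟩ : V)))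
    refine ⟨i.1, Finset.le_sup (f := fun i => i.1) hiF, i.2.1, (i.2.2.1).ι w, ?_⟩
    exact (apply_resLE (φ i.1 i.2.1).left i.2.2.2.2 w).symm.trans (congrArg Subtype.val hw)
  choose N hN using key
  obtain ⟨F, hF⟩ := isCompact_univ.elim_finite_subcover (fun V : H.left.affineOpens => ((V.1 : H.left.Opens) : Set H.left))
    (fun V => V.1.isOpen) (fun h _ => by
      obtain ⟨V, hV, hh, -⟩ := exists_isAffineOpen_mem_and_subset (X := H.left) (x := h) (U := ⊤) trivial
      exact Set.mem_iUnion.2 ⟨⟨V, hV⟩, hh⟩)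
  refine ⟨F.sup fun V => N V.1 V.2, fun h => ?_⟩
  obtain ⟨V, hVF, hh⟩ := Set.mem_iUnion₂.1 (hF (Set.mem_univ h))
  obtain ⟨m, hm, ε, u, hu⟩ := hN V.1 V.2 h hh
  exact ⟨m, hm.trans (Finset.le_sup (f := fun V : H.left.affineOpens => N V.1 V.2) hVF), P X m, u, coord X m, ε, hu⟩

end Groth.L25.WordBound
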